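import Cfsg.Agent.J4Type.FusionM22
import Cfsg.Agent.S0352
import Cfsg.Agent.S0363

/-!
# J₄ type: two commuting involutions of `M24` (R07, helper607)

`exists_four_set` : if `m ≠ r` are commuting involutions of `M24`, there is an even set `S` with `m • S = S` and
`S ∆ (r • S)` a 4-set.
-/

set_option autoImplicit false

namespace Cfsg.Agent.J4Type.DuadM24

open Cfsg Cfsg.Agent.SporadicA.GolayBase Cfsg.Agent.J4Type.FusionM22
open Cfsg.Agent.J4.M24InvolData Cfsg.Agent.J4.M24Invol
open scoped Pointwise

theorem fix_P1_octad : (Finset.univ.filter fun p : GolayPt =>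
    pt (Cfsg.Agent.SporadicA.GolayPerm.papp P1 (idx p)) = p) ∈ octads := by
  rw [mem_octads_iff]
  decide +kernel

/-- the fixed points of an involution of `M24` form an octad, if there are any -/
theorem fix_octad {m : Equiv.Perm GolayPt} (hM : m ∈ M24) (hm : m * m = 1) (h1 : m ≠ 1) {p₀ : GolayPt}
    (hp₀ : m p₀ = p₀) : ∃ O ∈ octads, ∀ x, m x = x ↔ x ∈ O := by
  obtain ⟨a, ha⟩ := invol_conj ⟨m, hM⟩ (Subtype.ext hm) (fun h => h1 (congrArg Subtype.val h))
  have key : ∀ (v : M24), a * ⟨m, hM⟩ * a⁻¹ = v → ∀ p : GolayPt, m p = p ↔ v • (a • p) = a • p := by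
    intro v hv p
    rw [← hv, mul_smul, mul_smul, inv_smul_smul, smul_left_cancel_iff]
    exact Iff.rfl
  rcases ha with ha | ha
  · refine ⟨(a⁻¹ : M24) • (Finset.univ.filter fun p : GolayPt =>
      pt (Cfsg.Agent.SporadicA.GolayPerm.papp P1 (idx p)) = p), ?_, ?_⟩
    · exact Cfsg.Agent.SporadicStructure.OctadStabM24.smul_octad (a⁻¹ : M24).2 fix_P1_octad
    · intro p
      rw [Finset.mem_inv_smul_finset_iff, Finset.mem_filter, key _ ha p,
        Cfsg.Agent.SporadicStructure.M24El.el_smul_pt ok_P1]
      simp only [Finset.mem_univ, true_and]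
  · exfalso
    have := (key _ ha p₀).1 hp₀
    rw [Cfsg.Agent.SporadicStructure.M24El.el_smul_pt ok_P2] at this
    exact fix_P2 _ this

theorem card_fix_le {m : Equiv.Perm GolayPt} (hM : m ∈ M24) (hm : m * m = 1) (h1 : m ≠ 1) :
    (Finset.univ.filter fun p : GolayPt => m p = p).card ≤ 8 := by
  by_cases h : ∃ p, m p = p
  · obtain ⟨p, hp⟩ := h
    exact (card_fix hM hm h1 hp).le
  · push Not at h
    rw [Finset.filter_false_of_mem (fun p _ => h p)]
    simp

/-- an involution stabilising an octad and acting nontrivially on it moves four points -/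
theorem exists_second {O : Finset GolayPt} (hO : O ∈ octads) {r : Equiv.Perm GolayPt} (hM : r ∈ M24)
    (hrO : r • O = O) {i : GolayPt} (hi : i ∈ O) (hri : r i ≠ i) (hrr : r (r i) = i) :
    ∃ k ∈ O, r k ≠ k ∧ k ≠ i ∧ k ≠ r i := by
  by_contra hno
  push Not at hno
  have hst := mem_iff_of_smul_eq hrO
  have hsign := sign_octad hO hM hst
  set e : Equiv.Perm ↥O := r.subtypePerm hst with he
  have h1 : e = Equiv.swap ⟨i, hi⟩ ⟨r i, (hst i).2 hi⟩ := by
    apply Equiv.ext
    rintro ⟨k, hk⟩
    by_cases hki : k = i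
    · subst hki
      rw [Equiv.swap_apply_left]
      rfl
    by_cases hkr : k = r i
    · subst hkr
      rw [Equiv.swap_apply_right]
      exact Subtype.ext hrr
    · rw [Equiv.swap_apply_of_ne_of_ne]
      · apply Subtype.ext
        by_contra h
        exact hkr (hno k hk h hki)
      · exact fun h => hki (congrArg Subtype.val h)
      · exact fun h => hkr (congrArg Subtype.val h)
  rw [h1, Equiv.Perm.sign_swap (fun h => hri (congrArg Subtype.val h).symm)] at hsign
  exact absurd hsign (by decide)

theorem card_four {a b c d : GolayPt} (hab : a ≠ b) (hac : a ≠ c) (had : a ≠ d) (hbc : b ≠ c)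
    (hbd : b ≠ d) (hcd : c ≠ d) :
    (symmDiff ({a, b} : Finset GolayPt) {c, d}).card = 4 := by
  have hdisj : Disjoint ({a, b} : Finset GolayPt) {c, d} := by
    rw [Finset.disjoint_left]
    intro x hx hx'
    simp only [Finset.mem_insert, Finset.mem_singleton] at hx hx'
    rcases hx with rfl | rfl <;> rcases hx' with h | h
    · exact hac h
    · exact had h
    · exact hbc h
    · exact hbd h
  rw [hdisj.symmDiff_eq_sup, Finset.sup_eq_union, Finset.card_union_of_disjoint hdisj,
    Finset.card_pair hab, Finset.card_pair hcd]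

theorem smul_pair (g : Equiv.Perm GolayPt) (a b : GolayPt) :
    g • ({a, b} : Finset GolayPt) = {g a, g b} := by
  rw [Finset.smul_finset_insert, Finset.smul_finset_singleton]
  rfl

theorem exists_four_set {m r : Equiv.Perm GolayPt} (hmM : m ∈ M24) (hrM : r ∈ M24) (hm : m * m = 1)
    (hm1 : m ≠ 1) (hr : r * r = 1) (hr1 : r ≠ 1) (hne : r ≠ m) (hcomm : m * r = r * m) :
    ∃ S : Finset GolayPt, Even S.card ∧ m • S = S ∧ (symmDiff S (r • S)).card = 4 := by
  have hmm : ∀ p, m (m p) = p := fun p => by rw [← Equiv.Perm.mul_apply, hm]; rfl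
  have hrr : ∀ p, r (r p) = p := fun p => by rw [← Equiv.Perm.mul_apply, hr]; rfl
  have hmr : ∀ p, m (r p) = r (m p) := fun p => by
    rw [← Equiv.Perm.mul_apply, hcomm]; rfl
  by_cases hc1 : ∃ p, m p ≠ p ∧ r p ≠ p ∧ r p ≠ m p
  · obtain ⟨p, h1, h2, h3⟩ := hc1
    refine ⟨{p, m p}, by rw [Finset.card_pair h1.symm]; decide, ?_, ?_⟩
    · rw [smul_pair, hmm, Finset.pair_comm]
    · rw [smul_pair]
      apply card_four h1.symm h2.symm
      · intro h
        have h4 := congrArg r h
        rw [hrr] at h4
        exact h3 h4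
      · exact fun h => h3 h.symm
      · intro h
        apply h2
        rw [← hmr p] at h
        exact (m.injective h).symm
      · intro h
        exact h1 (r.injective h).symm
  push Not at hc1
  by_cases hc2 : ∃ i, m i = i ∧ r i ≠ i
  · obtain ⟨i, hi, hri⟩ := hc2
    obtain ⟨O, hO, hOm⟩ := fix_octad hmM hm hm1 hi
    have hrO : r • O = O := by
      apply Finset.eq_of_subset_of_card_le
      · intro y hy
        obtain ⟨x, hx, rfl⟩ := Finset.mem_smul_finset.1 hy
        rw [← hOm] at hx ⊢
        show m (r x) = r x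
        rw [hmr, hx]
      · rw [Finset.card_smul_finset]
    obtain ⟨k, hk, hrk, hki, hkr⟩ := exists_second hO hrM hrO ((hOm i).1 hi) hri (hrr i)
    refine ⟨{i, k}, by rw [Finset.card_pair hki.symm]; decide, ?_, ?_⟩
    · rw [smul_pair, hi, (hOm k).2 hk]
    · rw [smul_pair]
      apply card_four hki.symm hri.symm
      · intro h
        apply hkr
        rw [h, hrr]
      · exact hkr
      · exact hrk.symm
      · exact fun h => hki (r.injective h).symm
  push Not at hc2
  exfalso
  -- every point is fixed by `r` or by `m r`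
  have hall : ∀ p, r p = p ∨ (m * r) p = p := by
    intro p
    by_cases h1 : m p = p
    · exact Or.inl (hc2 p h1)
    by_cases h2 : r p = p
    · exact Or.inl h2
    · right
      rw [Equiv.Perm.mul_apply, hc1 p h1 h2, hmm]
  have hmr2 : (m * r) * (m * r) = 1 := by
    rw [← mul_assoc, mul_assoc m r m, ← hcomm, ← mul_assoc, hm, one_mul, hr]
  have hmr1 : m * r ≠ 1 := by
    intro h
    apply hne
    have : r = m * (m * r) := by rw [← mul_assoc, hm, one_mul]
    rw [this, h, mul_one]
  have h1 := card_fix_le hrM hr hr1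
  have h2 := card_fix_le (M24.mul_mem hmM hrM) hmr2 hmr1
  have h3 : (Finset.univ : Finset GolayPt) ⊆ (Finset.univ.filter fun p : GolayPt => r p = p) ∪
      (Finset.univ.filter fun p : GolayPt => (m * r) p = p) := by
    intro p _
    rw [Finset.mem_union, Finset.mem_filter, Finset.mem_filter]
    rcases hall p with h | h
    · exact Or.inl ⟨Finset.mem_univ _, h⟩
    · exact Or.inr ⟨Finset.mem_univ _, h⟩
  have h4 := (Finset.card_le_card h3).trans (Finset.card_union_le _ _)
  have h5 : (Finset.univ : Finset GolayPt).card = 24 := by decide +kernel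
  omega

/-! ### two octads through two common points -/

/-- If `O ≠ O'` are octads with two common points then they meet in 2 or 4 points. -/
theorem inter_card {O O' : Finset GolayPt} (hO : O ∈ octads) (hO' : O' ∈ octads) (hne : O ≠ O')
    (h2 : 2 ≤ (O ∩ O').card) : (O ∩ O').card = 2 ∨ (O ∩ O').card = 4 := by
  have hα : Fintype.card Cfsg.GolayPt = 24 := by simp
  rcases S0352.result hα S0363.result hO hO' hne with h | h | h <;> omega

/-- If the octads `O`, `O'` meet in four points, some nontrivial translation of `O` fixes `O'`. -/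
theorem exists_translation {O O' : Finset GolayPt} (hO : O ∈ octads) (hO' : O' ∈ octads)
    (h4 : (O ∩ O').card = 4) : ∃ t ∈ M24, (∀ p ∈ O, t p = p) ∧ t ≠ 1 ∧ t • O' = O' := by
  have h8 : O'.card = 8 := octad_card hO'
  have h4' : (O' \ O).card = 4 := by
    have := Finset.card_sdiff_add_card_inter O' O
    rw [Finset.inter_comm] at this
    omega
  obtain ⟨a, ha, b, hb, hab⟩ := Finset.one_lt_card.1 (show 1 < (O' \ O).card by omega)
  rw [Finset.mem_sdiff] at ha hb
  obtain ⟨t, ⟨ht, htab⟩, -⟩ :=
    Cfsg.Agent.SporadicA.OctadFix.existsUnique_fixOct hO ha.2 hb.2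
  obtain ⟨htM, htO⟩ := Cfsg.Agent.SporadicA.OctadFix.mem_fixOct.1 ht
  refine ⟨t, htM, htO, ?_, ?_⟩
  · rintro rfl
    exact hab htab
  · apply octad_unique (Cfsg.Agent.SporadicStructure.OctadStabM24.smul_octad htM hO') hO'
    have hsub : insert b (O ∩ O') ⊆ t • O' ∩ O' := by
      intro x hx
      rw [Finset.mem_insert, Finset.mem_inter] at hx
      rw [Finset.mem_inter]
      rcases hx with rfl | ⟨hx, hx'⟩
      · refine ⟨?_, hb.1⟩
        rw [← htab]
        exact Finset.smul_mem_smul_finset ha.1
      · refine ⟨?_, hx'⟩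
        rw [← htO x hx]
        exact Finset.smul_mem_smul_finset hx'
    have h5 := Finset.card_le_card hsub
    rw [Finset.card_insert_of_notMem (fun h => hb.2 (Finset.mem_inter.1 h).1), h4] at h5
    exact h5

end Cfsg.Agent.J4Type.DuadM24
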