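import Cfsg.Agent.J4Type.FusionM22
import Cfsg.Agent.S0363

/-!
# J₄ type, part (b): centralisers in the translation group of an octad (R07, helper607)

* `card_comm_le_four`, `card_comm_le_two` : a 2-element stabilising the octad `O`, fixing two of its points and
  inducing an involution (an element of order at least 4) on `O` centralises at most 4 (at most 2) of the 16
  elements fixing `O` pointwise;
* `sq_eq_one_of_five` : a 2-element of `M24` fixing five points has square 1.
-/

set_option autoImplicit false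

namespace Cfsg.Agent.J4Type.FusionComm

open Cfsg Cfsg.Agent.J4Type.FusionM22
open Cfsg.Agent.SporadicA.GolayBase Cfsg.Agent.SporadicA.OctadFix
open scoped Pointwise

/-! ### centralisers in the translation group of an octad -/

/-- `t ∈ fixOct O` with `t b` fixing a given point outside `O` -/
theorem exists_translate {O : Finset GolayPt} (hO : O ∈ octads) {b : Equiv.Perm GolayPt} (hbO : b • O = O)
    {p : GolayPt} (hp : p ∉ O) : ∃ t ∈ fixOct O, (t * b) p = p := by
  have hst := mem_iff_of_smul_eq hbO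
  obtain ⟨t, ⟨ht, htp⟩, -⟩ := existsUnique_fixOct hO (fun h => hp ((hst p).1 h) : b p ∉ O) hp
  exact ⟨t, ht, htp⟩

theorem fixOct_comm {O : Finset GolayPt} (hO : O ∈ octads) {a b : Equiv.Perm GolayPt} (ha : a ∈ fixOct O)
    (hb : b ∈ fixOct O) : a * b = b * a := by
  have h1 := fixOct_sq hO ((fixOct O).mul_mem ha hb)
  have h2 := eq_inv_of_mul_eq_one_left h1
  rw [mul_inv_rev, ← eq_inv_of_mul_eq_one_left (fixOct_sq hO ha), ← eq_inv_of_mul_eq_one_left (fixOct_sq hO hb)] at h2
  exact h2

/-- `C` acts semiregularly on the fixed points outside `O` of an element commuting with it -/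
theorem card_le_of_comm {O : Finset GolayPt} (hO : O ∈ octads) (C : Subgroup (Equiv.Perm GolayPt))
    (hC : C ≤ fixOct O) {b : Equiv.Perm GolayPt} (hb : ∀ c ∈ C, c * b = b * c) {p : GolayPt} (hp : p ∉ O)
    (hbp : b p = p) :
    Nat.card C ≤ (Finset.univ.filter fun x : GolayPt => x ∉ O ∧ b x = x).card := by
  classical
  let _ : Fintype C := Fintype.ofFinite C
  rw [Nat.card_eq_fintype_card, ← Finset.card_univ]
  apply Finset.card_le_card_of_injOn (fun c : C => (c : Equiv.Perm GolayPt) p)
  · intro c _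
    rw [Finset.mem_coe, Finset.mem_filter]
    refine ⟨Finset.mem_univ _, ?_, ?_⟩
    · intro h
      have h1 := (mem_fixOct.1 (hC c.2)).2 _ h
      exact hp ((c : Equiv.Perm GolayPt).injective h1 ▸ h)
    · show b ((c : Equiv.Perm GolayPt) p) = (c : Equiv.Perm GolayPt) p
      rw [← Equiv.Perm.mul_apply, ← hb _ c.2, Equiv.Perm.mul_apply, hbp]
  · intro c _ d _ h
    have h' : (c : Equiv.Perm GolayPt) p = (d : Equiv.Perm GolayPt) p := h
    have hcp : (c : Equiv.Perm GolayPt) p ∉ O := by
      intro h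
      have h1 := (mem_fixOct.1 (hC c.2)).2 _ h
      exact hp ((c : Equiv.Perm GolayPt).injective h1 ▸ h)
    obtain ⟨k, -, hk⟩ := existsUnique_fixOct hO hp hcp
    exact Subtype.ext ((hk _ ⟨hC c.2, rfl⟩).trans (hk _ ⟨hC d.2, h'.symm⟩).symm)

theorem eq_one_of_fix_out {O : Finset GolayPt} (hO : O ∈ octads) {g : Equiv.Perm GolayPt}
    (hg : g ∈ fixOct O) {p : GolayPt} (hp : p ∉ O) (hgp : g p = p) : g = 1 := by
  obtain ⟨k, -, hk⟩ := existsUnique_fixOct hO hp hp
  rw [hk g ⟨hg, hgp⟩, hk 1 ⟨(fixOct O).one_mem, rfl⟩]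

theorem exists_out {O : Finset GolayPt} (hO : O ∈ octads) : ∃ p : GolayPt, p ∉ O := by
  by_contra hno
  push Not at hno
  have h1 : O = Finset.univ := Finset.eq_univ_iff_forall.mpr hno
  have h2 := octad_card hO
  rw [h1] at h2
  exact absurd h2 (by decide)

/-- setup: replace `b` by `t b` -/
theorem translate_spec {O : Finset GolayPt} (hO : O ∈ octads) (C : Subgroup (Equiv.Perm GolayPt))
    (hC : C ≤ fixOct O) {b : Equiv.Perm GolayPt} (hM : b ∈ M24) (hbO : b • O = O)
    (hb : ∀ c ∈ C, c * b = b * c) :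
    ∃ b' ∈ M24, ∃ p, p ∉ O ∧ b' p = p ∧ (∀ x ∈ O, b' x = b x) ∧ b' • O = O ∧ (∀ c ∈ C, c * b' = b' * c) := by
  obtain ⟨p, hp⟩ := exists_out hO
  obtain ⟨t, ht, htp⟩ := exists_translate hO hbO hp
  have hst := mem_iff_of_smul_eq hbO
  have htO : ∀ x ∈ O, t x = x := (mem_fixOct.1 ht).2
  have hbx : ∀ x ∈ O, (t * b) x = b x := by
    intro x hx
    rw [Equiv.Perm.mul_apply, htO _ ((hst x).2 hx)]
  refine ⟨t * b, M24.mul_mem (mem_fixOct.1 ht).1 hM, p, hp, htp, hbx, ?_, ?_⟩
  · rw [mul_smul, hbO]
    apply Finset.eq_of_subset_of_card_le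
    · intro y hy
      obtain ⟨x, hx, rfl⟩ := Finset.mem_smul_finset.1 hy
      show t x ∈ O
      rw [htO x hx]
      exact hx
    · rw [Finset.card_smul_finset]
  · intro c hc
    rw [← mul_assoc, fixOct_comm hO (hC hc) ht, mul_assoc, hb c hc, mul_assoc]

theorem card_filter_split {O : Finset GolayPt} {b : Equiv.Perm GolayPt} :
    (Finset.univ.filter fun x : GolayPt => b x = x).card =
      (Finset.univ.filter fun x : ↥O => b x = x).card +
        (Finset.univ.filter fun x : GolayPt => x ∉ O ∧ b x = x).card := by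
  classical
  have h1 : (Finset.univ.filter fun x : ↥O => b x = x).card =
      (Finset.univ.filter fun x : GolayPt => x ∈ O ∧ b x = x).card := by
    apply Finset.card_bij (fun (x : ↥O) _ => (x : GolayPt))
    · intro x hx
      rw [Finset.mem_filter] at hx ⊢
      exact ⟨Finset.mem_univ _, x.2, hx.2⟩
    · intro x _ y _ h
      exact Subtype.ext h
    · intro y hy
      rw [Finset.mem_filter] at hy
      exact ⟨⟨y, hy.2.1⟩, by rw [Finset.mem_filter]; exact ⟨Finset.mem_univ _, hy.2.2⟩, rfl⟩
  rw [h1, ← Finset.card_union_of_disjoint]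
  · congr 1
    ext x
    simp only [Finset.mem_union, Finset.mem_filter, Finset.mem_univ, true_and]
    tauto
  · rw [Finset.disjoint_left]
    intro x hx hx'
    rw [Finset.mem_filter] at hx hx'
    exact hx'.2.1 hx.2.1

/-- an element inducing a nontrivial involution on `O` and fixing two of its points -/
theorem card_comm_le_four {O : Finset GolayPt} (hO : O ∈ octads) (C : Subgroup (Equiv.Perm GolayPt))
    (hC : C ≤ fixOct O) {b : Equiv.Perm GolayPt} (hM : b ∈ M24) (hbO : b • O = O)
    (hb : ∀ c ∈ C, c * b = b * c) {p q : GolayPt} (hp : p ∈ O) (hq : q ∈ O) (hpq : p ≠ q)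
    (hbp : b p = p) (hbq : b q = q) (hbb : ∀ x ∈ O, b (b x) = x) (hne : ¬ ∀ x ∈ O, b x = x) :
    Nat.card C ≤ 4 := by
  obtain ⟨b', hM', r, hr, hbr, hx, hbO', hcomm⟩ := translate_spec hO C hC hM hbO hb
  have hst := mem_iff_of_smul_eq hbO
  have hst' := mem_iff_of_smul_eq hbO'
  have hbb' : ∀ x ∈ O, b' (b' x) = x := by
    intro x hxO
    rw [hx x hxO, hx _ ((hst x).2 hxO), hbb x hxO]
  have hne' : ¬ ∀ x ∈ O, b' x = x := by
    intro h
    exact hne fun x hxO => by rw [← hx x hxO, h x hxO]
  have h1 : b' * b' = 1 := by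
    apply eq_one_of_fix_out hO (p := r) _ hr
    · rw [Equiv.Perm.mul_apply, hbr, hbr]
    · exact mem_fixOct.2 ⟨M24.mul_mem hM' hM', hbb'⟩
  have h2 : b' ≠ 1 := by
    rintro rfl
    exact hne' fun x _ => rfl
  have h3 := card_fix hM' h1 h2 hbr
  rw [card_filter_split (O := O), FusionM22.card_fix_octad hO hM' hbb' hbO' hp hq hpq (by rw [hx p hp, hbp])
    (by rw [hx q hq, hbq]) hne'] at h3
  have h4 := card_le_of_comm hO C hC hcomm hr hbr
  omega

/-- an even 2-element moving at most three points is trivial -/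
theorem eq_one_of_support {α : Type*} [Fintype α] [DecidableEq α] (e : Equiv.Perm α) {k : ℕ}
    (hk : e ^ 2 ^ k = 1) (hs : Equiv.Perm.sign e = 1) (h3 : e.support.card ≤ 3) : e = 1 := by
  have h : e.support.card = 0 ∨ e.support.card = 1 ∨ e.support.card = 2 ∨ e.support.card = 3 := by omega
  rcases h with h | h | h | h
  · exact Equiv.Perm.card_support_eq_zero.1 h
  · exact absurd h e.card_support_ne_one
  · have h1 := Equiv.Perm.card_support_eq_two.1 h
    rw [h1.sign_eq] at hs
    exact absurd hs (by decide)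
  · have h1 := card_support_eq_three_iff.1 h
    have h2 : orderOf e ∣ 2 ^ k := orderOf_dvd_of_pow_eq_one hk
    rw [h1.orderOf] at h2
    have h4 := Nat.Prime.dvd_of_dvd_pow Nat.prime_three h2
    exact absurd h4 (by norm_num)

/-- A 2-element of `M24` fixing five points is an involution or trivial. -/
theorem sq_eq_one_of_five {b : Equiv.Perm GolayPt} (hM : b ∈ M24) {k : ℕ} (hk : b ^ 2 ^ k = 1)
    {s : Finset GolayPt} (hs : s.card = 5) (hfix : ∀ x ∈ s, b x = x) : b * b = 1 := by
  classical
  obtain ⟨O, ⟨hO, hsO⟩, -⟩ := Cfsg.Agent.S0363.result.2 s hs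
  have hbO : b • O = O := by
    apply octad_unique (Cfsg.Agent.SporadicStructure.OctadStabM24.smul_octad hM hO) hO
    rw [← hs]
    apply Finset.card_le_card
    intro x hx
    rw [Finset.mem_inter]
    refine ⟨?_, hsO hx⟩
    rw [← hfix x hx]
    exact Finset.smul_mem_smul_finset (hsO hx)
  have hst := mem_iff_of_smul_eq hbO
  set e : Equiv.Perm ↥O := b.subtypePerm hst with he
  have hpow : ∀ n (x : ↥O), (((e ^ n) x : ↥O) : GolayPt) = (b ^ n) x := by
    intro n
    induction n with
    | zero => intro x; rfl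
    | succ n ih =>
      intro x
      rw [pow_succ, pow_succ, Equiv.Perm.mul_apply, Equiv.Perm.mul_apply, ih]
      rfl
  have h1 : e = 1 := by
    apply eq_one_of_support e (k := k) _ (sign_octad hO hM hst)
    · have h2 : e.support ⊆ Finset.univ \ s.subtype (· ∈ O) := by
        intro x hx
        rw [Finset.mem_sdiff, Finset.mem_subtype]
        refine ⟨Finset.mem_univ _, fun h => ?_⟩
        rw [Equiv.Perm.mem_support] at hx
        exact hx (Subtype.ext (hfix _ h))
      have h3 := Finset.card_le_card h2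
      have h4 : (s.subtype (· ∈ O)).card = 5 := by
        rw [Finset.card_subtype, Finset.filter_true_of_mem (fun x hx => hsO hx), hs]
      rw [Finset.card_sdiff_of_subset (Finset.subset_univ _), Finset.card_univ, Fintype.card_coe,
        octad_card hO, h4] at h3
      exact h3
    · apply Equiv.ext
      intro x
      apply Subtype.ext
      rw [hpow, hk]
      rfl
  apply fixOct_sq hO
  refine mem_fixOct.2 ⟨hM, fun x hx => ?_⟩
  exact congrArg (fun f : Equiv.Perm ↥O => ((f ⟨x, hx⟩ : ↥O) : GolayPt)) h1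

/-- a 2-element inducing an element of order at least 4 on `O` and fixing two of its points -/
theorem card_comm_le_two {O : Finset GolayPt} (hO : O ∈ octads) (C : Subgroup (Equiv.Perm GolayPt))
    (hC : C ≤ fixOct O) {b : Equiv.Perm GolayPt} (hM : b ∈ M24) (hbO : b • O = O)
    (hb : ∀ c ∈ C, c * b = b * c) {k : ℕ} (hk : b ^ 2 ^ k = 1) {p q : GolayPt} (hp : p ∈ O) (hq : q ∈ O)
    (hpq : p ≠ q) (hbp : b p = p) (hbq : b q = q) (hne : ¬ ∀ x ∈ O, b (b x) = x) :
    Nat.card C ≤ 2 := by
  classical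
  obtain ⟨b', hM', r, hr, hbr, hx, hbO', hcomm⟩ := translate_spec hO C hC hM hbO hb
  have hst := mem_iff_of_smul_eq hbO
  have hst' := mem_iff_of_smul_eq hbO'
  have hpow : ∀ n, ∀ x ∈ O, (b' ^ n) x = (b ^ n) x := by
    intro n
    induction n with
    | zero => intro x _; rfl
    | succ n ih =>
      intro x hxO
      rw [pow_succ, pow_succ, Equiv.Perm.mul_apply, Equiv.Perm.mul_apply, hx x hxO, ih _ ((hst x).2 hxO)]
  have hpr : ∀ n, (b' ^ n) r = r := by
    intro n
    induction n with
    | zero => rfl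
    | succ n ih => rw [pow_succ, Equiv.Perm.mul_apply, hbr, ih]
  have h1 : b' ^ 2 ^ k = 1 := by
    apply eq_one_of_fix_out hO (p := r) _ hr (hpr _)
    refine mem_fixOct.2 ⟨M24.pow_mem hM' _, fun x hxO => ?_⟩
    rw [hpow _ x hxO, hk]
    rfl
  refine (card_le_of_comm hO C hC hcomm hr hbr).trans ?_
  by_contra hcon
  push Not at hcon
  obtain ⟨s, hs, hs3⟩ := Finset.exists_subset_card_eq (Nat.succ_le_of_lt hcon)
  have hsO : ∀ x ∈ s, x ∉ O ∧ b' x = x := fun x hx => (Finset.mem_filter.1 (hs hx)).2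
  have h5 : (insert p (insert q s)).card = 5 := by
    rw [Finset.card_insert_of_notMem, Finset.card_insert_of_notMem, hs3]
    · exact fun h => (hsO q h).1 hq
    · rw [Finset.mem_insert, not_or]
      exact ⟨hpq, fun h => (hsO p h).1 hp⟩
  have h6 := sq_eq_one_of_five hM' h1 h5 (by
    intro x hxs
    rw [Finset.mem_insert, Finset.mem_insert] at hxs
    rcases hxs with rfl | rfl | h
    · rw [hx _ hp, hbp]
    · rw [hx _ hq, hbq]
    · exact (hsO x h).2)
  apply hne
  intro x hxO
  have h7 := hpow 2 x hxO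
  rw [pow_two, pow_two, h6, Equiv.Perm.mul_apply] at h7
  exact h7.symm

end Cfsg.Agent.J4Type.FusionComm
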