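import Mathlib
import Cfsg.Agent.S0414
import Cfsg.Agent.SporadicA.MathieuRecog
import Cfsg.Agent.J4Type.InvFix

/-!
# Automorphisms of `M22` (R07, helper855)

* `D22` : the stabiliser in `M24` of the duad `{none, some 0}`;
* `exists_conj` : every automorphism of `Cfsg.Spor.M22` is the conjugation by an element of `D22`;
* `eq_one_of_centralizes` : `C(M22) ∩ D22 = 1`;
* `exists_hom` : if `M ⊴ C` has index 2, `π : M →* M22` is onto with kernel `N ⊴ C` and the elements
  of `C` centralising `M / N` lie in `M`, then `π` extends to `P : C →* Perm GolayPt` with kernel `N`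
  and range `D22`.
-/

set_option autoImplicit false
open scoped Pointwise
open Cfsg MulAction

namespace Cfsg.Agent.J4Type.Aut22

open Cfsg.Agent.J4Type.InvFix
open Cfsg.Agent.SporadicStructure.M24IndexAbs Cfsg.Agent.SporadicStructure.M24IndexMain
open Cfsg.Agent.SporadicStructure.M23Index253 (exists_map card_golayPt smul_mem_octads)
open Cfsg.Agent.SporadicA.MathieuRecog (mem_M22_iff card_M22 simple_M22)

/-- the stabiliser in `M24` of the duad `{none, some 0}` -/
def D22 : Subgroup (Equiv.Perm GolayPt) :=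
  M24 ⊓ MulAction.stabilizer (Equiv.Perm GolayPt) ({none, some 0} : Finset GolayPt)

/-- outside the base duad -/
def Out (x : GolayPt) : Prop := x ≠ none ∧ x ≠ some 0

theorem mem_D22_iff (g : Equiv.Perm GolayPt) : g ∈ D22 ↔ g ∈ M24 ∧
    ((g none = none ∧ g (some 0) = some 0) ∨ (g none = some 0 ∧ g (some 0) = none)) := by
  refine Iff.trans (Subgroup.mem_inf (p := M24)
    (p' := MulAction.stabilizer (Equiv.Perm GolayPt) ({none, some 0} : Finset GolayPt))) ?_
  refine and_congr_right fun _ => ?_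
  refine Iff.trans (MulAction.mem_stabilizer_iff (G := Equiv.Perm GolayPt)
    (a := ({none, some 0} : Finset GolayPt)) (g := g)) ?_
  have h1 : g • ({none, some 0} : Finset GolayPt) = {g none, g (some 0)} := by
    rw [Finset.smul_finset_insert, Finset.smul_finset_singleton]
    rfl
  rw [h1]
  have hne : g none ≠ g (some 0) := fun h => by
    have := g.injective h
    simp at this
  constructor
  · intro h
    have h2 : g none ∈ ({none, some 0} : Finset GolayPt) := by rw [← h]; simp
    have h3 : g (some 0) ∈ ({none, some 0} : Finset GolayPt) := by rw [← h]; simp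
    rw [Finset.mem_insert, Finset.mem_singleton] at h2 h3
    rcases h2 with h2 | h2 <;> rcases h3 with h3 | h3
    · exact absurd (h2.trans h3.symm) hne
    · exact Or.inl ⟨h2, h3⟩
    · exact Or.inr ⟨h2, h3⟩
    · exact absurd (h2.trans h3.symm) hne
  · rintro (⟨h2, h3⟩ | ⟨h2, h3⟩)
    · rw [h2, h3]
    · rw [h2, h3, Finset.pair_comm]

theorem M22_le_D22 : Cfsg.Spor.M22 ≤ D22 := by
  intro g hg
  rw [mem_M22_iff] at hg
  exact (mem_D22_iff g).2 ⟨hg.1, Or.inl hg.2⟩

theorem mem_M22_iff_D22 (g : Equiv.Perm GolayPt) :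
    g ∈ Cfsg.Spor.M22 ↔ g ∈ D22 ∧ g none = none := by
  rw [mem_M22_iff, mem_D22_iff]
  constructor
  · rintro ⟨h1, h2, h3⟩
    exact ⟨⟨h1, Or.inl ⟨h2, h3⟩⟩, h2⟩
  · rintro ⟨⟨h1, h2 | h2⟩, h3⟩
    · exact ⟨h1, h2⟩
    · rw [h2.1] at h3
      simp at h3

theorem card_D22 : Nat.card D22 = 887040 := by
  have h1 := index_duad S0366.result (s := ({none, some 0} : Finset GolayPt)) (by simp)
  have h2 := (stabilizer M24 ({none, some 0} : Finset GolayPt)).card_mul_index
  rw [h1, S0364.result] at h2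
  have h3 : Nat.card D22 = Nat.card (stabilizer M24 ({none, some 0} : Finset GolayPt)) := by
    refine Nat.card_congr
      { toFun := fun g => ⟨⟨(g : Equiv.Perm GolayPt), (Subgroup.mem_inf.1 g.2).1⟩,
          (Subgroup.mem_inf.1 g.2).2⟩
        invFun := fun g => ⟨((g : M24) : Equiv.Perm GolayPt), Subgroup.mem_inf.2 ⟨(g : M24).2, g.2⟩⟩
        left_inv := fun g => rfl
        right_inv := fun g => rfl }
  rw [h3]
  exact Nat.eq_of_mul_eq_mul_right (by norm_num : 0 < 276) (h2.trans (by norm_num))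

/-! ### Transitivity -/

theorem Out.apply {m : Equiv.Perm GolayPt} (hm : m ∈ D22) {x : GolayPt} (hx : Out x) :
    Out (m x) := by
  rw [mem_D22_iff] at hm
  constructor
  · intro h
    rcases hm.2 with ⟨h1, h2⟩ | ⟨h1, h2⟩
    · exact hx.1 (m.injective (h.trans h1.symm))
    · exact hx.2 (m.injective (h.trans h2.symm))
  · intro h
    rcases hm.2 with ⟨h1, h2⟩ | ⟨h1, h2⟩
    · exact hx.2 (m.injective (h.trans h2.symm))
    · exact hx.1 (m.injective (h.trans h1.symm))

theorem Out.apply' (m : Cfsg.Spor.M22) {x : GolayPt} (hx : Out x) :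
    Out ((m : Equiv.Perm GolayPt) x) := hx.apply (M22_le_D22 m.2)

theorem exists_two {x x' y y' : GolayPt} (hx : Out x) (hx' : Out x') (hxx : x ≠ x')
    (hy : Out y) (hy' : Out y') (hyy : y ≠ y') :
    ∃ m : Cfsg.Spor.M22, (m : Equiv.Perm GolayPt) x = y ∧ (m : Equiv.Perm GolayPt) x' = y' := by
  have h0 : (none : GolayPt) ≠ some 0 := by simp
  have inj : ∀ a b : GolayPt, Out a → Out b → a ≠ b →
      Function.Injective (![none, some 0, a, b] : Fin 4 → GolayPt) := by
    intro a b ha hb hab i j hij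
    fin_cases i <;> fin_cases j <;> simp at hij ⊢
    all_goals first
      | exact h0 hij
      | exact h0 hij.symm
      | exact hab hij
      | exact hab hij.symm
      | exact ha.1 hij
      | exact ha.1 hij.symm
      | exact ha.2 hij
      | exact ha.2 hij.symm
      | exact hb.1 hij
      | exact hb.1 hij.symm
      | exact hb.2 hij
      | exact hb.2 hij.symm
  obtain ⟨g, hg⟩ := exists_map S0366.result (n := 4) (by norm_num) ![none, some 0, x, x']
    ![none, some 0, y, y'] (inj x x' hx hx' hxx) (inj y y' hy hy' hyy)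
  refine ⟨⟨g, ?_⟩, hg 2, hg 3⟩
  rw [mem_M22_iff]
  exact ⟨g.2, hg 0, hg 1⟩

theorem card_pts : ({none, some 0}ᶜ : Finset GolayPt).card = 22 := by
  rw [Finset.card_compl, card24]
  simp

theorem exists_out (s : Finset GolayPt) (hs : s.card < 22) : ∃ y, Out y ∧ y ∉ s := by
  by_contra hcon
  push Not at hcon
  have h1 : ({none, some 0}ᶜ : Finset GolayPt) ⊆ s := by
    intro y hy
    rw [Finset.mem_compl, Finset.mem_insert, Finset.mem_singleton, not_or] at hy
    exact hcon y hy
  have h2 := Finset.card_le_card h1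
  rw [card_pts] at h2
  omega

theorem card_stab {x : GolayPt} (hx : Out x) : Nat.card (stabilizer Cfsg.Spor.M22 x) = 20160 := by
  have h1 := (stabilizer Cfsg.Spor.M22 x).card_mul_index
  rw [index_stabilizer, card_M22] at h1
  have h2 : orbit Cfsg.Spor.M22 x = (({none, some 0}ᶜ : Finset GolayPt) : Set GolayPt) := by
    ext y
    rw [Finset.mem_coe, Finset.mem_compl, Finset.mem_insert, Finset.mem_singleton, not_or]
    constructor
    · rintro ⟨m, rfl⟩
      exact hx.apply' m
    · intro hy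
      obtain ⟨x', hx', hxx'⟩ := exists_out {x} (by simp)
      obtain ⟨y', hy', hyy'⟩ := exists_out {y} (by simp)
      rw [Finset.mem_singleton] at hxx' hyy'
      obtain ⟨m, hm, -⟩ := exists_two hx hx' (Ne.symm hxx') hy hy' (Ne.symm hyy')
      exact ⟨m, hm⟩
  rw [h2, Set.ncard_coe_finset, card_pts] at h1
  omega

/-- a point of `Out` fixed by the stabiliser of `x` is `x` -/
theorem eq_of_fixed {x y : GolayPt} (hx : Out x) (hy : Out y)
    (h : ∀ m : Cfsg.Spor.M22, (m : Equiv.Perm GolayPt) x = x → (m : Equiv.Perm GolayPt) y = y) :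
    y = x := by
  by_contra hne
  obtain ⟨z, hz, hzxy⟩ := exists_out {x, y} (lt_of_le_of_lt Finset.card_le_two (by norm_num))
  rw [Finset.mem_insert, Finset.mem_singleton, not_or] at hzxy
  obtain ⟨m, h1, h2⟩ := exists_two hx hy (Ne.symm hne) hx hz (Ne.symm hzxy.1)
  exact hzxy.2 (h2.symm.trans (h m h1))

/-- an element of `D22` centralising `M22` is trivial -/
theorem eq_one_of_centralizes {g : Equiv.Perm GolayPt} (hg : g ∈ D22)
    (h : ∀ m : Cfsg.Spor.M22, g * m * g⁻¹ = m) : g = 1 := by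
  have h1 : ∀ x, Out x → g x = x := by
    intro x hx
    apply eq_of_fixed hx (hx.apply hg)
    intro m hm
    have h2 : (m : Equiv.Perm GolayPt) * g = g * m := by
      rw [← mul_inv_eq_iff_eq_mul.1 (h m)]
    calc (m : Equiv.Perm GolayPt) (g x) = ((m : Equiv.Perm GolayPt) * g) x := rfl
      _ = (g * m) x := by rw [h2]
      _ = g x := by rw [Equiv.Perm.mul_apply, hm]
  have hg4 := ((mem_D22_iff g).1 hg)
  have h3 : g * g = 1 := by
    apply Equiv.ext
    intro x
    rw [Equiv.Perm.mul_apply, Equiv.Perm.one_apply]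
    by_cases hx0 : x = none
    · subst hx0
      rcases hg4.2 with ⟨h4, h5⟩ | ⟨h4, h5⟩
      · rw [h4, h4]
      · rw [h4, h5]
    · by_cases hx1 : x = some 0
      · subst hx1
        rcases hg4.2 with ⟨h4, h5⟩ | ⟨h4, h5⟩
        · rw [h5, h5]
        · rw [h5, h4]
      · rw [h1 x ⟨hx0, hx1⟩, h1 x ⟨hx0, hx1⟩]
  by_contra hne
  have h6 := card_fix_le (u := (⟨g, hg4.1⟩ : M24)) (by
    rw [pow_two]; exact Subtype.ext h3) (fun h => hne (congrArg Subtype.val h))
    (s := ({none, some 0}ᶜ : Finset GolayPt)) (by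
      intro p hp
      rw [Finset.mem_compl, Finset.mem_insert, Finset.mem_singleton, not_or] at hp
      exact h1 p hp)
  rw [card_pts] at h6
  omega

/-! ### The permutation of the 22 points induced by an automorphism -/

theorem M22_le_M24 : Cfsg.Spor.M22 ≤ M24 := fun g hg => ((mem_M22_iff g).1 hg).1

section Aut

variable (α : Cfsg.Spor.M22 ≃* Cfsg.Spor.M22)

/-- the image of the stabiliser of `x` -/
def stIm (x : GolayPt) : Subgroup Cfsg.Spor.M22 :=
  (stabilizer Cfsg.Spor.M22 x).map α.toMonoidHom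

theorem card_stIm {x : GolayPt} (hx : Out x) : Nat.card (stIm α x) = 20160 := by
  unfold stIm
  rw [Subgroup.card_map_of_injective α.injective, card_stab hx]

theorem exists_image {x : GolayPt} (hx : Out x) : ∃ y, Out y ∧
    ∀ m : Cfsg.Spor.M22, (m : Equiv.Perm GolayPt) x = x → (α m : Equiv.Perm GolayPt) y = y := by
  obtain ⟨y, hy0, hy1, hy⟩ := exists_fixed ((stIm α x).map (Subgroup.inclusion M22_le_M24))
    (by rw [Subgroup.card_map_of_injective (Subgroup.inclusion_injective M22_le_M24),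
      card_stIm α hx]) (p := none) (q := some 0) (by simp)
    (by
      rintro _ ⟨m, -, rfl⟩
      exact ((mem_M22_iff _).1 m.2).2.1)
    (by
      rintro _ ⟨m, -, rfl⟩
      exact ((mem_M22_iff _).1 m.2).2.2)
  refine ⟨y, ⟨hy0, hy1⟩, fun m hm => ?_⟩
  exact hy _ ⟨α m, ⟨m, hm, rfl⟩, rfl⟩

theorem stIm_eq {x y : GolayPt} (hx : Out x) (hy : Out y)
    (h : ∀ m : Cfsg.Spor.M22, (m : Equiv.Perm GolayPt) x = x →
      (α m : Equiv.Perm GolayPt) y = y) : stIm α x = stabilizer Cfsg.Spor.M22 y := by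
  apply Subgroup.eq_of_le_of_card_ge
  · rintro _ ⟨m, hm, rfl⟩
    exact h m hm
  · rw [card_stIm α hx, card_stab hy]

theorem image_unique {x y y' : GolayPt} (hx : Out x) (hy : Out y) (hy' : Out y')
    (h : ∀ m : Cfsg.Spor.M22, (m : Equiv.Perm GolayPt) x = x → (α m : Equiv.Perm GolayPt) y = y)
    (h' : ∀ m : Cfsg.Spor.M22, (m : Equiv.Perm GolayPt) x = x →
      (α m : Equiv.Perm GolayPt) y' = y') : y' = y := by
  apply eq_of_fixed hy hy'
  intro m hm
  have h1 : m ∈ stIm α x := by
    rw [stIm_eq α hx hy h]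
    exact hm
  obtain ⟨n, hn, rfl⟩ := h1
  exact h' n hn

open Classical in
/-- the induced map on the points -/
noncomputable def sig (x : GolayPt) : GolayPt :=
  if h : Out x then (exists_image α h).choose else x

theorem sig_out {x : GolayPt} (hx : Out x) : Out (sig α x) := by
  unfold sig
  rw [dif_pos hx]
  exact (exists_image α hx).choose_spec.1

theorem sig_spec {x : GolayPt} (hx : Out x) (m : Cfsg.Spor.M22)
    (hm : (m : Equiv.Perm GolayPt) x = x) : (α m : Equiv.Perm GolayPt) (sig α x) = sig α x := by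
  unfold sig
  rw [dif_pos hx]
  exact (exists_image α hx).choose_spec.2 m hm

theorem sig_none : sig α none = none := by
  unfold sig
  rw [dif_neg (fun h => h.1 rfl)]

theorem sig_zero : sig α (some 0) = some 0 := by
  unfold sig
  rw [dif_neg (fun h => h.2 rfl)]

theorem sig_apply {x : GolayPt} (hx : Out x) (m : Cfsg.Spor.M22) :
    (α m : Equiv.Perm GolayPt) (sig α x) = sig α ((m : Equiv.Perm GolayPt) x) := by
  refine (image_unique α (hx.apply' m) ((sig_out α hx).apply' (α m))
    (sig_out α (hx.apply' m)) ?_ ?_).symm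
  · intro n hn
    have h1 : ((m⁻¹ * n * m : Cfsg.Spor.M22) : Equiv.Perm GolayPt) x = x := by
      change (m : Equiv.Perm GolayPt)⁻¹ ((n : Equiv.Perm GolayPt) ((m : Equiv.Perm GolayPt) x)) = x
      rw [hn]
      exact (m : Equiv.Perm GolayPt).symm_apply_apply x
    have h2 := sig_spec α hx _ h1
    rw [map_mul, map_mul, map_inv] at h2
    change (α m : Equiv.Perm GolayPt)⁻¹ ((α n : Equiv.Perm GolayPt)
      ((α m : Equiv.Perm GolayPt) (sig α x))) = sig α x at h2
    rwa [Equiv.Perm.inv_eq_iff_eq] at h2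
  · intro n hn
    exact sig_spec α (hx.apply' m) n hn

theorem sig_injective : Function.Injective (sig α) := by
  intro x x' hxx
  by_cases hx : Out x
  · by_cases hx' : Out x'
    · refine (eq_of_fixed hx hx' ?_).symm
      intro m hm
      have h1 : α m ∈ stIm α x' := by
        rw [stIm_eq α hx' (sig_out α hx') (fun n hn => sig_spec α hx' n hn), ← hxx]
        exact sig_spec α hx m hm
      obtain ⟨n, hn, hnm⟩ := h1
      rw [← α.injective hnm]
      exact hn
    · exfalso
      have h1 := sig_out α hx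
      rw [hxx] at h1
      unfold sig at h1
      rw [dif_neg hx'] at h1
      exact hx' h1
  · by_cases hx' : Out x'
    · exfalso
      have h1 := sig_out α hx'
      rw [← hxx] at h1
      unfold sig at h1
      rw [dif_neg hx] at h1
      exact hx h1
    · unfold sig at hxx
      rwa [dif_neg hx, dif_neg hx'] at hxx

/-- the induced permutation of the points -/
noncomputable def sigma : Equiv.Perm GolayPt :=
  Equiv.ofBijective (sig α) (Finite.injective_iff_bijective.1 (sig_injective α))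

theorem sigma_apply (x : GolayPt) : sigma α x = sig α x := rfl

theorem sigma_conj (m : Cfsg.Spor.M22) :
    (α m : Equiv.Perm GolayPt) = sigma α * m * (sigma α)⁻¹ := by
  rw [eq_mul_inv_iff_mul_eq]
  apply Equiv.ext
  intro x
  rw [Equiv.Perm.mul_apply, Equiv.Perm.mul_apply, sigma_apply, sigma_apply]
  by_cases hx : Out x
  · exact sig_apply α hx m
  · have h1 := (mem_M22_iff _).1 m.2
    have h2 := (mem_M22_iff _).1 (α m).2
    have h3 : x = none ∨ x = some 0 := by
      by_contra hcon
      rw [not_or] at hcon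
      exact hx hcon
    rcases h3 with rfl | rfl
    · rw [h1.2.1, sig_none, h2.2.1]
    · rw [h1.2.2, sig_zero, h2.2.2]

/-- `sigma` maps octads through the duad to octads. -/
theorem sigma_octad {o : Finset GolayPt} (ho : o ∈ octads) (h0 : none ∈ o) (h1 : some 0 ∈ o) :
    o.image (sigma α) ∈ octads := by
  classical
  have h16 := card_fix_octad ho
  obtain ⟨u, hu⟩ : ∃ u : fixingSubgroup M24 (o : Set GolayPt), u ≠ 1 := by
    by_contra hcon
    push Not at hcon
    have : Nat.card (fixingSubgroup M24 (o : Set GolayPt)) = 1 := by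
      rw [Nat.card_eq_one_iff_unique]
      exact ⟨⟨fun a b => (hcon a).trans (hcon b).symm⟩, ⟨1⟩⟩
    omega
  have hfix : ∀ p ∈ o, ((u : M24) : Equiv.Perm GolayPt) p = p := fun p hp => u.2 ⟨p, hp⟩
  have hsq : ((u : M24) : Equiv.Perm GolayPt) * ((u : M24) : Equiv.Perm GolayPt) = 1 := by
    refine (S0381.result o ho).2 _ ⟨(u : M24).2, ?_⟩
    intro p
    exact u.2 p
  have hM : ((u : M24) : Equiv.Perm GolayPt) ∈ Cfsg.Spor.M22 := by
    rw [mem_M22_iff]
    exact ⟨(u : M24).2, hfix _ h0, hfix _ h1⟩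
  set m : Cfsg.Spor.M22 := ⟨_, hM⟩ with hm
  have hm1 : m ≠ 1 := by
    intro h
    apply hu
    apply Subtype.ext
    apply Subtype.ext
    exact (congrArg Subtype.val h : ((u : M24) : Equiv.Perm GolayPt) = 1)
  have hm2 : m * m = 1 := Subtype.ext hsq
  have hc := sigma_conj α m
  have hv : (⟨(α m : Equiv.Perm GolayPt), M22_le_M24 (α m).2⟩ : M24) ^ 2 = 1 := by
    rw [pow_two]
    apply Subtype.ext
    change (α m : Equiv.Perm GolayPt) * (α m : Equiv.Perm GolayPt) = 1
    have h2 : α m * α m = 1 := by rw [← map_mul, hm2, map_one]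
    exact congrArg Subtype.val h2
  have hv1 : (⟨(α m : Equiv.Perm GolayPt), M22_le_M24 (α m).2⟩ : M24) ≠ 1 := by
    intro h
    apply hm1
    have h2 : (α m : Equiv.Perm GolayPt) = 1 := congrArg Subtype.val h
    have h3 : α m = 1 := Subtype.ext h2
    exact (map_eq_one_iff α α.injective).1 h3
  have hcard : (o.image (sigma α)).card = 8 := by
    rw [Finset.card_image_of_injective _ (sigma α).injective, ho.2]
  obtain ⟨o', ho', hsub, -⟩ := involution_fix hv hv1 (s := o.image (sigma α)) (by rw [hcard]; norm_num)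
    (by
      intro p hp
      obtain ⟨q, hq, rfl⟩ := Finset.mem_image.1 hp
      change (α m : Equiv.Perm GolayPt) (sigma α q) = sigma α q
      rw [hc, Equiv.Perm.mul_apply, Equiv.Perm.mul_apply,
        show (sigma α)⁻¹ (sigma α q) = q from (sigma α).symm_apply_apply q,
        show (m : Equiv.Perm GolayPt) q = q from hfix q hq])
  rwa [Finset.eq_of_subset_of_card_le hsub (by rw [hcard, ho'.2])]

end Aut

/-! ### Permutations preserving the octads through the duad -/

/-- permutations fixing both points of the duad and preserving the octads through it -/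
def A77 : Subgroup (Equiv.Perm GolayPt) where
  carrier := {τ | τ none = none ∧ τ (some 0) = some 0 ∧
    ∀ o : Finset GolayPt, none ∈ o → some 0 ∈ o → (o.image τ ∈ octads ↔ o ∈ octads)}
  mul_mem' := by
    rintro σ τ ⟨h1, h2, h3⟩ ⟨h4, h5, h6⟩
    refine ⟨by rw [Equiv.Perm.mul_apply, h4, h1], by rw [Equiv.Perm.mul_apply, h5, h2], ?_⟩
    intro o h7 h8
    have h9 : o.image (σ * τ : Equiv.Perm GolayPt) = (o.image τ).image σ := by
      rw [Finset.image_image]; rfl
    rw [h9, h3 _ (Finset.mem_image.2 ⟨none, h7, h4⟩) (Finset.mem_image.2 ⟨some 0, h8, h5⟩),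
      h6 o h7 h8]
  one_mem' := by
    refine ⟨rfl, rfl, fun o _ _ => ?_⟩
    rw [show o.image (1 : Equiv.Perm GolayPt) = o from Finset.image_id]
  inv_mem' := by
    rintro τ ⟨h1, h2, h3⟩
    have h4 : τ⁻¹ none = none := by rw [Equiv.Perm.inv_eq_iff_eq, h1]
    have h5 : τ⁻¹ (some 0) = some 0 := by rw [Equiv.Perm.inv_eq_iff_eq, h2]
    refine ⟨h4, h5, fun o h6 h7 => ?_⟩
    have h8 := h3 (o.image (τ⁻¹ : Equiv.Perm GolayPt)) (Finset.mem_image.2 ⟨none, h6, h4⟩)
      (Finset.mem_image.2 ⟨some 0, h7, h5⟩)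
    have h9 : (o.image (τ⁻¹ : Equiv.Perm GolayPt)).image τ = o := by
      rw [Finset.image_image]
      have : (τ : GolayPt → GolayPt) ∘ (τ⁻¹ : Equiv.Perm GolayPt) = id := by
        funext x
        exact τ.apply_symm_apply x
      rw [this, Finset.image_id]
    rw [h9] at h8
    exact h8.symm

open Cfsg.Agent.SporadicA.MathieuRecog in
theorem mem_B22_iff (b : Finset Pt22) : b ∈ B22 ↔
    ∃ o ∈ octads, none ∈ o ∧ some 0 ∈ o ∧ ∀ a : Pt22, a ∈ b ↔ (a : Pt23).1 ∈ o := by
  constructor
  · rintro ⟨_, ⟨o, ho, h0, rfl⟩, h1, rfl⟩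
    refine ⟨o, ho, h0, ?_, ?_⟩
    · rw [Finset.mem_subtype] at h1
      exact h1
    · intro a
      rw [Finset.mem_subtype, Finset.mem_subtype]
  · rintro ⟨o, ho, h0, h1, h2⟩
    refine ⟨_, ⟨o, ho, h0, rfl⟩, ?_, ?_⟩
    · rw [Finset.mem_subtype]
      exact h1
    · ext a
      rw [h2, Finset.mem_subtype, Finset.mem_subtype]

open Cfsg.Agent.SporadicA.MathieuRecog in
/-- the action of `A77` on the 22 points -/
@[reducible] def act77 : MulAction A77 Pt22 where
  smul g a := ⟨⟨(g : Equiv.Perm GolayPt) (a : Pt23).1, fun h => (a : Pt23).2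
      ((g : Equiv.Perm GolayPt).injective (h.trans g.2.1.symm))⟩,
    fun h => a.2 (Subtype.ext ((g : Equiv.Perm GolayPt).injective
      ((congrArg Subtype.val h).trans g.2.2.1.symm)))⟩
  one_smul a := rfl
  mul_smul g h a := rfl

open Cfsg.Agent.SporadicA.MathieuRecog in
theorem act77_faithful : @FaithfulSMul A77 Pt22 act77.toSMul := by
  let _ := act77
  refine ⟨fun {g h} hgh => ?_⟩
  apply Subtype.ext
  apply Equiv.ext
  intro x
  by_cases hx : x = none
  · rw [hx, g.2.1, h.2.1]
  · by_cases hx0 : x = some 0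
    · rw [hx0, g.2.2.1, h.2.2.1]
    · have h1 := hgh ⟨⟨x, hx⟩, fun h => hx0 (congrArg Subtype.val h)⟩
      exact congrArg (fun t : Pt22 => t.1.1) h1

open Cfsg.Agent.SporadicA.MathieuRecog in
theorem act77_inv (g : A77) (b : Finset Pt22) (hb : b ∈ B22) :
    b.image (fun x => act77.toSMul.smul g x) ∈ B22 := by
  rw [mem_B22_iff] at hb ⊢
  obtain ⟨o, ho, h0, h1, h2⟩ := hb
  refine ⟨o.image (g : Equiv.Perm GolayPt), (g.2.2.2 o h0 h1).2 ho,
    Finset.mem_image.2 ⟨none, h0, g.2.1⟩, Finset.mem_image.2 ⟨some 0, h1, g.2.2.1⟩, ?_⟩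
  intro a
  rw [Finset.mem_image, Finset.mem_image]
  constructor
  · rintro ⟨c, hc, rfl⟩
    exact ⟨_, (h2 c).1 hc, rfl⟩
  · rintro ⟨c, hc, hca⟩
    have hc0 : c ≠ none := by
      rintro rfl
      exact (a : Pt23).2 (hca.symm.trans g.2.1)
    have hc1 : (⟨c, hc0⟩ : Pt23) ≠ zero23 := by
      intro h
      have h3 : c = some 0 := congrArg Subtype.val h
      subst h3
      exact a.2 (Subtype.ext (hca.symm.trans g.2.2.1))
    refine ⟨⟨⟨c, hc0⟩, hc1⟩, (h2 _).2 hc, ?_⟩
    exact Subtype.ext (Subtype.ext hca)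

open Cfsg.Agent.SporadicA.MathieuRecog in
theorem card_A77_le : Nat.card A77 ≤ 887040 := by
  let _ := act77
  have := act77_faithful
  obtain ⟨f, hf, -⟩ := exists_hom (G := A77) (B := B22) act77_inv
  rw [← (S0414.result card_Pt22 B22_steiner).1]
  exact Nat.card_le_card_of_injective f hf

theorem swap_not_mem : Equiv.swap (none : GolayPt) (some 0) ∉ M24 := by
  intro h
  have hne : Equiv.swap (none : GolayPt) (some 0) ≠ 1 := by
    intro h1
    have h2 := congrArg (fun g : Equiv.Perm GolayPt => g none) h1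
    simp only [Equiv.swap_apply_left] at h2
    exact absurd h2 (by simp)
  have h6 := card_fix_le (u := (⟨_, h⟩ : M24)) (by
    rw [pow_two]; exact Subtype.ext (Equiv.swap_mul_self _ _))
    (fun h => hne (congrArg Subtype.val h))
    (s := ({none, some 0}ᶜ : Finset GolayPt)) (by
      intro p hp
      rw [Finset.mem_compl, Finset.mem_insert, Finset.mem_singleton, not_or] at hp
      exact Equiv.swap_apply_of_ne_of_ne hp.1 hp.2)
  rw [card_pts] at h6
  omega

open Classical in
/-- restriction to the 22 points -/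
noncomputable def res (g : Equiv.Perm GolayPt) : Equiv.Perm GolayPt :=
  if g none = none then g else Equiv.swap none (some 0) * g

theorem res_apply {g : Equiv.Perm GolayPt} (hg : g ∈ D22) {x : GolayPt} (hx : Out x) :
    res g x = g x := by
  unfold res
  split_ifs with h
  · rfl
  · rw [Equiv.Perm.mul_apply]
    exact Equiv.swap_apply_of_ne_of_ne (hx.apply hg).1 (hx.apply hg).2

theorem res_none {g : Equiv.Perm GolayPt} (hg : g ∈ D22) : res g none = none := by
  unfold res
  split_ifs with h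
  · exact h
  · rcases ((mem_D22_iff g).1 hg).2 with ⟨h1, -⟩ | ⟨h1, h2⟩
    · exact absurd h1 h
    · rw [Equiv.Perm.mul_apply, h1, Equiv.swap_apply_right]

theorem res_zero {g : Equiv.Perm GolayPt} (hg : g ∈ D22) : res g (some 0) = some 0 := by
  unfold res
  split_ifs with h
  · rcases ((mem_D22_iff g).1 hg).2 with ⟨h1, h2⟩ | ⟨h1, h2⟩
    · exact h2
    · rw [h1] at h
      exact absurd h (by simp)
  · rcases ((mem_D22_iff g).1 hg).2 with ⟨h1, -⟩ | ⟨h1, h2⟩
    · exact absurd h1 h
    · rw [Equiv.Perm.mul_apply, h2, Equiv.swap_apply_left]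

theorem image_res {g : Equiv.Perm GolayPt} (hg : g ∈ D22) {o : Finset GolayPt}
    (h0 : none ∈ o) (h1 : some 0 ∈ o) : o.image (res g) = o.image g := by
  unfold res
  split_ifs with h
  · rfl
  · rcases ((mem_D22_iff g).1 hg).2 with ⟨h2, -⟩ | ⟨h2, h3⟩
    · exact absurd h2 h
    · ext y
      rw [Finset.mem_image, Finset.mem_image]
      have hn : none ∈ o.image g := Finset.mem_image.2 ⟨some 0, h1, h3⟩
      have hz : some 0 ∈ o.image g := Finset.mem_image.2 ⟨none, h0, h2⟩
      constructor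
      · rintro ⟨x, hx, rfl⟩
        rw [← Finset.mem_image, Equiv.Perm.mul_apply]
        by_cases h4 : g x = none
        · rw [h4, Equiv.swap_apply_left]; exact hz
        · by_cases h5 : g x = some 0
          · rw [h5, Equiv.swap_apply_right]; exact hn
          · rw [Equiv.swap_apply_of_ne_of_ne h4 h5]
            exact Finset.mem_image_of_mem _ hx
      · rintro ⟨x, hx, rfl⟩
        by_cases h4 : g x = none
        · refine ⟨none, h0, ?_⟩
          rw [Equiv.Perm.mul_apply, h2, Equiv.swap_apply_right, h4]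
        · by_cases h5 : g x = some 0
          · refine ⟨some 0, h1, ?_⟩
            rw [Equiv.Perm.mul_apply, h3, Equiv.swap_apply_left, h5]
          · exact ⟨x, hx, by rw [Equiv.Perm.mul_apply, Equiv.swap_apply_of_ne_of_ne h4 h5]⟩

theorem res_mem {g : Equiv.Perm GolayPt} (hg : g ∈ D22) : res g ∈ A77 := by
  refine ⟨res_none hg, res_zero hg, ?_⟩
  intro o h0 h1
  rw [image_res hg h0 h1]
  have h2 := ((mem_D22_iff g).1 hg).1
  rw [S0369.result, Cfsg.Agent.SporadicA.Steiner23Aut.mem_aut_iff] at h2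
  exact h2 o

theorem res_injective {g h : Equiv.Perm GolayPt} (hg : g ∈ D22) (hh : h ∈ D22)
    (hgh : res g = res h) : g = h := by
  have hsw := swap_not_mem
  have hgM := ((mem_D22_iff g).1 hg).1
  have hhM := ((mem_D22_iff h).1 hh).1
  unfold res at hgh
  split_ifs at hgh with h1 h2 h2
  · exact hgh
  · exfalso
    apply hsw
    rw [← mul_inv_eq_iff_eq_mul.2 hgh]
    exact mul_mem hgM (inv_mem hhM)
  · exfalso
    apply hsw
    rw [← mul_inv_eq_iff_eq_mul.2 hgh.symm]
    exact mul_mem hhM (inv_mem hgM)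
  · exact mul_left_cancel hgh

/-- Every element of `A77` is the restriction of an element of `D22`. -/
theorem exists_res {τ : Equiv.Perm GolayPt} (hτ : τ ∈ A77) :
    ∃ g ∈ D22, ∀ x, Out x → g x = τ x := by
  let r : D22 → A77 := fun g => ⟨res g, res_mem g.2⟩
  have hr : Function.Injective r := fun g h hgh =>
    Subtype.ext (res_injective g.2 h.2 (congrArg Subtype.val hgh))
  have hcard : Nat.card A77 = Nat.card D22 :=
    le_antisymm (by rw [card_D22]; exact card_A77_le) (Nat.card_le_card_of_injective r hr)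
  have hbij : Function.Bijective r :=
    (Nat.bijective_iff_injective_and_card r).2 ⟨hr, hcard.symm⟩
  obtain ⟨g, hg⟩ := hbij.2 ⟨τ, hτ⟩
  refine ⟨g, g.2, fun x hx => ?_⟩
  have h1 : res (g : Equiv.Perm GolayPt) = τ := congrArg Subtype.val hg
  rw [← h1, res_apply g.2 hx]

theorem sigma_mem (α : Cfsg.Spor.M22 ≃* Cfsg.Spor.M22) : sigma α ∈ A77 := by
  classical
  refine ⟨sig_none α, sig_zero α, ?_⟩
  intro o h0 h1
  refine ⟨fun h => ?_, fun h => sigma_octad α h h0 h1⟩
  -- finiteness
  let F : Finset (Finset GolayPt) :=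
    Finset.univ.filter fun o => o ∈ octads ∧ none ∈ o ∧ some 0 ∈ o
  have hF : ∀ o, o ∈ F ↔ o ∈ octads ∧ none ∈ o ∧ some 0 ∈ o := by
    intro o
    simp [F]
  have hmaps : ∀ o ∈ F, o.image (sigma α) ∈ F := by
    intro o ho
    rw [hF] at ho ⊢
    exact ⟨sigma_octad α ho.1 ho.2.1 ho.2.2, Finset.mem_image.2 ⟨none, ho.2.1, sig_none α⟩,
      Finset.mem_image.2 ⟨some 0, ho.2.2, sig_zero α⟩⟩
  have hinj : Set.InjOn (fun o : Finset GolayPt => o.image (sigma α)) F :=
    fun a _ b _ hab => Finset.image_injective (sigma α).injective hab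
  have hsurj := Finset.surj_on_of_inj_on_of_card_le (s := F) (t := F)
    (fun o _ => o.image (sigma α)) hmaps (fun a b ha hb hab => hinj ha hb hab) le_rfl
  obtain ⟨o', ho', he⟩ := hsurj (o.image (sigma α)) ((hF _).2 ⟨h,
    Finset.mem_image.2 ⟨none, h0, sig_none α⟩, Finset.mem_image.2 ⟨some 0, h1, sig_zero α⟩⟩)
  have h2 : o = o' := Finset.image_injective (sigma α).injective he
  rw [h2]
  exact ((hF _).1 ho').1

/-- **Every automorphism of `M22` is the conjugation by an element of `D22`.** -/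
theorem exists_conj (α : Cfsg.Spor.M22 ≃* Cfsg.Spor.M22) :
    ∃ g ∈ D22, ∀ m : Cfsg.Spor.M22, (α m : Equiv.Perm GolayPt) = g * m * g⁻¹ := by
  obtain ⟨g, hg, hgs⟩ := exists_res (sigma_mem α)
  refine ⟨g, hg, fun m => ?_⟩
  rw [eq_mul_inv_iff_mul_eq]
  have hc := sigma_conj α m
  rw [eq_mul_inv_iff_mul_eq] at hc
  apply Equiv.ext
  intro x
  rw [Equiv.Perm.mul_apply, Equiv.Perm.mul_apply]
  by_cases hx : Out x
  · rw [hgs x hx, hgs _ (hx.apply' m)]
    exact congrArg (fun f : Equiv.Perm GolayPt => f x) hc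
  · have h1 := (mem_M22_iff _).1 m.2
    have h2 := (mem_M22_iff _).1 (α m).2
    have h3 : x = none ∨ x = some 0 := by
      by_contra hcon
      rw [not_or] at hcon
      exact hx hcon
    rcases ((mem_D22_iff g).1 hg).2 with ⟨h4, h5⟩ | ⟨h4, h5⟩
    · rcases h3 with rfl | rfl
      · rw [h1.2.1, h4, h2.2.1]
      · rw [h1.2.2, h5, h2.2.2]
    · rcases h3 with rfl | rfl
      · rw [h1.2.1, h4, h2.2.2]
      · rw [h1.2.2, h5, h2.2.1]

/-! ### The homomorphism `P` -/

section Hom

variable {C : Type*} [Group C] {M : Subgroup C} [M.Normal] (π : M →* Cfsg.Spor.M22)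

/-- `g` induces on `M22` what `c` induces on `M / N` -/
def Ind (c : C) (g : Equiv.Perm GolayPt) : Prop :=
  g ∈ D22 ∧ ∀ m : M, (π (MulAut.conjNormal c m) : Equiv.Perm GolayPt) = g * π m * g⁻¹

variable {π}

theorem Ind.unique (hπ : Function.Surjective π) {c : C} {g g' : Equiv.Perm GolayPt}
    (h : Ind π c g) (h' : Ind π c g') : g = g' := by
  have h1 : g'⁻¹ * g = 1 := by
    apply eq_one_of_centralizes (mul_mem (inv_mem h'.1) h.1)
    intro y
    obtain ⟨m, rfl⟩ := hπ y
    have h2 := h.2 m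
    rw [h'.2 m] at h2
    have h3 : g'⁻¹ * (g' * (π m : Equiv.Perm GolayPt) * g'⁻¹) * g' = π m := by group
    rw [h2] at h3
    calc g'⁻¹ * g * (π m : Equiv.Perm GolayPt) * (g'⁻¹ * g)⁻¹
        = g'⁻¹ * (g * (π m : Equiv.Perm GolayPt) * g⁻¹) * g' := by group
      _ = π m := h3
  rw [inv_mul_eq_one] at h1
  exact h1.symm

theorem Ind.mul {c d : C} {g h : Equiv.Perm GolayPt} (hc : Ind π c g) (hd : Ind π d h) :
    Ind π (c * d) (g * h) := by
  refine ⟨mul_mem hc.1 hd.1, fun m => ?_⟩
  rw [map_mul, MulAut.mul_apply, hc.2, hd.2]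
  group

theorem Ind.of_mem (m : M) : Ind π (m : C) (π m) := by
  refine ⟨M22_le_D22 (π m).2, fun n => ?_⟩
  have h1 : MulAut.conjNormal (m : C) n = m * n * m⁻¹ := by
    apply Subtype.ext
    rw [MulAut.conjNormal_apply]
    rfl
  rw [h1, map_mul, map_mul, map_inv]
  rfl

theorem exists_ind {N : Subgroup C} (hN : N.Normal) (hπ : Function.Surjective π)
    (hker : ∀ m : M, π m = 1 ↔ (m : C) ∈ N) (c : C) : ∃ g, Ind π c g := by
  have hk : π.ker.map ((MulAut.conjNormal c : MulAut M) : M →* M) = π.ker := by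
    ext m
    rw [Subgroup.mem_map, MonoidHom.mem_ker, hker]
    constructor
    · rintro ⟨n, hn, rfl⟩
      rw [MonoidHom.mem_ker, hker] at hn
      have := hN.conj_mem _ hn c
      rw [← MulAut.conjNormal_apply] at this
      exact this
    · intro hm
      refine ⟨MulAut.conjNormal c⁻¹ m, ?_, ?_⟩
      · rw [MonoidHom.mem_ker, hker, MulAut.conjNormal_apply]
        exact hN.conj_mem _ hm c⁻¹
      · apply Subtype.ext
        change ((MulAut.conjNormal c (MulAut.conjNormal c⁻¹ m) : M) : C) = m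
        rw [MulAut.conjNormal_apply, MulAut.conjNormal_apply]
        group
  let e := QuotientGroup.quotientKerEquivOfSurjective π hπ
  let a := QuotientGroup.congr π.ker π.ker (MulAut.conjNormal c : MulAut M) hk
  let α : Cfsg.Spor.M22 ≃* Cfsg.Spor.M22 := (e.symm.trans a).trans e
  have hα : ∀ m : M, α (π m) = π (MulAut.conjNormal c m) := by
    intro m
    have h1 : e.symm (π m) = QuotientGroup.mk m := by
      rw [MulEquiv.symm_apply_eq]
      rfl
    change e (a (e.symm (π m))) = _
    rw [h1]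
    rfl
  obtain ⟨g, hg, hgm⟩ := exists_conj α
  refine ⟨g, hg, fun m => ?_⟩
  rw [← hα, hgm]

/-- **The homomorphism `P`**: the action of `C` on the 24 points extending `π`. -/
theorem exists_hom {N : Subgroup C} (hN : N.Normal) (hNM : N ≤ M) (hM : M.index = 2)
    (hπ : Function.Surjective π) (hker : ∀ m : M, π m = 1 ↔ (m : C) ∈ N)
    (hout : ∀ c : C, (∀ m ∈ M, c * m * c⁻¹ * m⁻¹ ∈ N) → c ∈ M) :
    ∃ P : C →* Equiv.Perm GolayPt, P.ker = N ∧ P.range = D22 ∧ (∀ m : M, P m = π m) ∧
      (∀ c, P c ∈ Cfsg.Spor.M22 ↔ c ∈ M) ∧ ∀ c, P c none = none ↔ c ∈ M := by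
  classical
  choose f hf using fun c : C => exists_ind hN hπ hker c
  let P : C →* Equiv.Perm GolayPt := MonoidHom.mk' f (fun c d =>
    Ind.unique hπ (hf (c * d)) ((hf c).mul (hf d)))
  have hPm : ∀ m : M, P m = π m := fun m => Ind.unique hπ (hf m) (Ind.of_mem m)
  have hPM : ∀ c, P c = 1 → c ∈ N := by
    intro c hc
    have hcM : c ∈ M := by
      apply hout
      intro m hm
      have h1 := (hf c).2 ⟨m, hm⟩
      have h2 : f c = 1 := hc
      rw [h2, one_mul, inv_one, mul_one] at h1
      have h3 : π (MulAut.conjNormal c ⟨m, hm⟩ * (⟨m, hm⟩ : M)⁻¹) = 1 := by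
        rw [map_mul, map_inv, mul_inv_eq_one]
        exact Subtype.ext h1
      rw [hker] at h3
      rw [Subgroup.coe_mul, MulAut.conjNormal_apply] at h3
      exact h3
    have h4 := hPm ⟨c, hcM⟩
    have h5 : P c = 1 := hc
    rw [show ((⟨c, hcM⟩ : M) : C) = c from rfl, h5] at h4
    exact (hker ⟨c, hcM⟩).1 (Subtype.ext h4.symm)
  have hker' : P.ker = N := by
    ext c
    rw [MonoidHom.mem_ker]
    refine ⟨hPM c, fun hc => ?_⟩
    have h1 := hPm ⟨c, hNM hc⟩
    rw [(hker ⟨c, hNM hc⟩).2 hc] at h1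
    exact h1
  have hM22 : ∀ c, P c ∈ Cfsg.Spor.M22 ↔ c ∈ M := by
    intro c
    constructor
    · intro h
      obtain ⟨m, hm⟩ := hπ ⟨P c, h⟩
      have h1 : P (c * (m : C)⁻¹) = 1 := by
        rw [map_mul, map_inv, hPm m, hm]
        exact mul_inv_cancel _
      have h2 := M.mul_mem (hNM (hPM _ h1)) m.2
      rwa [inv_mul_cancel_right] at h2
    · intro h
      have := hPm ⟨c, h⟩
      rw [show P c = _ from this]
      exact (π ⟨c, h⟩).2
  have hD : ∀ c, P c ∈ D22 := fun c => (hf c).1
  refine ⟨P, hker', ?_, hPm, hM22, fun c => ?_⟩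
  · have hle : P.range ≤ D22 := by
      rintro _ ⟨c, rfl⟩
      exact hD c
    have hge : Cfsg.Spor.M22 ≤ P.range := by
      intro y hy
      obtain ⟨m, hm⟩ := hπ ⟨y, hy⟩
      refine ⟨m, ?_⟩
      rw [hPm, hm]
    have hfin : Finite P.range := inferInstance
    apply Subgroup.eq_of_le_of_card_ge hle
    obtain ⟨k, hk⟩ := Subgroup.card_dvd_of_le hge
    rw [card_M22] at hk
    rw [card_D22]
    have hk0 : k ≠ 0 := by
      rintro rfl
      rw [mul_zero] at hk
      exact Nat.card_pos.ne' hk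
    have hk1 : k ≠ 1 := by
      rintro rfl
      have h1 : Cfsg.Spor.M22 = P.range :=
        Subgroup.eq_of_le_of_card_ge hge (by rw [hk, card_M22])
      have h2 : M = ⊤ := by
        rw [eq_top_iff]
        intro c _
        rw [← hM22, h1]
        exact ⟨c, rfl⟩
      rw [h2, Subgroup.index_top] at hM
      omega
    rw [hk]
    have : 2 ≤ k := by omega
    calc 887040 = 443520 * 2 := by norm_num
      _ ≤ 443520 * k := Nat.mul_le_mul_left _ this
  · rw [← hM22, mem_M22_iff_D22]
    exact ⟨fun h => ⟨hD c, h⟩, fun h => h.2⟩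

end Hom

end Cfsg.Agent.J4Type.Aut22
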