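import Mathlib
import Cfsg.Prelude.Def_Transfer
import Cfsg.Prelude.Def_Spor_Mathieu
import Cfsg.Agent.Co2Type.Quad
import Cfsg.Agent.Transfer.Extraspecial
import Cfsg.Agent.SporadicA.MathieuRecog

/-!
# J₄ type: the hypotheses and the module `V = Q / ⟨t⟩` (R07, helper856)

`Hyp t Q N M` : the hypotheses of S1646 / S1670 on `C = C_G(t)`.
`Hyp.large : Large (Q.map C.subtype) t` (so `H.large.V`, `H.large.q`, `H.large.b`, `H.large.act`).
-/

set_option autoImplicit false

namespace Cfsg.Agent.J4Type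

open Cfsg.Agent.Co2Type.Quad
open scoped commutatorElement

/-- The hypotheses of S1646 / S1670 on the centraliser of `t`. -/
structure Hyp {G : Type*} [Group G] (t : G)
    (Q N M : Subgroup (Subgroup.centralizer ({t} : Set G))) : Prop where
  ht : orderOf t = 2
  Qn : Q.Normal
  Nn : N.Normal
  Mn : M.Normal
  QN : Q ≤ N
  NM : N ≤ M
  index_M : M.index = 2
  extra : Cfsg.IsExtraspecial 2 Q
  card_Q : Nat.card Q = 2 ^ 13
  plus : ∃ E : Subgroup Q, Cfsg.IsElementaryAbelian 2 E ∧ Nat.card E = 2 ^ 7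
  card_N : Nat.card N = 3 * Nat.card Q
  cent : ⁅M, N⁆ ≤ Q
  perf : M ≤ ⁅M, M⁆ ⊔ Q
  self : Subgroup.centralizer (Q : Set (Subgroup.centralizer ({t} : Set G))) ≤ Q
  out : ∀ c : Subgroup.centralizer ({t} : Set G), (∀ m ∈ M, c * m * c⁻¹ * m⁻¹ ∈ N) → c ∈ M
  pi : ∃ π : M →* Cfsg.Spor.M22, Function.Surjective π ∧
    ∀ m : M, π m = 1 ↔ (m : Subgroup.centralizer ({t} : Set G)) ∈ N

/-- from the hypotheses as stated in S1646 / S1670 -/
theorem Hyp.of_raw {G : Type*} [Group G] (t : G) (ht : orderOf t = 2)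
    (Q N M : Subgroup (Subgroup.centralizer ({t} : Set G))) [Q.Normal] [N.Normal] [M.Normal]
    (hQN : Q ≤ N) (hNM : N ≤ M) (hM : M.index = 2) (hQ : Cfsg.IsExtraspecial 2 Q)
    (hcard : Nat.card Q = 2 ^ 13)
    (hplus : ∃ E : Subgroup Q, Cfsg.IsElementaryAbelian 2 E ∧ Nat.card E = 2 ^ 7)
    (hN : Nat.card N = 3 * Nat.card Q) (hcent : ⁅M, N⁆ ≤ Q) (hperf : M ≤ ⁅M, M⁆ ⊔ Q)
    (h2c : Subgroup.centralizer (Q : Set (Subgroup.centralizer ({t} : Set G))) ≤ Q)
    (hout : ∀ c : Subgroup.centralizer ({t} : Set G), (∀ m ∈ M, c * m * c⁻¹ * m⁻¹ ∈ N) → c ∈ M)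
    (hM22 : Cfsg.Spor.IsoM22 (M ⧸ N.subgroupOf M)) : Hyp t Q N M where
  ht := ht
  Qn := inferInstance
  Nn := inferInstance
  Mn := inferInstance
  QN := hQN
  NM := hNM
  index_M := hM
  extra := hQ
  card_Q := hcard
  plus := hplus
  card_N := hN
  cent := hcent
  perf := hperf
  self := h2c
  out := hout
  pi := by
    obtain ⟨e⟩ := hM22
    refine ⟨e.toMonoidHom.comp (QuotientGroup.mk' (N.subgroupOf M)),
      e.surjective.comp (QuotientGroup.mk'_surjective _), fun m => ?_⟩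
    show e (QuotientGroup.mk' _ m) = 1 ↔ _
    rw [map_eq_one_iff e e.injective]
    exact (QuotientGroup.eq_one_iff m).trans Subgroup.mem_subgroupOf

section

variable {G : Type*} [Group G] {t : G} {Q N M : Subgroup (Subgroup.centralizer ({t} : Set G))}

theorem Hyp.tt (H : Hyp t Q N M) : t * t = 1 := by
  rw [← pow_two, ← H.ht]; exact pow_orderOf_eq_one t

theorem Hyp.t_ne (H : Hyp t Q N M) : t ≠ 1 := by
  intro h
  have := H.ht
  rw [h, orderOf_one] at this
  exact absurd this (by norm_num)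

/-- `t` as an element of its centraliser -/
def tC (t : G) : Subgroup.centralizer ({t} : Set G) := ⟨t, Subgroup.mem_centralizer_singleton_iff.2 rfl⟩

theorem tC_comm (c : Subgroup.centralizer ({t} : Set G)) : c * tC t = tC t * c :=
  Subtype.ext (Subgroup.mem_centralizer_singleton_iff.1 c.2)

theorem Hyp.tC_mem (H : Hyp t Q N M) : tC t ∈ Q := by
  apply H.self
  rw [Subgroup.mem_centralizer_iff]
  intro x _
  exact tC_comm x

theorem Hyp.tC_ne (H : Hyp t Q N M) : tC t ≠ 1 := fun h => H.t_ne (congrArg Subtype.val h)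

theorem Hyp.mem_center (H : Hyp t Q N M) {x : Q} (hx : x ∈ Subgroup.center Q) :
    (x : Subgroup.centralizer ({t} : Set G)) = 1 ∨ (x : Subgroup.centralizer ({t} : Set G)) = tC t := by
  have htz : (⟨tC t, H.tC_mem⟩ : Q) ∈ Subgroup.center Q := by
    rw [Subgroup.mem_center_iff]
    intro y
    exact Subtype.ext (tC_comm (y : Subgroup.centralizer ({t} : Set G)))
  obtain ⟨a, b, hab, huniv⟩ := Nat.card_eq_two_iff.1 H.extra.2
  have h1 : (⟨⟨tC t, H.tC_mem⟩, htz⟩ : Subgroup.center Q) ≠ 1 := by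
    intro h
    exact H.tC_ne (congrArg (fun y : Subgroup.center Q => ((y : Q) : Subgroup.centralizer ({t} : Set G))) h)
  have hall : ∀ y : Subgroup.center Q, y = a ∨ y = b := by
    intro y
    have : y ∈ ({a, b} : Set (Subgroup.center Q)) := by rw [huniv]; trivial
    simpa using this
  have h2 : ∀ y : Subgroup.center Q, y = 1 ∨ y = ⟨⟨tC t, H.tC_mem⟩, htz⟩ := by
    intro y
    rcases hall y with hy | hy <;> rcases hall 1 with h | h <;>
      rcases hall ⟨⟨tC t, H.tC_mem⟩, htz⟩ with h' | h'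
    · left; rw [hy, h]
    · left; rw [hy, h]
    · right; rw [hy, h']
    · exact absurd (h'.trans h.symm) h1
    · exact absurd (h'.trans h.symm) h1
    · right; rw [hy, h']
    · left; rw [hy, h]
    · left; rw [hy, h]
  rcases h2 ⟨x, hx⟩ with h | h
  · left
    exact congrArg (fun y : Subgroup.center Q => ((y : Q) : Subgroup.centralizer ({t} : Set G))) h
  · right
    exact congrArg (fun y : Subgroup.center Q => ((y : Q) : Subgroup.centralizer ({t} : Set G))) h

theorem Hyp.comm_mem (H : Hyp t Q N M) (x y : Q) : ⁅x, y⁆ ∈ Subgroup.center Q := by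
  rw [← H.extra.1.2.2]
  exact Subgroup.commutator_mem_commutator (Subgroup.mem_top x) (Subgroup.mem_top y)

theorem Hyp.sq_mem [Finite G] (H : Hyp t Q N M) (x : Q) : x ^ 2 ∈ Subgroup.center Q := by
  have : Fact (Nat.Prime 2) := ⟨Nat.prime_two⟩
  exact Cfsg.Agent.Transfer.Extraspecial.pow_mem_center H.extra x

theorem Hyp.mem_QG {x : G} :
    x ∈ Q.map (Subgroup.centralizer ({t} : Set G)).subtype ↔
      ∃ h : x ∈ Subgroup.centralizer ({t} : Set G), (⟨x, h⟩ : Subgroup.centralizer ({t} : Set G)) ∈ Q := by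
  constructor
  · rintro ⟨y, hy, rfl⟩
    exact ⟨y.2, hy⟩
  · rintro ⟨h, hx⟩
    exact ⟨_, hx, rfl⟩

/-- the subgroup `Q` of `G` is large extraspecial -/
theorem Hyp.large [Finite G] (H : Hyp t Q N M) :
    Large (Q.map (Subgroup.centralizer ({t} : Set G)).subtype) t where
  z_mem := ⟨tC t, H.tC_mem, rfl⟩
  z_ne := H.t_ne
  z_sq := H.tt
  comm_z := by
    rintro _ ⟨x, _, rfl⟩
    exact Subgroup.mem_centralizer_singleton_iff.1 x.2
  conj_mem := by
    rintro g hg _ ⟨x, hx, rfl⟩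
    have := H.Qn
    exact ⟨_, this.conj_mem x hx ⟨g, Subgroup.mem_centralizer_singleton_iff.2 hg⟩, rfl⟩
  sq := by
    rintro _ ⟨x, hx, rfl⟩
    have h := H.mem_center (H.sq_mem ⟨x, hx⟩)
    rw [Subgroup.coe_pow, pow_two] at h
    rcases h with h | h
    · left; exact congrArg Subtype.val h
    · right; exact congrArg Subtype.val h
  comm := by
    rintro _ ⟨x, hx, rfl⟩ _ ⟨y, hy, rfl⟩
    have h := H.mem_center (H.comm_mem ⟨y, hy⟩ ⟨x, hx⟩)
    have hyx : ((⁅(⟨y, hy⟩ : Q), ⟨x, hx⟩⁆ : Q) : Subgroup.centralizer ({t} : Set G)) = y * x * y⁻¹ * x⁻¹ := rfl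
    rw [hyx] at h
    show ((x * y : Subgroup.centralizer ({t} : Set G)) : G) = ((y * x : Subgroup.centralizer ({t} : Set G)) : G) ∨
      ((x * y : Subgroup.centralizer ({t} : Set G)) : G) = ((y * x * tC t : Subgroup.centralizer ({t} : Set G)) : G)
    rcases h with h | h
    · left
      rw [mul_inv_eq_one, mul_inv_eq_iff_eq_mul] at h
      rw [h]
    · right
      rw [mul_inv_eq_iff_eq_mul, mul_inv_eq_iff_eq_mul] at h
      have h2 : tC t * tC t = 1 := Subtype.ext H.tt
      have h3 : x * y = y * x * tC t := by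
        rw [h, tC_comm, ← mul_assoc, ← mul_assoc, h2, one_mul]
      rw [← h3]
  cent := by
    rintro _ ⟨x, hx, rfl⟩ h
    have hc : (⟨x, hx⟩ : Q) ∈ Subgroup.center Q := by
      rw [Subgroup.mem_center_iff]
      intro y
      apply Subtype.ext
      apply Subtype.ext
      exact (h _ ⟨y, y.2, rfl⟩).symm
    rcases H.mem_center hc with h1 | h1
    · left; exact congrArg Subtype.val h1
    · right; exact congrArg Subtype.val h1
  self := by
    intro g hg h
    refine ⟨⟨g, Subgroup.mem_centralizer_singleton_iff.2 hg⟩, H.self ?_, rfl⟩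
    rw [Subgroup.mem_centralizer_iff]
    intro x hx
    exact Subtype.ext (h _ ⟨x, hx, rfl⟩).symm

theorem Hyp.card_QG (H : Hyp t Q N M) :
    Nat.card (Q.map (Subgroup.centralizer ({t} : Set G)).subtype) = 2 ^ 13 := by
  rw [← H.card_Q]
  exact Nat.card_congr (Q.equivMapOfInjective _ (Subgroup.subtype_injective _)).toEquiv.symm

theorem Hyp.card_V [Finite G] (H : Hyp t Q N M) : Nat.card H.large.V = 2 ^ 12 := by
  have h := H.large.card_eq
  rw [H.card_QG] at h
  omega

/-- the kernel of the action on `V` is `Q` -/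
theorem Hyp.act_eq_one [Finite G] (H : Hyp t Q N M) {c : Subgroup.centralizer ({t} : Set G)} :
    H.large.act c = 1 ↔ c ∈ Q := by
  constructor
  · intro h
    obtain ⟨h1, h2⟩ := Hyp.mem_QG.1 (H.large.mem_of_act c h)
    exact h2
  · intro h
    exact H.large.act_mem c ⟨c, h, rfl⟩

theorem Hyp.act_eq_act [Finite G] (H : Hyp t Q N M) {c d : Subgroup.centralizer ({t} : Set G)} :
    H.large.act c = H.large.act d ↔ d⁻¹ * c ∈ Q := by
  rw [← H.act_eq_one, map_mul, map_inv, inv_mul_eq_one, eq_comm]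

/-- `M` centralises `N` modulo `Q` -/
theorem Hyp.act_comm [Finite G] (H : Hyp t Q N M) {m n : Subgroup.centralizer ({t} : Set G)}
    (hm : m ∈ M) (hn : n ∈ N) : H.large.act m * H.large.act n = H.large.act n * H.large.act m := by
  rw [← map_mul, ← map_mul, H.act_eq_act]
  have h1 : ⁅m⁻¹, n⁻¹⁆ ∈ Q :=
    H.cent (Subgroup.commutator_mem_commutator (inv_mem hm) (inv_mem hn))
  have h2 : (n * m)⁻¹ * (m * n) = ⁅m⁻¹, n⁻¹⁆ := by
    rw [commutatorElement_def]; group
  rw [h2]
  exact h1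

end

end Cfsg.Agent.J4Type
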