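import Cfsg.Agent.J4Type.Closing

/-!
# J₄ type: centralisers of duads, abstract step (R07, helper607; the argument is helper552's closing argument)

`E` elementary abelian, normal in `H`, `Z` a normal set of `G`.  If
(*) `x ∈ C_G(u)`, `u ∈ E` not in `Z`, `y ∈ E ∩ Z` and `x y x⁻¹ ∈ H` imply `x ∈ H`,
then `C_G(S) ≤ H` for every nontrivial subgroup `S` of `E` not meeting `Z`.
-/

set_option autoImplicit false

namespace Cfsg.Agent.J4Type.CentLe

open Cfsg.Agent.J4Type.Closing

theorem cent_le {G : Type*} [Group G] [Finite G] (H E : Subgroup G) (Z : Set G)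
    (hZn : ∀ y ∈ Z, ∀ g : G, g * y * g⁻¹ ∈ Z)
    (huniq : ∀ u ∈ E, u ≠ 1 → u ∉ Z → ∀ x : G, x * u = u * x → ∀ y ∈ E, y ∈ Z →
      x * y * x⁻¹ ∈ H → x ∈ H)
    (hEH : E ≤ H) (hE2 : ∀ v ∈ E, v * v = 1) (hHE : ∀ h ∈ H, ∀ v ∈ E, h * v * h⁻¹ ∈ E)
    (hz : ∃ z ∈ E, z ∈ Z)
    (hfree : ∀ t : G, t * t = 1 → (∀ v ∈ E, t * v * t⁻¹ ∈ E) →
      ∃ y ∈ E, y ∈ Z ∧ t * y = y * t)
    (hcos : ∀ S : Subgroup G, S ≤ E → S ≠ ⊥ → (∀ s ∈ S, s ∉ Z) →
      ∃ d ∈ E, d ∉ S ∧ ∃ e ∈ E, e ∉ S ∧
        Set.ncard {s | s ∈ S ∧ d * s ∈ Z} ≠ Set.ncard {s | s ∈ S ∧ e * s ∈ Z})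
    (S : Subgroup G) (hSE : S ≤ E) (hS1 : S ≠ ⊥) (hSZ : ∀ s ∈ S, s ∉ Z) :
    Subgroup.centralizer (S : Set G) ≤ H := by
  have hEc : ∀ a ∈ E, ∀ b ∈ E, a * b = b * a := by
    intro a ha b hb
    have h1 := hE2 a ha
    have h2 := hE2 b hb
    have h3 := hE2 (a * b) (E.mul_mem ha hb)
    have ha' : a⁻¹ = a := inv_eq_of_mul_eq_one_left h1
    have hb' : b⁻¹ = b := inv_eq_of_mul_eq_one_left h2
    have : (a * b)⁻¹ = a * b := inv_eq_of_mul_eq_one_left h3
    rw [mul_inv_rev, ha', hb'] at this
    exact this.symm
  -- Main claim: `C_G(S) ≤ H` for every nontrivial `Z`-free subgroup `S` of `E`.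
  have main : ∀ n : ℕ, ∀ S : Subgroup G, S ≤ E → S ≠ ⊥ → (∀ s ∈ S, s ∉ Z) →
      Nat.card E - Nat.card S ≤ n → Subgroup.centralizer (S : Set G) ≤ H := by
    intro n
    induction n with
    | zero =>
      intro S hSE hS1 hSZ hn
      exfalso
      have hcardle : Nat.card S ≤ Nat.card E := Nat.card_le_card_of_injective
        (Subgroup.inclusion hSE) (Subgroup.inclusion_injective hSE)
      have heq : S = E := by
        apply Subgroup.eq_of_le_of_card_ge hSE
        omega
      obtain ⟨z, hzE, hzZ⟩ := hz
      exact hSZ z (heq ▸ hzE) hzZ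
    | succ n ih =>
      intro S hSE hS1 hSZ hn
      by_contra hcon
      set X := Subgroup.centralizer (S : Set G) with hX
      have hXmem : ∀ x : G, x ∈ X ↔ ∀ s ∈ S, s * x = x * s := by
        intro x
        rw [hX, Subgroup.mem_centralizer_iff]
        rfl
      set M := X ⊓ H with hM
      have hEX : E ≤ X := by
        intro v hv
        rw [hXmem]
        intro s hs
        exact hEc s (hSE hs) v hv
      obtain ⟨u, huS, hu1⟩ : ∃ u ∈ S, u ≠ 1 := by
        by_contra h
        push Not at h
        exact hS1 ((Subgroup.eq_bot_iff_forall S).mpr h)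
      have huZ := hSZ u huS
      have huE := hSE huS
      -- uniqueness
      have huq : ∀ v ∈ E, v ∉ S → ∀ x ∈ X, x * v * x⁻¹ ∈ M → x ∈ M := by
        intro v hvE hvS x hx hxv
        have hxS : ∀ s ∈ S, x * s * x⁻¹ = s := by
          intro s hs
          rw [← (hXmem x).mp hx s hs]; group
        refine ⟨hx, ?_⟩
        by_cases hmeet : ∃ s ∈ S, v * s ∈ Z
        · obtain ⟨s, hs, hvs⟩ := hmeet
          apply huniq u huE hu1 huZ x ((hXmem x).mp hx u huS).symm (v * s) (E.mul_mem hvE (hSE hs)) hvs
          have : x * (v * s) * x⁻¹ = (x * v * x⁻¹) * (x * s * x⁻¹) := by group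
          rw [this, hxS s hs]
          exact H.mul_mem hxv.2 (hEH (hSE hs))
        · push Not at hmeet
          by_contra hxH
          -- `S' = ⟨S, v⟩`
          set S' : Subgroup G := S ⊔ Subgroup.zpowers v with hS'
          have hS'mem : ∀ w ∈ S', w ∈ S ∨ ∃ s ∈ S, w = v * s := by
            intro w hw
            rw [hS'] at hw
            have hcl : ∀ a b : G, (a ∈ S ∨ ∃ s ∈ S, a = v * s) → (b ∈ S ∨ ∃ s ∈ S, b = v * s) →
                (a * b ∈ S ∨ ∃ s ∈ S, a * b = v * s) := by
              rintro a b (ha | ⟨s, hs, rfl⟩) (hb | ⟨s', hs', rfl⟩)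
              · exact Or.inl (S.mul_mem ha hb)
              · right
                refine ⟨a * s', S.mul_mem ha hs', ?_⟩
                rw [← mul_assoc, hEc a (hSE ha) v hvE, mul_assoc]
              · right
                exact ⟨s * b, S.mul_mem hs hb, by rw [mul_assoc]⟩
              · left
                have : v * s * (v * s') = s * s' := by
                  rw [← mul_assoc, mul_assoc v s v, hEc s (hSE hs) v hvE, ← mul_assoc v v s,
                    hE2 v hvE, one_mul]
                rw [this]; exact S.mul_mem hs hs'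
            set T : Subgroup G :=
              { carrier := {a | a ∈ S ∨ ∃ s ∈ S, a = v * s}
                one_mem' := Or.inl S.one_mem
                mul_mem' := by
                  intro a b ha hb
                  exact hcl a b ha hb
                inv_mem' := by
                  rintro a (ha | ⟨s, hs, rfl⟩)
                  · exact Or.inl (S.inv_mem ha)
                  · right
                    refine ⟨s⁻¹, S.inv_mem hs, ?_⟩
                    rw [mul_inv_rev, inv_eq_of_mul_eq_one_left (hE2 v hvE),
                      hEc s⁻¹ (hSE (S.inv_mem hs)) v hvE] } with hT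
            have hle : S ⊔ Subgroup.zpowers v ≤ T := by
              apply sup_le
              · intro a ha; exact Or.inl ha
              · rw [Subgroup.zpowers_le]
                exact Or.inr ⟨1, S.one_mem, by rw [mul_one]⟩
            exact hle hw
          have hS'E : S' ≤ E := by
            rw [hS']
            exact sup_le hSE (by rw [Subgroup.zpowers_le]; exact hvE)
          have hS'1 : S' ≠ ⊥ := by
            intro h
            apply hS1
            rw [eq_bot_iff]
            calc S ≤ S' := le_sup_left
              _ = ⊥ := h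
          have hS'Z : ∀ s ∈ S', s ∉ Z := by
            intro w hw
            rcases hS'mem w hw with h | ⟨s, hs, rfl⟩
            · exact hSZ w h
            · exact hmeet s hs
          have hvS' : v ∈ S' := by
            have : Subgroup.zpowers v ≤ S' := le_sup_right
            exact this (Subgroup.mem_zpowers v)
          have hcard' : Nat.card S < Nat.card S' := by
            have h1 : Nat.card S ≤ Nat.card S' := Nat.card_le_card_of_injective
              (Subgroup.inclusion (le_sup_left : S ≤ S')) (Subgroup.inclusion_injective _)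
            rcases Nat.lt_or_ge (Nat.card S) (Nat.card S') with h | h
            · exact h
            · exfalso
              have : S = S' := Subgroup.eq_of_le_of_card_ge le_sup_left h
              exact hvS (this ▸ hvS')
          have hS'le : Nat.card S' ≤ Nat.card E := Nat.card_le_card_of_injective
            (Subgroup.inclusion hS'E) (Subgroup.inclusion_injective hS'E)
          have hC := ih S' hS'E hS'1 hS'Z (by omega)
          -- `w = x⁻¹ v x`: work with `t = x * v * x⁻¹ ∈ H`; conjugate back
          -- we know `x * v * x⁻¹ ∈ H`, i.e. `v ∈ x⁻¹ H x`.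
          have hvH : x * v * x⁻¹ ∈ H := hxv.2
          -- `t := x v x⁻¹ ∈ C_H(u)` normalises `E`
          set t := x * v * x⁻¹ with ht
          have htt : t * t = 1 := by
            rw [ht]
            calc x * v * x⁻¹ * (x * v * x⁻¹) = x * (v * v) * x⁻¹ := by group
              _ = 1 := by rw [hE2 v hvE]; group
          have htu : t * u = u * t := by
            have h1 := (hXmem x).mp hx u huS
            have h2 := hEc v hvE u huE
            have h3 : x⁻¹ * u = u * x⁻¹ := by
              calc x⁻¹ * u = x⁻¹ * (u * x) * x⁻¹ := by group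
                _ = x⁻¹ * (x * u) * x⁻¹ := by rw [h1]
                _ = u * x⁻¹ := by group
            rw [ht]
            calc x * v * x⁻¹ * u = x * v * (x⁻¹ * u) := by group
              _ = x * (v * u) * x⁻¹ := by rw [h3]; group
              _ = x * (u * v) * x⁻¹ := by rw [h2]
              _ = (x * u) * v * x⁻¹ := by group
              _ = u * (x * v * x⁻¹) := by rw [← h1]; group
          obtain ⟨y, hyE, hyZ, hyt⟩ := hfree t htt (hHE t hvH)
          -- `y' = x⁻¹ y x` centralises `S'`
          have hy' : x⁻¹ * y * x ∈ Subgroup.centralizer (S' : Set G) := by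
            rw [Subgroup.mem_centralizer_iff]
            intro w hw
            have hcommS : ∀ s ∈ S, s * (x⁻¹ * y * x) = (x⁻¹ * y * x) * s := by
              intro s hs
              have h1 := (hXmem x).mp hx s hs
              have h2 := hEc s (hSE hs) y hyE
              have h3 : x⁻¹ * s = s * x⁻¹ := by
                calc x⁻¹ * s = x⁻¹ * (s * x) * x⁻¹ := by group
                  _ = x⁻¹ * (x * s) * x⁻¹ := by rw [h1]
                  _ = s * x⁻¹ := by group
              calc s * (x⁻¹ * y * x) = (s * x⁻¹) * y * x := by group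
                _ = x⁻¹ * (s * y) * x := by rw [← h3]; group
                _ = x⁻¹ * (y * s) * x := by rw [h2]
                _ = x⁻¹ * y * (s * x) := by group
                _ = x⁻¹ * y * x * s := by rw [h1]; group
            have hcommv : v * (x⁻¹ * y * x) = (x⁻¹ * y * x) * v := by
              have hv : v = x⁻¹ * t * x := by rw [ht]; group
              rw [hv]
              calc x⁻¹ * t * x * (x⁻¹ * y * x) = x⁻¹ * (t * y) * x := by group
                _ = x⁻¹ * (y * t) * x := by rw [hyt]
                _ = x⁻¹ * y * x * (x⁻¹ * t * x) := by group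
            rcases hS'mem w hw with h | ⟨s, hs, rfl⟩
            · exact hcommS w h
            · rw [mul_assoc, hcommS s hs, ← mul_assoc, hcommv, mul_assoc]
          have hy'H := hC hy'
          have h3 : x⁻¹ * u = u * x⁻¹ := by
            have h1 := (hXmem x).mp hx u huS
            calc x⁻¹ * u = x⁻¹ * (u * x) * x⁻¹ := by group
              _ = x⁻¹ * (x * u) * x⁻¹ := by rw [h1]
              _ = u * x⁻¹ := by group
          have := huniq u huE hu1 huZ x⁻¹ h3 y hyE hyZ (by rw [inv_inv]; exact hy'H)
          exact hxH (by simpa using H.inv_mem this)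
      obtain ⟨d, hdE, hdS, e, heE, heS, hne⟩ := hcos S hSE hS1 hSZ
      obtain ⟨m, hm, s₀, hs₀, hms⟩ := fusion_rel X M E S inf_le_left (by
          intro h
          apply hcon
          rw [← h]
          exact inf_le_right)
        hSE (le_inf hEX hEH)
        (by
          intro s hs x hx
          exact ((hXmem x).mp hx s hs).symm)
        (by
          intro m hm v hv
          exact hHE m hm.2 v hv)
        hE2 huq hdE hdS heE heS
      apply hne
      -- bijection `s ↦ s₀ * s`
      have hmS : ∀ s ∈ S, m * s * m⁻¹ = s := by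
        intro s hs
        rw [← (hXmem m).mp hm.1 s hs]; group
      have hrel : ∀ s ∈ S, (d * s ∈ Z ↔ e * (s₀ * s) ∈ Z) := by
        intro s hs
        have h1 : m * (d * s) * m⁻¹ = e * (s₀ * s) := by
          calc m * (d * s) * m⁻¹ = (m * d * m⁻¹) * (m * s * m⁻¹) := by group
            _ = e * s₀ * s := by rw [hms, hmS s hs]
            _ = _ := by rw [mul_assoc]
        constructor
        · intro h
          rw [← h1]; exact hZn _ h m
        · intro h
          have h2 := hZn _ h m⁻¹
          rw [← h1] at h2
          have h3 : m⁻¹ * (m * (d * s) * m⁻¹) * m⁻¹⁻¹ = d * s := by group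
          rwa [h3] at h2
      apply Set.ncard_congr (fun s _ => s₀ * s)
      · rintro s ⟨hs, hds⟩
        exact ⟨S.mul_mem hs₀ hs, (hrel s hs).mp hds⟩
      · intro a b _ _ hab
        exact mul_left_cancel hab
      · rintro b ⟨hb, hbZ⟩
        refine ⟨s₀⁻¹ * b, ⟨S.mul_mem (S.inv_mem hs₀) hb, ?_⟩, ?_⟩
        · rw [hrel _ (S.mul_mem (S.inv_mem hs₀) hb), mul_inv_cancel_left]
          exact hbZ
        · simp
  exact main (Nat.card E) S hSE hS1 hSZ (by omega)

end Cfsg.Agent.J4Type.CentLe
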