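import Cfsg.Agent.J4Type.NonAb
import Cfsg.Agent.J4Type.Setup

/-!
# J₄ type: from the hypotheses of S1646 / S1670 to the structure `Cent` (R07, helper856)

`IsP N M P` : what the homomorphism `P` of `C` onto `M22:2` satisfies;
`Hyp.toCent` : the structure `Cent G`;
`Hyp.outer_inv` : elements outside `M` invert `ρ` on `V`, provided `M22:2` contains suitable elements.
-/

set_option autoImplicit false

namespace Cfsg.Agent.J4Type

open Cfsg Cfsg.Agent.Co2Type.Quad NormMap
open scoped commutatorElement Pointwise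

/-- The homomorphism of `C` onto `M22:2`. -/
structure IsP {G : Type*} [Group G] {t : G} (N M : Subgroup (Subgroup.centralizer ({t} : Set G)))
    (P : Subgroup.centralizer ({t} : Set G) →* Equiv.Perm GolayPt) : Prop where
  ker : P.ker = N
  range : P.range = M22d
  mem : ∀ c, c ∈ M ↔ P c none = none

theorem base_none {g : Equiv.Perm GolayPt} (h : g ∈ M22d) (h1 : g none = none) : g (some 0) = some 0 := by
  have h2 : g • base = base := h.2
  have h3 : g (some 0) ∈ g • base := Finset.smul_mem_smul_finset (by simp [base])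
  rw [h2, base, Finset.mem_insert, Finset.mem_singleton] at h3
  rcases h3 with h3 | h3
  · rw [← h1] at h3
    exact absurd (g.injective h3) (by simp)
  · exact h3

theorem M22_le : Cfsg.Spor.M22 ≤ M22d := by
  rintro g ⟨⟨h1, h2⟩, h3⟩
  refine ⟨h1, ?_⟩
  have h2' : g none = none := h2
  have h3' : g (some 0) = some 0 := h3
  show g • base = base
  rw [base, Finset.smul_finset_insert, Finset.smul_finset_singleton]
  show {g none, g (some 0)} = _
  rw [h2', h3']

section

variable {G : Type*} [Group G] {t : G} {Q N M : Subgroup (Subgroup.centralizer ({t} : Set G))}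
  {P : Subgroup.centralizer ({t} : Set G) →* Equiv.Perm GolayPt}

theorem IsP.map (hP : IsP N M P) : M.map P = Cfsg.Spor.M22 := by
  ext g
  constructor
  · rintro ⟨c, hc, rfl⟩
    have h1 : P c ∈ M22d := by rw [← hP.range]; exact ⟨c, rfl⟩
    have h2 := (hP.mem c).1 hc
    exact ⟨⟨h1.1, h2⟩, base_none h1 h2⟩
  · intro h
    have h1 : g ∈ P.range := by rw [hP.range]; exact M22_le h
    obtain ⟨c, rfl⟩ := h1
    exact ⟨c, (hP.mem c).2 h.1.2, rfl⟩

/-- The structure `Cent G` of `Setup`. -/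
noncomputable def Hyp.toCent [Finite G] (H : Hyp t Q N M) (hP : IsP N M P)
    {r : Subgroup.centralizer ({t} : Set G)} (hr : r ∈ N) (hrQ : r ∉ Q) (hr3 : r ^ 3 = 1) : Cent G where
  z := t
  z_order := H.ht
  Q := Q.map (Subgroup.centralizer ({t} : Set G)).subtype
  Q_le := by
    rintro _ ⟨x, _, rfl⟩
    exact x.2
  Q_conj := fun c hc q hq => H.large.conj_mem c hc q hq
  Q_card := H.card_QG
  z_mem_Q := H.large.z_mem
  Q_sq := H.large.sq
  Q_comm := by
    intro a ha b hb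
    rcases H.large.comm a ha b hb with h | h
    · exact Or.inl h
    · right
      rw [h]
      have h1 : b * a ∈ Q.map (Subgroup.centralizer ({t} : Set G)).subtype := Subgroup.mul_mem _ hb ha
      exact H.large.comm_z _ h1
  Q_cent := by
    intro c hc
    have h1 : c * t = t * c := hc t H.large.z_mem
    have h2 : c ∈ Q.map (Subgroup.centralizer ({t} : Set G)).subtype := H.large.self c h1 hc
    exact H.large.cent c h2 (fun x hx => (hc x hx))
  ρ := r
  ρ_order := by
    have : Fact (Nat.Prime 3) := ⟨Nat.prime_three⟩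
    apply orderOf_eq_prime (congrArg Subtype.val hr3)
    intro h
    apply hrQ
    have : r = 1 := Subtype.ext h
    rw [this]; exact one_mem _
  ρ_comm := Subgroup.mem_centralizer_singleton_iff.1 r.2
  ρ_fix := by
    intro q hq h
    have h1 : H.large.act r (H.large.pr ⟨q, hq⟩) = H.large.pr ⟨q, hq⟩ := by
      rw [H.large.act_pr]
      congr 1
      apply Subtype.ext
      rw [H.large.conjQ_coe]
      show (r : G) * q * (r : G)⁻¹ = q
      rw [h, mul_inv_cancel_right]
    exact (H.large.pr_eq_zero).1 (H.rho_free hr hrQ hr3 h1)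
  P := P
  P_ker := by
    intro c
    have h1 : P c = 1 ↔ c ∈ N := by rw [← hP.ker]; exact MonoidHom.mem_ker.symm
    rw [h1]
    constructor
    · intro hc
      have h2 : ∃ i : ℕ, H.large.act c = H.large.act (r ^ i) := by
        rcases H.act_N hr hrQ hr3 hc with h | h | h
        · exact ⟨0, by rw [h, pow_zero, map_one]⟩
        · exact ⟨1, by rw [h, pow_one]⟩
        · exact ⟨2, by rw [h, map_pow]⟩
      obtain ⟨i, hi⟩ := h2
      have h3 := H.act_eq_act.1 hi
      have h4 : c * (r ^ i)⁻¹ ∈ Q := by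
        have h5 := H.Qn.conj_mem _ h3 (r ^ i)
        have h6 : r ^ i * ((r ^ i)⁻¹ * c) * (r ^ i)⁻¹ = c * (r ^ i)⁻¹ := by group
        rwa [h6] at h5
      refine ⟨_, ⟨_, h4, rfl⟩, i, ?_⟩
      show (c : G) = ((c * (r ^ i)⁻¹ : Subgroup.centralizer ({t} : Set G)) : G) *
        ((r ^ i : Subgroup.centralizer ({t} : Set G)) : G)
      rw [← Subgroup.coe_mul, inv_mul_cancel_right]
    · rintro ⟨_, ⟨q, hq, rfl⟩, i, hi⟩
      have : c = q * r ^ i := Subtype.ext hi
      rw [this]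
      exact N.mul_mem (H.QN hq) (N.pow_mem hr i)
  P_range := hP.range
  P_inner := by
    intro c hc
    have h1 : c ∈ M := (hP.mem c).2 hc
    have h2 : ⁅c, r⁆ ∈ Q := H.cent (Subgroup.commutator_mem_commutator h1 hr)
    refine ⟨_, ⟨_, h2, rfl⟩, ?_⟩
    show (c : G) * r * (c : G)⁻¹ = ((⁅c, r⁆ * r : Subgroup.centralizer ({t} : Set G)) : G)
    rw [commutatorElement_def, inv_mul_cancel_right]
    rfl

/-- If `M22:2` contains commuting elements `P c`, `P c'` of order 3 generating a group of order 9 and `P τ` inverts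
the first one and centralises the second one, then `τ` inverts `ρ`. -/
theorem Hyp.inv_of [Finite G] (H : Hyp t Q N M) (hP : IsP N M P)
    {r : Subgroup.centralizer ({t} : Set G)} (hr : r ∈ N) (hrQ : r ∉ Q) (hr3 : r ^ 3 = 1)
    {c c' τ : Subgroup.centralizer ({t} : Set G)}
    (hc : c ∈ M) (hc' : c' ∈ M) (h3 : P c ^ 3 = 1) (h3' : P c' ^ 3 = 1) (hcomm : P c * P c' = P c' * P c)
    (hp : P c ≠ 1) (hn1 : P c' ≠ 1) (hn2 : P c' ≠ P c) (hn3 : P c' ≠ P c ^ 2)
    (hτ : P τ * P c = (P c)⁻¹ * P τ) (hτ' : P τ * P c' = P c' * P τ) :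
    H.large.act τ * H.large.act r = (H.large.act r)⁻¹ * H.large.act τ := by
  have hρ3 : H.large.act r ^ 3 = 1 := by rw [← map_pow, hr3, map_one]
  set ρ := H.large.act r with hρ
  set T := H.large.act τ with hT
  have hinv : ρ⁻¹ = ρ ^ 2 := by
    rw [inv_eq_iff_mul_eq_one, ← pow_succ']; exact hρ3
  -- `w = [x, x']`
  set x := H.large.act c with hx
  set x' := H.large.act c' with hx'
  have hN : ∀ d : Subgroup.centralizer ({t} : Set G), P d = 1 → d ∈ N := fun d hd => by
    rw [← hP.ker]; exact hd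
  have hw : ⁅c, c'⁆ ∈ N := hN _ (by
    rw [map_commutatorElement, commutatorElement_eq_one_iff_mul_comm]; exact hcomm)
  have hwne : ⁅x, x'⁆ ≠ 1 := by
    rw [Ne, commutatorElement_eq_one_iff_mul_comm]
    exact H.not_comm hP.ker hP.map hc hc' h3 h3' hcomm hp hn1 hn2 hn3
  have hwx : ⁅x, x'⁆ = H.large.act ⁅c, c'⁆ := (map_commutatorElement _ _ _).symm
  have hn1' : τ * c * τ⁻¹ * c ∈ N := hN _ (by
    simp only [map_mul, map_inv]
    rw [hτ]; group)
  have hn2' : τ * c' * τ⁻¹ * c'⁻¹ ∈ N := hN _ (by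
    simp only [map_mul, map_inv]
    rw [hτ']; group)
  -- central elements
  have hcen : ∀ n ∈ N, ∀ m ∈ M, Commute (H.large.act n) (H.large.act m) := fun n hn m hm =>
    (H.act_comm hm hn).symm
  have e1 : T * x * T⁻¹ = H.large.act (τ * c * τ⁻¹ * c) * x⁻¹ := by
    simp only [map_mul, map_inv]
    rw [mul_inv_cancel_right]
  have e2 : T * x' * T⁻¹ = H.large.act (τ * c' * τ⁻¹ * c'⁻¹) * x' := by
    simp only [map_mul, map_inv]
    rw [inv_mul_cancel_right]
  have e3 : T * ⁅x, x'⁆ * T⁻¹ = ⁅T * x * T⁻¹, T * x' * T⁻¹⁆ := by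
    rw [commutatorElement_def, commutatorElement_def]; group
  have e4 : ⁅T * x * T⁻¹, T * x' * T⁻¹⁆ = ⁅x⁻¹, x'⁆ := by
    rw [e1, e2]
    set n := H.large.act (τ * c * τ⁻¹ * c) with hn
    set n' := H.large.act (τ * c' * τ⁻¹ * c'⁻¹) with hn'
    have c1 : Commute n x := hcen _ hn1' _ hc
    have c2 : Commute n x' := hcen _ hn1' _ hc'
    have c3 : Commute n' x := hcen _ hn2' _ hc
    have c4 : Commute n' x' := hcen _ hn2' _ hc'
    have c5 : Commute n n' := hcen _ hn1' _ (H.NM hn2')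
    rw [commutatorElement_def, commutatorElement_def]
    have f1 : n * x⁻¹ * (n' * x') * (n * x⁻¹)⁻¹ * (n' * x')⁻¹
        = n * (x⁻¹ * (n' * x') * x) * n⁻¹ * (n' * x')⁻¹ := by group
    have f2 : n * (x⁻¹ * (n' * x') * x) * n⁻¹ = x⁻¹ * (n' * x') * x := by
      rw [mul_inv_eq_iff_eq_mul]
      exact ((c1.inv_right).mul_right (c5.mul_right c2)).mul_right c1
    have f3 : x⁻¹ * (n' * x') * x * (n' * x')⁻¹ = x⁻¹ * (n' * (x' * x * x'⁻¹) * n'⁻¹) := by group
    have f4 : n' * (x' * x * x'⁻¹) * n'⁻¹ = x' * x * x'⁻¹ := by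
      rw [mul_inv_eq_iff_eq_mul]
      exact (c4.mul_right c3).mul_right c4.inv_right
    rw [f1, f2, f3, f4]; group
  have e5 : ⁅x⁻¹, x'⁆ = ⁅x, x'⁆⁻¹ := by
    have c1 : Commute ⁅x, x'⁆ x := by rw [hwx]; exact hcen _ hw _ hc
    have f1 : ⁅x⁻¹, x'⁆ = x⁻¹ * ⁅x, x'⁆⁻¹ * x := by
      rw [commutatorElement_def, commutatorElement_def]; group
    rw [f1, (c1.inv_left.symm.inv_left).eq, inv_mul_cancel_right]
  have e6 : T * ⁅x, x'⁆ * T⁻¹ = ⁅x, x'⁆⁻¹ := by rw [e3, e4, e5]
  have e7 : T * ρ * T⁻¹ = ρ⁻¹ := by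
    rcases H.act_N hr hrQ hr3 hw with h | h | h
    · rw [← hwx] at h; exact absurd h hwne
    · rw [← hwx] at h; rw [h] at e6; exact e6
    · rw [← hwx] at h
      have h4 : ρ = ⁅x, x'⁆⁻¹ := by rw [h, ← hρ, ← hinv, inv_inv]
      rw [h4]
      have := congrArg (·⁻¹) e6
      simpa [mul_assoc] using this
  rw [← e7, inv_mul_cancel_right]

theorem Hyp.outer_inv [Finite G] (H : Hyp t Q N M) (hP : IsP N M P)
    {r : Subgroup.centralizer ({t} : Set G)} (hr : r ∈ N) (hrQ : r ∉ Q) (hr3 : r ^ 3 = 1)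
    {s s' u : Equiv.Perm GolayPt} (hs : s ∈ Cfsg.Spor.M22) (hs' : s' ∈ Cfsg.Spor.M22) (hu : u ∈ M22d)
    (h3 : s ^ 3 = 1) (h3' : s' ^ 3 = 1) (hcomm : s * s' = s' * s)
    (hp : s ≠ 1) (hn1 : s' ≠ 1) (hn2 : s' ≠ s) (hn3 : s' ≠ s ^ 2)
    (hτ : u * s = s⁻¹ * u) (hτ' : u * s' = s' * u) {d : Subgroup.centralizer ({t} : Set G)}
    (hd : d ∉ M) :
    H.large.act d * H.large.act r = (H.large.act r)⁻¹ * H.large.act d := by
  rw [← hP.map] at hs hs'
  obtain ⟨c, hc, rfl⟩ := hs
  obtain ⟨c', hc', rfl⟩ := hs'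
  rw [← hP.range] at hu
  obtain ⟨τ, rfl⟩ := hu
  have h1 := H.inv_of hP hr hrQ hr3 hc hc' h3 h3' hcomm hp hn1 hn2 hn3 hτ hτ'
  have hρ3 : H.large.act r ^ 3 = 1 := by rw [← map_pow, hr3, map_one]
  have hρ1 : H.large.act r ≠ 1 := fun h => hrQ (H.act_eq_one.1 h)
  have hτM : τ ∉ M := by
    intro h
    have h2 := H.act_comm h hr
    rw [h1, mul_left_inj, inv_eq_iff_mul_eq_one] at h2
    apply hρ1
    rw [pow_succ, pow_two, h2, one_mul] at hρ3
    exact hρ3
  have hM := H.Mn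
  have h3 : d * τ⁻¹ ∈ M := by
    have := (Subgroup.mul_mem_iff_of_index_two H.index_M (a := d) (b := τ⁻¹)).2
      ⟨fun h => absurd h hd, fun h => absurd ((Subgroup.inv_mem_iff M).1 h) hτM⟩
    exact this
  have h4 : H.large.act d = H.large.act (d * τ⁻¹) * H.large.act τ := by
    rw [← map_mul, inv_mul_cancel_right]
  have h5 : Commute (H.large.act (d * τ⁻¹)) (H.large.act r) := H.act_comm h3 hr
  rw [h4, mul_assoc, h1, ← mul_assoc, ← mul_assoc, h5.inv_right.eq]

/-- the field `P_outer` of `Hex` -/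
theorem Hyp.P_outer [Finite G] (H : Hyp t Q N M) {r : Subgroup.centralizer ({t} : Set G)}
    {d : Subgroup.centralizer ({t} : Set G)}
    (h : H.large.act d * H.large.act r = (H.large.act r)⁻¹ * H.large.act d) :
    ∃ q ∈ Q.map (Subgroup.centralizer ({t} : Set G)).subtype, (d : G) * r * (d : G)⁻¹ = q * (r : G)⁻¹ := by
  have h1 : d * r * d⁻¹ * r ∈ Q := by
    rw [← H.act_eq_one]
    simp only [map_mul, map_inv]
    rw [h]; group
  refine ⟨_, ⟨_, h1, rfl⟩, ?_⟩
  show (d : G) * r * (d : G)⁻¹ = (d : G) * r * (d : G)⁻¹ * r * (r : G)⁻¹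
  rw [mul_inv_cancel_right]

end

end Cfsg.Agent.J4Type
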