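import Cfsg.Agent.J4Type.Setup
import Cfsg.Agent.S1556
import Cfsg.Agent.S0352
import Cfsg.Agent.S0363
import Cfsg.Agent.SporadicStructure.SevenTuple
import Cfsg.Agent.SporadicA.GolayPerm

/-!
# The stabiliser of a hexad is maximal in `M22:2` (helper552)

`eq_M22d_of_hexStab`: a subgroup `Y` of `M22d` containing the stabiliser of `hex0` and an element
moving `hex0` is `M22d`.
-/

set_option autoImplicit false

open scoped Pointwise

namespace Cfsg.Agent.J4Type.HexMax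

open Cfsg Cfsg.Agent.J4Type Cfsg.Agent.SporadicA.GolayBase Cfsg.Agent.SporadicA.GolayPerm

theorem card24 : Fintype.card GolayPt = 24 := by decide +kernel

theorem base_card : base.card = 2 := by decide +kernel

theorem hex0_isHex : IsHex hex0 := by
  constructor
  · rw [mem_octads_iff]
    decide +kernel
  · decide +kernel

theorem hex1_isHex : IsHex hex1 := by
  constructor
  · rw [mem_octads_iff]
    decide +kernel
  · decide +kernel

theorem card_hex {O : Finset GolayPt} (h : IsHex O) : O.card = 8 := Cfsg.Agent.S0363.result.1 O h.1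

theorem smul_base {g : Equiv.Perm GolayPt} (hg : g ∈ M22d) : g • base = base := hg.2

theorem mem_M24 {g : Equiv.Perm GolayPt} (hg : g ∈ M22d) : g ∈ M24 := hg.1

theorem smul_octad {g : Equiv.Perm GolayPt} (hg : g ∈ M24) {o : Finset GolayPt}
    (ho : o ∈ octads) : g • o ∈ octads := by
  refine ⟨(smul_mem_supports hg).2 ho.1, ?_⟩
  rw [Finset.card_smul_finset]
  exact ho.2

theorem smul_isHex {g : Equiv.Perm GolayPt} (hg : g ∈ M22d) {O : Finset GolayPt}
    (hO : IsHex O) : IsHex (g • O) := by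
  refine ⟨smul_octad (mem_M24 hg) hO.1, ?_⟩
  rw [← smul_base hg]
  exact Finset.smul_finset_subset_smul_finset hO.2

theorem card_inter {O O' : Finset GolayPt} (h : IsHex O) (h' : IsHex O') (hne : O ≠ O') :
    (O ∩ O').card = 2 ∨ (O ∩ O').card = 4 := by
  have h1 := Cfsg.Agent.S0352.result card24 Cfsg.Agent.S0363.result h.1 h'.1 hne
  have h2 : base.card ≤ (O ∩ O').card := Finset.card_le_card (Finset.subset_inter h.2 h'.2)
  rw [base_card] at h2
  omega

/-- intersections in two points -/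
theorem trans_two {O O₁ O₂ : Finset GolayPt} (h : IsHex O) (h₁ : IsHex O₁) (h₂ : IsHex O₂)
    (c₁ : (O ∩ O₁).card = 2) (c₂ : (O ∩ O₂).card = 2) :
    ∃ g ∈ M22d, g • O = O ∧ g • O₁ = O₂ := by
  obtain ⟨g, hg, hgO, hg1⟩ := Cfsg.Agent.S1556.result O O₁ O₂ h.1 h₁.1 h₂.1 (by rw [c₁, c₂])
  have e₁ : O ∩ O₁ = base := by
    symm
    apply Finset.eq_of_subset_of_card_le (Finset.subset_inter h.2 h₁.2)
    rw [c₁, base_card]
  have e₂ : O ∩ O₂ = base := by
    symm
    apply Finset.eq_of_subset_of_card_le (Finset.subset_inter h.2 h₂.2)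
    rw [c₂, base_card]
  refine ⟨g, ⟨hg, ?_⟩, hgO, hg1⟩
  show g • base = base
  rw [← e₁, Finset.smul_finset_inter, hgO, hg1, e₂, e₁]

theorem inj6 {α : Type*} {a b c d e f : α} (h1 : a ≠ b) (h2 : a ≠ c) (h3 : a ≠ d) (h4 : a ≠ e)
    (h5 : a ≠ f) (h6 : b ≠ c) (h7 : b ≠ d) (h8 : b ≠ e) (h9 : b ≠ f) (h10 : c ≠ d) (h11 : c ≠ e)
    (h12 : c ≠ f) (h13 : d ≠ e) (h14 : d ≠ f) (h15 : e ≠ f) :
    Function.Injective (![a, b, c, d, e, f] : Fin 6 → α) := by
  unfold Matrix.vecCons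
  simp only [Fin.cons_injective_iff, Set.mem_range, not_exists, Fin.forall_fin_succ, Fin.cons_zero,
    Fin.cons_succ]
  simp [h1.symm, h2.symm, h3.symm, h4.symm, h5.symm, h6.symm, h7.symm, h8.symm, h9.symm, h10.symm,
    h11.symm, h12.symm, h13.symm, h14.symm, h15.symm, Function.injective_of_subsingleton]

/-- intersections in four points -/
theorem trans_four {O O₁ O₂ : Finset GolayPt} (h : IsHex O) (h₁ : IsHex O₁) (h₂ : IsHex O₂)
    (c₁ : (O ∩ O₁).card = 4) (c₂ : (O ∩ O₂).card = 4) :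
    ∃ g ∈ M22d, g • O = O ∧ g • O₁ = O₂ := by
  classical
  have hSt := Cfsg.Agent.S0363.result
  have hbase : ∀ {O O₁ : Finset GolayPt}, IsHex O → IsHex O₁ → (O ∩ O₁).card = 4 →
      ∃ x y u v w : GolayPt, x ∈ O ∩ O₁ ∧ y ∈ O ∩ O₁ ∧ x ≠ y ∧ x ≠ none ∧ x ≠ some 0 ∧ y ≠ none ∧
        y ≠ some 0 ∧ u ∈ O₁ ∧ u ∉ O ∧ v ∈ O₁ ∧ v ∉ O ∧ u ≠ v ∧ w ∈ O ∧ w ∉ O₁ := by
    intro O O₁ h h₁ c₁
    have h3 : ((O ∩ O₁) \ base).card = 2 := by
      rw [Finset.card_sdiff_of_subset (Finset.subset_inter h.2 h₁.2), c₁, base_card]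
    obtain ⟨x, y, hxy, hs⟩ := Finset.card_eq_two.1 h3
    have hx : x ∈ (O ∩ O₁) \ base := by rw [hs]; simp
    have hy : y ∈ (O ∩ O₁) \ base := by rw [hs]; simp
    have h4 : (O₁ \ O).card = 4 := by
      have := Finset.card_sdiff_add_card_inter O₁ O
      rw [Finset.inter_comm, c₁, card_hex h₁] at this
      omega
    have h5 : (O \ O₁).card = 4 := by
      have := Finset.card_sdiff_add_card_inter O O₁
      rw [c₁, card_hex h] at this
      omega
    obtain ⟨u, hu, v, hv, huv⟩ := Finset.one_lt_card.1 (show 1 < (O₁ \ O).card by omega)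
    obtain ⟨w, hw⟩ := Finset.card_pos.1 (show 0 < (O \ O₁).card by omega)
    rw [Finset.mem_sdiff] at hx hy hu hv hw
    have hx2 := hx.2
    have hy2 := hy.2
    rw [base, Finset.mem_insert, Finset.mem_singleton, not_or] at hx2 hy2
    exact ⟨x, y, u, v, w, hx.1, hy.1, hxy, hx2.1, hx2.2, hy2.1, hy2.2, hu.1, hu.2, hv.1, hv.2,
      huv, hw.1, hw.2⟩
  obtain ⟨x, y, u, v, w, hx, hy, hxy, hx1, hx0, hy1, hy0, hu, huO, hv, hvO, huv, hw, hwO⟩ :=
    hbase h h₁ c₁
  obtain ⟨x', y', u', v', w', hx', hy', hxy', hx1', hx0', hy1', hy0', hu', huO', hv', hvO', huv',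
    hw', hwO'⟩ := hbase h h₂ c₂
  rw [Finset.mem_inter] at hx hy hx' hy'
  have hn : (none : GolayPt) ∈ base := by simp [base]
  have h0 : (some 0 : GolayPt) ∈ base := by simp [base]
  have hinj : ∀ {x y u v : GolayPt}, x ∈ O → y ∈ O → x ≠ y → x ≠ none → x ≠ some 0 → y ≠ none →
      y ≠ some 0 → u ∉ O → v ∉ O → u ≠ v →
      Function.Injective (![none, some 0, x, y, u, v] : Fin 6 → GolayPt) := by
    intro x y u v hx hy hxy hx1 hx0 hy1 hy0 hu hv huv
    have hun : u ≠ none := by rintro rfl; exact hu (h.2 hn)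
    have hu0 : u ≠ some 0 := by rintro rfl; exact hu (h.2 h0)
    have hvn : v ≠ none := by rintro rfl; exact hv (h.2 hn)
    have hv0 : v ≠ some 0 := by rintro rfl; exact hv (h.2 h0)
    have hux : u ≠ x := by rintro rfl; exact hu hx
    have huy : u ≠ y := by rintro rfl; exact hu hy
    have hvx : v ≠ x := by rintro rfl; exact hv hx
    have hvy : v ≠ y := by rintro rfl; exact hv hy
    have hn0 : (none : GolayPt) ≠ some 0 := by simp
    exact inj6 hn0 hx1.symm hy1.symm hun.symm hvn.symm hx0.symm hy0.symm hu0.symm hv0.symm hxy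
      hux.symm hvx.symm huy.symm hvy.symm huv
  obtain ⟨g, hg, hg1, hg2⟩ := Cfsg.Agent.SporadicStructure.SevenTuple.tr7
    (![none, some 0, x, y, u, v]) (![none, some 0, x', y', u', v']) w w' O₁ O₂ h₁.1 h₂.1
    (hinj hx.1 hy.1 hxy hx1 hx0 hy1 hy0 huO hvO huv)
    (hinj hx'.1 hy'.1 hxy' hx1' hx0' hy1' hy0' huO' hvO' huv')
    (by
      intro i
      fin_cases i
      · exact h₁.2 hn
      · exact h₁.2 h0
      · exact hx.2
      · exact hy.2
      · exact hu
      · exact hv)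
    (by
      intro i
      fin_cases i
      · exact h₂.2 hn
      · exact h₂.2 h0
      · exact hx'.2
      · exact hy'.2
      · exact hu'
      · exact hv')
    hwO hwO'
  have g0 : g none = none := hg1 0
  have g1 : g (some 0) = some 0 := hg1 1
  have g2 : g x = x' := hg1 2
  have g3 : g y = y' := hg1 3
  have g4 : g u = u' := hg1 4
  have huniq : ∀ {T S S' : Finset GolayPt}, T.card = 5 → S ∈ octads → S' ∈ octads → T ⊆ S →
      T ⊆ S' → S = S' := by
    intro T S S' hT hS hS' hTS hTS'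
    obtain ⟨b, -, hb⟩ := hSt.2 T hT
    rw [hb S ⟨hS, hTS⟩, hb S' ⟨hS', hTS'⟩]
  have hcard5 : ∀ {a b c d f : GolayPt}, a ≠ b → a ≠ c → a ≠ d → a ≠ f → b ≠ c → b ≠ d → b ≠ f →
      c ≠ d → c ≠ f → d ≠ f → ({a, b, c, d, f} : Finset GolayPt).card = 5 := by
    intro a b c d f h1 h2 h3 h4 h5 h6 h7 h8 h9 h10
    rw [Finset.card_insert_of_notMem, Finset.card_insert_of_notMem, Finset.card_insert_of_notMem,
      Finset.card_pair h10]
    · simp [h8, h9]
    · simp [h5, h6, h7]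
    · simp [h1, h2, h3, h4]
  have hun' : u' ≠ none := by rintro rfl; exact huO' (h.2 hn)
  have hu0' : u' ≠ some 0 := by rintro rfl; exact huO' (h.2 h0)
  have hux' : u' ≠ x' := by rintro rfl; exact huO' hx'.1
  have huy' : u' ≠ y' := by rintro rfl; exact huO' hy'.1
  have hwn' : w' ≠ none := by rintro rfl; exact hwO' (h₂.2 hn)
  have hw0' : w' ≠ some 0 := by rintro rfl; exact hwO' (h₂.2 h0)
  have hwx' : w' ≠ x' := by rintro rfl; exact hwO' hx'.2
  have hwy' : w' ≠ y' := by rintro rfl; exact hwO' hy'.2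
  have hn0 : (none : GolayPt) ≠ some 0 := by simp
  refine ⟨g, ⟨hg, ?_⟩, ?_, ?_⟩
  · show g • base = base
    rw [smul_finset_eq_map]
    simp [base, g0, g1]
  · apply huniq (T := {none, some 0, x', y', w'})
      (hcard5 hn0 hx1'.symm hy1'.symm hwn'.symm hx0'.symm hy0'.symm hw0'.symm hxy' hwx'.symm
        hwy'.symm) (smul_octad hg h.1) h.1
    · intro p hp
      simp only [Finset.mem_insert, Finset.mem_singleton] at hp
      rcases hp with rfl | rfl | rfl | rfl | rfl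
      · rw [← g0]; exact (mem_smul_iff g O _).2 (h.2 hn)
      · rw [← g1]; exact (mem_smul_iff g O _).2 (h.2 h0)
      · rw [← g2]; exact (mem_smul_iff g O _).2 hx.1
      · rw [← g3]; exact (mem_smul_iff g O _).2 hy.1
      · rw [← hg2]; exact (mem_smul_iff g O _).2 hw
    · intro p hp
      simp only [Finset.mem_insert, Finset.mem_singleton] at hp
      rcases hp with rfl | rfl | rfl | rfl | rfl
      · exact h.2 hn
      · exact h.2 h0
      · exact hx'.1
      · exact hy'.1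
      · exact hw'
  · apply huniq (T := {none, some 0, x', y', u'})
      (hcard5 hn0 hx1'.symm hy1'.symm hun'.symm hx0'.symm hy0'.symm hu0'.symm hxy' hux'.symm
        huy'.symm) (smul_octad hg h₁.1) h₂.1
    · intro p hp
      simp only [Finset.mem_insert, Finset.mem_singleton] at hp
      rcases hp with rfl | rfl | rfl | rfl | rfl
      · rw [← g0]; exact (mem_smul_iff g O₁ _).2 (h₁.2 hn)
      · rw [← g1]; exact (mem_smul_iff g O₁ _).2 (h₁.2 h0)
      · rw [← g2]; exact (mem_smul_iff g O₁ _).2 hx.2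
      · rw [← g3]; exact (mem_smul_iff g O₁ _).2 hy.2
      · rw [← g4]; exact (mem_smul_iff g O₁ _).2 hu
    · intro p hp
      simp only [Finset.mem_insert, Finset.mem_singleton] at hp
      rcases hp with rfl | rfl | rfl | rfl | rfl
      · exact h₂.2 hn
      · exact h₂.2 h0
      · exact hx'.2
      · exact hy'.2
      · exact hu'

/-- three more explicit hexads -/
def hexA : Finset GolayPt := gset [0, 9, 12, 18, 19, 20, 21, 23]
def hexB : Finset GolayPt := gset [0, 2, 7, 8, 10, 14, 16, 23]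
def hexC : Finset GolayPt := gset [0, 4, 9, 11, 15, 18, 22, 23]

theorem hexA_isHex : IsHex hexA := by
  constructor
  · rw [mem_octads_iff]
    decide +kernel
  · decide +kernel

theorem hexB_isHex : IsHex hexB := by
  constructor
  · rw [mem_octads_iff]
    decide +kernel
  · decide +kernel

theorem hexC_isHex : IsHex hexC := by
  constructor
  · rw [mem_octads_iff]
    decide +kernel
  · decide +kernel

theorem inter_facts : (hex0 ∩ hex1).card = 2 ∧ (hex0 ∩ hexA).card = 2 ∧ (hex1 ∩ hexA).card = 4 ∧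
    (hex0 ∩ hexB).card = 4 ∧ (hex0 ∩ hexC).card = 4 ∧ (hexB ∩ hexC).card = 2 := by
  decide +kernel

/-- **Maximality of the hexad stabiliser.** -/
theorem eq_M22d_of_hexStab (Y : Subgroup (Equiv.Perm GolayPt)) (hY : Y ≤ M22d)
    (hstab : ∀ g ∈ M22d, g • hex0 = hex0 → g ∈ Y) (hne : ∃ y ∈ Y, y • hex0 ≠ hex0) :
    Y = M22d := by
  have htrans : ∀ k : ℕ, (k = 2 ∨ k = 4) → ∀ {O₁ O₂ : Finset GolayPt}, IsHex O₁ → IsHex O₂ →
      (hex0 ∩ O₁).card = k → (hex0 ∩ O₂).card = k → ∃ g ∈ M22d, g • hex0 = hex0 ∧ g • O₁ = O₂ := by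
    rintro k (rfl | rfl) O₁ O₂ h₁ h₂ c₁ c₂
    · exact trans_two hex0_isHex h₁ h₂ c₁ c₂
    · exact trans_four hex0_isHex h₁ h₂ c₁ c₂
  have hinter : ∀ (g : Equiv.Perm GolayPt) (S T : Finset GolayPt),
      ((g • S) ∩ (g • T)).card = (S ∩ T).card := by
    intro g S T
    rw [← Finset.smul_finset_inter, Finset.card_smul_finset]
  -- propagation
  have hprop : ∀ k : ℕ, (k = 2 ∨ k = 4) → (∃ y ∈ Y, (hex0 ∩ (y • hex0)).card = k) →
      ∀ O : Finset GolayPt, (∃ y ∈ Y, y • hex0 = O) → ∀ O' : Finset GolayPt, IsHex O' →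
        (O ∩ O').card = k → ∃ y ∈ Y, y • hex0 = O' := by
    rintro k hk ⟨y₁, hy₁, c₁⟩ O ⟨y, hy, rfl⟩ O' hO' c
    have h1 : (hex0 ∩ (y⁻¹ • O')).card = k := by
      rw [← hinter y, smul_inv_smul, c]
    obtain ⟨g, hg, hg0, hg1⟩ := htrans k hk (smul_isHex (hY hy₁) hex0_isHex)
      (smul_isHex (M22d.inv_mem (hY hy)) hO') c₁ h1
    refine ⟨y * (g * y₁), Y.mul_mem hy (Y.mul_mem (hstab g hg hg0) hy₁), ?_⟩
    rw [mul_smul, mul_smul, hg1, smul_inv_smul]
  have f := inter_facts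
  obtain ⟨y, hy, hy0⟩ := hne
  have hself : ∃ y ∈ Y, y • hex0 = hex0 := ⟨1, Y.one_mem, one_smul _ _⟩
  -- both relations occur
  have hboth : ∀ k : ℕ, (k = 2 ∨ k = 4) → ∃ y ∈ Y, (hex0 ∩ (y • hex0)).card = k := by
    have hback : ∀ O₁ O₂ : Finset GolayPt, (∃ y ∈ Y, y • hex0 = O₁) → (∃ y ∈ Y, y • hex0 = O₂) →
        ∃ y ∈ Y, (hex0 ∩ (y • hex0)).card = (O₁ ∩ O₂).card := by
      rintro _ _ ⟨y₁, h₁, rfl⟩ ⟨y₂, h₂, rfl⟩
      refine ⟨y₁⁻¹ * y₂, Y.mul_mem (Y.inv_mem h₁) h₂, ?_⟩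
      rw [← hinter y₁ hex0, mul_smul, smul_inv_smul]
    rcases card_inter hex0_isHex (smul_isHex (hY hy) hex0_isHex) hy0.symm with h | h
    · have h2 := hprop 2 (Or.inl rfl) ⟨y, hy, h⟩ hex0 hself
      obtain ⟨y', hy', h'⟩ := hback hex1 hexA (h2 _ hex1_isHex f.1) (h2 _ hexA_isHex f.2.1)
      rw [f.2.2.1] at h'
      rintro k (rfl | rfl)
      · exact ⟨y, hy, h⟩
      · exact ⟨y', hy', h'⟩
    · have h2 := hprop 4 (Or.inr rfl) ⟨y, hy, h⟩ hex0 hself
      obtain ⟨y', hy', h'⟩ := hback hexB hexC (h2 _ hexB_isHex f.2.2.2.1)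
        (h2 _ hexC_isHex f.2.2.2.2.1)
      rw [f.2.2.2.2.2] at h'
      rintro k (rfl | rfl)
      · exact ⟨y', hy', h'⟩
      · exact ⟨y, hy, h⟩
  apply le_antisymm hY
  intro g hg
  have hgO := smul_isHex hg hex0_isHex
  have hreach : ∃ y ∈ Y, y • hex0 = g • hex0 := by
    by_cases h0 : hex0 = g • hex0
    · exact ⟨1, Y.one_mem, by rw [one_smul]; exact h0⟩
    · rcases card_inter hex0_isHex hgO h0 with h | h
      · exact hprop 2 (Or.inl rfl) (hboth 2 (Or.inl rfl)) hex0 hself _ hgO h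
      · exact hprop 4 (Or.inr rfl) (hboth 4 (Or.inr rfl)) hex0 hself _ hgO h
  obtain ⟨y', hy', h'⟩ := hreach
  have h1 : y'⁻¹ * g ∈ Y := by
    apply hstab _ (M22d.mul_mem (M22d.inv_mem (hY hy')) hg)
    rw [mul_smul, ← h', inv_smul_smul]
  have : g = y' * (y'⁻¹ * g) := by group
  rw [this]
  exact Y.mul_mem hy' h1

end Cfsg.Agent.J4Type.HexMax
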