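import Cfsg.Agent.J4Type.ClosingCocode
import Cfsg.Agent.J4Type.HexMax
import Cfsg.Agent.S0366

/-!
# Closing argument in the vocabulary of `Setup` (helper552)

* `IsCocode` structure on `E = E hex0` (`isCocode`), `ε S = ∏ e i`.
* `centralizer_le`: if `H ≥ N_G(E)` contains an element of `C_G(z)` not normalising `E`, then
  `C_G(z) ≤ H`.
* `eq_top`: the closing theorem for a `Frame`.
-/

set_option autoImplicit false

open scoped Pointwise

namespace Cfsg.Agent.J4Type.CloseInst

open Cfsg Cfsg.Agent.J4Type Cfsg.Agent.J4Type.HexMax Cfsg.Agent.J4Type.ClosingCocode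
  Cfsg.Agent.J4Type.DuadStab

section

variable {G : Type*} [Group G] (K : Frame G)

/-- the subgroup `E` -/
abbrev EE : Subgroup G := K.E hex0

theorem EE_elem : IsElem2 (EE K) := K.E_elem hex0 hex0_isHex

/-- `E` as a commutative group -/
@[reducible] def instComm : CommGroup (EE K) :=
  { (inferInstance : Group (EE K)) with
    mul_comm := fun a b => Subtype.ext ((EE_elem K).2 a a.2 b b.2) }

attribute [local instance] instComm

theorem even_pair (i j : GolayPt) : Even (symmDiff ({i} : Finset GolayPt) {j}).card := by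
  rw [Nat.even_iff, card_symmDiff_parity, Finset.card_singleton, Finset.card_singleton]

/-- `e i = ε {none, i}` -/
def e (i : GolayPt) : EE K := ⟨K.ε (symmDiff {none} {i}), K.ε_mem _ (even_pair none i)⟩

theorem e_none : e K none = 1 := by
  apply Subtype.ext
  show K.ε (symmDiff {none} {none}) = 1
  rw [symmDiff_self]
  have := K.ε_mul ∅ ∅ (by simp) (by simp)
  rw [symmDiff_self] at this
  have h2 : K.ε (⊥ : Finset GolayPt) = K.ε ∅ := rfl
  rw [h2] at this ⊢
  exact (mul_eq_left (a := K.ε ∅)).1 this.symm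

theorem ε_empty : K.ε ∅ = 1 := by
  have := K.ε_mul ∅ ∅ (by simp) (by simp)
  rw [symmDiff_self] at this
  have h2 : K.ε (⊥ : Finset GolayPt) = K.ε ∅ := rfl
  rw [h2] at this
  exact (mul_eq_left (a := K.ε ∅)).1 this.symm

theorem e_sq (i : GolayPt) : e K i * e K i = 1 :=
  Subtype.ext ((EE_elem K).1 _ (e K i).2)

theorem e_mul (i j : GolayPt) : ((e K i * e K j : EE K) : G) = K.ε (symmDiff {i} {j}) := by
  show K.ε (symmDiff {none} {i}) * K.ε (symmDiff {none} {j}) = _
  rw [← K.ε_mul _ _ (even_pair none i) (even_pair none j)]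
  congr 1
  rw [symmDiff_comm ({none} : Finset GolayPt) {i}, symmDiff_assoc,
    ← symmDiff_assoc ({none} : Finset GolayPt) {none}, symmDiff_self, bot_symmDiff]

theorem prod_e (S : Finset GolayPt) (hS : Even S.card) :
    ((∏ i ∈ S, e K i : EE K) : G) = K.ε S := by
  classical
  have key : ∀ n : ℕ, ∀ S : Finset GolayPt, S.card = 2 * n →
      ((∏ i ∈ S, e K i : EE K) : G) = K.ε S := by
    intro n
    induction n with
    | zero =>
      intro S hS
      have : S = ∅ := Finset.card_eq_zero.1 (by omega)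
      subst this
      rw [Finset.prod_empty, ε_empty]
      rfl
    | succ n ih =>
      intro S hS
      obtain ⟨i, hi⟩ : S.Nonempty := Finset.card_pos.1 (by omega)
      have h1 : (S.erase i).card = 2 * n + 1 := by
        rw [Finset.card_erase_of_mem hi]; omega
      obtain ⟨j, hj⟩ : (S.erase i).Nonempty := Finset.card_pos.1 (by omega)
      have h2 : ((S.erase i).erase j).card = 2 * n := by
        rw [Finset.card_erase_of_mem hj]; omega
      have hij : i ≠ j := (Finset.ne_of_mem_erase hj).symm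
      rw [← Finset.mul_prod_erase S _ hi, ← Finset.mul_prod_erase (S.erase i) _ hj]
      have h4 : ((e K i * (e K j * ∏ x ∈ (S.erase i).erase j, e K x) : EE K) : G) =
          ((e K i * e K j : EE K) : G) * ((∏ x ∈ (S.erase i).erase j, e K x : EE K) : G) := by
        show (e K i : G) * ((e K j : G) * _) = (e K i : G) * (e K j : G) * _
        rw [mul_assoc]
      rw [h4, ih _ h2, e_mul, ← K.ε_mul _ _ (even_pair i j) (by rw [h2]; simp)]
      congr 1
      have h3 : symmDiff ({i} : Finset GolayPt) {j} = {i, j} := by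
        ext x
        simp only [Finset.mem_symmDiff, Finset.mem_singleton, Finset.mem_insert]
        constructor
        · rintro (⟨h, -⟩ | ⟨h, -⟩)
          · exact Or.inl h
          · exact Or.inr h
        · rintro (rfl | rfl)
          · exact Or.inl ⟨rfl, hij⟩
          · exact Or.inr ⟨rfl, hij.symm⟩
      rw [h3]
      ext x
      simp only [Finset.mem_symmDiff, Finset.mem_erase, Finset.mem_insert, Finset.mem_singleton]
      have hjS : j ∈ S := Finset.mem_of_mem_erase hj
      constructor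
      · rintro (⟨rfl | rfl, -⟩ | ⟨h, -⟩)
        · exact hi
        · exact hjS
        · exact h.2.2
      · intro hx
        by_cases hxi : x = i
        · exact Or.inl ⟨Or.inl hxi, fun h => h.2.1 hxi⟩
        · by_cases hxj : x = j
          · exact Or.inl ⟨Or.inr hxj, fun h => h.1 hxj⟩
          · refine Or.inr ⟨⟨hxj, hxi, hx⟩, ?_⟩
            rintro (h | h)
            · exact hxi h
            · exact hxj h
  obtain ⟨n, hn⟩ := hS
  exact key n S (by omega)

theorem isCocode : IsCocode (e K) where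
  sq := e_sq K
  ker := by
    intro S hS
    show _ ↔ IsCode S
    rw [← K.ε_ker S hS, ← prod_e K S hS]
    exact ⟨fun h => by rw [h]; rfl, fun h => Subtype.ext h⟩

theorem hgen (a : EE K) : ∃ S : Finset GolayPt, Even S.card ∧ a = ∏ i ∈ S, e K i := by
  obtain ⟨S, hS, h⟩ := K.ε_surj a a.2
  exact ⟨S, hS, Subtype.ext (by rw [prod_e K S hS, h])⟩

/-- `M24` is transitive on 4-sets -/
theorem exists_four {S T : Finset GolayPt} (hS : S.card = 4) (hT : T.card = 4) :
    ∃ g : M24, (g : Equiv.Perm GolayPt) • S = T := by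
  classical
  have key : ∀ S : Finset GolayPt, S.card = 4 →
      ∃ h ∈ M24, h • S = ({none, some 0, some 1, some 2} : Finset GolayPt) := by
    intro S hS
    obtain ⟨x, -, hx⟩ := Finset.exists_mem_notMem_of_card_lt_card
      (s := S) (t := Finset.univ) (by rw [Finset.card_univ, card24]; omega)
    let q := Finset.equivFinOfCardEq hS
    let a : Fin 5 → GolayPt := Fin.snoc (fun i => (q.symm i : GolayPt)) x
    have ha : Function.Injective a := by
      intro i j hij
      induction i using Fin.lastCases with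
      | last =>
        induction j using Fin.lastCases with
        | last => rfl
        | cast j =>
          simp only [a, Fin.snoc_last, Fin.snoc_castSucc] at hij
          exact absurd (hij ▸ (q.symm j).2) hx
      | cast i =>
        induction j using Fin.lastCases with
        | last =>
          simp only [a, Fin.snoc_last, Fin.snoc_castSucc] at hij
          exact absurd (hij ▸ (q.symm i).2) hx
        | cast j =>
          simp only [a, Fin.snoc_castSucc] at hij
          rw [q.symm.injective (Subtype.ext hij)]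
    obtain ⟨h, hK, h0, h1, h2, h3, h4⟩ := Cfsg.Agent.SporadicA.M24Chain.exists_map_five a ha
    refine ⟨h, Cfsg.Agent.SporadicA.M24Chain.K_le_M24 hK, ?_⟩
    apply Finset.eq_of_subset_of_card_le
    · intro y hy
      rw [Finset.mem_smul_finset] at hy
      obtain ⟨s, hs, rfl⟩ := hy
      have hs' : s = a (q ⟨s, hs⟩).castSucc := by
        simp only [a, Fin.snoc_castSucc, Equiv.symm_apply_apply]
      have : ∀ i : Fin 4, h (a i.castSucc) ∈ ({none, some 0, some 1, some 2} : Finset GolayPt) := by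
        intro i
        fin_cases i
        · show h (a 0) ∈ _
          rw [h0]; decide
        · show h (a 1) ∈ _
          rw [h1]; decide
        · show h (a 2) ∈ _
          rw [h2]; decide
        · show h (a 3) ∈ _
          rw [h3]; decide
      show h s ∈ _
      rw [hs']
      exact this _
    · rw [Finset.card_smul_finset, hS]
      decide
  obtain ⟨g, hg, h1⟩ := key S hS
  obtain ⟨h, hh, h2⟩ := key T hT
  refine ⟨⟨h⁻¹ * g, M24.mul_mem (M24.inv_mem hh) hg⟩, ?_⟩
  show (h⁻¹ * g) • S = T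
  rw [mul_smul, h1, ← h2, inv_smul_smul]

theorem tet_card (i : Fin 6) : (tet i).card = 4 := by
  revert i
  decide +kernel

/-- all sextets are conjugate to `z` under `N_G(E)` -/
theorem conj_sextet (S : Finset GolayPt) (hS : S.card = 4) :
    ∃ n ∈ Subgroup.normalizer (EE K : Set G), n * K.z * n⁻¹ = K.ε S := by
  obtain ⟨g, hg⟩ := exists_four (tet_card 0) hS
  obtain ⟨n, hn⟩ := K.π_surj g
  refine ⟨n, n.2, ?_⟩
  rw [← K.ε_tet 0, K.π_smul n _ (by rw [tet_card]; decide), hn, hg]

/-- `M24` is transitive on ordered pairs -/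
theorem exists_two {p q r s : GolayPt} (hpq : p ≠ q) (hrs : r ≠ s) :
    ∃ g : M24, (g : Equiv.Perm GolayPt) p = r ∧ (g : Equiv.Perm GolayPt) q = s := by
  classical
  have key : ∀ p q : GolayPt, p ≠ q → ∃ h ∈ M24, h p = none ∧ h q = some 0 := by
    intro p q hpq
    have hpick : ∀ T : Finset GolayPt, T.card < 24 → ∃ x, x ∉ T := by
      intro T hT
      obtain ⟨x, -, hx⟩ := Finset.exists_mem_notMem_of_card_lt_card
        (s := T) (t := Finset.univ) (by rw [Finset.card_univ, card24]; exact hT)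
      exact ⟨x, hx⟩
    obtain ⟨x, hx⟩ := hpick {p, q} (by have := Finset.card_le_two (a := p) (b := q); omega)
    obtain ⟨y, hy⟩ := hpick {p, q, x} (by
      have := Finset.card_le_three (a := p) (b := q) (c := x); omega)
    obtain ⟨z, hz⟩ := hpick {p, q, x, y} (by
      have := Finset.card_le_four (a := p) (b := q) (c := x) (d := y); omega)
    simp only [Finset.mem_insert, Finset.mem_singleton, not_or] at hx hy hz
    have ha : Function.Injective (![p, q, x, y, z] : Fin 5 → GolayPt) := by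
      intro i j hij
      fin_cases i <;> fin_cases j <;> simp_all [eq_comm]
    obtain ⟨h, hK, h0, h1, -⟩ := Cfsg.Agent.SporadicA.M24Chain.exists_map_five _ ha
    exact ⟨h, Cfsg.Agent.SporadicA.M24Chain.K_le_M24 hK, h0, h1⟩
  obtain ⟨g, hg, h1, h2⟩ := key p q hpq
  obtain ⟨h, hh, h3, h4⟩ := key r s hrs
  refine ⟨⟨h⁻¹ * g, M24.mul_mem (M24.inv_mem hh) hg⟩, ?_, ?_⟩
  · show h⁻¹ (g p) = r
    rw [h1, ← h3]; exact h.symm_apply_apply _
  · show h⁻¹ (g q) = s
    rw [h2, ← h4]; exact h.symm_apply_apply _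

/-- duads are all conjugate under `N_G(E)` -/
theorem conj_duad {p q r s : GolayPt} (hpq : p ≠ q) (hrs : r ≠ s) :
    ∃ n ∈ Subgroup.normalizer (EE K : Set G), n * K.ε {p, q} * n⁻¹ = K.ε {r, s} := by
  classical
  obtain ⟨g, h1, h2⟩ := exists_two hpq hrs
  obtain ⟨n, hn⟩ := K.π_surj g
  refine ⟨n, n.2, ?_⟩
  rw [K.π_smul n _ (by rw [Finset.card_pair hpq]; decide), hn]
  congr 1
  ext x
  rw [Finset.mem_smul_finset]
  simp only [Finset.mem_insert, Finset.mem_singleton]
  constructor
  · rintro ⟨y, rfl | rfl, rfl⟩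
    · exact Or.inl h1
    · exact Or.inr h2
  · rintro (rfl | rfl)
    · exact ⟨p, Or.inl rfl, h1⟩
    · exact ⟨q, Or.inr rfl, h2⟩

theorem z_ne_one : K.z ≠ 1 := by
  intro h
  have := K.z_order
  rw [h, orderOf_one] at this
  omega

theorem coe_duad {i j : GolayPt} (hij : i ≠ j) : ((e K i * e K j : EE K) : G) = K.ε {i, j} := by
  rw [e_mul]
  congr 1
  ext x
  simp only [Finset.mem_symmDiff, Finset.mem_singleton, Finset.mem_insert]
  constructor
  · rintro (⟨h, -⟩ | ⟨h, -⟩)
    · exact Or.inl h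
    · exact Or.inr h
  · rintro (rfl | rfl)
    · exact Or.inl ⟨rfl, hij⟩
    · exact Or.inr ⟨rfl, hij.symm⟩

/-- every element of `E` is `1`, a duad or a sextet -/
theorem E_cases {a : G} (ha : a ∈ EE K) : a = 1 ∨ (∃ i j : GolayPt, i ≠ j ∧ a = K.ε {i, j}) ∨
    ∃ S : Finset GolayPt, S.card = 4 ∧ a = K.ε S := by
  rcases trichotomy (isCocode K) (hgen K) ⟨a, ha⟩ with h | ⟨i, j, hij, h⟩ | ⟨S, hS, h⟩
  · exact Or.inl (congrArg Subtype.val h)
  · refine Or.inr (Or.inl ⟨i, j, hij, ?_⟩)
    rw [← coe_duad K hij, ← h]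
  · refine Or.inr (Or.inr ⟨S, hS, ?_⟩)
    rw [← prod_e K S (by rw [hS]; decide), ← h]

/-- the conjugates of `z` in `E` are the sextets -/
theorem isConj_iff_sextet (a : EE K) : IsConj K.z (a : G) ↔ IsSextet (e K) a := by
  constructor
  · intro h
    rcases trichotomy (isCocode K) (hgen K) a with h1 | ⟨i, j, hij, h1⟩ | h1
    · exfalso
      rw [h1] at h
      exact z_ne_one K ((isConj_one_left).1 h)
    · exfalso
      rw [h1, coe_duad K hij] at h
      exact K.duad_not_conj i j hij h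
    · exact h1
  · rintro ⟨S, hS, rfl⟩
    rw [prod_e K S (by rw [hS]; decide)]
    obtain ⟨n, -, hn⟩ := conj_sextet K S hS
    exact isConj_iff.2 ⟨n, hn⟩

/-- an element of `C_G(z)` normalises `E` iff it fixes the hexad `hex0` -/
theorem mem_normalizer_of_P (c : Subgroup.centralizer ({K.z} : Set G)) (h : K.P c • hex0 = hex0) :
    (c : G) ∈ Subgroup.normalizer (EE K : Set G) := by
  rw [Subgroup.mem_normalizer_iff]
  intro a
  show a ∈ K.E hex0 ↔ (c : G) * a * (c : G)⁻¹ ∈ K.E hex0
  rw [K.E_conj hex0 hex0_isHex c a, h]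

/-- If `H ≥ N_G(E)` contains an element of `C_G(z)` not normalising `E`, then `C_G(z) ≤ H`. -/
theorem centralizer_le (H : Subgroup G) (hN : Subgroup.normalizer (EE K : Set G) ≤ H) {t : G}
    (htH : t ∈ H) (htz : t * K.z = K.z * t) (htN : t ∉ Subgroup.normalizer (EE K : Set G)) :
    Subgroup.centralizer ({K.z} : Set G) ≤ H := by
  have htC : t ∈ Subgroup.centralizer ({K.z} : Set G) := Subgroup.mem_centralizer_singleton_iff.2 htz
  let Y : Subgroup (Equiv.Perm GolayPt) :=
    (H.subgroupOf (Subgroup.centralizer ({K.z} : Set G))).map K.P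
  have hY : Y ≤ M22d := by
    rw [← K.P_range]
    exact Subgroup.map_le_range _ _
  have hYM : Y = M22d := by
    apply eq_M22d_of_hexStab Y hY
    · intro g hg h
      rw [← K.P_range] at hg
      obtain ⟨c, rfl⟩ := hg
      exact ⟨c, Subgroup.mem_subgroupOf.2 (hN (mem_normalizer_of_P K c h)), rfl⟩
    · refine ⟨K.P ⟨t, htC⟩, ⟨_, Subgroup.mem_subgroupOf.2 htH, rfl⟩, ?_⟩
      intro h
      exact htN (mem_normalizer_of_P K _ h)
  intro c hc
  have h1 : K.P ⟨c, hc⟩ ∈ Y := by
    rw [hYM, ← K.P_range]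
    exact ⟨_, rfl⟩
  obtain ⟨y, hy, hyc⟩ := h1
  have h2 : K.P (⟨c, hc⟩ * y⁻¹) = 1 := by
    rw [map_mul, map_inv, hyc, mul_inv_cancel]
  have h3 := hN (mem_normalizer_of_P K (⟨c, hc⟩ * y⁻¹) (by rw [h2, one_smul]))
  have h4 : c = (c * (y : G)⁻¹) * (y : G) := by group
  rw [h4]
  exact H.mul_mem h3 (Subgroup.mem_subgroupOf.1 hy)

/-- **Closing theorem for a frame.** -/
theorem eq_top [Finite G] (H : Subgroup G) (hN : Subgroup.normalizer (EE K : Set G) ≤ H)
    (hC : Subgroup.centralizer ({K.z} : Set G) ≤ H)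
    (F1 : ∀ y ∈ H, y * y = 1 → y ≠ 1 → ∃ h ∈ H, h * y * h⁻¹ ∈ EE K)
    (F3 : ∀ p q : GolayPt, p ≠ q → ∀ h ∈ H, h * K.ε {p, q} = K.ε {p, q} * h →
      h ∈ Subgroup.normalizer (EE K : Set G)) : H = ⊤ := by
  have hEN : EE K ≤ Subgroup.normalizer (EE K : Set G) := Subgroup.le_normalizer
  have hzz : K.z * K.z = 1 := by
    have := pow_orderOf_eq_one K.z
    rw [K.z_order, pow_two] at this
    exact this
  -- every conjugate of `z` in `H` is conjugate to `z` in `H`
  have hone : ∀ y : G, IsConj K.z y → y ∈ H → ∃ h ∈ H, h * y * h⁻¹ = K.z := by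
    intro y hzy hy
    obtain ⟨c, hc⟩ := isConj_iff.1 hzy
    have h1 : y * y = 1 := by
      rw [← hc]
      calc c * K.z * c⁻¹ * (c * K.z * c⁻¹) = c * (K.z * K.z) * c⁻¹ := by group
        _ = 1 := by rw [hzz]; group
    have h2 : y ≠ 1 := by
      rintro rfl
      exact z_ne_one K (isConj_one_left.1 hzy)
    obtain ⟨h, hh, hE⟩ := F1 y hy h1 h2
    have h3 : IsConj K.z (h * y * h⁻¹) := hzy.trans (isConj_iff.2 ⟨h, rfl⟩)
    obtain ⟨S, hS, h4⟩ := (isConj_iff_sextet K ⟨_, hE⟩).1 h3
    have h5 : h * y * h⁻¹ = K.ε S := by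
      rw [← prod_e K S (by rw [hS]; decide), ← h4]
    obtain ⟨n, hn, h6⟩ := conj_sextet K S hS
    refine ⟨n⁻¹ * h, H.mul_mem (H.inv_mem (hN hn)) hh, ?_⟩
    calc n⁻¹ * h * y * (n⁻¹ * h)⁻¹ = n⁻¹ * (h * y * h⁻¹) * n := by group
      _ = n⁻¹ * (n * K.z * n⁻¹) * n := by rw [h5, h6]
      _ = K.z := by group
  apply eq_top_of_cocode (isCocode K) (hgen K) (EE K).subtype (Subgroup.subtype_injective _) H
    {g | IsConj K.z g}
  · exact isConj_iff_sextet K
  · intro y hy g
    exact IsConj.trans hy (isConj_iff.2 ⟨g, rfl⟩)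
  · intro y hy hyH g hg
    obtain ⟨h₁, hh₁, e₁⟩ := hone y hy hyH
    obtain ⟨h₂, hh₂, e₂⟩ := hone _ (IsConj.trans hy (isConj_iff.2 ⟨g, rfl⟩)) hg
    have h3 : (h₂ * g * h₁⁻¹) * K.z * (h₂ * g * h₁⁻¹)⁻¹ = K.z := by
      calc (h₂ * g * h₁⁻¹) * K.z * (h₂ * g * h₁⁻¹)⁻¹ =
          (h₂ * g * h₁⁻¹) * (h₁ * y * h₁⁻¹) * (h₂ * g * h₁⁻¹)⁻¹ := by rw [e₁]
        _ = h₂ * (g * y * g⁻¹) * h₂⁻¹ := by group
        _ = K.z := e₂
    have h4 : h₂ * g * h₁⁻¹ ∈ H := by
      apply hC
      rw [Subgroup.mem_centralizer_singleton_iff]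
      exact mul_inv_eq_iff_eq_mul.1 h3
    have h5 : g = h₂⁻¹ * (h₂ * g * h₁⁻¹) * h₁ := by group
    rw [h5]
    exact H.mul_mem (H.mul_mem (H.inv_mem hh₂) h4) hh₁
  · rw [Subgroup.range_subtype]
    exact hEN.trans hN
  · intro y hy h1 h2
    obtain ⟨h, hh, hE⟩ := F1 y hy h1 h2
    exact ⟨h, hh, by rw [Subgroup.range_subtype]; exact hE⟩
  · rintro u ⟨i, j, hij, rfl⟩ h hh hcomm v hv
    rw [Subgroup.range_subtype] at hv ⊢
    have h1 := F3 i j hij h hh (by rw [← coe_duad K hij]; exact hcomm)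
    exact ((Subgroup.mem_normalizer_iff).1 h1 v).1 hv

end

end Cfsg.Agent.J4Type.CloseInst
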