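import Mathlib

/-!
# Closing argument for J4-type recognition (helper552)

`eq_top_of_closing`: `G` finite, `H ≤ G`, `E ≤ H` an elementary abelian 2-group, `Z` a normal subset
of `G` such that elements of `Z ∩ H` "fix exactly one point of `G / H`", the other involutions of
`H` are `H`-conjugate into `E \ Z` and their `H`-centralisers normalise `E`; plus three facts on the
pair `(E, Z ∩ E)`.  Then `H = ⊤`.
-/

set_option autoImplicit false

namespace Cfsg.Agent.J4Type.Closing

section Dihedral

variable {G : Type*} [Group G]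

/-- `a` inverts `a * b`. -/
theorem dih_conj {a b : G} (ha : a * a = 1) (hb : b * b = 1) (j : ℕ) :
    a * (a * b) ^ j * a⁻¹ = ((a * b) ^ j)⁻¹ := by
  have ha' : a⁻¹ = a := inv_eq_of_mul_eq_one_left ha
  have hb' : b⁻¹ = b := inv_eq_of_mul_eq_one_left hb
  have h1 : a * (a * b) * a⁻¹ = (a * b)⁻¹ := by
    rw [mul_inv_rev, hb', ha']
    rw [← mul_assoc, ha, one_mul]
  rw [← conj_pow, h1, inv_pow]

theorem dih_pow_conj {a b : G} (ha : a * a = 1) (hb : b * b = 1) (j : ℕ) :
    (a * b) ^ j * a * ((a * b) ^ j)⁻¹ = (a * b) ^ (2 * j) * a := by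
  have h := dih_conj ha hb j
  have h2 : a * ((a * b) ^ j)⁻¹ * a⁻¹ = (a * b) ^ j := by
    have := congrArg (fun t => t⁻¹) h
    simpa [mul_inv_rev, mul_assoc] using this
  have h3 : a * ((a * b) ^ j)⁻¹ = (a * b) ^ j * a := by
    calc a * ((a * b) ^ j)⁻¹ = a * ((a * b) ^ j)⁻¹ * a⁻¹ * a := by
          rw [inv_mul_cancel_right]
      _ = _ := by rw [h2]
  rw [mul_assoc, h3, ← mul_assoc, two_mul, pow_add]

/-- odd case -/
theorem dih_odd {a b : G} (ha : a * a = 1) (hb : b * b = 1) {j : ℕ}
    (h : (a * b) ^ (2 * j + 1) = 1) :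
    (a * b) ^ j * a * ((a * b) ^ j)⁻¹ = b := by
  rw [dih_pow_conj ha hb]
  have h1 : (a * b) ^ (2 * j) = (a * b)⁻¹ := by
    rw [pow_succ] at h
    exact eq_inv_of_mul_eq_one_left h
  rw [h1, mul_inv_rev, mul_assoc, inv_mul_cancel, mul_one]
  exact inv_eq_of_mul_eq_one_left hb

/-- the power of half order is a nontrivial involution commuting with `a` and `b` -/
theorem dih_even {a b : G} (ha : a * a = 1) (hb : b * b = 1) {k : ℕ}
    (h : (a * b) ^ (2 * k) = 1) :
    Commute ((a * b) ^ k) a ∧ Commute ((a * b) ^ k) b := by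
  have h0 : ((a * b) ^ k)⁻¹ = (a * b) ^ k := by
    rw [two_mul, pow_add] at h
    exact inv_eq_of_mul_eq_one_left h
  have h1 := dih_conj ha hb k
  rw [h0] at h1
  have h2 : Commute ((a * b) ^ k) a := by
    have : a * (a * b) ^ k = (a * b) ^ k * a := by
      calc a * (a * b) ^ k = a * (a * b) ^ k * a⁻¹ * a := by group
        _ = _ := by rw [h1]
    exact this.symm
  refine ⟨h2, ?_⟩
  have h3 : Commute ((a * b) ^ k) (a * b) := (Commute.refl _).pow_left k
  have h4 : Commute ((a * b) ^ k) (a⁻¹ * (a * b)) := (h2.inv_right).mul_right h3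
  rwa [inv_mul_cancel_left] at h4

/-- case `k = 2 j + 1` odd, the element `b * (ab)^k` is conjugate to `a` by `((ab)^(j+1))⁻¹`. -/
theorem dih_half_odd {a b : G} (ha : a * a = 1) (hb : b * b = 1) (j : ℕ) :
    ((a * b) ^ (j + 1))⁻¹ * a * (((a * b) ^ (j + 1))⁻¹)⁻¹ = b * (a * b) ^ (2 * j + 1) := by
  have h := dih_conj ha hb (j + 1)
  -- a * r^(j+1) = (r^(j+1))⁻¹ * a
  have h1 : a * (a * b) ^ (j + 1) = ((a * b) ^ (j + 1))⁻¹ * a := by
    rw [← h]; group
  rw [← h1, inv_inv, mul_assoc, ← pow_add]
  have h2 : j + 1 + (j + 1) = (2 * j + 1) + 1 := by ring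
  rw [h2, pow_succ' (a * b) (2 * j + 1), ← mul_assoc, ← mul_assoc, ha, one_mul]

end Dihedral

/-- **Lemma A** -/
theorem fusion_of_unique {X : Type*} [Group X] [Finite X] (M W : Subgroup X) (hM : M ≠ ⊤)
    (hWM : W ≤ M) (hWn : ∀ m ∈ M, ∀ w ∈ W, m * w * m⁻¹ ∈ W) (hW2 : ∀ w ∈ W, w * w = 1)
    (huniq : ∀ w ∈ W, w ≠ 1 → ∀ x : X, x * w * x⁻¹ ∈ M → x ∈ M)
    {d e : X} (hd : d ∈ W) (hd1 : d ≠ 1) (he : e ∈ W) (he1 : e ≠ 1) :
    ∃ m ∈ M, m * d * m⁻¹ = e := by
  obtain ⟨x, hx⟩ : ∃ x : X, x ∉ M := by
    by_contra hcon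
    push Not at hcon
    exact hM (Subgroup.eq_top_iff' M |>.mpr hcon)
  have hdd := hW2 d hd
  have hee := hW2 e he
  set e' : X := x * e * x⁻¹ with he'
  have hee' : e' * e' = 1 := by
    rw [he']
    calc x * e * x⁻¹ * (x * e * x⁻¹) = x * (e * e) * x⁻¹ := by group
      _ = 1 := by rw [hee]; group
  have hfin : 0 < orderOf (d * e') := orderOf_pos _
  rcases Nat.even_or_odd' (orderOf (d * e')) with ⟨k, hk | hk⟩
  · -- even order
    exfalso
    have hk0 : 0 < k := by omega
    have hpow : (d * e') ^ (2 * k) = 1 := by rw [← hk]; exact pow_orderOf_eq_one _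
    have hne : (d * e') ^ k ≠ 1 := by
      intro h
      have := orderOf_dvd_of_pow_eq_one h
      have := Nat.le_of_dvd hk0 this
      omega
    obtain ⟨hcd, hce⟩ := dih_even hdd hee' hpow
    set c : X := (d * e') ^ k with hc
    have hcM : c ∈ M := by
      apply huniq d hd hd1 c
      have : c * d * c⁻¹ = d := by rw [hcd.eq]; group
      rw [this]; exact hWM hd
    have hcxM : x⁻¹ * c * x ∈ M := by
      apply huniq e he he1
      have : x⁻¹ * c * x * e * (x⁻¹ * c * x)⁻¹ = e := by
        have h1 : c * e' * c⁻¹ = e' := by rw [hce.eq]; group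
        calc x⁻¹ * c * x * e * (x⁻¹ * c * x)⁻¹ = x⁻¹ * (c * e' * c⁻¹) * x := by
              rw [he']; group
          _ = x⁻¹ * e' * x := by rw [h1]
          _ = e := by rw [he']; group
      rw [this]; exact hWM he
    rcases Nat.even_or_odd' k with ⟨j, hj | hj⟩
    · -- k even
      have h1 := dih_pow_conj hdd hee' j
      rw [← hj, ← hc] at h1
      have h2 : (d * e') ^ j ∈ M := by
        apply huniq d hd hd1
        rw [h1]
        exact M.mul_mem hcM (hWM hd)
      have h3 : c * d ∈ W := by
        rw [← h1]; exact hWn _ h2 d hd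
      have h4 : c ∈ W := by
        have := W.mul_mem h3 hd
        rwa [mul_assoc, hdd, mul_one] at this
      have h5 : x⁻¹ ∈ M := by
        apply huniq c h4 hne
        rwa [inv_inv]
      exact hx (by simpa using M.inv_mem h5)
    · -- k odd
      have h1 := dih_half_odd hdd hee' j
      rw [← hj, ← hc] at h1
      set y : X := ((d * e') ^ (j + 1))⁻¹ with hy
      have h2 : (x⁻¹ * y) * d * (x⁻¹ * y)⁻¹ = e * (x⁻¹ * c * x) := by
        calc (x⁻¹ * y) * d * (x⁻¹ * y)⁻¹ = x⁻¹ * (y * d * y⁻¹) * x := by group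
          _ = x⁻¹ * (e' * c) * x := by rw [h1]
          _ = e * (x⁻¹ * c * x) := by rw [he']; group
      have h3 : x⁻¹ * y ∈ M := by
        apply huniq d hd hd1
        rw [h2]
        exact M.mul_mem (hWM he) hcxM
      have h4 : e * (x⁻¹ * c * x) ∈ W := by
        rw [← h2]; exact hWn _ h3 d hd
      have h5 : x⁻¹ * c * x ∈ W := by
        have := W.mul_mem he h4
        rwa [← mul_assoc, hee, one_mul] at this
      have h6 : x⁻¹ * c * x ≠ 1 := by
        intro h
        apply hne
        have : c = x * (x⁻¹ * c * x) * x⁻¹ := by group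
        rw [this, h]; group
      exact hx (huniq _ h5 h6 x (by
        have : x * (x⁻¹ * c * x) * x⁻¹ = c := by group
        rw [this]; exact hcM))
  · -- odd order
    have hpow : (d * e') ^ (2 * k + 1) = 1 := by rw [← hk]; exact pow_orderOf_eq_one _
    have h1 := dih_odd hdd hee' hpow
    set y : X := (d * e') ^ k with hy
    have h2 : (x⁻¹ * y) * d * (x⁻¹ * y)⁻¹ = e := by
      calc (x⁻¹ * y) * d * (x⁻¹ * y)⁻¹ = x⁻¹ * (y * d * y⁻¹) * x := by group
        _ = x⁻¹ * e' * x := by rw [h1]
        _ = e := by rw [he']; group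
    refine ⟨x⁻¹ * y, ?_, h2⟩
    apply huniq d hd hd1
    rw [h2]; exact hWM he

/-- Lemma A relative to a central subgroup. -/
theorem fusion_rel {G : Type*} [Group G] [Finite G] (X M E S : Subgroup G)
    (hMX : M ≤ X) (hne : M ≠ X) (hSE : S ≤ E) (hEM : E ≤ M)
    (hSc : ∀ s ∈ S, ∀ x ∈ X, x * s = s * x)
    (hEn : ∀ m ∈ M, ∀ v ∈ E, m * v * m⁻¹ ∈ E) (hE2 : ∀ v ∈ E, v * v = 1)
    (huniq : ∀ v ∈ E, v ∉ S → ∀ x ∈ X, x * v * x⁻¹ ∈ M → x ∈ M)
    {d e : G} (hd : d ∈ E) (hdS : d ∉ S) (he : e ∈ E) (heS : e ∉ S) :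
    ∃ m ∈ M, ∃ s ∈ S, m * d * m⁻¹ = e * s := by
  have hEX : E ≤ X := hEM.trans hMX
  have hSX : S ≤ X := hSE.trans hEX
  set S' : Subgroup X := S.subgroupOf X with hS'
  haveI hSn : S'.Normal := by
    constructor
    intro n hn g
    rw [hS', Subgroup.mem_subgroupOf] at hn ⊢
    have : ((g * n * g⁻¹ : X) : G) = n := by
      push_cast
      rw [hSc n hn g g.2]; group
    rw [this]; exact hn
  set q := QuotientGroup.mk' S' with hq
  set M' : Subgroup (X ⧸ S') := (M.subgroupOf X).map q with hM'
  set W' : Subgroup (X ⧸ S') := (E.subgroupOf X).map q with hW'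
  have memM : ∀ x : X, q x ∈ M' ↔ (x : G) ∈ M := by
    intro x
    constructor
    · rintro ⟨m, hm, hmx⟩
      have h1 : m⁻¹ * x ∈ S' := by
        rw [← QuotientGroup.eq]; exact hmx
      rw [hS', Subgroup.mem_subgroupOf] at h1
      have hm' : (m : G) ∈ M := hm
      have : (x : G) = m * ((m⁻¹ * x : X) : G) := by push_cast; group
      rw [this]
      exact M.mul_mem hm' (hEM (hSE h1))
    · intro hx
      exact ⟨x, hx, rfl⟩
  have memW : ∀ x : X, q x ∈ W' ↔ (x : G) ∈ E := by
    intro x
    constructor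
    · rintro ⟨m, hm, hmx⟩
      have h1 : m⁻¹ * x ∈ S' := by
        rw [← QuotientGroup.eq]; exact hmx
      rw [hS', Subgroup.mem_subgroupOf] at h1
      have hm' : (m : G) ∈ E := hm
      have : (x : G) = m * ((m⁻¹ * x : X) : G) := by push_cast; group
      rw [this]
      exact E.mul_mem hm' (hSE h1)
    · intro hx
      exact ⟨x, hx, rfl⟩
  have memS : ∀ x : X, q x = 1 ↔ (x : G) ∈ S := by
    intro x
    rw [hq, QuotientGroup.mk'_apply, QuotientGroup.eq_one_iff, hS', Subgroup.mem_subgroupOf]
  have surj : ∀ y : X ⧸ S', ∃ x : X, q x = y := QuotientGroup.mk'_surjective S'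
  have key := fusion_of_unique M' W' (by
      intro htop
      apply hne
      apply le_antisymm hMX
      intro x hx
      have : q ⟨x, hx⟩ ∈ M' := by rw [htop]; trivial
      exact (memM ⟨x, hx⟩).mp this)
    (by
      rintro _ ⟨v, hv, rfl⟩
      exact (memM v).mpr (hEM hv))
    (by
      intro m hm w hw
      obtain ⟨m, rfl⟩ := surj m
      obtain ⟨w, rfl⟩ := surj w
      rw [memM] at hm
      rw [memW] at hw
      rw [← map_mul, ← map_inv, ← map_mul, memW]
      push_cast
      exact hEn _ hm _ hw)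
    (by
      intro w hw
      obtain ⟨w, rfl⟩ := surj w
      rw [memW] at hw
      rw [← map_mul]
      have : w * w = 1 := Subtype.ext (by push_cast; exact hE2 _ hw)
      rw [this, map_one])
    (by
      intro w hw hw1 x hx
      obtain ⟨w, rfl⟩ := surj w
      obtain ⟨x, rfl⟩ := surj x
      rw [memW] at hw
      rw [← map_mul, ← map_inv, ← map_mul, memM] at hx
      rw [memM]
      push_cast at hx
      refine huniq _ hw ?_ _ x.2 hx
      intro hS
      exact hw1 ((memS w).mpr hS))
    (d := q ⟨d, hEX hd⟩) (e := q ⟨e, hEX he⟩)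
    ((memW _).mpr hd) (fun h => hdS ((memS _).mp h)) ((memW _).mpr he)
    (fun h => heS ((memS _).mp h))
  obtain ⟨m, hm, hme⟩ := key
  obtain ⟨m, rfl⟩ := surj m
  rw [memM] at hm
  rw [← map_mul, ← map_inv, ← map_mul] at hme
  have h1 : (⟨e, hEX he⟩ : X)⁻¹ * (m * ⟨d, hEX hd⟩ * m⁻¹) ∈ S' := by
    rw [← QuotientGroup.eq]; exact hme.symm
  rw [hS', Subgroup.mem_subgroupOf] at h1
  push_cast at h1
  refine ⟨m, hm, _, h1, ?_⟩
  group

/-- **Closing theorem.** -/
theorem eq_top_of_closing {G : Type*} [Group G] [Finite G] (H E : Subgroup G) (Z : Set G)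
    (hZn : ∀ y ∈ Z, ∀ g : G, g * y * g⁻¹ ∈ Z)
    (huniq : ∀ y ∈ Z, y ∈ H → ∀ g : G, g * y * g⁻¹ ∈ H → g ∈ H)
    (hEH : E ≤ H) (hE2 : ∀ v ∈ E, v * v = 1)
    (hconj : ∀ y ∈ H, y * y = 1 → y ≠ 1 → ∃ h ∈ H, h * y * h⁻¹ ∈ E)
    (hF3 : ∀ u ∈ E, u ≠ 1 → u ∉ Z → ∀ h ∈ H, h * u = u * h → ∀ v ∈ E, h * v * h⁻¹ ∈ E)
    (hZ1 : (1 : G) ∉ Z)
    (hz : ∃ z ∈ E, z ∈ Z) (hu : ∃ u ∈ E, u ≠ 1 ∧ u ∉ Z)
    -- every involutory automorphism of `E` centralises an element of `Z`
    (hfree : ∀ t : G, t * t = 1 → (∀ v ∈ E, t * v * t⁻¹ ∈ E) →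
      ∃ y ∈ E, y ∈ Z ∧ t * y = y * t)
    (hcos : ∀ S : Subgroup G, S ≤ E → S ≠ ⊥ → (∀ s ∈ S, s ∉ Z) →
      ∃ d ∈ E, d ∉ S ∧ ∃ e ∈ E, e ∉ S ∧
        Set.ncard {s | s ∈ S ∧ d * s ∈ Z} ≠ Set.ncard {s | s ∈ S ∧ e * s ∈ Z}) :
    H = ⊤ := by
  have hEc : ∀ a ∈ E, ∀ b ∈ E, a * b = b * a := by
    intro a ha b hb
    have h1 := hE2 a ha
    have h2 := hE2 b hb
    have h3 := hE2 (a * b) (E.mul_mem ha hb)
    have ha' : a⁻¹ = a := inv_eq_of_mul_eq_one_left h1
    have hb' : b⁻¹ = b := inv_eq_of_mul_eq_one_left h2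
    have : (a * b)⁻¹ = a * b := inv_eq_of_mul_eq_one_left h3
    rw [mul_inv_rev, ha', hb'] at this
    exact this.symm
  -- Main claim: `C_G(S) ≤ H` for every nontrivial `Z`-free subgroup `S` of `E`.
  have main : ∀ n : ℕ, ∀ S : Subgroup G, S ≤ E → S ≠ ⊥ → (∀ s ∈ S, s ∉ Z) →
      Nat.card E - Nat.card S ≤ n → Subgroup.centralizer (S : Set G) ≤ H := by
    intro n
    induction n with
    | zero =>
      intro S hSE hS1 hSZ hn
      exfalso
      have hcardle : Nat.card S ≤ Nat.card E := Nat.card_le_card_of_injective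
        (Subgroup.inclusion hSE) (Subgroup.inclusion_injective hSE)
      have heq : S = E := by
        apply Subgroup.eq_of_le_of_card_ge hSE
        omega
      obtain ⟨z, hzE, hzZ⟩ := hz
      exact hSZ z (heq ▸ hzE) hzZ
    | succ n ih =>
      intro S hSE hS1 hSZ hn
      by_contra hcon
      set X := Subgroup.centralizer (S : Set G) with hX
      have hXmem : ∀ x : G, x ∈ X ↔ ∀ s ∈ S, s * x = x * s := by
        intro x
        rw [hX, Subgroup.mem_centralizer_iff]
        rfl
      set M := X ⊓ H with hM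
      have hEX : E ≤ X := by
        intro v hv
        rw [hXmem]
        intro s hs
        exact hEc s (hSE hs) v hv
      obtain ⟨u, huS, hu1⟩ : ∃ u ∈ S, u ≠ 1 := by
        by_contra h
        push Not at h
        exact hS1 ((Subgroup.eq_bot_iff_forall S).mpr h)
      have huZ := hSZ u huS
      have huE := hSE huS
      -- uniqueness
      have huq : ∀ v ∈ E, v ∉ S → ∀ x ∈ X, x * v * x⁻¹ ∈ M → x ∈ M := by
        intro v hvE hvS x hx hxv
        have hxS : ∀ s ∈ S, x * s * x⁻¹ = s := by
          intro s hs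
          rw [← (hXmem x).mp hx s hs]; group
        refine ⟨hx, ?_⟩
        by_cases hmeet : ∃ s ∈ S, v * s ∈ Z
        · obtain ⟨s, hs, hvs⟩ := hmeet
          apply huniq (v * s) hvs (H.mul_mem (hEH hvE) (hEH (hSE hs))) x
          have : x * (v * s) * x⁻¹ = (x * v * x⁻¹) * (x * s * x⁻¹) := by group
          rw [this, hxS s hs]
          exact H.mul_mem hxv.2 (hEH (hSE hs))
        · push Not at hmeet
          by_contra hxH
          -- `S' = ⟨S, v⟩`
          set S' : Subgroup G := S ⊔ Subgroup.zpowers v with hS'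
          have hS'mem : ∀ w ∈ S', w ∈ S ∨ ∃ s ∈ S, w = v * s := by
            intro w hw
            rw [hS'] at hw
            have hcl : ∀ a b : G, (a ∈ S ∨ ∃ s ∈ S, a = v * s) → (b ∈ S ∨ ∃ s ∈ S, b = v * s) →
                (a * b ∈ S ∨ ∃ s ∈ S, a * b = v * s) := by
              rintro a b (ha | ⟨s, hs, rfl⟩) (hb | ⟨s', hs', rfl⟩)
              · exact Or.inl (S.mul_mem ha hb)
              · right
                refine ⟨a * s', S.mul_mem ha hs', ?_⟩
                rw [← mul_assoc, hEc a (hSE ha) v hvE, mul_assoc]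
              · right
                exact ⟨s * b, S.mul_mem hs hb, by rw [mul_assoc]⟩
              · left
                have : v * s * (v * s') = s * s' := by
                  rw [← mul_assoc, mul_assoc v s v, hEc s (hSE hs) v hvE, ← mul_assoc v v s,
                    hE2 v hvE, one_mul]
                rw [this]; exact S.mul_mem hs hs'
            set T : Subgroup G :=
              { carrier := {a | a ∈ S ∨ ∃ s ∈ S, a = v * s}
                one_mem' := Or.inl S.one_mem
                mul_mem' := by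
                  intro a b ha hb
                  exact hcl a b ha hb
                inv_mem' := by
                  rintro a (ha | ⟨s, hs, rfl⟩)
                  · exact Or.inl (S.inv_mem ha)
                  · right
                    refine ⟨s⁻¹, S.inv_mem hs, ?_⟩
                    rw [mul_inv_rev, inv_eq_of_mul_eq_one_left (hE2 v hvE),
                      hEc s⁻¹ (hSE (S.inv_mem hs)) v hvE] } with hT
            have hle : S ⊔ Subgroup.zpowers v ≤ T := by
              apply sup_le
              · intro a ha; exact Or.inl ha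
              · rw [Subgroup.zpowers_le]
                exact Or.inr ⟨1, S.one_mem, by rw [mul_one]⟩
            exact hle hw
          have hS'E : S' ≤ E := by
            rw [hS']
            exact sup_le hSE (by rw [Subgroup.zpowers_le]; exact hvE)
          have hS'1 : S' ≠ ⊥ := by
            intro h
            apply hS1
            rw [eq_bot_iff]
            calc S ≤ S' := le_sup_left
              _ = ⊥ := h
          have hS'Z : ∀ s ∈ S', s ∉ Z := by
            intro w hw
            rcases hS'mem w hw with h | ⟨s, hs, rfl⟩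
            · exact hSZ w h
            · exact hmeet s hs
          have hvS' : v ∈ S' := by
            have : Subgroup.zpowers v ≤ S' := le_sup_right
            exact this (Subgroup.mem_zpowers v)
          have hcard' : Nat.card S < Nat.card S' := by
            have h1 : Nat.card S ≤ Nat.card S' := Nat.card_le_card_of_injective
              (Subgroup.inclusion (le_sup_left : S ≤ S')) (Subgroup.inclusion_injective _)
            rcases Nat.lt_or_ge (Nat.card S) (Nat.card S') with h | h
            · exact h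
            · exfalso
              have : S = S' := Subgroup.eq_of_le_of_card_ge le_sup_left h
              exact hvS (this ▸ hvS')
          have hS'le : Nat.card S' ≤ Nat.card E := Nat.card_le_card_of_injective
            (Subgroup.inclusion hS'E) (Subgroup.inclusion_injective hS'E)
          have hC := ih S' hS'E hS'1 hS'Z (by omega)
          -- `w = x⁻¹ v x`: work with `t = x * v * x⁻¹ ∈ H`; conjugate back
          -- we know `x * v * x⁻¹ ∈ H`, i.e. `v ∈ x⁻¹ H x`.
          have hvH : x * v * x⁻¹ ∈ H := hxv.2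
          -- `t := x v x⁻¹ ∈ C_H(u)` normalises `E`
          set t := x * v * x⁻¹ with ht
          have htt : t * t = 1 := by
            rw [ht]
            calc x * v * x⁻¹ * (x * v * x⁻¹) = x * (v * v) * x⁻¹ := by group
              _ = 1 := by rw [hE2 v hvE]; group
          have htu : t * u = u * t := by
            have h1 := (hXmem x).mp hx u huS
            have h2 := hEc v hvE u huE
            have h3 : x⁻¹ * u = u * x⁻¹ := by
              calc x⁻¹ * u = x⁻¹ * (u * x) * x⁻¹ := by group
                _ = x⁻¹ * (x * u) * x⁻¹ := by rw [h1]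
                _ = u * x⁻¹ := by group
            rw [ht]
            calc x * v * x⁻¹ * u = x * v * (x⁻¹ * u) := by group
              _ = x * (v * u) * x⁻¹ := by rw [h3]; group
              _ = x * (u * v) * x⁻¹ := by rw [h2]
              _ = (x * u) * v * x⁻¹ := by group
              _ = u * (x * v * x⁻¹) := by rw [← h1]; group
          obtain ⟨y, hyE, hyZ, hyt⟩ := hfree t htt (hF3 u huE hu1 huZ t hvH htu)
          -- `y' = x⁻¹ y x` centralises `S'`
          have hy' : x⁻¹ * y * x ∈ Subgroup.centralizer (S' : Set G) := by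
            rw [Subgroup.mem_centralizer_iff]
            intro w hw
            have hcommS : ∀ s ∈ S, s * (x⁻¹ * y * x) = (x⁻¹ * y * x) * s := by
              intro s hs
              have h1 := (hXmem x).mp hx s hs
              have h2 := hEc s (hSE hs) y hyE
              have h3 : x⁻¹ * s = s * x⁻¹ := by
                calc x⁻¹ * s = x⁻¹ * (s * x) * x⁻¹ := by group
                  _ = x⁻¹ * (x * s) * x⁻¹ := by rw [h1]
                  _ = s * x⁻¹ := by group
              calc s * (x⁻¹ * y * x) = (s * x⁻¹) * y * x := by group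
                _ = x⁻¹ * (s * y) * x := by rw [← h3]; group
                _ = x⁻¹ * (y * s) * x := by rw [h2]
                _ = x⁻¹ * y * (s * x) := by group
                _ = x⁻¹ * y * x * s := by rw [h1]; group
            have hcommv : v * (x⁻¹ * y * x) = (x⁻¹ * y * x) * v := by
              have hv : v = x⁻¹ * t * x := by rw [ht]; group
              rw [hv]
              calc x⁻¹ * t * x * (x⁻¹ * y * x) = x⁻¹ * (t * y) * x := by group
                _ = x⁻¹ * (y * t) * x := by rw [hyt]
                _ = x⁻¹ * y * x * (x⁻¹ * t * x) := by group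
            rcases hS'mem w hw with h | ⟨s, hs, rfl⟩
            · exact hcommS w h
            · rw [mul_assoc, hcommS s hs, ← mul_assoc, hcommv, mul_assoc]
          have hy'H := hC hy'
          have := huniq (x⁻¹ * y * x) (by
            have := hZn y hyZ x⁻¹
            rwa [inv_inv] at this) hy'H x (by
              have : x * (x⁻¹ * y * x) * x⁻¹ = y := by group
              rw [this]; exact hEH hyE)
          exact hxH this
      obtain ⟨d, hdE, hdS, e, heE, heS, hne⟩ := hcos S hSE hS1 hSZ
      obtain ⟨m, hm, s₀, hs₀, hms⟩ := fusion_rel X M E S inf_le_left (by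
          intro h
          apply hcon
          rw [← h]
          exact inf_le_right)
        hSE (le_inf hEX hEH)
        (by
          intro s hs x hx
          exact ((hXmem x).mp hx s hs).symm)
        (by
          intro m hm v hv
          exact hF3 u huE hu1 huZ m hm.2 ((hXmem m).mp hm.1 u huS).symm v hv)
        hE2 huq hdE hdS heE heS
      apply hne
      -- bijection `s ↦ s₀ * s`
      have hmS : ∀ s ∈ S, m * s * m⁻¹ = s := by
        intro s hs
        rw [← (hXmem m).mp hm.1 s hs]; group
      have hrel : ∀ s ∈ S, (d * s ∈ Z ↔ e * (s₀ * s) ∈ Z) := by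
        intro s hs
        have h1 : m * (d * s) * m⁻¹ = e * (s₀ * s) := by
          calc m * (d * s) * m⁻¹ = (m * d * m⁻¹) * (m * s * m⁻¹) := by group
            _ = e * s₀ * s := by rw [hms, hmS s hs]
            _ = _ := by rw [mul_assoc]
        constructor
        · intro h
          rw [← h1]; exact hZn _ h m
        · intro h
          have h2 := hZn _ h m⁻¹
          rw [← h1] at h2
          have h3 : m⁻¹ * (m * (d * s) * m⁻¹) * m⁻¹⁻¹ = d * s := by group
          rwa [h3] at h2
      apply Set.ncard_congr (fun s _ => s₀ * s)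
      · rintro s ⟨hs, hds⟩
        exact ⟨S.mul_mem hs₀ hs, (hrel s hs).mp hds⟩
      · intro a b _ _ hab
        exact mul_left_cancel hab
      · rintro b ⟨hb, hbZ⟩
        refine ⟨s₀⁻¹ * b, ⟨S.mul_mem (S.inv_mem hs₀) hb, ?_⟩, ?_⟩
        · rw [hrel _ (S.mul_mem (S.inv_mem hs₀) hb), mul_inv_cancel_left]
          exact hbZ
        · simp
  -- centralisers of involutions
  have hCinv : ∀ y ∈ H, y * y = 1 → y ≠ 1 → ∀ g : G, g * y = y * g → g ∈ H := by
    intro y hy hyy hy1 g hg
    obtain ⟨h, hh, hhy⟩ := hconj y hy hyy hy1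
    set v := h * y * h⁻¹ with hv
    have hv1 : v ≠ 1 := by
      intro h1
      apply hy1
      have : y = h⁻¹ * v * h := by rw [hv]; group
      rw [this, h1]; group
    set g' := h * g * h⁻¹ with hg'
    have hg'v : g' * v = v * g' := by
      rw [hg', hv]
      calc h * g * h⁻¹ * (h * y * h⁻¹) = h * (g * y) * h⁻¹ := by group
        _ = h * (y * g) * h⁻¹ := by rw [hg]
        _ = _ := by group
    have hg'H : g' ∈ H := by
      by_cases hvZ : v ∈ Z
      · apply huniq v hvZ (hEH hhy) g'
        have : g' * v * g'⁻¹ = v := by rw [hg'v]; group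
        rw [this]; exact hEH hhy
      · have hz : Subgroup.centralizer (Subgroup.zpowers v : Set G) ≤ H := by
          have hvv := hE2 v hhy
          have hmem : ∀ s ∈ Subgroup.zpowers v, s = 1 ∨ s = v := by
            intro s hs
            rw [Subgroup.mem_zpowers_iff] at hs
            obtain ⟨k, rfl⟩ := hs
            have h2 : v ^ (2 : ℤ) = 1 := by
              rw [zpow_ofNat, pow_two]; exact hvv
            rcases Int.even_or_odd' k with ⟨j, hj | hj⟩
            · left; rw [hj, zpow_mul, h2, one_zpow]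
            · right; rw [hj, zpow_add, zpow_mul, h2, one_zpow, one_mul, zpow_one]
          apply main (Nat.card E) (Subgroup.zpowers v)
          · rw [Subgroup.zpowers_le]; exact hhy
          · rw [Ne, Subgroup.zpowers_eq_bot]; exact hv1
          · intro s hs
            rcases hmem s hs with rfl | rfl
            · exact hZ1
            · exact hvZ
          · omega
        apply hz
        rw [Subgroup.mem_centralizer_iff]
        intro s hs
        have hs' : s ∈ Subgroup.zpowers v := hs
        rw [Subgroup.mem_zpowers_iff] at hs'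
        obtain ⟨k, rfl⟩ := hs'
        exact ((show Commute g' v from hg'v).zpow_right k).symm.eq
    have : g = h⁻¹ * g' * h := by rw [hg']; group
    rw [this]
    exact H.mul_mem (H.mul_mem (H.inv_mem hh) hg'H) hh
  by_contra hHtop
  obtain ⟨g, hg⟩ : ∃ g : G, g ∉ H := by
    by_contra hcon
    push Not at hcon
    exact hHtop (Subgroup.eq_top_iff' H |>.mpr hcon)
  obtain ⟨z, hzE, hzZ⟩ := hz
  obtain ⟨u, huE, hu1, huZ⟩ := hu
  have hzz := hE2 z hzE
  have huu := hE2 u huE
  have hz1 : z ≠ 1 := by
    rintro rfl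
    exact hZ1 hzZ
  set e := g * u * g⁻¹ with he
  have hee : e * e = 1 := by
    rw [he]
    calc g * u * g⁻¹ * (g * u * g⁻¹) = g * (u * u) * g⁻¹ := by group
      _ = 1 := by rw [huu]; group
  rcases Nat.even_or_odd' (orderOf (z * e)) with ⟨k, hk | hk⟩
  · have hpos : 0 < orderOf (z * e) := orderOf_pos _
    have hk0 : 0 < k := by omega
    have hpow : (z * e) ^ (2 * k) = 1 := by rw [← hk]; exact pow_orderOf_eq_one _
    have hne : (z * e) ^ k ≠ 1 := by
      intro h
      have := orderOf_dvd_of_pow_eq_one h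
      have := Nat.le_of_dvd hk0 this
      omega
    obtain ⟨hcz, hce⟩ := dih_even hzz hee hpow
    set c := (z * e) ^ k with hc
    have hcc : c * c = 1 := by
      rw [hc, ← pow_add, ← two_mul]; exact hpow
    have hcH : c ∈ H := hCinv z (hEH hzE) hzz hz1 c hcz.eq
    -- c ∈ g H g⁻¹
    have hcg : g⁻¹ * c * g ∈ H := by
      apply hCinv u (hEH huE) huu hu1
      have h1 : c * e = e * c := hce.eq
      calc g⁻¹ * c * g * u = g⁻¹ * (c * e) * g := by rw [he]; group
        _ = g⁻¹ * (e * c) * g := by rw [h1]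
        _ = u * (g⁻¹ * c * g) := by rw [he]; group
    have hcg2 : (g⁻¹ * c * g) * (g⁻¹ * c * g) = 1 := by
      calc (g⁻¹ * c * g) * (g⁻¹ * c * g) = g⁻¹ * (c * c) * g := by group
        _ = 1 := by rw [hcc]; group
    have hcg1 : g⁻¹ * c * g ≠ 1 := by
      intro h
      apply hne
      have : c = g * (g⁻¹ * c * g) * g⁻¹ := by group
      rw [this, h]; group
    have hzg : g⁻¹ * z * g ∈ H := by
      apply hCinv _ hcg hcg2 hcg1
      have h1 : c * z = z * c := hcz.eq
      calc g⁻¹ * z * g * (g⁻¹ * c * g) = g⁻¹ * (z * c) * g := by group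
        _ = g⁻¹ * (c * z) * g := by rw [h1]
        _ = _ := by group
    have := huniq z hzZ (hEH hzE) g⁻¹ (by rwa [inv_inv])
    exact hg (by simpa using H.inv_mem this)
  · have hpow : (z * e) ^ (2 * k + 1) = 1 := by rw [← hk]; exact pow_orderOf_eq_one _
    have h1 := dih_odd hzz hee hpow
    have h2 : e ∈ Z := by rw [← h1]; exact hZn z hzZ _
    apply huZ
    have h3 := hZn e h2 g⁻¹
    have h4 : g⁻¹ * e * g⁻¹⁻¹ = u := by rw [he]; group
    rwa [h4] at h3

end Cfsg.Agent.J4Type.Closing
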