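import Cfsg.Agent.SporadicA.GolayPerm

/-!
Automorphisms of the even cocode preserving the set of duads are induced by permutations of the
points (the line graph of a complete graph), hence, for the Golay code, by elements of `M24`.
-/

set_option autoImplicit false

namespace Cfsg.Agent.J4Type.DuadStab

open Finset
open scoped Pointwise

section star

variable {Pt : Type*} [DecidableEq Pt]

/-- Four pairs which pairwise meet in exactly one point have a common point. -/
theorem exists_common {J : Type*} (I : Finset J) (hI : 4 ≤ I.card) (s : J → Finset Pt)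
    (h2 : ∀ a ∈ I, (s a).card = 2)
    (h1 : ∀ a ∈ I, ∀ b ∈ I, a ≠ b → (s a ∩ s b).card = 1) : ∃ p, ∀ a ∈ I, p ∈ s a := by
  classical
  obtain ⟨a, ha⟩ : I.Nonempty := Finset.card_pos.1 (by omega)
  obtain ⟨x, y, hxy, hs⟩ := Finset.card_eq_two.1 (h2 a ha)
  -- either all contain `x`, or there is one not containing `x`
  by_cases hx : ∀ b ∈ I, x ∈ s b
  · exact ⟨x, hx⟩
  by_cases hy : ∀ b ∈ I, y ∈ s b
  · exact ⟨y, hy⟩
  exfalso
  push Not at hx hy
  obtain ⟨b, hb, hxb⟩ := hx
  obtain ⟨c, hc, hyc⟩ := hy
  have hab : a ≠ b := by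
    rintro rfl
    apply hxb
    rw [hs]
    exact Finset.mem_insert_self _ _
  have hac : a ≠ c := by
    rintro rfl
    apply hyc
    rw [hs]
    exact Finset.mem_insert_of_mem (Finset.mem_singleton_self _)
  -- `b` contains `y`, `c` contains `x`
  have hyb : y ∈ s b := by
    obtain ⟨w, hw⟩ := Finset.card_eq_one.1 (h1 a ha b hb hab)
    have hw' : w ∈ s a ∩ s b := by rw [hw]; exact Finset.mem_singleton_self _
    rw [Finset.mem_inter, hs, Finset.mem_insert, Finset.mem_singleton] at hw'
    rcases hw'.1 with rfl | rfl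
    · exact absurd hw'.2 hxb
    · exact hw'.2
  have hxc : x ∈ s c := by
    obtain ⟨w, hw⟩ := Finset.card_eq_one.1 (h1 a ha c hc hac)
    have hw' : w ∈ s a ∩ s c := by rw [hw]; exact Finset.mem_singleton_self _
    rw [Finset.mem_inter, hs, Finset.mem_insert, Finset.mem_singleton] at hw'
    rcases hw'.1 with rfl | rfl
    · exact hw'.2
    · exact absurd hw'.2 hyc
  have hbc : b ≠ c := by
    rintro rfl
    exact hyc hyb
  obtain ⟨z, hz⟩ := Finset.card_eq_one.1 (h1 b hb c hc hbc)
  have hz' : z ∈ s b ∩ s c := by rw [hz]; exact Finset.mem_singleton_self _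
  rw [Finset.mem_inter] at hz'
  have hzx : z ≠ x := by rintro rfl; exact hxb hz'.1
  have hzy : z ≠ y := by rintro rfl; exact hyc hz'.2
  have hsb : s b = {y, z} := by
    symm
    apply Finset.eq_of_subset_of_card_le
    · intro w hw
      rw [Finset.mem_insert, Finset.mem_singleton] at hw
      rcases hw with rfl | rfl
      · exact hyb
      · exact hz'.1
    · rw [h2 b hb, Finset.card_pair hzy.symm]
  have hsc : s c = {x, z} := by
    symm
    apply Finset.eq_of_subset_of_card_le
    · intro w hw
      rw [Finset.mem_insert, Finset.mem_singleton] at hw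
      rcases hw with rfl | rfl
      · exact hxc
      · exact hz'.2
    · rw [h2 c hc, Finset.card_pair hzx.symm]
  -- a fourth member
  have hcard : ({a, b, c} : Finset J).card < I.card := by
    have := Finset.card_le_three (a := a) (b := b) (c := c)
    omega
  obtain ⟨d, hd, hdn⟩ := Finset.exists_mem_notMem_of_card_lt_card hcard
  simp only [Finset.mem_insert, Finset.mem_singleton, not_or] at hdn
  have key : ∀ e ∈ I, d ≠ e → ∀ u v : Pt, u ≠ v → s e = {u, v} → ¬ (u ∈ s d ∧ v ∈ s d) := by
    intro e he hde u v huv hse h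
    have h3 := h1 d hd e he hde
    have h4 : ({u, v} : Finset Pt) ⊆ s d ∩ s e := by
      intro w hw
      rw [Finset.mem_inter, hse]
      refine ⟨?_, hw⟩
      rw [Finset.mem_insert, Finset.mem_singleton] at hw
      rcases hw with rfl | rfl
      · exact h.1
      · exact h.2
    have h5 := Finset.card_le_card h4
    rw [h3, Finset.card_pair huv] at h5
    omega
  have hmeet : ∀ e ∈ I, d ≠ e → ∀ u v : Pt, s e = {u, v} → u ∈ s d ∨ v ∈ s d := by
    intro e he hde u v hse
    obtain ⟨w, hw⟩ := Finset.card_eq_one.1 (h1 d hd e he hde)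
    have hw' : w ∈ s d ∩ s e := by rw [hw]; exact Finset.mem_singleton_self _
    rw [Finset.mem_inter, hse, Finset.mem_insert, Finset.mem_singleton] at hw'
    rcases hw'.2 with rfl | rfl
    · exact Or.inl hw'.1
    · exact Or.inr hw'.1
  have k1 := key a ha hdn.1 x y hxy hs
  have k2 := key b hb hdn.2.1 y z hzy.symm hsb
  have k3 := key c hc hdn.2.2 x z hzx.symm hsc
  have m1 := hmeet a ha hdn.1 x y hs
  have m2 := hmeet b hb hdn.2.1 y z hsb
  have m3 := hmeet c hc hdn.2.2 x z hsc
  tauto

end star

section main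

variable {Pt : Type*} [DecidableEq Pt] {A : Type*} [CommGroup A]

/-- The product of the `e i` over a symmetric difference. -/
theorem prod_symmDiff {e : Pt → A} (hsq : ∀ i, e i * e i = 1) (S T : Finset Pt) :
    ∏ i ∈ symmDiff S T, e i = (∏ i ∈ S, e i) * ∏ i ∈ T, e i := by
  classical
  have h1 : ∏ i ∈ S, e i = (∏ i ∈ S \ T, e i) * ∏ i ∈ S ∩ T, e i := by
    rw [← Finset.prod_union]
    · rw [Finset.sdiff_union_inter]
    · exact Finset.disjoint_sdiff_inter S T
  have h2 : ∏ i ∈ T, e i = (∏ i ∈ T \ S, e i) * ∏ i ∈ S ∩ T, e i := by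
    rw [Finset.inter_comm, ← Finset.prod_union]
    · rw [Finset.sdiff_union_inter]
    · exact Finset.disjoint_sdiff_inter T S
  have h3 : (∏ i ∈ S ∩ T, e i) * ∏ i ∈ S ∩ T, e i = 1 := by
    rw [← Finset.prod_mul_distrib]
    exact Finset.prod_eq_one fun i _ => hsq i
  have h4 : ∏ i ∈ symmDiff S T, e i = (∏ i ∈ S \ T, e i) * ∏ i ∈ T \ S, e i := by
    rw [symmDiff_def, Finset.sup_eq_union, Finset.prod_union disjoint_sdiff_sdiff]
  rw [h1, h2, h4]
  calc (∏ i ∈ S \ T, e i) * ∏ i ∈ T \ S, e i
      = (∏ i ∈ S \ T, e i) * (∏ i ∈ T \ S, e i) * 1 := (mul_one _).symm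
    _ = _ := by rw [← h3]; ac_rfl

theorem card_symmDiff_parity (S T : Finset Pt) :
    (symmDiff S T).card % 2 = (S.card + T.card) % 2 := by
  have h1 := Finset.card_sdiff_add_card_inter S T
  have h2 := Finset.card_sdiff_add_card_inter T S
  rw [Finset.inter_comm T S] at h2
  have h4 : (symmDiff S T).card = (S \ T).card + (T \ S).card := by
    rw [symmDiff_def, Finset.sup_eq_union, Finset.card_union_of_disjoint disjoint_sdiff_sdiff]
  omega

/-- An automorphism of the even cocode preserving the set of duads is induced by a permutation of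
the points. -/
theorem exists_perm [Fintype Pt] (hPt : 5 ≤ Fintype.card Pt) {e : Pt → A} (hsq : ∀ i, e i * e i = 1)
    (hmin : ∀ S : Finset Pt, Even S.card → S.card ≤ 6 → ∏ i ∈ S, e i = 1 → S = ∅)
    (g : A →* A)
    (hD : ∀ i j, i ≠ j → ∃ k l, k ≠ l ∧ g (e i * e j) = e k * e l) :
    ∃ π : Equiv.Perm Pt, ∀ i j, g (e i * e j) = e (π i) * e (π j) := by
  classical
  have hprod2 : ∀ S : Finset Pt, S.card = 2 → ∃ k l, k ≠ l ∧ S = {k, l} ∧
      ∏ i ∈ S, e i = e k * e l := by
    intro S hS
    obtain ⟨k, l, hkl, rfl⟩ := Finset.card_eq_two.1 hS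
    exact ⟨k, l, hkl, rfl, Finset.prod_pair hkl⟩
  -- the pair of points of the image
  have hD' : ∀ i j, i ≠ j → ∃ S : Finset Pt, S.card = 2 ∧ g (e i * e j) = ∏ k ∈ S, e k := by
    intro i j hij
    obtain ⟨k, l, hkl, h⟩ := hD i j hij
    exact ⟨{k, l}, Finset.card_pair hkl, by rw [h, Finset.prod_pair hkl]⟩
  choose! s hs2 hs using hD'
  -- products of pairs are determined by the pairs
  have hinj : ∀ S T : Finset Pt, S.card = 2 → T.card = 2 →
      ∏ i ∈ S, e i = ∏ i ∈ T, e i → S = T := by
    intro S T hS hT h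
    have h1 : ∏ i ∈ symmDiff S T, e i = 1 := by
      rw [prod_symmDiff hsq, h, ← prod_symmDiff hsq, symmDiff_self]
      exact Finset.prod_empty
    have h2 : symmDiff S T = ∅ := by
      apply hmin _ _ _ h1
      · rw [Nat.even_iff, card_symmDiff_parity, hS, hT]
      · have := Finset.card_le_card (Finset.symmDiff_subset_union (s := S) (t := T))
        have := Finset.card_union_le S T
        omega
    have h3 : symmDiff S T = ⊥ := h2
    exact symmDiff_eq_bot.1 h3
  have hmul : ∀ i j k, i ≠ j → i ≠ k → j ≠ k →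
      (∏ a ∈ s i j, e a) * (∏ a ∈ s i k, e a) = ∏ a ∈ s j k, e a := by
    intro i j k hij hik hjk
    rw [← hs i j hij, ← hs i k hik, ← hs j k hjk, ← map_mul]
    congr 1
    calc e i * e j * (e i * e k) = (e i * e i) * (e j * e k) := by ac_rfl
      _ = e j * e k := by rw [hsq, one_mul]
  -- two pairs with a common point have images with exactly one common point
  have hone : ∀ i j k, i ≠ j → i ≠ k → j ≠ k → (s i j ∩ s i k).card = 1 := by
    intro i j k hij hik hjk
    have h1 : ∏ a ∈ symmDiff (symmDiff (s i j) (s i k)) (s j k), e a = 1 := by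
      rw [prod_symmDiff hsq, prod_symmDiff hsq, hmul i j k hij hik hjk, ← prod_symmDiff hsq,
        symmDiff_self]
      exact Finset.prod_empty
    have hle : (symmDiff (symmDiff (s i j) (s i k)) (s j k)).card ≤ 6 := by
      have h2 := Finset.card_le_card
        (Finset.symmDiff_subset_union (s := symmDiff (s i j) (s i k)) (t := s j k))
      have h3 := Finset.card_union_le (symmDiff (s i j) (s i k)) (s j k)
      have h4 := Finset.card_le_card
        (Finset.symmDiff_subset_union (s := s i j) (t := s i k))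
      have h5 := Finset.card_union_le (s i j) (s i k)
      have h6 := hs2 i j hij
      have h7 := hs2 i k hik
      have h8 := hs2 j k hjk
      omega
    have hev : Even (symmDiff (symmDiff (s i j) (s i k)) (s j k)).card := by
      rw [Nat.even_iff, card_symmDiff_parity, Nat.add_mod, card_symmDiff_parity, hs2 i j hij,
        hs2 i k hik, hs2 j k hjk]
    have h2 : symmDiff (symmDiff (s i j) (s i k)) (s j k) = ⊥ := hmin _ hev hle h1
    have h3 := symmDiff_eq_bot.1 h2
    have h4 : (symmDiff (s i j) (s i k)).card = 2 := by rw [h3]; exact hs2 j k hjk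
    have h5 : (symmDiff (s i j) (s i k)).card = (s i j \ s i k).card + (s i k \ s i j).card := by
      rw [symmDiff_def, Finset.sup_eq_union, Finset.card_union_of_disjoint disjoint_sdiff_sdiff]
    have h6 := Finset.card_sdiff_add_card_inter (s i j) (s i k)
    have h7 := Finset.card_sdiff_add_card_inter (s i k) (s i j)
    rw [Finset.inter_comm (s i k) (s i j)] at h7
    have h8 := hs2 i j hij
    have h9 := hs2 i k hik
    omega
  -- the image of a point
  have hpt : ∀ i, ∃ p, ∀ j, j ≠ i → p ∈ s i j := by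
    intro i
    obtain ⟨p, hp⟩ := exists_common (univ.erase i) (by
      rw [Finset.card_erase_of_mem (mem_univ _), Finset.card_univ]; omega) (fun j => s i j)
      (fun j hj => hs2 i j (Finset.ne_of_mem_erase hj).symm)
      (fun j hj k hk hjk => hone i j k (Finset.ne_of_mem_erase hj).symm
        (Finset.ne_of_mem_erase hk).symm hjk)
    exact ⟨p, fun j hj => hp j (Finset.mem_erase.2 ⟨hj, mem_univ _⟩)⟩
  choose π hπ using hpt
  have hsymm : ∀ i j, i ≠ j → s i j = s j i := by
    intro i j hij
    apply hinj _ _ (hs2 i j hij) (hs2 j i hij.symm)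
    rw [← hs i j hij, ← hs j i hij.symm, mul_comm]
  have hinj' : Function.Injective π := by
    intro i j hij
    by_contra hne
    -- all `s i k` and `s j k` contain the same point `p`
    obtain ⟨k, hk⟩ : ∃ k, k ≠ i ∧ k ≠ j := by
      have : ({i, j} : Finset Pt).card < (univ : Finset Pt).card := by
        rw [Finset.card_pair hne, Finset.card_univ]; omega
      obtain ⟨k, -, hk⟩ := Finset.exists_mem_notMem_of_card_lt_card this
      simp only [Finset.mem_insert, Finset.mem_singleton, not_or] at hk
      exact ⟨k, hk⟩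
    -- `s i j ∩ s i k = {p}`, `s i j ∩ s j k = {p}`, so `s i k ∩ s j k` contains `p`, but
    -- `s i j = s i k ∆ s j k`
    have h1 : π i ∈ s i j := hπ i j (Ne.symm hne)
    have h2 : π i ∈ s i k := hπ i k hk.1
    have h3 : π i ∈ s j k := by rw [hij]; exact hπ j k hk.2
    have h4 : (∏ a ∈ s i k, e a) * (∏ a ∈ s j k, e a) = ∏ a ∈ s i j, e a := by
      rw [← hs i k hk.1.symm, ← hs j k hk.2.symm, ← hs i j hne, ← map_mul]
      congr 1
      calc e i * e k * (e j * e k) = (e i * e j) * (e k * e k) := by ac_rfl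
        _ = e i * e j := by rw [hsq, mul_one]
    have h5 : ∏ a ∈ symmDiff (symmDiff (s i k) (s j k)) (s i j), e a = 1 := by
      rw [prod_symmDiff hsq, prod_symmDiff hsq, h4, ← prod_symmDiff hsq, symmDiff_self]
      exact Finset.prod_empty
    have h6 : symmDiff (symmDiff (s i k) (s j k)) (s i j) = ⊥ := by
      apply hmin _ _ _ h5
      · rw [Nat.even_iff, card_symmDiff_parity, Nat.add_mod, card_symmDiff_parity,
          hs2 i k hk.1.symm, hs2 j k hk.2.symm, hs2 i j hne]
      · have h2 := Finset.card_le_card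
          (Finset.symmDiff_subset_union (s := symmDiff (s i k) (s j k)) (t := s i j))
        have h3 := Finset.card_union_le (symmDiff (s i k) (s j k)) (s i j)
        have h4 := Finset.card_le_card
          (Finset.symmDiff_subset_union (s := s i k) (t := s j k))
        have h5 := Finset.card_union_le (s i k) (s j k)
        have h6 := hs2 i k hk.1.symm
        have h7 := hs2 j k hk.2.symm
        have h8 := hs2 i j hne
        omega
    have h7 := symmDiff_eq_bot.1 h6
    rw [← h7, Finset.mem_symmDiff] at h1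
    tauto
  have hbij : Function.Bijective π := Finite.injective_iff_bijective.1 hinj'
  refine ⟨Equiv.ofBijective π hbij, fun i j => ?_⟩
  rw [Equiv.ofBijective_apply, Equiv.ofBijective_apply]
  by_cases hij : i = j
  · rw [hij, hsq, hsq, map_one]
  · have h1 : s i j = {π i, π j} := by
      symm
      apply Finset.eq_of_subset_of_card_le
      · intro w hw
        rw [Finset.mem_insert, Finset.mem_singleton] at hw
        rcases hw with rfl | rfl
        · exact hπ i j (Ne.symm hij)
        · rw [hsymm i j hij]; exact hπ j i hij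
      · rw [hs2 i j hij, Finset.card_pair (hinj'.ne hij)]
    rw [hs i j hij, h1, Finset.prod_pair (hinj'.ne hij)]

/-- The action on even subsets. -/
theorem map_prod {e : Pt → A} (g : A →* A) (π : Equiv.Perm Pt)
    (hπ : ∀ i j, g (e i * e j) = e (π i) * e (π j)) (S : Finset Pt) (hS : Even S.card) :
    g (∏ i ∈ S, e i) = ∏ i ∈ S.map π.toEmbedding, e i := by
  classical
  have key : ∀ n : ℕ, ∀ S : Finset Pt, S.card = 2 * n →
      g (∏ i ∈ S, e i) = ∏ i ∈ S.map π.toEmbedding, e i := by
    intro n
    induction n with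
    | zero =>
      intro S hS
      have hS0 : S = ∅ := Finset.card_eq_zero.1 (by omega)
      rw [hS0]
      simp
    | succ n ih =>
      intro S hS
      obtain ⟨i, hi⟩ : S.Nonempty := Finset.card_pos.1 (by omega)
      have h1 : (S.erase i).card = 2 * n + 1 := by
        rw [Finset.card_erase_of_mem hi]; omega
      obtain ⟨j, hj⟩ : (S.erase i).Nonempty := Finset.card_pos.1 (by omega)
      have h2 : ((S.erase i).erase j).card = 2 * n := by
        rw [Finset.card_erase_of_mem hj]; omega
      rw [Finset.prod_map]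
      have h3 := ih _ h2
      rw [Finset.prod_map] at h3
      rw [← Finset.mul_prod_erase S e hi, ← Finset.mul_prod_erase (S.erase i) e hj,
        ← mul_assoc, map_mul, h3, hπ, mul_assoc]
      rw [← Finset.mul_prod_erase S (fun x => e (π.toEmbedding x)) hi,
        ← Finset.mul_prod_erase (S.erase i) (fun x => e (π.toEmbedding x)) hj]
      rfl
  obtain ⟨n, hn⟩ := hS
  exact key n S (by omega)

end main

/-! ### The Golay cocode -/

section golay

variable {A : Type*} [CommGroup A]

/-- `e` presents (on even sets) the even cocode of the Golay code. -/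
structure IsCocode (e : Cfsg.GolayPt → A) : Prop where
  sq : ∀ i, e i * e i = 1
  ker : ∀ S : Finset Cfsg.GolayPt, Even S.card →
    (∏ i ∈ S, e i = 1 ↔ S ∈ Cfsg.supports (Cfsg.golayCode : Set (Cfsg.GolayPt → ZMod 2)))

theorem IsCocode.eq_empty {e : Cfsg.GolayPt → A} (he : IsCocode e) (S : Finset Cfsg.GolayPt)
    (hS : Even S.card) (h6 : S.card ≤ 6) (h : ∏ i ∈ S, e i = 1) : S = ∅ := by
  have h1 := (he.ker S hS).1 h
  have h2 := SporadicA.GolayBase.card_of_mem_supports h1
  apply Finset.card_eq_zero.1
  omega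

theorem IsCocode.exists_perm {e : Cfsg.GolayPt → A} (he : IsCocode e) (g : A →* A)
    (hD : ∀ i j, i ≠ j → ∃ k l, k ≠ l ∧ g (e i * e j) = e k * e l) :
    ∃ π : Equiv.Perm Cfsg.GolayPt, π ∈ Cfsg.M24 ∧ ∀ i j, g (e i * e j) = e (π i) * e (π j) := by
  obtain ⟨π, hπ⟩ := DuadStab.exists_perm (by decide +kernel) he.sq
    (fun S h1 h2 h3 => he.eq_empty S h1 h2 h3) g hD
  refine ⟨π, ?_, hπ⟩
  rw [SporadicA.GolayPerm.mem_M24_iff]
  intro s hs
  have hev : Even s.card := by
    have := SporadicA.GolayBase.card_of_mem_supports hs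
    rw [Nat.even_iff]
    omega
  have h1 := (he.ker s hev).2 hs
  have h2 := map_prod g π hπ s hev
  rw [h1, map_one] at h2
  rw [SporadicA.GolayPerm.smul_finset_eq_map, ← he.ker _ (by rw [Finset.card_map]; exact hev)]
  exact h2.symm

theorem IsCocode.perm_unique {e : Cfsg.GolayPt → A} (he : IsCocode e)
    {π σ : Equiv.Perm Cfsg.GolayPt}
    (h : ∀ i j, e (π i) * e (π j) = e (σ i) * e (σ j)) : π = σ := by
  classical
  have key : ∀ i j, i ≠ j → ({π i, π j} : Finset Cfsg.GolayPt) = {σ i, σ j} := by
    intro i j hij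
    have h1 : ∏ a ∈ symmDiff ({π i, π j} : Finset Cfsg.GolayPt) {σ i, σ j}, e a = 1 := by
      rw [prod_symmDiff he.sq, Finset.prod_pair (π.injective.ne hij),
        Finset.prod_pair (σ.injective.ne hij), h, ← Finset.prod_pair (σ.injective.ne hij),
        ← prod_symmDiff he.sq, symmDiff_self]
      exact Finset.prod_empty
    have hc1 := Finset.card_pair (π.injective.ne hij)
    have hc2 := Finset.card_pair (σ.injective.ne hij)
    have h2 := he.eq_empty _ (by
      rw [Nat.even_iff, card_symmDiff_parity, hc1, hc2]) (by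
      have h3 := Finset.card_le_card (Finset.symmDiff_subset_union
        (s := ({π i, π j} : Finset Cfsg.GolayPt)) (t := {σ i, σ j}))
      have h4 := Finset.card_union_le ({π i, π j} : Finset Cfsg.GolayPt) {σ i, σ j}
      omega) h1
    exact symmDiff_eq_bot.1 h2
  ext1 i
  by_contra hne
  -- `π i ∈ {σ i, σ j}` for all `j ≠ i`
  have h1 : ∀ j, j ≠ i → π i = σ j := by
    intro j hj
    have h2 : π i ∈ ({σ i, σ j} : Finset Cfsg.GolayPt) := by
      rw [← key i j hj.symm]
      exact Finset.mem_insert_self _ _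
    rw [Finset.mem_insert, Finset.mem_singleton] at h2
    exact h2.resolve_left hne
  obtain ⟨j, k, hj, hk, hjk⟩ : ∃ j k : Cfsg.GolayPt, j ≠ i ∧ k ≠ i ∧ j ≠ k := by
    have : ∀ i : Cfsg.GolayPt, ∃ j k : Cfsg.GolayPt, j ≠ i ∧ k ≠ i ∧ j ≠ k := by decide +kernel
    exact this i
  exact hjk (σ.injective ((h1 j hj).symm.trans (h1 k hk)))

/-- A group of automorphisms of the even cocode preserving the duads acts through `M24`. -/
theorem IsCocode.exists_hom {X : Type*} [Group X] [MulDistribMulAction X A]
    {e : Cfsg.GolayPt → A} (he : IsCocode e)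
    (hgen : ∀ a : A, ∃ S : Finset Cfsg.GolayPt, Even S.card ∧ a = ∏ i ∈ S, e i)
    (hD : ∀ (x : X) (i j : Cfsg.GolayPt), i ≠ j → ∃ k l, k ≠ l ∧ x • (e i * e j) = e k * e l) :
    ∃ f : X →* Cfsg.M24,
      (∀ (x : X) (S : Finset Cfsg.GolayPt), Even S.card →
        x • ∏ i ∈ S, e i = ∏ i ∈ S, e ((f x : Equiv.Perm Cfsg.GolayPt) i)) ∧
      ∀ x, f x = 1 ↔ ∀ a : A, x • a = a := by
  classical
  have h1 : ∀ x : X, ∃ π : Equiv.Perm Cfsg.GolayPt, π ∈ Cfsg.M24 ∧
      ∀ i j, x • (e i * e j) = e (π i) * e (π j) := fun x =>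
    he.exists_perm (MulDistribMulAction.toMonoidHom A x) (hD x)
  choose π hπ hπe using h1
  let f : X →* Cfsg.M24 :=
    { toFun := fun x => ⟨π x, hπ x⟩
      map_one' := by
        apply Subtype.ext
        apply he.perm_unique
        intro i j
        rw [← hπe, one_smul]
        rfl
      map_mul' := by
        intro x y
        apply Subtype.ext
        apply he.perm_unique
        intro i j
        rw [← hπe, mul_smul, hπe y, hπe x]
        rfl }
  have hf : ∀ (x : X) (S : Finset Cfsg.GolayPt), Even S.card →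
        x • ∏ i ∈ S, e i = ∏ i ∈ S, e ((f x : Equiv.Perm Cfsg.GolayPt) i) := by
    intro x S hS
    have h2 := map_prod (MulDistribMulAction.toMonoidHom A x) (π x) (hπe x) S hS
    rw [Finset.prod_map] at h2
    exact h2
  refine ⟨f, hf, fun x => ⟨fun hx a => ?_, fun hx => ?_⟩⟩
  · obtain ⟨S, hS, rfl⟩ := hgen a
    rw [hf x S hS, hx]
    rfl
  · apply Subtype.ext
    apply he.perm_unique
    intro i j
    rw [show (f x : Equiv.Perm Cfsg.GolayPt) = π x from rfl, ← hπe, hx]
    rfl

end golay

end Cfsg.Agent.J4Type.DuadStab
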