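import Cfsg.Agent.J4Type.Closing
import Cfsg.Agent.J4Type.DuadStab
import Cfsg.Agent.S0363

/-!
# The closing argument for the even Golay cocode (helper552)

Facts on the even cocode (`IsCocode` of `DuadStab`): every even product is `1`, a duad or a product
over a 4-set; duads are not products over 4-sets; and the instance `eq_top_of_cocode` of
`eq_top_of_closing`.
-/

set_option autoImplicit false

namespace Cfsg.Agent.J4Type.ClosingCocode

open Cfsg Cfsg.Agent.J4Type.DuadStab Cfsg.Agent.J4Type.Closing Finset

variable {A : Type*} [CommGroup A] {e : GolayPt → A}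

/-- `a` is a product over a 4-set ("sextet"). -/
def IsSextet (e : GolayPt → A) (a : A) : Prop :=
  ∃ S : Finset GolayPt, S.card = 4 ∧ a = ∏ i ∈ S, e i

/-- `a` is a product over a 2-set ("duad"). -/
def IsDuad (e : GolayPt → A) (a : A) : Prop :=
  ∃ i j : GolayPt, i ≠ j ∧ a = e i * e j

theorem IsDuad.ne_one (he : IsCocode e) {a : A} (h : IsDuad e a) : a ≠ 1 := by
  obtain ⟨i, j, hij, rfl⟩ := h
  intro h1
  have h2 := he.eq_empty {i, j} (by rw [Finset.card_pair hij]; decide)
    (by rw [Finset.card_pair hij]; omega) (by rw [Finset.prod_pair hij]; exact h1)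
  have := congrArg Finset.card h2
  rw [Finset.card_pair hij] at this
  simp at this

theorem IsSextet.ne_one (he : IsCocode e) {a : A} (h : IsSextet e a) : a ≠ 1 := by
  obtain ⟨S, hS, rfl⟩ := h
  intro h1
  have h2 := he.eq_empty S (by rw [hS]; decide) (by omega) h1
  rw [h2] at hS
  simp at hS

theorem IsDuad.not_sextet (he : IsCocode e) {a : A} (h : IsDuad e a) : ¬ IsSextet e a := by
  rintro ⟨S, hS, hSa⟩
  obtain ⟨i, j, hij, rfl⟩ := h
  have h1 : ∏ k ∈ symmDiff ({i, j} : Finset GolayPt) S, e k = 1 := by
    rw [prod_symmDiff he.sq, Finset.prod_pair hij, hSa, ← prod_symmDiff he.sq, symmDiff_self]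
    exact Finset.prod_empty
  have h2 := he.eq_empty _ (by
      rw [Nat.even_iff, card_symmDiff_parity, hS, Finset.card_pair hij])
    (by
      have h3 := Finset.card_le_card (Finset.symmDiff_subset_union
        (s := ({i, j} : Finset GolayPt)) (t := S))
      have h4 := Finset.card_union_le ({i, j} : Finset GolayPt) S
      have h5 := Finset.card_pair hij
      omega) h1
  have h3 : ({i, j} : Finset GolayPt) = S := symmDiff_eq_bot.1 h2
  have := congrArg Finset.card h3
  rw [Finset.card_pair hij] at this
  omega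

/-- Reduction of even sets modulo the Golay code. -/
theorem exists_small (he : IsCocode e) (S : Finset GolayPt) (hS : Even S.card) :
    ∃ T : Finset GolayPt, (T.card = 0 ∨ T.card = 2 ∨ T.card = 4) ∧
      ∏ i ∈ S, e i = ∏ i ∈ T, e i := by
  classical
  have key : ∀ n : ℕ, ∀ S : Finset GolayPt, S.card ≤ n → Even S.card →
      ∃ T : Finset GolayPt, (T.card = 0 ∨ T.card = 2 ∨ T.card = 4) ∧
        ∏ i ∈ S, e i = ∏ i ∈ T, e i := by
    intro n
    induction n with
    | zero =>
      intro S h0 _
      exact ⟨S, Or.inl (by omega), rfl⟩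
    | succ n ih =>
      intro S hn hev
      by_cases h5 : S.card < 5
      · refine ⟨S, ?_, rfl⟩
        rw [Nat.even_iff] at hev
        omega
      push Not at h5
      obtain ⟨T, hTS, hT5⟩ := Finset.exists_subset_card_eq h5
      obtain ⟨O, ⟨hO, hTO⟩, -⟩ := Cfsg.Agent.S0363.result.2 T hT5
      have hO8 : O.card = 8 := Cfsg.Agent.S0363.result.1 O hO
      have hOs : O ∈ supports (golayCode : Set (GolayPt → ZMod 2)) := hO.1
      have hOp : ∏ i ∈ O, e i = 1 := (he.ker O (by rw [hO8]; decide)).2 hOs
      have hcard : (symmDiff S O).card + 2 * (S ∩ O).card = S.card + O.card := by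
        have h6 := Finset.card_sdiff_add_card_inter S O
        have h7 := Finset.card_sdiff_add_card_inter O S
        rw [Finset.inter_comm O S] at h7
        have h8 : (symmDiff S O).card = (S \ O).card + (O \ S).card := by
          rw [symmDiff_def, Finset.sup_eq_union, Finset.card_union_of_disjoint
            disjoint_sdiff_sdiff]
        omega
      have hint : 5 ≤ (S ∩ O).card := by
        rw [← hT5]
        exact Finset.card_le_card (Finset.subset_inter hTS hTO)
      obtain ⟨T', hT', hp⟩ := ih (symmDiff S O) (by omega) (by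
        rw [Nat.even_iff] at hev ⊢
        rw [card_symmDiff_parity, Nat.add_mod, hev, hO8])
      refine ⟨T', hT', ?_⟩
      rw [← hp, prod_symmDiff he.sq, hOp, mul_one]
  exact key _ S le_rfl hS

theorem trichotomy (he : IsCocode e)
    (hgen : ∀ a : A, ∃ S : Finset GolayPt, Even S.card ∧ a = ∏ i ∈ S, e i) (a : A) :
    a = 1 ∨ IsDuad e a ∨ IsSextet e a := by
  obtain ⟨S, hS, rfl⟩ := hgen a
  obtain ⟨T, hT, hp⟩ := exists_small he S hS
  rw [hp]
  rcases hT with hT | hT | hT
  · left
    rw [Finset.card_eq_zero.1 hT]; rfl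
  · right; left
    obtain ⟨i, j, hij, rfl⟩ := Finset.card_eq_two.1 hT
    exact ⟨i, j, hij, Finset.prod_pair hij⟩
  · right; right
    exact ⟨T, hT, rfl⟩

/-- four distinct points give a sextet -/
theorem sextet_mk {a b c d : GolayPt} (hab : a ≠ b) (hac : a ≠ c) (had : a ≠ d) (hbc : b ≠ c)
    (hbd : b ≠ d) (hcd : c ≠ d) : IsSextet e (e a * e b * (e c * e d)) := by
  have h1 : b ∉ ({c, d} : Finset GolayPt) := by simp [hbc, hbd]
  have h2 : a ∉ ({b, c, d} : Finset GolayPt) := by simp [hab, hac, had]
  refine ⟨{a, b, c, d}, ?_, ?_⟩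
  · rw [Finset.card_insert_of_notMem h2, Finset.card_insert_of_notMem h1, Finset.card_pair hcd]
  · rw [Finset.prod_insert h2, Finset.prod_insert h1, Finset.prod_pair hcd, mul_assoc]

/-- A permutation of square one leaves a 4-set invariant. -/
theorem exists_inv_four (π : Equiv.Perm GolayPt) (h : ∀ i, π (π i) = i) :
    ∃ S : Finset GolayPt, S.card = 4 ∧ S.map π.toEmbedding = S := by
  classical
  have hcardG : Fintype.card GolayPt = 24 := by decide +kernel
  -- a `π`-invariant pair inside any invariant set of size at least 2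
  have step : ∀ T : Finset GolayPt, T.card ≤ 2 → (∀ i ∈ T, π i ∈ T) →
      ∃ i j, i ≠ j ∧ i ∉ T ∧ j ∉ T ∧ ((π i = j ∧ π j = i) ∨ (π i = i ∧ π j = j)) := by
    intro T hT hinv
    by_cases hex : ∃ i, i ∉ T ∧ π i ≠ i
    · obtain ⟨i, hi, hpi⟩ := hex
      refine ⟨i, π i, hpi.symm, hi, ?_, Or.inl ⟨rfl, h i⟩⟩
      intro hmem
      have := hinv _ hmem
      rw [h i] at this
      exact hi this
    · push Not at hex
      have h1 : T.card < (Finset.univ : Finset GolayPt).card := by
        rw [Finset.card_univ, hcardG]; omega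
      obtain ⟨i, -, hi⟩ := Finset.exists_mem_notMem_of_card_lt_card h1
      have h2 : (insert i T).card < (Finset.univ : Finset GolayPt).card := by
        rw [Finset.card_univ, hcardG]
        have := Finset.card_insert_le i T
        omega
      obtain ⟨j, -, hj⟩ := Finset.exists_mem_notMem_of_card_lt_card h2
      rw [Finset.mem_insert, not_or] at hj
      exact ⟨i, j, fun h => hj.1 h.symm, hi, hj.2, Or.inr ⟨hex i hi, hex j hj.2⟩⟩
  obtain ⟨i, j, hij, -, -, hp⟩ := step ∅ (by simp) (by simp)
  obtain ⟨k, l, hkl, hk, hl, hq⟩ := step {i, j} (by rw [Finset.card_pair hij]) (by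
    intro x hx
    rw [Finset.mem_insert, Finset.mem_singleton] at hx ⊢
    rcases hp with ⟨h1, h2⟩ | ⟨h1, h2⟩ <;> rcases hx with rfl | rfl
    · exact Or.inr h1
    · exact Or.inl h2
    · exact Or.inl h1
    · exact Or.inr h2)
  simp only [Finset.mem_insert, Finset.mem_singleton, not_or] at hk hl
  have hc : ({i, j, k, l} : Finset GolayPt).card = 4 := by
    have h1 : j ∉ ({k, l} : Finset GolayPt) := by simp [Ne.symm hk.2, Ne.symm hl.2]
    have h2 : i ∉ ({j, k, l} : Finset GolayPt) := by simp [hij, Ne.symm hk.1, Ne.symm hl.1]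
    rw [Finset.card_insert_of_notMem h2, Finset.card_insert_of_notMem h1, Finset.card_pair hkl]
  refine ⟨{i, j, k, l}, hc, ?_⟩
  apply Finset.eq_of_subset_of_card_le
  · intro x hx
    rw [Finset.mem_map] at hx
    obtain ⟨y, hy, rfl⟩ := hx
    simp only [Finset.mem_insert, Finset.mem_singleton] at hy
    simp only [Finset.mem_insert, Finset.mem_singleton, Equiv.toEmbedding_apply]
    rcases hp with ⟨h1, h2⟩ | ⟨h1, h2⟩ <;> rcases hq with ⟨h3, h4⟩ | ⟨h3, h4⟩ <;>
      rcases hy with rfl | rfl | rfl | rfl <;> simp [h1, h2, h3, h4]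
  · rw [Finset.card_map]

/-- **Closing, cocode form.** -/
theorem eq_top_of_cocode {G : Type*} [Group G] [Finite G] (he : IsCocode e)
    (hgen : ∀ a : A, ∃ S : Finset GolayPt, Even S.card ∧ a = ∏ i ∈ S, e i)
    (ι : A →* G) (hι : Function.Injective ι) (H : Subgroup G) (Z : Set G)
    (hZA : ∀ a : A, ι a ∈ Z ↔ IsSextet e a)
    (hZn : ∀ y ∈ Z, ∀ g : G, g * y * g⁻¹ ∈ Z)
    (huniq : ∀ y ∈ Z, y ∈ H → ∀ g : G, g * y * g⁻¹ ∈ H → g ∈ H)
    (hEH : ι.range ≤ H)
    (hconj : ∀ y ∈ H, y * y = 1 → y ≠ 1 → ∃ h ∈ H, h * y * h⁻¹ ∈ ι.range)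
    (hF3 : ∀ u : A, IsDuad e u → ∀ h ∈ H, h * ι u = ι u * h →
      ∀ v ∈ ι.range, h * v * h⁻¹ ∈ ι.range) : H = ⊤ := by
  classical
  have htri := trichotomy he hgen
  have hsq : ∀ a : A, a * a = 1 := by
    intro a
    obtain ⟨S, -, rfl⟩ := hgen a
    rw [← Finset.prod_mul_distrib]
    exact Finset.prod_eq_one fun i _ => he.sq i
  have hnotZ : ∀ a : A, ι a ∉ Z → a = 1 ∨ IsDuad e a := by
    intro a ha
    rcases htri a with h | h | h
    · exact Or.inl h
    · exact Or.inr h
    · exact absurd ((hZA a).2 h) ha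
  have hcardG : Fintype.card GolayPt = 24 := by decide +kernel
  have hpick : ∀ T : Finset GolayPt, T.card < 24 → ∃ x, x ∉ T := by
    intro T hT
    obtain ⟨x, -, hx⟩ := Finset.exists_mem_notMem_of_card_lt_card
      (s := T) (t := Finset.univ) (by rw [Finset.card_univ, hcardG]; exact hT)
    exact ⟨x, hx⟩
  have hZ1 : (1 : G) ∉ Z := by
    intro h
    rw [← map_one ι, hZA] at h
    exact h.ne_one he rfl
  -- four fixed points
  obtain ⟨p0, -⟩ := hpick ∅ (by simp)
  obtain ⟨p1, hp1⟩ := hpick {p0} (by rw [Finset.card_singleton]; omega)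
  obtain ⟨p2, hp2⟩ := hpick {p0, p1} (by
    have := Finset.card_le_two (a := p0) (b := p1); omega)
  obtain ⟨p3, hp3⟩ := hpick {p0, p1, p2} (by
    have := Finset.card_le_three (a := p0) (b := p1) (c := p2); omega)
  simp only [Finset.mem_insert, Finset.mem_singleton, not_or] at hp1 hp2 hp3
  have hsext : IsSextet e (e p0 * e p1 * (e p2 * e p3)) :=
    sextet_mk (Ne.symm hp1) (Ne.symm hp2.1) (Ne.symm hp3.1) (Ne.symm hp2.2) (Ne.symm hp3.2.1)
      (Ne.symm hp3.2.2)
  apply eq_top_of_closing H ι.range Z hZn huniq hEH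
  · rintro _ ⟨a, rfl⟩
    rw [← map_mul, hsq, map_one]
  · exact hconj
  · rintro _ ⟨u, rfl⟩ hu1 huZ h hh hcomm
    rcases hnotZ u huZ with h1 | h1
    · exact absurd (by rw [h1, map_one]) hu1
    · exact hF3 u h1 h hh hcomm
  · exact hZ1
  · exact ⟨_, ⟨_, rfl⟩, (hZA _).2 hsext⟩
  · refine ⟨ι (e p0 * e p1), ⟨_, rfl⟩, ?_, ?_⟩
    · intro h
      rw [← map_one ι] at h
      exact (IsDuad.ne_one he ⟨p0, p1, Ne.symm hp1, rfl⟩) (hι h)
    · intro h
      exact IsDuad.not_sextet he ⟨p0, p1, Ne.symm hp1, rfl⟩ ((hZA _).1 h)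
  · -- involutory automorphisms centralise a sextet
    intro t ht hnorm
    have hg : ∀ a : A, ∃ b : A, ι b = t * ι a * t⁻¹ := fun a => hnorm _ ⟨a, rfl⟩
    choose g hgι using hg
    let gh : A →* A :=
      { toFun := g
        map_one' := by
          apply hι
          rw [hgι, map_one]; group
        map_mul' := by
          intro x y
          apply hι
          rw [map_mul, hgι, hgι, hgι, map_mul]; group }
    have hgg : ∀ a, g (g a) = a := by
      intro a
      apply hι
      rw [hgι, hgι]
      have : t⁻¹ = t := inv_eq_of_mul_eq_one_left ht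
      calc t * (t * ι a * t⁻¹) * t⁻¹ = (t * t) * ι a * (t⁻¹ * t⁻¹) := by group
        _ = ι a := by rw [this, ht, one_mul, mul_one]
    have hduad : ∀ i j, i ≠ j → ∃ k l, k ≠ l ∧ gh (e i * e j) = e k * e l := by
      intro i j hij
      have hd : IsDuad e (e i * e j) := ⟨i, j, hij, rfl⟩
      have h1 : ι (g (e i * e j)) ∉ Z := by
        intro h
        rw [hgι] at h
        have h2 := hZn _ h t⁻¹
        have h3 : t⁻¹ * (t * ι (e i * e j) * t⁻¹) * t⁻¹⁻¹ = ι (e i * e j) := by group
        rw [h3, hZA] at h2
        exact hd.not_sextet he h2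
      rcases hnotZ _ h1 with h2 | h2
      · exfalso
        have := hgg (e i * e j)
        rw [h2] at this
        have h3 : g 1 = 1 := gh.map_one
        rw [h3] at this
        exact hd.ne_one he this.symm
      · exact h2
    obtain ⟨π, -, hπ⟩ := he.exists_perm gh hduad
    have hππ : π * π = 1 := by
      apply he.perm_unique
      intro i j
      have h1 := hgg (e i * e j)
      have h2 : g (e i * e j) = e (π i) * e (π j) := hπ i j
      have h3 : g (e (π i) * e (π j)) = e (π (π i)) * e (π (π j)) := hπ (π i) (π j)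
      rw [h2, h3] at h1
      exact h1
    obtain ⟨S, hS4, hSπ⟩ := exists_inv_four π (fun i => by
      have := congrArg (fun f : Equiv.Perm GolayPt => f i) hππ
      exact this)
    have h4 := map_prod gh π hπ S (by rw [hS4]; decide)
    rw [hSπ] at h4
    refine ⟨ι (∏ i ∈ S, e i), ⟨_, rfl⟩, (hZA _).2 ⟨S, hS4, rfl⟩, ?_⟩
    have h5 : ι (g (∏ i ∈ S, e i)) = ι (∏ i ∈ S, e i) := by
      have : gh (∏ i ∈ S, e i) = g (∏ i ∈ S, e i) := rfl
      rw [← this, h4]
    rw [hgι] at h5
    calc t * ι (∏ i ∈ S, e i) = t * ι (∏ i ∈ S, e i) * t⁻¹ * t := by group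
      _ = _ := by rw [h5]
  · -- the non-homogeneity
    intro S hSE hS1 hSZ
    have hSd : ∀ s ∈ S, s ≠ 1 → ∃ i j, i ≠ j ∧ s = ι (e i * e j) := by
      intro s hs h1
      obtain ⟨a, rfl⟩ := hSE hs
      rcases hnotZ a (hSZ _ hs) with h | ⟨i, j, hij, rfl⟩
      · exact absurd (by rw [h, map_one]) h1
      · exact ⟨i, j, hij, rfl⟩
    have hsext' : ∀ {a b c d : GolayPt}, a ≠ b → a ≠ c → a ≠ d → b ≠ c → b ≠ d → c ≠ d →
        ι (e a * e b * (e c * e d)) ∈ Z := by
      intro a b c d h1 h2 h3 h4 h5 h6
      exact (hZA _).2 (sextet_mk h1 h2 h3 h4 h5 h6)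
    have hduadZ : ∀ {a b : GolayPt}, a ≠ b → ι (e a * e b) ∉ Z := by
      intro a b hab h
      exact IsDuad.not_sextet he ⟨a, b, hab, rfl⟩ ((hZA _).1 h)
    have hduad1 : ∀ {a b : GolayPt}, a ≠ b → ι (e a * e b) ≠ 1 := by
      intro a b hab h
      rw [← map_one ι] at h
      exact IsDuad.ne_one he ⟨a, b, hab, rfl⟩ (hι h)
    -- equality of duads
    have hduadeq : ∀ {a b c d : GolayPt}, a ≠ b → c ≠ d → ι (e a * e b) = ι (e c * e d) →
        (a = c ∧ b = d) ∨ (a = d ∧ b = c) := by
      intro a b c d hab hcd h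
      have h1 : e a * e b = e c * e d := hι h
      have h2 : ∏ k ∈ symmDiff ({a, b} : Finset GolayPt) {c, d}, e k = 1 := by
        rw [prod_symmDiff he.sq, Finset.prod_pair hab, Finset.prod_pair hcd, h1, hsq]
      have h3 := he.eq_empty _ (by
          rw [Nat.even_iff, card_symmDiff_parity, Finset.card_pair hab, Finset.card_pair hcd])
        (by
          have h3 := Finset.card_le_card (Finset.symmDiff_subset_union
            (s := ({a, b} : Finset GolayPt)) (t := {c, d}))
          have h4 := Finset.card_union_le ({a, b} : Finset GolayPt) {c, d}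
          have h5 := Finset.card_pair hab
          have h6 := Finset.card_pair hcd
          omega) h2
      have h4 : ({a, b} : Finset GolayPt) = {c, d} := symmDiff_eq_bot.1 h3
      have h5 : a ∈ ({c, d} : Finset GolayPt) := by rw [← h4]; simp
      have h6 : b ∈ ({c, d} : Finset GolayPt) := by rw [← h4]; simp
      simp only [Finset.mem_insert, Finset.mem_singleton] at h5 h6
      rcases h5 with rfl | rfl <;> rcases h6 with rfl | rfl
      · exact absurd rfl hab
      · exact Or.inl ⟨rfl, rfl⟩
      · exact Or.inr ⟨rfl, rfl⟩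
      · exact absurd rfl hab
    obtain ⟨u, huS, hu1⟩ : ∃ u ∈ S, u ≠ 1 := by
      by_contra h
      push Not at h
      exact hS1 ((Subgroup.eq_bot_iff_forall S).mpr h)
    obtain ⟨a, b, hab, rfl⟩ := hSd u huS hu1
    by_cases hcase : ∀ s ∈ S, s = 1 ∨ s = ι (e a * e b)
    · -- `S = {1, ab}`
      obtain ⟨c, hc⟩ := hpick {a, b} (by
        have := Finset.card_le_two (a := a) (b := b); omega)
      obtain ⟨d, hd⟩ := hpick {a, b, c} (by
        have := Finset.card_le_three (a := a) (b := b) (c := c); omega)
      simp only [Finset.mem_insert, Finset.mem_singleton, not_or] at hc hd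
      have hSmem : ∀ s, s ∈ S ↔ s = 1 ∨ s = ι (e a * e b) := by
        intro s
        constructor
        · exact hcase s
        · rintro (rfl | rfl)
          · exact S.one_mem
          · exact huS
      refine ⟨ι (e a * e c), ⟨_, rfl⟩, ?_, ι (e c * e d), ⟨_, rfl⟩, ?_, ?_⟩
      · rw [hSmem]
        rintro (h | h)
        · exact hduad1 (Ne.symm hc.1) h
        · rcases hduadeq (Ne.symm hc.1) hab h with ⟨-, h⟩ | ⟨h, -⟩
          · exact hc.2 h
          · exact hab h
      · rw [hSmem]
        rintro (h | h)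
        · exact hduad1 (Ne.symm hd.2.2) h
        · rcases hduadeq (Ne.symm hd.2.2) hab h with ⟨h, -⟩ | ⟨h, -⟩
          · exact hc.1 h
          · exact hc.2 h
      · have h1 : {s | s ∈ S ∧ ι (e a * e c) * s ∈ Z} = ∅ := by
          rw [Set.eq_empty_iff_forall_notMem]
          rintro s ⟨hs, hsZ⟩
          rcases hcase s hs with rfl | rfl
          · rw [mul_one] at hsZ
            exact hduadZ (Ne.symm hc.1) hsZ
          · rw [← map_mul] at hsZ
            have : e a * e c * (e a * e b) = e c * e b := by
              calc e a * e c * (e a * e b) = (e a * e a) * (e c * e b) := by ac_rfl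
                _ = _ := by rw [he.sq, one_mul]
            rw [this] at hsZ
            exact hduadZ hc.2 hsZ
        have h2 : ι (e a * e b) ∈ {s | s ∈ S ∧ ι (e c * e d) * s ∈ Z} := by
          refine ⟨huS, ?_⟩
          rw [← map_mul]
          exact hsext' (Ne.symm hd.2.2) hc.1 hc.2 hd.1 hd.2.1 hab
        rw [h1, Set.ncard_empty]
        have h3 : 0 < Set.ncard {s | s ∈ S ∧ ι (e c * e d) * s ∈ Z} :=
          (Set.ncard_pos (Set.toFinite _)).2 ⟨_, h2⟩
        omega
    · -- there is another duad
      push Not at hcase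
      obtain ⟨v, hvS, hv1, hvu⟩ := hcase
      obtain ⟨c, d, hcd, rfl⟩ := hSd v hvS hv1
      -- normalise: `S ∋ xy, xz`
      obtain ⟨x, y, z, hxy, hxz, hyz, hxyS, hxzS⟩ : ∃ x y z : GolayPt, x ≠ y ∧ x ≠ z ∧ y ≠ z ∧
          ι (e x * e y) ∈ S ∧ ι (e x * e z) ∈ S := by
        have hprod : ι (e a * e b * (e c * e d)) ∈ S := by
          rw [map_mul]; exact S.mul_mem huS hvS
        have hprodZ := hSZ _ hprod
        by_cases h1 : a = c
        · subst h1
          refine ⟨a, b, d, hab, hcd, ?_, huS, hvS⟩
          rintro rfl; exact hvu rfl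
        by_cases h2 : a = d
        · subst h2
          refine ⟨a, b, c, hab, h1, ?_, huS, by rw [mul_comm]; exact hvS⟩
          rintro rfl; exact hvu (by rw [mul_comm])
        by_cases h3 : b = c
        · subst h3
          exact ⟨b, a, d, hab.symm, hcd, h2, by rw [mul_comm]; exact huS, hvS⟩
        by_cases h4 : b = d
        · subst h4
          exact ⟨b, a, c, hab.symm, h3, h1, by rw [mul_comm]; exact huS,
            by rw [mul_comm]; exact hvS⟩
        exact absurd (hsext' hab h1 h2 h3 h4 hcd) hprodZ
      have hyzS : ι (e y * e z) ∈ S := by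
        have h1 := S.mul_mem hxyS hxzS
        rw [← map_mul] at h1
        have : e x * e y * (e x * e z) = e y * e z := by
          calc e x * e y * (e x * e z) = (e x * e x) * (e y * e z) := by ac_rfl
            _ = _ := by rw [he.sq, one_mul]
        rwa [this] at h1
      have hSmem : ∀ s ∈ S, s = 1 ∨ s = ι (e x * e y) ∨ s = ι (e x * e z) ∨
          s = ι (e y * e z) := by
        intro s hs
        by_cases hs1 : s = 1
        · exact Or.inl hs1
        right
        obtain ⟨p, q, hpq, rfl⟩ := hSd s hs hs1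
        -- `pq` meets `xy`, `xz`, `yz`
        have hmeet : ∀ {r t : GolayPt}, r ≠ t → ι (e r * e t) ∈ S →
            r = p ∨ r = q ∨ t = p ∨ t = q := by
          intro r t hrt hrtS
          by_contra hcon
          push Not at hcon
          have h1 := S.mul_mem hrtS hs
          rw [← map_mul] at h1
          exact hSZ _ h1 (hsext' hrt hcon.1 hcon.2.1 hcon.2.2.1 hcon.2.2.2 hpq)
        have m1 := hmeet hxy hxyS
        have m2 := hmeet hxz hxzS
        have m3 := hmeet hyz hyzS
        have hcomm : ∀ r t : GolayPt, ι (e r * e t) = ι (e t * e r) := fun r t => by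
          rw [mul_comm]
        by_cases c1 : x = p
        · subst c1
          by_cases c2 : y = q
          · subst c2; exact Or.inl rfl
          by_cases c3 : z = q
          · subst c3; exact Or.inr (Or.inl rfl)
          rcases m3 with h | h | h | h
          · exact absurd h (Ne.symm hxy)
          · exact absurd h c2
          · exact absurd h (Ne.symm hxz)
          · exact absurd h c3
        by_cases c1' : x = q
        · subst c1'
          by_cases c2 : y = p
          · subst c2; exact Or.inl (hcomm _ _)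
          by_cases c3 : z = p
          · subst c3; exact Or.inr (Or.inl (hcomm _ _))
          rcases m3 with h | h | h | h
          · exact absurd h c2
          · exact absurd h (Ne.symm hxy)
          · exact absurd h c3
          · exact absurd h (Ne.symm hxz)
        · have m1' : y = p ∨ y = q := by
            rcases m1 with h | h | h | h
            · exact absurd h c1
            · exact absurd h c1'
            · exact Or.inl h
            · exact Or.inr h
          have m2' : z = p ∨ z = q := by
            rcases m2 with h | h | h | h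
            · exact absurd h c1
            · exact absurd h c1'
            · exact Or.inl h
            · exact Or.inr h
          rcases m1' with rfl | rfl <;> rcases m2' with h | h
          · exact absurd h (Ne.symm hyz)
          · subst h; exact Or.inr (Or.inr rfl)
          · subst h; exact Or.inr (Or.inr (hcomm _ _))
          · exact absurd h (Ne.symm hyz)
      obtain ⟨w, hw⟩ := hpick {x, y, z} (by
        have := Finset.card_le_three (a := x) (b := y) (c := z); omega)
      obtain ⟨w', hw'⟩ := hpick {x, y, z, w} (by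
        have := Finset.card_le_four (a := x) (b := y) (c := z) (d := w); omega)
      simp only [Finset.mem_insert, Finset.mem_singleton, not_or] at hw hw'
      have hnotin : ∀ {p q : GolayPt}, p ≠ q → q ≠ x → q ≠ y → q ≠ z → ι (e p * e q) ∉ S := by
        intro p q hpq h1 h2 h3 hmem
        rcases hSmem _ hmem with h | h | h | h
        · exact hduad1 hpq h
        · rcases hduadeq hpq hxy h with ⟨-, h⟩ | ⟨-, h⟩
          · exact h2 h
          · exact h1 h
        · rcases hduadeq hpq hxz h with ⟨-, h⟩ | ⟨-, h⟩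
          · exact h3 h
          · exact h1 h
        · rcases hduadeq hpq hyz h with ⟨-, h⟩ | ⟨-, h⟩
          · exact h3 h
          · exact h2 h
      refine ⟨ι (e x * e w), ⟨_, rfl⟩, hnotin (Ne.symm hw.1) hw.1 hw.2.1 hw.2.2,
        ι (e w * e w'), ⟨_, rfl⟩, hnotin (Ne.symm hw'.2.2.2) hw'.1 hw'.2.1 hw'.2.2.1, ?_⟩
      -- first count at most one
      have h1 : {s | s ∈ S ∧ ι (e x * e w) * s ∈ Z} ⊆ {ι (e y * e z)} := by
        rintro s ⟨hs, hsZ⟩
        rcases hSmem s hs with rfl | rfl | rfl | rfl
        · exfalso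
          rw [mul_one] at hsZ
          exact hduadZ (Ne.symm hw.1) hsZ
        · exfalso
          rw [← map_mul] at hsZ
          have : e x * e w * (e x * e y) = e w * e y := by
            calc e x * e w * (e x * e y) = (e x * e x) * (e w * e y) := by ac_rfl
              _ = _ := by rw [he.sq, one_mul]
          rw [this] at hsZ
          exact hduadZ hw.2.1 hsZ
        · exfalso
          rw [← map_mul] at hsZ
          have : e x * e w * (e x * e z) = e w * e z := by
            calc e x * e w * (e x * e z) = (e x * e x) * (e w * e z) := by ac_rfl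
              _ = _ := by rw [he.sq, one_mul]
          rw [this] at hsZ
          exact hduadZ hw.2.2 hsZ
        · exact rfl
      have h1' := Set.ncard_le_ncard h1 (Set.toFinite _)
      rw [Set.ncard_singleton] at h1'
      have h2 : {ι (e x * e y), ι (e x * e z)} ⊆ {s | s ∈ S ∧ ι (e w * e w') * s ∈ Z} := by
        intro s hs
        rw [Set.mem_insert_iff, Set.mem_singleton_iff] at hs
        rcases hs with rfl | rfl
        · refine ⟨hxyS, ?_⟩
          rw [← map_mul]
          exact hsext' (Ne.symm hw'.2.2.2) hw.1 hw.2.1 hw'.1 hw'.2.1 hxy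
        · refine ⟨hxzS, ?_⟩
          rw [← map_mul]
          exact hsext' (Ne.symm hw'.2.2.2) hw.1 hw.2.2 hw'.1 hw'.2.2.1 hxz
      have h2' := Set.ncard_le_ncard h2 (Set.toFinite _)
      rw [Set.ncard_pair (by
        intro h
        rcases hduadeq hxy hxz h with ⟨-, h⟩ | ⟨h, -⟩
        · exact hyz h
        · exact hxz h)] at h2'
      omega

end Cfsg.Agent.J4Type.ClosingCocode
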