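import Cfsg.Agent.J4Type.CloseInst
import Cfsg.Agent.J4.Invol

/-!
# The end of the recognition of J4 (helper552)

`C : Compl G`, `f : Spor.J4 →* G` injective with `f (Pres.phi g) = C.φ g` and `f s` a sextet.

* `le_of_gen` : a subgroup containing the complement, one sextet and an element of `C_G(z)` not
  normalising `E` contains `N_G(E)` and `C_G(z)`.
* `map_EJ` : `f` maps `EJ` onto `E hex0`.
* `surjective_of` : `f` is surjective (needs the facts F1, F3 on J4).
* `surjective_of_duad` : the same with F3 proved in `G`.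
* `two_classes` : the classes of involutions of a group isomorphic to J4.
-/

set_option autoImplicit false

open scoped Pointwise

namespace Cfsg.Agent.J4Type.ClosingJ4

open Cfsg Cfsg.Agent.J4Type Cfsg.Agent.J4Type.HexMax Cfsg.Agent.J4Type.ClosingCocode
  Cfsg.Agent.J4Type.DuadStab Cfsg.Agent.J4Type.CloseInst

/-! ### Any group containing the complement and a sextet -/

theorem exists_three (p q : GolayPt) : ∃ T : Finset GolayPt, T.card = 3 ∧ p ∉ T ∧ q ∉ T := by
  classical
  have h1 : 3 ≤ (Finset.univ \ {p, q} : Finset GolayPt).card := by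
    have h2 := Finset.le_card_sdiff ({p, q} : Finset GolayPt) Finset.univ
    have h3 := Finset.card_le_two (a := p) (b := q)
    rw [Finset.card_univ, card24] at h2
    omega
  obtain ⟨T, hT, hc⟩ := Finset.exists_subset_card_eq h1
  refine ⟨T, hc, fun h => ?_, fun h => ?_⟩
  · have := hT h
    simp at this
  · have := hT h
    simp at this

theorem symmDiff_insert_insert {p q : GolayPt} (hpq : p ≠ q) {T : Finset GolayPt} (hp : p ∉ T)
    (hq : q ∉ T) : symmDiff (insert p T) (insert q T) = {p, q} := by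
  ext w
  simp only [Finset.mem_symmDiff, Finset.mem_insert, Finset.mem_singleton]
  constructor
  · rintro (⟨h1 | h1, h2⟩ | ⟨h1 | h1, h2⟩)
    · exact Or.inl h1
    · exact absurd (Or.inr h1) h2
    · exact Or.inr h1
    · exact absurd (Or.inr h1) h2
  · rintro (rfl | rfl)
    · refine Or.inl ⟨Or.inl rfl, ?_⟩
      rintro (h | h)
      · exact hpq h
      · exact hp h
    · refine Or.inr ⟨Or.inl rfl, ?_⟩
      rintro (h | h)
      · exact hpq h.symm
      · exact hq h

/-- the sextets generate `E` -/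
theorem E_le_of_sextets {G : Type*} [Group G] (K : Frame G) (H : Subgroup G)
    (h4 : ∀ T : Finset GolayPt, T.card = 4 → K.ε T ∈ H) : EE K ≤ H := by
  intro a ha
  rcases E_cases K ha with rfl | ⟨p, q, hpq, rfl⟩ | ⟨T, hT, rfl⟩
  · exact H.one_mem
  · obtain ⟨T, hT, hp, hq⟩ := exists_three p q
    have hp4 : (insert p T).card = 4 := by rw [Finset.card_insert_of_notMem hp, hT]
    have hq4 : (insert q T).card = 4 := by rw [Finset.card_insert_of_notMem hq, hT]
    rw [← symmDiff_insert_insert hpq hp hq,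
      K.ε_mul _ _ (by rw [hp4]; decide) (by rw [hq4]; decide)]
    exact H.mul_mem (h4 _ hp4) (h4 _ hq4)
  · exact h4 T hT

section General

variable {G : Type*} [Group G] (C : Compl G)

/-- conjugation of the cocode by the complement -/
theorem phi_conj (g : M24) {S : Finset GolayPt} (hS : Even S.card) :
    C.φ g * C.ε S * (C.φ g)⁻¹ = C.ε ((g : Equiv.Perm GolayPt) • S) := by
  have h := C.π_smul ⟨C.φ g, C.φ_mem g⟩ S hS
  rw [C.π_φ] at h
  exact h

/-- a sextet generates `E` under the complement -/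
theorem E_le (H : Subgroup G) (hφ : ∀ g : M24, C.φ g ∈ H) {S : Finset GolayPt} (hS : S.card = 4)
    (h : C.ε S ∈ H) : EE C.toFrame ≤ H := by
  apply E_le_of_sextets
  intro T hT
  obtain ⟨g, hg⟩ := exists_four hS hT
  show C.ε T ∈ H
  rw [← hg, ← phi_conj C g (by rw [hS]; decide)]
  exact H.mul_mem (H.mul_mem (hφ g) h) (H.inv_mem (hφ g))

/-- `N_G(E)` is generated by `E` and the complement -/
theorem normalizer_le_of (H : Subgroup G) (hφ : ∀ g : M24, C.φ g ∈ H) (hE : EE C.toFrame ≤ H) :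
    Subgroup.normalizer (EE C.toFrame : Set G) ≤ H := by
  intro n hn
  let g : M24 := C.π ⟨n, hn⟩
  have h1 : C.π (⟨n, hn⟩ * ⟨C.φ g, C.φ_mem g⟩⁻¹) = 1 := by
    rw [map_mul, map_inv, C.π_φ]
    exact mul_inv_cancel _
  have h2 := (C.π_ker _).1 h1
  have h3 : n = (n * (C.φ g)⁻¹) * C.φ g := by group
  rw [h3]
  exact H.mul_mem (hE h2) (hφ g)

/-- **Generation.** A subgroup containing the complement, a sextet and an element of `C_G(z)` not
normalising `E` contains `N_G(E)` and `C_G(z)`. -/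
theorem le_of_gen (H : Subgroup G) (hφ : ∀ g : M24, C.φ g ∈ H) {S : Finset GolayPt}
    (hS : S.card = 4) (h : C.ε S ∈ H) {t : G} (htH : t ∈ H) (htz : t * C.z = C.z * t)
    (htN : t ∉ Subgroup.normalizer (EE C.toFrame : Set G)) :
    Subgroup.normalizer (EE C.toFrame : Set G) ≤ H ∧
      Subgroup.centralizer ({C.z} : Set G) ≤ H := by
  have h1 := normalizer_le_of C H hφ (E_le C H hφ hS h)
  exact ⟨h1, centralizer_le C.toFrame H h1 htH htz htN⟩

end General

/-! ### The image of the presented group -/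

open Cfsg.Agent.J4.Invol (EJ s d)

section Pres

variable {G : Type*} [Group G] (C : Compl G) (f : Cfsg.Spor.J4 →* G)

theorem map_EJ (hφ : ∀ g : M24, f (Cfsg.Agent.J4.Pres.phi g) = C.φ g) {S : Finset GolayPt}
    (hS : S.card = 4) (hs : f s = C.ε S) : EJ.map f = EE C.toFrame := by
  have hev : Even S.card := by rw [hS]; decide
  apply le_antisymm
  · rw [Subgroup.map_le_iff_le_comap, EJ, Subgroup.closure_le]
    rintro _ ⟨g, rfl⟩
    show f (Cfsg.Agent.J4.Pres.phi g * s * (Cfsg.Agent.J4.Pres.phi g)⁻¹) ∈ EE C.toFrame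
    rw [map_mul, map_mul, map_inv, hφ, hs, phi_conj C g hev]
    exact C.ε_mem _ (by rw [Finset.card_smul_finset]; exact hev)
  · apply E_le_of_sextets
    intro T hT
    obtain ⟨g, hg⟩ := exists_four hS hT
    refine ⟨Cfsg.Agent.J4.Pres.phi g * s * (Cfsg.Agent.J4.Pres.phi g)⁻¹,
      Subgroup.subset_closure ⟨g, rfl⟩, ?_⟩
    rw [map_mul, map_mul, map_inv, hφ, hs, phi_conj C g hev, hg]

/-- the elements `Pres.phi g` normalise `EJ` -/
theorem phi_mem_normalizer (g : M24) :
    Cfsg.Agent.J4.Pres.phi g ∈ Subgroup.normalizer (EJ : Set Cfsg.Spor.J4) := by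
  have key : ∀ g : M24, ∀ a ∈ EJ,
      Cfsg.Agent.J4.Pres.phi g * a * (Cfsg.Agent.J4.Pres.phi g)⁻¹ ∈ EJ := by
    intro g a ha
    have h1 : EJ ≤ EJ.comap (MulAut.conj (Cfsg.Agent.J4.Pres.phi g)).toMonoidHom := by
      conv_lhs => rw [EJ]
      rw [Subgroup.closure_le]
      rintro _ ⟨h, rfl⟩
      show Cfsg.Agent.J4.Pres.phi g * (Cfsg.Agent.J4.Pres.phi h * s * (Cfsg.Agent.J4.Pres.phi h)⁻¹) *
        (Cfsg.Agent.J4.Pres.phi g)⁻¹ ∈ EJ
      apply Subgroup.subset_closure
      refine ⟨g * h, ?_⟩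
      rw [map_mul]
      group
    exact h1 ha
  rw [Subgroup.mem_normalizer_iff]
  intro a
  constructor
  · exact key g a
  · intro h
    have h1 := key g⁻¹ _ h
    rw [map_inv] at h1
    have h2 : (Cfsg.Agent.J4.Pres.phi g)⁻¹ * (Cfsg.Agent.J4.Pres.phi g * a *
        (Cfsg.Agent.J4.Pres.phi g)⁻¹) * ((Cfsg.Agent.J4.Pres.phi g)⁻¹)⁻¹ = a := by group
    rw [h2] at h1
    exact h1

/-- **Surjectivity.**  `inv` and `F3` are the facts on the presented group, `hC` is supplied by
`le_of_gen`. -/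
theorem surjective_of [Finite G] (hf : Function.Injective f)
    (hφ : ∀ g : M24, f (Cfsg.Agent.J4.Pres.phi g) = C.φ g) {S : Finset GolayPt}
    (hS : S.card = 4) (hs : f s = C.ε S)
    (hC : Subgroup.centralizer ({C.z} : Set G) ≤ f.range)
    (s_mem : s ∈ EJ) (d_mem : d ∈ EJ)
    (cases : ∀ e ∈ EJ, e ≠ 1 → ∃ m : M24,
      e = Cfsg.Agent.J4.Pres.phi m * s * (Cfsg.Agent.J4.Pres.phi m)⁻¹ ∨
      e = Cfsg.Agent.J4.Pres.phi m * d * (Cfsg.Agent.J4.Pres.phi m)⁻¹)
    (invol : ∀ u : Cfsg.Spor.J4, u * u = 1 → u ≠ 1 → IsConj u s ∨ IsConj u d)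
    (F3 : ∀ u : Cfsg.Spor.J4, u * d = d * u → u ∈ Subgroup.normalizer (EJ : Set Cfsg.Spor.J4)) :
    Function.Surjective f := by
  have hE := map_EJ C f hφ hS hs
  have hφ' : ∀ g : M24, C.φ g ∈ f.range := fun g => ⟨_, hφ g⟩
  have hEle : EE C.toFrame ≤ f.range := by
    rw [← hE]
    exact Subgroup.map_le_range _ _
  rw [← MonoidHom.range_eq_top]
  apply eq_top C.toFrame f.range (normalizer_le_of C f.range hφ' hEle) hC
  · -- F1
    rintro _ ⟨u, rfl⟩ h1 h2
    have h3 : u * u = 1 := hf (by rw [map_mul, h1, map_one])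
    have h4 : u ≠ 1 := by
      rintro rfl
      exact h2 (map_one f)
    have h5 : ∃ g : Cfsg.Spor.J4, g * u * g⁻¹ ∈ EJ := by
      rcases invol u h3 h4 with h | h
      · obtain ⟨g, hg⟩ := isConj_iff.1 h
        exact ⟨g, by rw [hg]; exact s_mem⟩
      · obtain ⟨g, hg⟩ := isConj_iff.1 h
        exact ⟨g, by rw [hg]; exact d_mem⟩
    obtain ⟨g, hg⟩ := h5
    refine ⟨f g, ⟨g, rfl⟩, ?_⟩
    rw [← map_inv, ← map_mul, ← map_mul, ← hE]
    exact ⟨_, hg, rfl⟩
  · -- F3
    rintro p q hpq _ ⟨j, rfl⟩ hj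
    have h1 : C.ε {p, q} ∈ EE C.toFrame := C.ε_mem _ (by rw [Finset.card_pair hpq]; decide)
    rw [← hE] at h1
    obtain ⟨a, ha, hae⟩ := h1
    have hsz : IsConj C.z (f s) := by
      rw [hs]
      obtain ⟨n, -, hn⟩ := conj_sextet C.toFrame S hS
      exact isConj_iff.2 ⟨n, hn⟩
    have ha1 : a ≠ 1 := by
      rintro rfl
      rw [map_one] at hae
      have h2 := (C.ε_ker {p, q} (by rw [Finset.card_pair hpq]; decide)).1 hae.symm
      have h3 := SporadicA.GolayBase.card_of_mem_supports h2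
      rw [Finset.card_pair hpq] at h3
      omega
    obtain ⟨m, h2 | h2⟩ := cases a ha ha1
    · exfalso
      apply C.duad_not_conj p q hpq
      rw [← hae, h2, map_mul, map_mul, map_inv]
      exact hsz.trans (isConj_iff.2 ⟨_, rfl⟩)
    · -- `j` commutes with `a`
      have h3 : j * a = a * j := by
        apply hf
        rw [map_mul, map_mul, hae]
        exact hj
      have h4 : (Cfsg.Agent.J4.Pres.phi m)⁻¹ * j * Cfsg.Agent.J4.Pres.phi m * d =
          d * ((Cfsg.Agent.J4.Pres.phi m)⁻¹ * j * Cfsg.Agent.J4.Pres.phi m) := by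
        have h5 : d = (Cfsg.Agent.J4.Pres.phi m)⁻¹ * a * Cfsg.Agent.J4.Pres.phi m := by
          rw [h2]; group
        rw [h5]
        calc (Cfsg.Agent.J4.Pres.phi m)⁻¹ * j * Cfsg.Agent.J4.Pres.phi m *
              ((Cfsg.Agent.J4.Pres.phi m)⁻¹ * a * Cfsg.Agent.J4.Pres.phi m) =
            (Cfsg.Agent.J4.Pres.phi m)⁻¹ * (j * a) * Cfsg.Agent.J4.Pres.phi m := by group
          _ = (Cfsg.Agent.J4.Pres.phi m)⁻¹ * (a * j) * Cfsg.Agent.J4.Pres.phi m := by rw [h3]
          _ = _ := by group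
      have h5 := F3 _ h4
      have h6 : j ∈ Subgroup.normalizer (EJ : Set Cfsg.Spor.J4) := by
        have h7 : j = Cfsg.Agent.J4.Pres.phi m *
            ((Cfsg.Agent.J4.Pres.phi m)⁻¹ * j * Cfsg.Agent.J4.Pres.phi m) *
            (Cfsg.Agent.J4.Pres.phi m)⁻¹ := by group
        rw [h7]
        exact Subgroup.mul_mem _ (Subgroup.mul_mem _ (phi_mem_normalizer m) h5)
          (Subgroup.inv_mem _ (phi_mem_normalizer m))
      rw [Subgroup.mem_normalizer_iff] at h6 ⊢
      intro b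
      rw [← hE]
      constructor
      · rintro ⟨b', hb', rfl⟩
        exact ⟨j * b' * j⁻¹, (h6 b').1 hb', by rw [map_mul, map_mul, map_inv]⟩
      · rintro ⟨b', hb', hb⟩
        refine ⟨j⁻¹ * b' * j, ?_, ?_⟩
        · apply (h6 _).2
          have : j * (j⁻¹ * b' * j) * j⁻¹ = b' := by group
          rw [this]
          exact hb'
        · rw [map_mul, map_mul, map_inv, hb]
          group

/-- **Surjectivity, with F3 proved in `G`** (`duad` = helper607's `DuadCent`). -/
theorem surjective_of_duad [Finite G] (hf : Function.Injective f)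
    (hφ : ∀ g : M24, f (Cfsg.Agent.J4.Pres.phi g) = C.φ g) {S : Finset GolayPt}
    (hS : S.card = 4) (hs : f s = C.ε S)
    (hC : Subgroup.centralizer ({C.z} : Set G) ≤ f.range)
    (s_mem : s ∈ EJ) (d_mem : d ∈ EJ)
    (invol : ∀ u : Cfsg.Spor.J4, u * u = 1 → u ≠ 1 → IsConj u s ∨ IsConj u d)
    (duad : ∀ p q : GolayPt, p ≠ q → ∀ g : G, g * C.ε {p, q} = C.ε {p, q} * g →
      g ∈ Subgroup.normalizer (C.E hex0 : Set G)) :
    Function.Surjective f := by
  have hE := map_EJ C f hφ hS hs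
  have hφ' : ∀ g : M24, C.φ g ∈ f.range := fun g => ⟨_, hφ g⟩
  have hEle : EE C.toFrame ≤ f.range := by
    rw [← hE]
    exact Subgroup.map_le_range _ _
  rw [← MonoidHom.range_eq_top]
  apply eq_top C.toFrame f.range (normalizer_le_of C f.range hφ' hEle) hC
  · rintro _ ⟨u, rfl⟩ h1 h2
    have h3 : u * u = 1 := hf (by rw [map_mul, h1, map_one])
    have h4 : u ≠ 1 := by
      rintro rfl
      exact h2 (map_one f)
    have h5 : ∃ g : Cfsg.Spor.J4, g * u * g⁻¹ ∈ EJ := by
      rcases invol u h3 h4 with h | h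
      · obtain ⟨g, hg⟩ := isConj_iff.1 h
        exact ⟨g, by rw [hg]; exact s_mem⟩
      · obtain ⟨g, hg⟩ := isConj_iff.1 h
        exact ⟨g, by rw [hg]; exact d_mem⟩
    obtain ⟨g, hg⟩ := h5
    refine ⟨f g, ⟨g, rfl⟩, ?_⟩
    rw [← map_inv, ← map_mul, ← map_mul, ← hE]
    exact ⟨_, hg, rfl⟩
  · intro p q hpq h _ hcomm
    exact duad p q hpq h hcomm

/-- a group isomorphic to J4 has exactly two classes of involutions -/
theorem two_classes (hf : Function.Bijective f)
    (s_sq : s * s = 1) (d_sq : d * d = 1) (s_ne : s ≠ 1) (d_ne : d ≠ 1)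
    (hsd : ¬ IsConj s d)
    (invol : ∀ u : Cfsg.Spor.J4, u * u = 1 → u ≠ 1 → IsConj u s ∨ IsConj u d) :
    ∃ x y : G, orderOf x = 2 ∧ orderOf y = 2 ∧ ¬ IsConj x y ∧
      ∀ z : G, orderOf z = 2 → IsConj z x ∨ IsConj z y := by
  have ord : ∀ u : Cfsg.Spor.J4, u * u = 1 → u ≠ 1 → orderOf (f u) = 2 := by
    intro u h1 h2
    rw [orderOf_injective f hf.1]
    exact orderOf_eq_prime (by rw [pow_two, h1]) h2
  refine ⟨f s, f d, ord s s_sq s_ne, ord d d_sq d_ne, ?_, ?_⟩
  · intro h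
    apply hsd
    obtain ⟨c, hc⟩ := isConj_iff.1 h
    obtain ⟨g, rfl⟩ := hf.2 c
    refine isConj_iff.2 ⟨g, hf.1 ?_⟩
    rw [map_mul, map_mul, map_inv, hc]
  · intro z hz
    obtain ⟨u, rfl⟩ := hf.2 z
    rw [orderOf_injective f hf.1] at hz
    have h1 : u * u = 1 := by
      have := pow_orderOf_eq_one u
      rw [hz, pow_two] at this
      exact this
    have h2 : u ≠ 1 := by
      rintro rfl
      rw [orderOf_one] at hz
      omega
    rcases invol u h1 h2 with h | h
    · exact Or.inl (f.map_isConj h)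
    · exact Or.inr (f.map_isConj h)

end Pres

end Cfsg.Agent.J4Type.ClosingJ4
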