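import Cfsg.Agent.J4Type.CocodeMask
import Cfsg.Agent.J4Type.DuadStab

/-!
Extensions of `M24` by the even cocode, described by masks.
-/

set_option autoImplicit false

namespace Cfsg.Agent.J4Type.CocodeExt

open Cfsg Cfsg.Agent.SporadicA.GolayBase Cfsg.Agent.SporadicA.GolayPerm
open Cfsg.Agent.J4Type.CocodeMask

/-- `N` is an extension of `M24` by the even cocode; `c s` is the element with mask `s`. -/
structure Ext {N : Type*} [Group N] (f : N →* M24) (c : ℕ → N) : Prop where
  surj : Function.Surjective f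
  ker : ∀ n, f n = 1 ↔ ∃ s, ev s = true ∧ n = c s
  xor : ∀ a b, ev a = true → ev b = true → c (a ^^^ b) = c a * c b
  inj : ∀ a, ev a = true → c a = 1 → a = 0
  conj : ∀ n a, ev a = true → n * c a * n⁻¹ = c (act (f n) a)

namespace Ext

variable {N : Type*} [Group N] {f : N →* M24} {c : ℕ → N} (H : Ext f c)

include H

theorem map_c {a : ℕ} (ha : ev a = true) : f (c a) = 1 := (H.ker _).2 ⟨a, ha, rfl⟩

theorem c_zero : c 0 = 1 := by
  have h := H.xor 0 0 ev_zero ev_zero
  rw [Nat.xor_self] at h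
  exact (mul_eq_left.1 h.symm)

theorem sq {a : ℕ} (ha : ev a = true) : c a * c a = 1 := by
  rw [← H.xor a a ha ha, Nat.xor_self, H.c_zero]

theorem inv {a : ℕ} (ha : ev a = true) : (c a)⁻¹ = c a := inv_eq_of_mul_eq_one_right (H.sq ha)

theorem comm {a b : ℕ} (ha : ev a = true) (hb : ev b = true) : c a * c b = c b * c a := by
  rw [← H.xor a b ha hb, Nat.xor_comm, H.xor b a hb ha]

theorem injOn {a b : ℕ} (ha : ev a = true) (hb : ev b = true) (h : c a = c b) : a = b := by
  have h1 : c (a ^^^ b) = 1 := by rw [H.xor a b ha hb, h, H.sq hb]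
  exact Nat.xor_eq_zero_iff.1 (H.inj _ (ev_xor ha hb) h1)

/-- Moving an element of the cocode to the left. -/
theorem mul_c (n : N) {a : ℕ} (ha : ev a = true) : n * c a = c (act (f n) a) * n := by
  rw [← H.conj n a ha, inv_mul_cancel_right]

/-- Two elements with the same image. -/
theorem exists_mul {x y : N} (h : f x = f y) : ∃ a, ev a = true ∧ x = y * c a := by
  have h1 : f (y⁻¹ * x) = 1 := by rw [map_mul, map_inv, h, inv_mul_cancel]
  obtain ⟨a, ha, h2⟩ := (H.ker _).1 h1
  exact ⟨a, ha, by rw [← h2, mul_inv_cancel_left]⟩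

theorem exists_mul' {x y : N} (h : f x = f y) : ∃ a, ev a = true ∧ x = c a * y := by
  have h1 : f (x * y⁻¹) = 1 := by rw [map_mul, map_inv, h, mul_inv_cancel]
  obtain ⟨a, ha, h2⟩ := (H.ker _).1 h1
  exact ⟨a, ha, by rw [← h2, inv_mul_cancel_right]⟩

theorem act_act (g h : M24) {a : ℕ} (ha : ev a = true) : act (g * h) a = act g (act h a) := by
  obtain ⟨x, rfl⟩ := H.surj g
  obtain ⟨y, rfl⟩ := H.surj h
  apply H.injOn (ev_act _ ha) (ev_act _ (ev_act _ ha))
  rw [← map_mul, ← H.conj _ _ ha, ← H.conj _ _ (ev_act _ ha), ← H.conj _ _ ha]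
  group

end Ext

/-! ### From a presentation of the cocode -/

section bridge

variable {A : Type*} [CommGroup A] {e : GolayPt → A}

theorem prod_fin (e : GolayPt → A) (m : ℕ) :
    ∏ i ∈ fin m, e i = ∏ i ∈ Finset.range 24, e (pt i) ^ ((m >>> i) % 2) := by
  rw [fin, Finset.prod_filter]
  have h : ∀ f : GolayPt → A, ∏ p, f p = ∏ i ∈ Finset.range 24, f (pt i) := by
    intro f
    symm
    refine Finset.prod_bij (fun i _ => pt i) (fun _ _ => Finset.mem_univ _) ?_ ?_ (fun _ _ => rfl)
    · intro a ha b hb hab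
      rw [← idx_pt (Finset.mem_range.1 ha), ← idx_pt (Finset.mem_range.1 hb), hab]
    · intro p _
      exact ⟨idx p, Finset.mem_range.2 (idx_lt p), pt_idx p⟩
  rw [h]
  apply Finset.prod_congr rfl
  intro i hi
  rw [idx_pt (Finset.mem_range.1 hi), ← ite_testBit]
  split_ifs <;> simp

/-- The element with a given mask. -/
def cm (e : GolayPt → A) (s : ℕ) : A :=
  e (pt 12) ^ (s % 2) * e (pt 13) ^ ((s >>> 1) % 2) * e (pt 14) ^ ((s >>> 2) % 2) *
  e (pt 15) ^ ((s >>> 3) % 2) * e (pt 16) ^ ((s >>> 4) % 2) * e (pt 17) ^ ((s >>> 5) % 2) *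
  e (pt 18) ^ ((s >>> 6) % 2) * e (pt 19) ^ ((s >>> 7) % 2) * e (pt 20) ^ ((s >>> 8) % 2) *
  e (pt 21) ^ ((s >>> 9) % 2) * e (pt 22) ^ ((s >>> 10) % 2) * e (pt 23) ^ ((s >>> 11) % 2)

theorem pow_xor {x : A} (hx : x * x = 1) (a b : ℕ) :
    x ^ ((a ^^^ b) % 2) = x ^ (a % 2) * x ^ (b % 2) := by
  have h : (a ^^^ b) % 2 = (a % 2) ^^^ (b % 2) := by
    have := Nat.xor_mod_two_pow (a := a) (b := b) (n := 1)
    simpa using this
  rw [h]
  have ha : a % 2 < 2 := Nat.mod_lt _ (by norm_num)
  have hb : b % 2 < 2 := Nat.mod_lt _ (by norm_num)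
  interval_cases a % 2 <;> interval_cases b % 2 <;> simp [hx]

theorem cm_xor (hsq : ∀ i, e i * e i = 1) (a b : ℕ) : cm e (a ^^^ b) = cm e a * cm e b := by
  unfold cm
  simp only [Nat.shiftRight_xor_distrib, pow_xor (hsq _)]
  ac_rfl

/-- Products over masks: low part and high part. -/
theorem prod_fin_high (e : GolayPt → A) (s : ℕ) :
    ∏ i ∈ fin (s <<< 12), e i = cm e s := by
  rw [prod_fin]
  have h1 : ∀ i, i < 12 → ((s <<< 12) >>> i) % 2 = 0 := by
    intro i hi
    rw [← ite_testBit, Nat.testBit_shiftLeft]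
    have : ¬ (12 ≤ i) := by omega
    simp [this]
  have h2 : ∀ i, ((s <<< 12) >>> (12 + i)) % 2 = (s >>> i) % 2 := by
    intro i
    rw [← ite_testBit, Nat.testBit_shiftLeft, ← ite_testBit]
    simp
  simp only [Finset.prod_range_succ, Finset.prod_range_zero, one_mul]
  rw [h1 0 (by norm_num), h1 1 (by norm_num), h1 2 (by norm_num), h1 3 (by norm_num),
    h1 4 (by norm_num), h1 5 (by norm_num), h1 6 (by norm_num), h1 7 (by norm_num),
    h1 8 (by norm_num), h1 9 (by norm_num), h1 10 (by norm_num), h1 11 (by norm_num)]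
  have e0 := h2 0
  have e1 := h2 1
  have e2 := h2 2
  have e3 := h2 3
  have e4 := h2 4
  have e5 := h2 5
  have e6 := h2 6
  have e7 := h2 7
  have e8 := h2 8
  have e9 := h2 9
  have e10 := h2 10
  have e11 := h2 11
  norm_num only at e0 e1 e2 e3 e4 e5 e6 e7 e8 e9 e10 e11
  simp only [pow_zero, one_mul]
  unfold cm
  rw [e1, e2, e3, e4, e5, e6, e7, e8, e9, e10, e11]
  rw [Nat.shiftRight_zero] at e0
  rw [e0]

theorem xor_enc (m : ℕ) : m ^^^ enc m = ((m ^^^ enc m) >>> 12) <<< 12 := by
  apply Nat.eq_of_testBit_eq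
  intro i
  rw [Nat.testBit_shiftLeft, Nat.testBit_shiftRight]
  by_cases hi : 12 ≤ i
  · simp only [hi, decide_true, Bool.true_and, Nat.add_sub_cancel' hi]
  · simp only [hi, decide_false, Bool.false_and]
    have h5 := enc_mod_eq m
    have h6 : (enc m).testBit i = m.testBit i := by
      have h7 : (enc m % 2 ^ 12).testBit i = (m % 2 ^ 12).testBit i := by
        rw [show (2 : ℕ) ^ 12 = 4096 by norm_num, h5]
      rw [Nat.testBit_mod_two_pow, Nat.testBit_mod_two_pow] at h7
      have : i < 12 := by omega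
      simpa [this] using h7
    rw [Nat.testBit_xor, h6, Bool.xor_self]

open DuadStab in
theorem prod_eq_cm (he : IsCocode e) (S : Finset GolayPt) :
    ∏ i ∈ S, e i = cm e ((maskOf S ^^^ enc (maskOf S)) >>> 12) := by
  classical
  have h1 : ∏ i ∈ fin (enc (maskOf S)), e i = 1 := by
    have h2 : fin (enc (maskOf S)) ∈ supports (golayCode : Set (GolayPt → ZMod 2)) := by
      rw [fin_mem_supports_iff (enc_lt _)]
      exact isCode_enc _
    have h3 : Even (fin (enc (maskOf S))).card := by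
      have := card_of_mem_supports h2
      rw [Nat.even_iff]
      omega
    exact (he.ker _ h3).2 h2
  rw [← prod_fin_high, ← xor_enc, fin_xor, prod_symmDiff he.sq, h1, mul_one, fin_maskOf]

theorem even_card_of_mem {S : Finset GolayPt}
    (hS : S ∈ supports (golayCode : Set (GolayPt → ZMod 2))) : Even S.card := by
  have := card_of_mem_supports hS
  rw [Nat.even_iff]
  omega

theorem isCode_st : ∀ k, k < 24 → isCode ((1 <<< k) ^^^ (st k <<< 12)) = true := by
  decide +kernel

theorem fin_one_shift {k : ℕ} (hk : k < 24) : fin (1 <<< k) = {pt k} := by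
  ext p
  rw [mem_fin, Finset.mem_singleton, Nat.testBit_shiftLeft]
  constructor
  · intro h
    rw [Bool.and_eq_true, decide_eq_true_eq, Nat.testBit_one_eq_true_iff_self_eq_zero] at h
    have : idx p = k := by omega
    rw [← this, pt_idx]
  · rintro rfl
    rw [idx_pt hk]
    simp

open DuadStab in
theorem cm_st (he : IsCocode e) (p : GolayPt) : e p = cm e (st (idx p)) := by
  classical
  have h1 : fin ((1 <<< idx p) ^^^ (st (idx p) <<< 12)) ∈
      supports (golayCode : Set (GolayPt → ZMod 2)) := by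
    rw [fin_mem_supports_iff]
    · exact isCode_st _ (idx_lt p)
    · exact isCode_lt (isCode_st _ (idx_lt p))
  have h2 := (he.ker _ (even_card_of_mem h1)).2 h1
  rw [fin_xor, prod_symmDiff he.sq, fin_one_shift (idx_lt p), Finset.prod_singleton,
    prod_fin_high, pt_idx] at h2
  calc e p = e p * (e p * cm e (st (idx p))) := by rw [h2, mul_one]
    _ = e p * e p * cm e (st (idx p)) := (mul_assoc _ _ _).symm
    _ = _ := by rw [he.sq, one_mul]

theorem mod_xor_mod (x y : ℕ) : (x % 2) ^^^ (y % 2) = (x + y) % 2 := by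
  have hx : x % 2 < 2 := Nat.mod_lt _ (by norm_num)
  have hy : y % 2 < 2 := Nat.mod_lt _ (by norm_num)
  rw [Nat.add_mod]
  interval_cases x % 2 <;> interval_cases y % 2 <;> rfl

theorem par_eq (s : ℕ) : par s = (fin (s <<< 12)).card % 2 := by
  have h1 : ∀ i, i < 12 → ((s <<< 12) >>> i) % 2 = 0 := by
    intro i hi
    rw [← ite_testBit, Nat.testBit_shiftLeft]
    have : ¬ (12 ≤ i) := by omega
    simp [this]
  have h2 : ∀ i, ((s <<< 12) >>> (12 + i)) % 2 = (s >>> i) % 2 := by
    intro i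
    rw [← ite_testBit, Nat.testBit_shiftLeft, ← ite_testBit]
    simp
  have e0 := h2 0
  have e1 := h2 1
  have e2 := h2 2
  have e3 := h2 3
  have e4 := h2 4
  have e5 := h2 5
  have e6 := h2 6
  have e7 := h2 7
  have e8 := h2 8
  have e9 := h2 9
  have e10 := h2 10
  have e11 := h2 11
  norm_num only at e0 e1 e2 e3 e4 e5 e6 e7 e8 e9 e10 e11
  rw [Nat.shiftRight_zero] at e0
  have d0 := h1 0 (by norm_num)
  rw [Nat.shiftRight_zero] at d0
  rw [card_fin, popcount]
  rw [d0, h1 1 (by norm_num), h1 2 (by norm_num), h1 3 (by norm_num),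
    h1 4 (by norm_num), h1 5 (by norm_num), h1 6 (by norm_num), h1 7 (by norm_num),
    h1 8 (by norm_num), h1 9 (by norm_num), h1 10 (by norm_num), h1 11 (by norm_num),
    e0, e1, e2, e3, e4, e5, e6, e7, e8, e9, e10, e11]
  unfold par lin
  simp only [mul_one, mod_xor_mod]
  omega

theorem ev_iff_card {s : ℕ} (hs : s < 4096) : ev s = true ↔ Even (fin (s <<< 12)).card := by
  rw [ev_iff, par_eq, Nat.even_iff]
  exact ⟨fun h => h.2, fun h => ⟨hs, h⟩⟩

open DuadStab in
theorem cm_eq_one (he : IsCocode e) {a : ℕ} (ha : ev a = true) (h : cm e a = 1) : a = 0 := by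
  have ha' := ((ev_iff a).1 ha).1
  rw [← prod_fin_high, he.ker _ ((ev_iff_card ha').1 ha)] at h
  have h1 : a <<< 12 < 2 ^ 24 := by
    rw [Nat.shiftLeft_eq]
    omega
  rw [fin_mem_supports_iff h1, isCode_iff] at h
  have h2 : enc (a <<< 12) = 0 := by
    rw [← enc_mod, show a <<< 12 % 4096 = 0 by rw [Nat.shiftLeft_eq]; omega]
    decide +kernel
  rw [h2, Nat.shiftLeft_eq] at h
  omega

end bridge

open scoped IsMulCommutative in
open DuadStab in
/-- The bridge: an extension of `M24` by the even cocode, from a presentation of the cocode. -/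
theorem ext_of_isCocode {N : Type*} [Group N] {f : N →* M24} (hf : Function.Surjective f)
    {E : Subgroup N} [E.Normal] [IsMulCommutative E] (hE : ∀ n, f n = 1 ↔ n ∈ E)
    {e : GolayPt → E} (he : IsCocode e)
    (hgen : ∀ a : E, ∃ S : Finset GolayPt, Even S.card ∧ a = ∏ i ∈ S, e i)
    (hconj : ∀ (n : N) (i j : GolayPt), MulAut.conjNormal n (e i * e j) =
      e ((f n : Equiv.Perm GolayPt) i) * e ((f n : Equiv.Perm GolayPt) j)) :
    Ext f (fun s => ((cm e s : E) : N)) := by
  classical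
  refine ⟨hf, fun n => ?_, fun a b _ _ => ?_, fun a ha h => ?_, fun n a ha => ?_⟩
  · rw [hE]
    constructor
    · intro hn
      obtain ⟨S, hS, h1⟩ := hgen ⟨n, hn⟩
      refine ⟨(maskOf S ^^^ enc (maskOf S)) >>> 12, ?_, ?_⟩
      · have h2 : (maskOf S ^^^ enc (maskOf S)) >>> 12 < 4096 := by
          rw [Nat.shiftRight_eq_div_pow, Nat.div_lt_iff_lt_mul (by norm_num)]
          exact Nat.xor_lt_two_pow (n := 24) (maskOf_lt _) (enc_lt _)
        rw [ev_iff_card h2, ← xor_enc, fin_xor, Nat.even_iff, card_symmDiff_parity, fin_maskOf]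
        have h3 : Even (fin (enc (maskOf S))).card := by
          apply even_card_of_mem
          rw [fin_mem_supports_iff (enc_lt _)]
          exact isCode_enc _
        rw [Nat.even_iff] at h3 hS
        omega
      · show n = ((cm e _ : E) : N)
        rw [← prod_eq_cm he S, ← h1]
    · rintro ⟨s, -, rfl⟩
      exact (cm e s).2
  · show ((cm e (a ^^^ b) : E) : N) = (cm e a : E) * (cm e b : E)
    rw [cm_xor he.sq]
    rfl
  · exact cm_eq_one he ha (Subtype.ext h)
  · show n * ((cm e a : E) : N) * n⁻¹ = ((cm e (act (f n) a) : E) : N)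
    have h1 : MulAut.conjNormal n (cm e a) = cm e (act (f n) a) := by
      have h2 : Even (fin (a <<< 12)).card := (ev_iff_card ((ev_iff a).1 ha).1).1 ha
      have h3 := map_prod ((MulAut.conjNormal n : MulAut E).toMonoidHom)
        (f n : Equiv.Perm GolayPt) (hconj n) (fin (a <<< 12)) h2
      rw [prod_fin_high] at h3
      rw [Finset.prod_map] at h3
      have h4 := prod_fin_high (fun p => e ((f n : Equiv.Perm GolayPt) p)) a
      have h5 : (∏ x ∈ fin (a <<< 12), e ((f n : Equiv.Perm GolayPt).toEmbedding x)) =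
          cm (fun p => e ((f n : Equiv.Perm GolayPt) p)) a := h4
      rw [h5] at h3
      refine h3.trans ?_
      unfold act
      rw [map_lin (cm e) (cm_xor he.sq)]
      unfold cm
      dsimp only
      rw [cm_st he ((f n : Equiv.Perm GolayPt) (pt 12)), cm_st he ((f n : Equiv.Perm GolayPt) (pt 13)),
        cm_st he ((f n : Equiv.Perm GolayPt) (pt 14)), cm_st he ((f n : Equiv.Perm GolayPt) (pt 15)),
        cm_st he ((f n : Equiv.Perm GolayPt) (pt 16)), cm_st he ((f n : Equiv.Perm GolayPt) (pt 17)),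
        cm_st he ((f n : Equiv.Perm GolayPt) (pt 18)), cm_st he ((f n : Equiv.Perm GolayPt) (pt 19)),
        cm_st he ((f n : Equiv.Perm GolayPt) (pt 20)), cm_st he ((f n : Equiv.Perm GolayPt) (pt 21)),
        cm_st he ((f n : Equiv.Perm GolayPt) (pt 22)), cm_st he ((f n : Equiv.Perm GolayPt) (pt 23))]
      rfl
    have h6 := congrArg (fun x : E => (x : N)) h1
    rw [MulAut.conjNormal_apply] at h6
    exact h6

end Cfsg.Agent.J4Type.CocodeExt
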