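import Cfsg.Agent.J4Type.ClosingCocode

/-!
# The two facts on the even Golay cocode used in closing arguments

Extracted from helper552's `ClosingCocode.eq_top_of_cocode` (R07, helper607).
-/

set_option autoImplicit false

namespace Cfsg.Agent.J4Type.CocodeFacts

open Cfsg Cfsg.Agent.J4Type.DuadStab Cfsg.Agent.J4Type.Closing Cfsg.Agent.J4Type.ClosingCocode Finset

variable {A : Type*} [CommGroup A] {e : GolayPt → A}

/-- an element of square one normalising the cocode centralises a sextet -/
theorem free_of_cocode {G : Type*} [Group G] (he : IsCocode e)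
    (hgen : ∀ a : A, ∃ S : Finset GolayPt, Even S.card ∧ a = ∏ i ∈ S, e i)
    (ι : A →* G) (hι : Function.Injective ι) (Z : Set G)
    (hZA : ∀ a : A, ι a ∈ Z ↔ IsSextet e a)
    (hZn : ∀ y ∈ Z, ∀ g : G, g * y * g⁻¹ ∈ Z) :
    ∀ t : G, t * t = 1 → (∀ v ∈ ι.range, t * v * t⁻¹ ∈ ι.range) →
      ∃ y ∈ ι.range, y ∈ Z ∧ t * y = y * t := by
  classical
  have htri := trichotomy he hgen
  have hsq : ∀ a : A, a * a = 1 := by
    intro a
    obtain ⟨S, -, rfl⟩ := hgen a
    rw [← Finset.prod_mul_distrib]
    exact Finset.prod_eq_one fun i _ => he.sq i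
  have hnotZ : ∀ a : A, ι a ∉ Z → a = 1 ∨ IsDuad e a := by
    intro a ha
    rcases htri a with h | h | h
    · exact Or.inl h
    · exact Or.inr h
    · exact absurd ((hZA a).2 h) ha
  intro t ht hnorm
  have hg : ∀ a : A, ∃ b : A, ι b = t * ι a * t⁻¹ := fun a => hnorm _ ⟨a, rfl⟩
  choose g hgι using hg
  let gh : A →* A :=
    { toFun := g
      map_one' := by
        apply hι
        rw [hgι, map_one]; group
      map_mul' := by
        intro x y
        apply hι
        rw [map_mul, hgι, hgι, hgι, map_mul]; group }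
  have hgg : ∀ a, g (g a) = a := by
    intro a
    apply hι
    rw [hgι, hgι]
    have : t⁻¹ = t := inv_eq_of_mul_eq_one_left ht
    calc t * (t * ι a * t⁻¹) * t⁻¹ = (t * t) * ι a * (t⁻¹ * t⁻¹) := by group
      _ = ι a := by rw [this, ht, one_mul, mul_one]
  have hduad : ∀ i j, i ≠ j → ∃ k l, k ≠ l ∧ gh (e i * e j) = e k * e l := by
    intro i j hij
    have hd : IsDuad e (e i * e j) := ⟨i, j, hij, rfl⟩
    have h1 : ι (g (e i * e j)) ∉ Z := by
      intro h
      rw [hgι] at h
      have h2 := hZn _ h t⁻¹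
      have h3 : t⁻¹ * (t * ι (e i * e j) * t⁻¹) * t⁻¹⁻¹ = ι (e i * e j) := by group
      rw [h3, hZA] at h2
      exact hd.not_sextet he h2
    rcases hnotZ _ h1 with h2 | h2
    · exfalso
      have := hgg (e i * e j)
      rw [h2] at this
      have h3 : g 1 = 1 := gh.map_one
      rw [h3] at this
      exact hd.ne_one he this.symm
    · exact h2
  obtain ⟨π, -, hπ⟩ := he.exists_perm gh hduad
  have hππ : π * π = 1 := by
    apply he.perm_unique
    intro i j
    have h1 := hgg (e i * e j)
    have h2 : g (e i * e j) = e (π i) * e (π j) := hπ i j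
    have h3 : g (e (π i) * e (π j)) = e (π (π i)) * e (π (π j)) := hπ (π i) (π j)
    rw [h2, h3] at h1
    exact h1
  obtain ⟨S, hS4, hSπ⟩ := exists_inv_four π (fun i => by
    have := congrArg (fun f : Equiv.Perm GolayPt => f i) hππ
    exact this)
  have h4 := map_prod gh π hπ S (by rw [hS4]; decide)
  rw [hSπ] at h4
  refine ⟨ι (∏ i ∈ S, e i), ⟨_, rfl⟩, (hZA _).2 ⟨S, hS4, rfl⟩, ?_⟩
  have h5 : ι (g (∏ i ∈ S, e i)) = ι (∏ i ∈ S, e i) := by
    have : gh (∏ i ∈ S, e i) = g (∏ i ∈ S, e i) := rfl
    rw [← this, h4]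
  rw [hgι] at h5
  calc t * ι (∏ i ∈ S, e i) = t * ι (∏ i ∈ S, e i) * t⁻¹ * t := by group
    _ = _ := by rw [h5]

/-- the non-homogeneity of the cosets of a sextet-free subgroup -/
theorem cos_of_cocode {G : Type*} [Group G] [Finite G] (he : IsCocode e)
    (hgen : ∀ a : A, ∃ S : Finset GolayPt, Even S.card ∧ a = ∏ i ∈ S, e i)
    (ι : A →* G) (hι : Function.Injective ι) (Z : Set G)
    (hZA : ∀ a : A, ι a ∈ Z ↔ IsSextet e a) :
    ∀ S : Subgroup G, S ≤ ι.range → S ≠ ⊥ → (∀ s ∈ S, s ∉ Z) →
      ∃ d ∈ ι.range, d ∉ S ∧ ∃ e ∈ ι.range, e ∉ S ∧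
        Set.ncard {s | s ∈ S ∧ d * s ∈ Z} ≠ Set.ncard {s | s ∈ S ∧ e * s ∈ Z} := by
  classical
  have htri := trichotomy he hgen
  have hsq : ∀ a : A, a * a = 1 := by
    intro a
    obtain ⟨S, -, rfl⟩ := hgen a
    rw [← Finset.prod_mul_distrib]
    exact Finset.prod_eq_one fun i _ => he.sq i
  have hnotZ : ∀ a : A, ι a ∉ Z → a = 1 ∨ IsDuad e a := by
    intro a ha
    rcases htri a with h | h | h
    · exact Or.inl h
    · exact Or.inr h
    · exact absurd ((hZA a).2 h) ha
  have hcardG : Fintype.card GolayPt = 24 := by decide +kernel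
  have hpick : ∀ T : Finset GolayPt, T.card < 24 → ∃ x, x ∉ T := by
    intro T hT
    obtain ⟨x, -, hx⟩ := Finset.exists_mem_notMem_of_card_lt_card
      (s := T) (t := Finset.univ) (by rw [Finset.card_univ, hcardG]; exact hT)
    exact ⟨x, hx⟩
  have hZ1 : (1 : G) ∉ Z := by
    intro h
    rw [← map_one ι, hZA] at h
    exact h.ne_one he rfl
  intro S hSE hS1 hSZ
  have hSd : ∀ s ∈ S, s ≠ 1 → ∃ i j, i ≠ j ∧ s = ι (e i * e j) := by
    intro s hs h1
    obtain ⟨a, rfl⟩ := hSE hs
    rcases hnotZ a (hSZ _ hs) with h | ⟨i, j, hij, rfl⟩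
    · exact absurd (by rw [h, map_one]) h1
    · exact ⟨i, j, hij, rfl⟩
  have hsext' : ∀ {a b c d : GolayPt}, a ≠ b → a ≠ c → a ≠ d → b ≠ c → b ≠ d → c ≠ d →
      ι (e a * e b * (e c * e d)) ∈ Z := by
    intro a b c d h1 h2 h3 h4 h5 h6
    exact (hZA _).2 (sextet_mk h1 h2 h3 h4 h5 h6)
  have hduadZ : ∀ {a b : GolayPt}, a ≠ b → ι (e a * e b) ∉ Z := by
    intro a b hab h
    exact IsDuad.not_sextet he ⟨a, b, hab, rfl⟩ ((hZA _).1 h)
  have hduad1 : ∀ {a b : GolayPt}, a ≠ b → ι (e a * e b) ≠ 1 := by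
    intro a b hab h
    rw [← map_one ι] at h
    exact IsDuad.ne_one he ⟨a, b, hab, rfl⟩ (hι h)
  -- equality of duads
  have hduadeq : ∀ {a b c d : GolayPt}, a ≠ b → c ≠ d → ι (e a * e b) = ι (e c * e d) →
      (a = c ∧ b = d) ∨ (a = d ∧ b = c) := by
    intro a b c d hab hcd h
    have h1 : e a * e b = e c * e d := hι h
    have h2 : ∏ k ∈ symmDiff ({a, b} : Finset GolayPt) {c, d}, e k = 1 := by
      rw [prod_symmDiff he.sq, Finset.prod_pair hab, Finset.prod_pair hcd, h1, hsq]
    have h3 := he.eq_empty _ (by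
        rw [Nat.even_iff, card_symmDiff_parity, Finset.card_pair hab, Finset.card_pair hcd])
      (by
        have h3 := Finset.card_le_card (Finset.symmDiff_subset_union
          (s := ({a, b} : Finset GolayPt)) (t := {c, d}))
        have h4 := Finset.card_union_le ({a, b} : Finset GolayPt) {c, d}
        have h5 := Finset.card_pair hab
        have h6 := Finset.card_pair hcd
        omega) h2
    have h4 : ({a, b} : Finset GolayPt) = {c, d} := symmDiff_eq_bot.1 h3
    have h5 : a ∈ ({c, d} : Finset GolayPt) := by rw [← h4]; simp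
    have h6 : b ∈ ({c, d} : Finset GolayPt) := by rw [← h4]; simp
    simp only [Finset.mem_insert, Finset.mem_singleton] at h5 h6
    rcases h5 with rfl | rfl <;> rcases h6 with rfl | rfl
    · exact absurd rfl hab
    · exact Or.inl ⟨rfl, rfl⟩
    · exact Or.inr ⟨rfl, rfl⟩
    · exact absurd rfl hab
  obtain ⟨u, huS, hu1⟩ : ∃ u ∈ S, u ≠ 1 := by
    by_contra h
    push Not at h
    exact hS1 ((Subgroup.eq_bot_iff_forall S).mpr h)
  obtain ⟨a, b, hab, rfl⟩ := hSd u huS hu1
  by_cases hcase : ∀ s ∈ S, s = 1 ∨ s = ι (e a * e b)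
  · -- `S = {1, ab}`
    obtain ⟨c, hc⟩ := hpick {a, b} (by
      have := Finset.card_le_two (a := a) (b := b); omega)
    obtain ⟨d, hd⟩ := hpick {a, b, c} (by
      have := Finset.card_le_three (a := a) (b := b) (c := c); omega)
    simp only [Finset.mem_insert, Finset.mem_singleton, not_or] at hc hd
    have hSmem : ∀ s, s ∈ S ↔ s = 1 ∨ s = ι (e a * e b) := by
      intro s
      constructor
      · exact hcase s
      · rintro (rfl | rfl)
        · exact S.one_mem
        · exact huS
    refine ⟨ι (e a * e c), ⟨_, rfl⟩, ?_, ι (e c * e d), ⟨_, rfl⟩, ?_, ?_⟩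
    · rw [hSmem]
      rintro (h | h)
      · exact hduad1 (Ne.symm hc.1) h
      · rcases hduadeq (Ne.symm hc.1) hab h with ⟨-, h⟩ | ⟨h, -⟩
        · exact hc.2 h
        · exact hab h
    · rw [hSmem]
      rintro (h | h)
      · exact hduad1 (Ne.symm hd.2.2) h
      · rcases hduadeq (Ne.symm hd.2.2) hab h with ⟨h, -⟩ | ⟨h, -⟩
        · exact hc.1 h
        · exact hc.2 h
    · have h1 : {s | s ∈ S ∧ ι (e a * e c) * s ∈ Z} = ∅ := by
        rw [Set.eq_empty_iff_forall_notMem]
        rintro s ⟨hs, hsZ⟩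
        rcases hcase s hs with rfl | rfl
        · rw [mul_one] at hsZ
          exact hduadZ (Ne.symm hc.1) hsZ
        · rw [← map_mul] at hsZ
          have : e a * e c * (e a * e b) = e c * e b := by
            calc e a * e c * (e a * e b) = (e a * e a) * (e c * e b) := by ac_rfl
              _ = _ := by rw [he.sq, one_mul]
          rw [this] at hsZ
          exact hduadZ hc.2 hsZ
      have h2 : ι (e a * e b) ∈ {s | s ∈ S ∧ ι (e c * e d) * s ∈ Z} := by
        refine ⟨huS, ?_⟩
        rw [← map_mul]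
        exact hsext' (Ne.symm hd.2.2) hc.1 hc.2 hd.1 hd.2.1 hab
      rw [h1, Set.ncard_empty]
      have h3 : 0 < Set.ncard {s | s ∈ S ∧ ι (e c * e d) * s ∈ Z} :=
        (Set.ncard_pos (Set.toFinite _)).2 ⟨_, h2⟩
      omega
  · -- there is another duad
    push Not at hcase
    obtain ⟨v, hvS, hv1, hvu⟩ := hcase
    obtain ⟨c, d, hcd, rfl⟩ := hSd v hvS hv1
    -- normalise: `S ∋ xy, xz`
    obtain ⟨x, y, z, hxy, hxz, hyz, hxyS, hxzS⟩ : ∃ x y z : GolayPt, x ≠ y ∧ x ≠ z ∧ y ≠ z ∧
        ι (e x * e y) ∈ S ∧ ι (e x * e z) ∈ S := by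
      have hprod : ι (e a * e b * (e c * e d)) ∈ S := by
        rw [map_mul]; exact S.mul_mem huS hvS
      have hprodZ := hSZ _ hprod
      by_cases h1 : a = c
      · subst h1
        refine ⟨a, b, d, hab, hcd, ?_, huS, hvS⟩
        rintro rfl; exact hvu rfl
      by_cases h2 : a = d
      · subst h2
        refine ⟨a, b, c, hab, h1, ?_, huS, by rw [mul_comm]; exact hvS⟩
        rintro rfl; exact hvu (by rw [mul_comm])
      by_cases h3 : b = c
      · subst h3
        exact ⟨b, a, d, hab.symm, hcd, h2, by rw [mul_comm]; exact huS, hvS⟩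
      by_cases h4 : b = d
      · subst h4
        exact ⟨b, a, c, hab.symm, h3, h1, by rw [mul_comm]; exact huS,
          by rw [mul_comm]; exact hvS⟩
      exact absurd (hsext' hab h1 h2 h3 h4 hcd) hprodZ
    have hyzS : ι (e y * e z) ∈ S := by
      have h1 := S.mul_mem hxyS hxzS
      rw [← map_mul] at h1
      have : e x * e y * (e x * e z) = e y * e z := by
        calc e x * e y * (e x * e z) = (e x * e x) * (e y * e z) := by ac_rfl
          _ = _ := by rw [he.sq, one_mul]
      rwa [this] at h1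
    have hSmem : ∀ s ∈ S, s = 1 ∨ s = ι (e x * e y) ∨ s = ι (e x * e z) ∨
        s = ι (e y * e z) := by
      intro s hs
      by_cases hs1 : s = 1
      · exact Or.inl hs1
      right
      obtain ⟨p, q, hpq, rfl⟩ := hSd s hs hs1
      -- `pq` meets `xy`, `xz`, `yz`
      have hmeet : ∀ {r t : GolayPt}, r ≠ t → ι (e r * e t) ∈ S →
          r = p ∨ r = q ∨ t = p ∨ t = q := by
        intro r t hrt hrtS
        by_contra hcon
        push Not at hcon
        have h1 := S.mul_mem hrtS hs
        rw [← map_mul] at h1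
        exact hSZ _ h1 (hsext' hrt hcon.1 hcon.2.1 hcon.2.2.1 hcon.2.2.2 hpq)
      have m1 := hmeet hxy hxyS
      have m2 := hmeet hxz hxzS
      have m3 := hmeet hyz hyzS
      have hcomm : ∀ r t : GolayPt, ι (e r * e t) = ι (e t * e r) := fun r t => by
        rw [mul_comm]
      by_cases c1 : x = p
      · subst c1
        by_cases c2 : y = q
        · subst c2; exact Or.inl rfl
        by_cases c3 : z = q
        · subst c3; exact Or.inr (Or.inl rfl)
        rcases m3 with h | h | h | h
        · exact absurd h (Ne.symm hxy)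
        · exact absurd h c2
        · exact absurd h (Ne.symm hxz)
        · exact absurd h c3
      by_cases c1' : x = q
      · subst c1'
        by_cases c2 : y = p
        · subst c2; exact Or.inl (hcomm _ _)
        by_cases c3 : z = p
        · subst c3; exact Or.inr (Or.inl (hcomm _ _))
        rcases m3 with h | h | h | h
        · exact absurd h c2
        · exact absurd h (Ne.symm hxy)
        · exact absurd h c3
        · exact absurd h (Ne.symm hxz)
      · have m1' : y = p ∨ y = q := by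
          rcases m1 with h | h | h | h
          · exact absurd h c1
          · exact absurd h c1'
          · exact Or.inl h
          · exact Or.inr h
        have m2' : z = p ∨ z = q := by
          rcases m2 with h | h | h | h
          · exact absurd h c1
          · exact absurd h c1'
          · exact Or.inl h
          · exact Or.inr h
        rcases m1' with rfl | rfl <;> rcases m2' with h | h
        · exact absurd h (Ne.symm hyz)
        · subst h; exact Or.inr (Or.inr rfl)
        · subst h; exact Or.inr (Or.inr (hcomm _ _))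
        · exact absurd h (Ne.symm hyz)
    obtain ⟨w, hw⟩ := hpick {x, y, z} (by
      have := Finset.card_le_three (a := x) (b := y) (c := z); omega)
    obtain ⟨w', hw'⟩ := hpick {x, y, z, w} (by
      have := Finset.card_le_four (a := x) (b := y) (c := z) (d := w); omega)
    simp only [Finset.mem_insert, Finset.mem_singleton, not_or] at hw hw'
    have hnotin : ∀ {p q : GolayPt}, p ≠ q → q ≠ x → q ≠ y → q ≠ z → ι (e p * e q) ∉ S := by
      intro p q hpq h1 h2 h3 hmem
      rcases hSmem _ hmem with h | h | h | h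
      · exact hduad1 hpq h
      · rcases hduadeq hpq hxy h with ⟨-, h⟩ | ⟨-, h⟩
        · exact h2 h
        · exact h1 h
      · rcases hduadeq hpq hxz h with ⟨-, h⟩ | ⟨-, h⟩
        · exact h3 h
        · exact h1 h
      · rcases hduadeq hpq hyz h with ⟨-, h⟩ | ⟨-, h⟩
        · exact h3 h
        · exact h2 h
    refine ⟨ι (e x * e w), ⟨_, rfl⟩, hnotin (Ne.symm hw.1) hw.1 hw.2.1 hw.2.2,
      ι (e w * e w'), ⟨_, rfl⟩, hnotin (Ne.symm hw'.2.2.2) hw'.1 hw'.2.1 hw'.2.2.1, ?_⟩
    -- first count at most one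
    have h1 : {s | s ∈ S ∧ ι (e x * e w) * s ∈ Z} ⊆ {ι (e y * e z)} := by
      rintro s ⟨hs, hsZ⟩
      rcases hSmem s hs with rfl | rfl | rfl | rfl
      · exfalso
        rw [mul_one] at hsZ
        exact hduadZ (Ne.symm hw.1) hsZ
      · exfalso
        rw [← map_mul] at hsZ
        have : e x * e w * (e x * e y) = e w * e y := by
          calc e x * e w * (e x * e y) = (e x * e x) * (e w * e y) := by ac_rfl
            _ = _ := by rw [he.sq, one_mul]
        rw [this] at hsZ
        exact hduadZ hw.2.1 hsZ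
      · exfalso
        rw [← map_mul] at hsZ
        have : e x * e w * (e x * e z) = e w * e z := by
          calc e x * e w * (e x * e z) = (e x * e x) * (e w * e z) := by ac_rfl
            _ = _ := by rw [he.sq, one_mul]
        rw [this] at hsZ
        exact hduadZ hw.2.2 hsZ
      · exact rfl
    have h1' := Set.ncard_le_ncard h1 (Set.toFinite _)
    rw [Set.ncard_singleton] at h1'
    have h2 : {ι (e x * e y), ι (e x * e z)} ⊆ {s | s ∈ S ∧ ι (e w * e w') * s ∈ Z} := by
      intro s hs
      rw [Set.mem_insert_iff, Set.mem_singleton_iff] at hs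
      rcases hs with rfl | rfl
      · refine ⟨hxyS, ?_⟩
        rw [← map_mul]
        exact hsext' (Ne.symm hw'.2.2.2) hw.1 hw.2.1 hw'.1 hw'.2.1 hxy
      · refine ⟨hxzS, ?_⟩
        rw [← map_mul]
        exact hsext' (Ne.symm hw'.2.2.2) hw.1 hw.2.2 hw'.1 hw'.2.2.1 hxz
    have h2' := Set.ncard_le_ncard h2 (Set.toFinite _)
    rw [Set.ncard_pair (by
      intro h
      rcases hduadeq hxy hxz h with ⟨-, h⟩ | ⟨h, -⟩
      · exact hyz h
      · exact hxz h)] at h2'
    omega


end Cfsg.Agent.J4Type.CocodeFacts
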