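import Cfsg.Agent.J4Type.FrameDefs

/-!
# The subgroup `R` (R07 (d), helper856)

`R_ker`, `R_card`, `R_conj`.
-/

set_option autoImplicit false

namespace Cfsg.Agent.J4Type.FrameR

open Cfsg Cfsg.Agent.J4Type.HexMax Cfsg.Agent.J4Type.FrameDefs
open scoped Pointwise

section

variable {G : Type*} [Group G] (H : Hex G)

theorem ρ_z : H.ρ * H.z * H.ρ⁻¹ = H.z := by rw [H.ρ_comm, mul_inv_cancel_right]

theorem nm_z : nm H H.z = H.z := by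
  unfold nm
  rw [ρ_z, ρ_z, zz H.toCent, one_mul]

theorem hex01_card : (hex0 ∩ hex1).card = 2 := by decide +kernel

theorem inf_eq {a : G} (h0 : a ∈ H.E hex0) (h1 : a ∈ H.E hex1) : a = 1 ∨ a = H.z := by
  have hc := H.E_inf_two hex0 hex1 hex0_isHex hex1_isHex hex01_card
  obtain ⟨x, y, hxy, huniv⟩ := Nat.card_eq_two_iff.1 hc
  have hall : ∀ w : (H.E hex0 ⊓ H.E hex1 : Subgroup G), w = x ∨ w = y := by
    intro w
    have : w ∈ ({x, y} : Set _) := by rw [huniv]; trivial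
    simpa using this
  have hz : H.z ∈ (H.E hex0 ⊓ H.E hex1 : Subgroup G) :=
    ⟨H.z_mem_E _ hex0_isHex, H.z_mem_E _ hex1_isHex⟩
  have hz1 : (⟨H.z, hz⟩ : (H.E hex0 ⊓ H.E hex1 : Subgroup G)) ≠ 1 := fun h =>
    z_ne H.toCent (congrArg Subtype.val h)
  have ha : a ∈ (H.E hex0 ⊓ H.E hex1 : Subgroup G) := ⟨h0, h1⟩
  by_cases h : a = 1
  · exact Or.inl h
  · right
    have ha1 : (⟨a, ha⟩ : (H.E hex0 ⊓ H.E hex1 : Subgroup G)) ≠ 1 := fun h' =>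
      h (congrArg Subtype.val h')
    have : (⟨a, ha⟩ : (H.E hex0 ⊓ H.E hex1 : Subgroup G)) = ⟨H.z, hz⟩ := by
      rcases hall ⟨a, ha⟩ with h2 | h2 <;> rcases hall ⟨H.z, hz⟩ with h3 | h3 <;>
        rcases hall 1 with h4 | h4
      · rw [h2, h3]
      · rw [h2, h3]
      · exact absurd (h2.trans h4.symm) ha1
      · exact absurd (h3.trans h4.symm) hz1
      · exact absurd (h3.trans h4.symm) hz1
      · exact absurd (h2.trans h4.symm) ha1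
      · rw [h2, h3]
      · rw [h2, h3]
    exact congrArg Subtype.val this

/-- norms of elements of `E hex1 ∩ Q` are in `⟨z⟩` -/
theorem nm_mem {a : G} (h1 : a ∈ H.E hex1) (hQ : a ∈ H.Q) : nm H a = 1 ∨ nm H a = H.z := by
  have hc := (H.E_elem hex1 hex1_isHex).2
  have ha1 := (ρ_E H hex1_isHex a).1 h1
  have ha2 := (ρ_E H hex1_isHex _).1 ha1
  have hq1 := ρ_Q H hQ
  have hq2 := ρ_Q H hq1
  have hmem : nm H a ∈ H.Q := mul_mem (mul_mem hQ hq1) hq2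
  apply H.ρ_fix _ hmem
  rw [← mul_inv_eq_iff_eq_mul]
  unfold nm
  set a1 := H.ρ * a * H.ρ⁻¹ with ha1'
  set a2 := H.ρ * a1 * H.ρ⁻¹ with ha2'
  have e1 : H.ρ * (a * a1 * a2) * H.ρ⁻¹ = a1 * a2 * (H.ρ * a2 * H.ρ⁻¹) := by
    rw [ha2', ha1']; group
  have e2 : H.ρ * a2 * H.ρ⁻¹ = a := by
    have h3 := ρ_cube H.toCent
    have h4 : H.ρ⁻¹ * H.ρ⁻¹ * H.ρ⁻¹ = 1 := by
      have := congrArg (·⁻¹) h3
      simpa [mul_assoc] using this
    have e3 : H.ρ * a2 * H.ρ⁻¹ = (H.ρ * H.ρ * H.ρ) * a * (H.ρ⁻¹ * H.ρ⁻¹ * H.ρ⁻¹) := by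
      rw [ha2', ha1']; group
    rw [e3, h3, h4, one_mul, mul_one]
  rw [e1, e2]
  calc a1 * a2 * a = a1 * (a2 * a) := mul_assoc _ _ _
    _ = a1 * (a * a2) := by rw [hc a2 ha2 a h1]
    _ = (a1 * a) * a2 := (mul_assoc _ _ _).symm
    _ = a * a1 * a2 := by rw [hc a1 ha1 a h1]

/-- the subgroup `E hex1 ∩ Q` -/
def A1 : Subgroup G := H.E hex1 ⊓ H.Q

/-- the norm as a homomorphism on `E hex1 ∩ Q` -/
def nmHom : (A1 H) →* G where
  toFun a := nm H a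
  map_one' := by simp [nm]
  map_mul' a b := nm_mul H a.2.1 b.2.1

theorem RG_card : Nat.card (RG H) = 64 := by
  have h1 : Nat.card (A1 H) = 2 ^ 7 := H.A_card hex1 hex1_isHex
  have hfin : Finite (A1 H) := Nat.finite_of_card_ne_zero (by rw [h1]; norm_num)
  have h2 : Nat.card (nmHom H).range = 2 := by
    have h3 : (nmHom H).range = Subgroup.zpowers H.z := by
      apply le_antisymm
      · rintro _ ⟨a, rfl⟩
        rcases nm_mem H a.2.1 a.2.2 with h | h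
        · show nm H a ∈ _
          rw [h]; exact one_mem _
        · show nm H a ∈ _
          rw [h]; exact Subgroup.mem_zpowers _
      · rw [Subgroup.zpowers_le]
        exact ⟨⟨H.z, H.z_mem_E _ hex1_isHex, H.z_mem_Q⟩, nm_z H⟩
    rw [h3, Nat.card_zpowers, H.z_order]
  have h4 : Nat.card (nmHom H).ker = 64 := by
    have h5 := Subgroup.card_mul_index (nmHom H).ker
    rw [Subgroup.index_ker, h2, h1] at h5
    omega
  rw [← h4]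
  refine Nat.card_congr ⟨fun r => ⟨⟨r, r.2.1, r.2.2.1⟩, r.2.2.2⟩, fun a => ⟨a, a.1.2.1, a.1.2.2, a.2⟩,
    fun _ => rfl, fun _ => rfl⟩

theorem z_notMem_RG : H.z ∉ RG H := by
  intro h
  have := h.2.2
  rw [nm_z] at this
  exact z_ne H.toCent this

theorem nm_conj {y a : G} (hy : y ∈ YG H) (ha : a ∈ H.E hex1) :
    nm H (y * a * y⁻¹) = y * nm H a * y⁻¹ := by
  have hc := (H.E_elem hex1 hex1_isHex).2
  have ha1 := (ρ_E H hex1_isHex a).1 ha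
  have ha2 := (ρ_E H hex1_isHex _).1 ha1
  obtain ⟨_, _, h⟩ := hy
  unfold nm
  rcases h with h | h
  · have h' : H.ρ * y = y * H.ρ := by
      rw [mul_inv_eq_iff_eq_mul] at h; exact h.symm
    have e1 : H.ρ * (y * a * y⁻¹) * H.ρ⁻¹ = y * (H.ρ * a * H.ρ⁻¹) * y⁻¹ := by
      calc H.ρ * (y * a * y⁻¹) * H.ρ⁻¹ = (H.ρ * y) * a * (H.ρ * y)⁻¹ := by group
        _ = (y * H.ρ) * a * (y * H.ρ)⁻¹ := by rw [h']
        _ = _ := by group
    rw [e1]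
    set a1 := H.ρ * a * H.ρ⁻¹
    have e2 : H.ρ * (y * a1 * y⁻¹) * H.ρ⁻¹ = y * (H.ρ * a1 * H.ρ⁻¹) * y⁻¹ := by
      calc H.ρ * (y * a1 * y⁻¹) * H.ρ⁻¹ = (H.ρ * y) * a1 * (H.ρ * y)⁻¹ := by group
        _ = (y * H.ρ) * a1 * (y * H.ρ)⁻¹ := by rw [h']
        _ = _ := by group
    rw [e2]; group
  · have h' : H.ρ * y = y * H.ρ⁻¹ := by
      have h3 : y * H.ρ⁻¹ * y⁻¹ = H.ρ := by
        have h4 : y * H.ρ⁻¹ * y⁻¹ = (y * H.ρ * y⁻¹)⁻¹ := by group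
        rw [h4, h, inv_inv]
      rw [mul_inv_eq_iff_eq_mul] at h3
      exact h3.symm
    have e1 : ∀ x : G, H.ρ * (y * x * y⁻¹) * H.ρ⁻¹ = y * (H.ρ⁻¹ * x * H.ρ) * y⁻¹ := fun x => by
      calc H.ρ * (y * x * y⁻¹) * H.ρ⁻¹ = (H.ρ * y) * x * (H.ρ * y)⁻¹ := by group
        _ = (y * H.ρ⁻¹) * x * (y * H.ρ⁻¹)⁻¹ := by rw [h']
        _ = _ := by group
    rw [e1, e1]
    have h3 : H.ρ⁻¹ = H.ρ * H.ρ := by
      rw [inv_eq_iff_mul_eq_one, ← mul_assoc]; exact ρ_cube H.toCent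
    have h3' : H.ρ = H.ρ⁻¹ * H.ρ⁻¹ := by
      have := congrArg (·⁻¹) h3
      simpa using this
    have e2 : H.ρ⁻¹ * a * H.ρ = H.ρ * (H.ρ * a * H.ρ⁻¹) * H.ρ⁻¹ := by
      calc H.ρ⁻¹ * a * H.ρ = (H.ρ * H.ρ) * a * (H.ρ⁻¹ * H.ρ⁻¹) := by rw [← h3, ← h3']
        _ = _ := by group
    have e3 : H.ρ⁻¹ * (H.ρ⁻¹ * a * H.ρ) * H.ρ = H.ρ * a * H.ρ⁻¹ := by
      calc H.ρ⁻¹ * (H.ρ⁻¹ * a * H.ρ) * H.ρ = (H.ρ⁻¹ * H.ρ⁻¹) * a * (H.ρ * H.ρ) := by group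
        _ = _ := by rw [← h3', ← h3]
    rw [e3, e2]
    set a1 := H.ρ * a * H.ρ⁻¹
    set a2 := H.ρ * a1 * H.ρ⁻¹
    have e4 : y * a * y⁻¹ * (y * a2 * y⁻¹) * (y * a1 * y⁻¹) = y * (a * (a2 * a1)) * y⁻¹ := by group
    rw [e4, hc a2 ha2 a1 ha1, mul_assoc a a1 a2]

theorem RG_conj {y r : G} (hy : y ∈ YG H) (hr : r ∈ RG H) : y * r * y⁻¹ ∈ RG H := by
  obtain ⟨hC, hP, hρ⟩ := hy
  refine ⟨?_, ?_, ?_⟩
  · have h := (H.E_conj hex1 hex1_isHex ⟨y, hC⟩ r).1 hr.1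
    rw [hP] at h
    exact h
  · exact H.Q_conj y (Subgroup.mem_centralizer_singleton_iff.1 hC) r hr.2.1
  · rw [nm_conj H ⟨hC, hP, hρ⟩ hr.1, hr.2.2, mul_one, mul_inv_cancel]

end

variable {G : Type*} [Group G] (F : Frame G)

theorem R_card : Nat.card (R F) = 64 := by
  rw [← RG_card F.toHex]
  exact Nat.card_congr (Subgroup.subgroupOfEquivOfLe (RG_le F.toHex)).toEquiv

theorem R_ker : ∀ r ∈ R F, F.π r = 1 → r = 1 := by
  intro r hr h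
  rw [F.π_ker] at h
  rw [mem_R] at hr
  rcases inf_eq F.toHex h hr.1 with h1 | h1
  · exact Subtype.ext h1
  · rw [h1] at hr
    exact absurd hr (z_notMem_RG F.toHex)

theorem R_conj : ∀ y ∈ Y F, ∀ r ∈ R F, y * r * y⁻¹ ∈ R F := by
  intro y hy r hr
  rw [mem_Y] at hy
  rw [mem_R] at hr ⊢
  exact RG_conj F.toHex hy hr

end Cfsg.Agent.J4Type.FrameR
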