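import Cfsg.Agent.J4Type.FrameDefs

/-!
# The elements of `R` are the column translations (R07 (d), helper523)

* `R_col` : `π r` fixes the columns for `r ∈ R`;
* `exists_Tr` : `π r` acts on each column as a translation of `F_4`;
* `eq_one` : an element of `M24` acting as a translation on each column and fixing three of the
  points `mog i 0` is trivial;
* `R_r0` : `r0 ∈ π R`.
-/

set_option autoImplicit false

namespace Cfsg.Agent.J4Type.FrameRr0

open Cfsg Cfsg.Agent.SporadicA.GolayBase Cfsg.Agent.SporadicA.GolayPerm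
open Cfsg.Agent.J4Type.CocodeMask Cfsg.Agent.J4Type.CocodeExt Cfsg.Agent.J4Type.SplitData
open Cfsg.Agent.J4Type.FrameDefs Cfsg.Agent.J4Type.HexMax
open Cfsg.Agent.J4Type.DuadStab (card_symmDiff_parity)
open scoped Pointwise

/-! ### Columns and rows -/

/-- the column of a point -/
def cl (p : GolayPt) : Fin 6 := ⟨col (idx p) % 6, Nat.mod_lt _ (by norm_num)⟩

/-- the row of a point -/
def row (p : GolayPt) : Fin 4 :=
  ⟨(65826359743545 >>> (2 * idx p)) % 4, Nat.mod_lt _ (by norm_num)⟩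

theorem col_eq : ∀ p : GolayPt, col (idx p) = (cl p : ℕ) := by decide +kernel

theorem mog_cl_row : ∀ p : GolayPt, mog (cl p) (row p) = p := by decide +kernel

theorem cl_mog : ∀ (i : Fin 6) (x : Fin 4), cl (mog i x) = i := by decide +kernel

theorem row_mog : ∀ (i : Fin 6) (x : Fin 4), row (mog i x) = x := by decide +kernel

theorem mog_inj {i : Fin 6} {x y : Fin 4} : mog i x = mog i y ↔ x = y :=
  ⟨fun h => by rw [← row_mog i x, h, row_mog], fun h => by rw [h]⟩

theorem mem_tet {p : GolayPt} {i : Fin 6} : p ∈ tet i ↔ cl p = i := by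
  unfold tet
  rw [Finset.mem_image]
  constructor
  · rintro ⟨x, -, rfl⟩
    exact cl_mog i x
  · rintro rfl
    exact ⟨row p, Finset.mem_univ _, mog_cl_row p⟩

theorem card_tet (i : Fin 6) : (tet i).card = 4 := by
  unfold tet
  rw [Finset.card_image_of_injective _ fun x y h => mog_inj.1 h]
  rfl

theorem comb : ∀ a b c d : Fin 6, a ≠ c → b ≠ a → b ≠ c →
    ¬ ((∀ i : Fin 6, ((if a = i then 1 else 0) + (if b = i then 1 else 0) +
        ((if c = i then 1 else 0) + (if d = i then 1 else 0))) % 2 = 0) ∨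
      (∀ i : Fin 6, ((if a = i then 1 else 0) + (if b = i then 1 else 0) +
        ((if c = i then 1 else 0) + (if d = i then 1 else 0))) % 2 = 1)) := by
  decide +kernel

theorem card_inter_pair (p q : GolayPt) (i : Fin 6) :
    (symmDiff {p} {q} ∩ tet i : Finset GolayPt).card % 2 =
      ((if cl p = i then 1 else 0) + (if cl q = i then 1 else 0)) % 2 := by
  have h : (symmDiff {p} {q} ∩ tet i : Finset GolayPt) = symmDiff ({p} ∩ tet i) ({q} ∩ tet i) :=
    inf_symmDiff_distrib_right _ _ _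
  have h1 : ∀ p : GolayPt, ({p} ∩ tet i : Finset GolayPt).card = if cl p = i then 1 else 0 := by
    intro p
    by_cases hp : p ∈ tet i
    · rw [Finset.singleton_inter_of_mem hp, Finset.card_singleton, if_pos (mem_tet.1 hp)]
    · rw [Finset.singleton_inter_of_notMem hp, Finset.card_empty,
        if_neg fun h => hp (mem_tet.2 h)]
  rw [h, card_symmDiff_parity, h1, h1]

theorem card_inter_four (p q r s : GolayPt) (i : Fin 6) :
    (symmDiff (symmDiff {p} {q}) (symmDiff {r} {s}) ∩ tet i : Finset GolayPt).card % 2 =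
      ((if cl p = i then 1 else 0) + (if cl q = i then 1 else 0) +
        ((if cl r = i then 1 else 0) + (if cl s = i then 1 else 0))) % 2 := by
  have h : (symmDiff (symmDiff {p} {q}) (symmDiff {r} {s}) ∩ tet i : Finset GolayPt) =
      symmDiff (symmDiff {p} {q} ∩ tet i) (symmDiff {r} {s} ∩ tet i) :=
    inf_symmDiff_distrib_right _ _ _
  rw [h, card_symmDiff_parity, Nat.add_mod, card_inter_pair, card_inter_pair, ← Nat.add_mod]

/-! ### Commutators -/

section

variable {G : Type*} [Group G] (F : Frame G)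

theorem comm_eq (r : NE F) {S : Finset GolayPt} (hS : Even S.card) :
    F.ε (symmDiff S ((F.π r : Equiv.Perm GolayPt) • S)) =
      F.ε S * ((r : G) * F.ε S * (r : G)⁻¹) := by
  have hS' : Even ((F.π r : Equiv.Perm GolayPt) • S).card := by
    rw [Finset.card_smul_finset]; exact hS
  rw [F.ε_mul _ _ hS hS', ← F.π_smul r S hS]

theorem comm_mem_Q {r : NE F} (hr : (r : G) ∈ F.Q) {S : Finset GolayPt} (hS : Even S.card) :
    F.ε (symmDiff S ((F.π r : Equiv.Perm GolayPt) • S)) ∈ F.Q := by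
  rw [comm_eq F r hS]
  have hz : F.ε S * F.z = F.z * F.ε S :=
    (F.E_elem hex0 hex0_isHex).2 _ (F.ε_mem S hS) _ (F.z_mem_E hex0 hex0_isHex)
  have h1 := F.Q_conj (F.ε S) hz _ hr
  have h2 : (F.ε S)⁻¹ = F.ε S := inv_eq_of_mul_eq_one_right (ε_sq F hS)
  rw [h2] at h1
  have h3 := F.Q.mul_mem h1 (F.Q.inv_mem hr)
  have h4 : F.ε S * ((r : G) * F.ε S * (r : G)⁻¹) = F.ε S * (r : G) * F.ε S * (r : G)⁻¹ := by group
  rw [h4]
  exact h3

/-- `R` fixes the columns. -/
theorem R_cl {r : NE F} (hr : r ∈ R F) (p : GolayPt) :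
    cl ((F.π r : Equiv.Perm GolayPt) p) = cl p := by
  by_contra hne
  obtain ⟨b, hb1, hb2⟩ : ∃ b : Fin 6, b ≠ cl p ∧ b ≠ cl ((F.π r : Equiv.Perm GolayPt) p) := by
    have h : ∀ a c : Fin 6, ∃ b, b ≠ a ∧ b ≠ c := by decide
    exact h _ _
  have hrQ : (r : G) ∈ F.Q := ((mem_R F).1 hr).2.1
  have h1 := comm_mem_Q F hrQ (even_pair p (mog b 0))
  rw [smul_symmDiff] at h1
  have h2 := (F.A_iff _ (even_symmDiff (even_pair _ _) (even_pair _ _))).1 h1
  apply comb (cl p) b (cl ((F.π r : Equiv.Perm GolayPt) p))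
    (cl ((F.π r : Equiv.Perm GolayPt) (mog b 0))) (fun h => hne h.symm) hb1 hb2
  have h3 : ∀ i, _ := fun i => card_inter_four p (mog b 0) ((F.π r : Equiv.Perm GolayPt) p)
    ((F.π r : Equiv.Perm GolayPt) (mog b 0)) i
  simp only [cl_mog] at h3
  rcases h2 with h2 | h2
  · left
    intro i
    rw [← h3 i]
    exact Nat.even_iff.1 (h2 i)
  · right
    intro i
    rw [← h3 i]
    exact Nat.odd_iff.1 (h2 i)

theorem R_col : ∀ r ∈ R F, ∀ p : GolayPt,
    col (idx ((F.π r : Equiv.Perm GolayPt) p)) = col (idx p) := by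
  intro r hr p
  rw [col_eq, col_eq, R_cl F hr]

/-! ### Translations -/

theorem eq_empty_of_isCode {S : Finset GolayPt} {i : Fin 6} (hS : S ⊆ tet i) (h : IsCode S) :
    S = ∅ := by
  have h1 := Finset.card_le_card hS
  rw [card_tet] at h1
  rw [← Finset.card_eq_zero]
  rcases card_of_mem_supports h with h | h | h | h | h <;> omega

/-- duads of a column go to themselves or to their complements in the column -/
theorem duad {r : NE F} (hr : r ∈ R F) (i : Fin 6) (x y : Fin 4) :
    (symmDiff (symmDiff {mog i x} {mog i y})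
        (symmDiff {(F.π r : Equiv.Perm GolayPt) (mog i x)}
          {(F.π r : Equiv.Perm GolayPt) (mog i y)}) : Finset GolayPt) = ∅ ∨
      (symmDiff (symmDiff {mog i x} {mog i y})
        (symmDiff {(F.π r : Equiv.Perm GolayPt) (mog i x)}
          {(F.π r : Equiv.Perm GolayPt) (mog i y)}) : Finset GolayPt) = tet i := by
  have hrQ : (r : G) ∈ F.Q := ((mem_R F).1 hr).2.1
  have hS := even_pair (mog i x) (mog i y)
  have h1 : F.ε (symmDiff {mog i x} {mog i y}) ∈ F.Q := by
    rw [F.A_iff _ hS]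
    left
    intro j
    rw [Nat.even_iff, card_inter_pair, cl_mog, cl_mog]
    split_ifs <;> rfl
  have h2 := comm_eq F r hS
  rw [smul_symmDiff] at h2
  set S : Finset GolayPt := symmDiff {mog i x} {mog i y} with hSdef
  set T : Finset GolayPt := symmDiff {(F.π r : Equiv.Perm GolayPt) (mog i x)}
    {(F.π r : Equiv.Perm GolayPt) (mog i y)} with hTdef
  have hT : Even T.card := even_pair _ _
  have hsub : symmDiff S T ⊆ tet i := by
    intro p hp
    rw [mem_tet]
    simp only [hSdef, hTdef, Finset.mem_symmDiff, Finset.mem_singleton] at hp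
    rcases hp with ⟨⟨rfl, -⟩ | ⟨rfl, -⟩, -⟩ | ⟨⟨rfl, -⟩ | ⟨rfl, -⟩, -⟩
    · exact cl_mog _ _
    · exact cl_mog _ _
    · rw [R_cl F hr, cl_mog]
    · rw [R_cl F hr, cl_mog]
  have hST := even_symmDiff hS hT
  have htet : Even (tet i).card := by rw [card_tet]; exact ⟨2, rfl⟩
  rcases F.Q_comm _ hrQ _ h1 with h3 | h3
  · left
    apply eq_empty_of_isCode hsub
    rw [← F.ε_ker _ hST, h2, h3, mul_inv_cancel_right]
    exact ε_sq F hS
  · right
    have h4 : F.ε (symmDiff S T) = F.z := by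
      have hz : F.ε S * F.z = F.z * F.ε S :=
        (F.E_elem hex0 hex0_isHex).2 _ (F.ε_mem S hS) _ (F.z_mem_E hex0 hex0_isHex)
      rw [h2, h3]
      calc F.ε S * (F.z * (F.ε S * (r : G)) * (r : G)⁻¹) = F.ε S * F.z * F.ε S := by group
        _ = F.z * (F.ε S * F.ε S) := by rw [hz]; group
        _ = F.z := by rw [ε_sq F hS, mul_one]
    have h5 : F.ε (symmDiff (symmDiff S T) (tet i)) = 1 := by
      rw [F.ε_mul _ _ hST htet, h4, F.ε_tet]
      exact zz F.toCent
    have h6 : symmDiff (symmDiff S T) (tet i) = ∅ := by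
      apply eq_empty_of_isCode (i := i)
      · intro p hp
        rw [Finset.mem_symmDiff] at hp
        rcases hp with ⟨h, -⟩ | ⟨h, -⟩
        · exact hsub h
        · exact h
      · exact (F.ε_ker _ (even_symmDiff hST htet)).1 h5
    exact symmDiff_eq_bot.1 h6

/-- membership in the symmetric difference of two duads of a column -/
def W (x y a b w : Fin 4) : Bool :=
  (decide (w = x) ^^ decide (w = y)) ^^ (decide (w = a) ^^ decide (w = b))

theorem prop4 (p q r s : Prop) [Decidable p] [Decidable q] [Decidable r] [Decidable s] :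
    (((p ∧ ¬q ∨ q ∧ ¬p) ∧ ¬(r ∧ ¬s ∨ s ∧ ¬r)) ∨ ((r ∧ ¬s ∨ s ∧ ¬r) ∧ ¬(p ∧ ¬q ∨ q ∧ ¬p))) ↔
      ((decide p ^^ decide q) ^^ (decide r ^^ decide s)) = true := by
  by_cases p <;> by_cases q <;> by_cases r <;> by_cases s <;> simp [*]

theorem mem_iff_W (i : Fin 6) (x y a b w : Fin 4) :
    mog i w ∈ (symmDiff (symmDiff {mog i x} {mog i y}) (symmDiff {mog i a} {mog i b}) :
      Finset GolayPt) ↔ W x y a b w = true := by
  simp only [Finset.mem_symmDiff, Finset.mem_singleton, mog_inj, W]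
  exact prop4 _ _ _ _

theorem W_spec : ∀ s0 s1 s2 s3 : Fin 4,
    (∀ x y : Fin 4, x ≠ y →
      (∀ w, W x y (![s0, s1, s2, s3] x) (![s0, s1, s2, s3] y) w = false) ∨
      (∀ w, W x y (![s0, s1, s2, s3] x) (![s0, s1, s2, s3] y) w = true)) →
    ∀ x, ![s0, s1, s2, s3] x = x ^^^ s0 := by
  decide +kernel

/-- acting on the columns as the translations by the coordinates of `h` -/
def Tr (g : Equiv.Perm GolayPt) (h : Fin 6 → Fin 4) : Prop :=
  ∀ (i : Fin 6) (x : Fin 4), g (mog i x) = mog i (x ^^^ h i)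

theorem xor_assoc4 : ∀ a b c : Fin 4, (a ^^^ b) ^^^ c = a ^^^ (b ^^^ c) := by decide

theorem Tr.mul {g g' : Equiv.Perm GolayPt} {h h' : Fin 6 → Fin 4} (hg : Tr g h) (hg' : Tr g' h') :
    Tr (g * g') (fun i => h' i ^^^ h i) := by
  intro i x
  rw [Equiv.Perm.mul_apply, hg', hg, xor_assoc4]

theorem exists_Tr {r : NE F} (hr : r ∈ R F) :
    Tr (F.π r : Equiv.Perm GolayPt) (fun i => row ((F.π r : Equiv.Perm GolayPt) (mog i 0))) := by
  intro i x
  set g := (F.π r : Equiv.Perm GolayPt) with hg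
  have h1 : ∀ x, g (mog i x) = mog i (row (g (mog i x))) := by
    intro x
    conv_lhs => rw [← mog_cl_row (g (mog i x))]
    rw [R_cl F hr, cl_mog]
  have h2 : (fun x => row (g (mog i x))) = ![row (g (mog i 0)), row (g (mog i 1)),
      row (g (mog i 2)), row (g (mog i 3))] := by
    funext x
    fin_cases x <;> rfl
  have h3 := W_spec (row (g (mog i 0))) (row (g (mog i 1))) (row (g (mog i 2))) (row (g (mog i 3)))
  rw [← h2] at h3
  have h4 := h3 ?_ x
  · rw [h1 x]
    exact congrArg (mog i) h4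
  · intro x y _
    rcases duad F hr i x y with h5 | h5
    · left
      intro w
      rw [← hg, h1 x, h1 y] at h5
      have h6 := mem_iff_W i x y (row (g (mog i x))) (row (g (mog i y))) w
      rw [h5] at h6
      by_contra hne
      rw [Bool.not_eq_false] at hne
      exact absurd (h6.2 hne) (Finset.notMem_empty _)
    · right
      intro w
      rw [← hg, h1 x, h1 y] at h5
      have h6 := mem_iff_W i x y (row (g (mog i x))) (row (g (mog i y))) w
      rw [h5, mem_tet, cl_mog] at h6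
      exact h6.1 rfl

/-! ### The tables -/

/-- the translation by `(0,0,0,a,b,c)` -/
def T (a b c : Fin 4) : ℕ :=
  pack ((List.range 24).map fun n => (843072092996674255455723835326792727 >>>
    (5 * (4 * (col n) + (((65826359743545 >>> (2 * n)) % 4) ^^^
      ((64 * (a : ℕ) + 256 * (b : ℕ) + 1024 * (c : ℕ)) >>> (2 * col n)) % 4)))) % 32)

theorem T_spec : ∀ a b c : Fin 4, isPerm (T a b c) = true ∧
    (isAut (T a b c) = true → a = 0 ∧ b = 0 ∧ c = 0) := by
  decide +kernel

theorem T_app : ∀ (a b c : Fin 4) (i : Fin 6) (x : Fin 4), papp (T a b c) (idx (mog i x)) =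
    idx (mog i (x ^^^ (![0, 0, 0, a, b, c] i))) := by
  decide +kernel

theorem eq_one {g : Equiv.Perm GolayPt} (hg : g ∈ M24) {h : Fin 6 → Fin 4} (ht : Tr g h)
    (h0 : h 0 = 0) (h1 : h 1 = 0) (h2 : h 2 = 0) : g = 1 := by
  have hh : h = ![0, 0, 0, h 3, h 4, h 5] := by
    funext i
    fin_cases i
    · exact h0
    · exact h1
    · exact h2
    · rfl
    · rfl
    · rfl
  obtain ⟨hP, hA⟩ := T_spec (h 3) (h 4) (h 5)
  have hgP : g = permOf (T (h 3) (h 4) (h 5)) hP := by
    apply Equiv.ext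
    intro p
    apply idx_injective
    rw [idx_permOf]
    conv_lhs => rw [← mog_cl_row p]
    conv_rhs => rw [← mog_cl_row p]
    rw [T_app, ht, ← hh]
  obtain ⟨h3, h4, h5⟩ := hA (isAut_of_mem_M24 hP (hgP ▸ hg))
  apply Equiv.ext
  intro p
  have h6 : h (cl p) = 0 := by
    have : ∀ i, h i = 0 := by
      intro i
      rw [hh, h3, h4, h5]
      fin_cases i <;> rfl
    exact this _
  have h7 : ∀ x : Fin 4, x ^^^ 0 = x := by decide
  have h8 := ht (cl p) (row p)
  rw [h6, h7, mog_cl_row] at h8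
  rw [h8]
  rfl

theorem Tr_r0 : Tr (r0 : Equiv.Perm GolayPt) ![0, 0, 1, 1, 2, 3] := by
  intro i x
  apply idx_injective
  rw [tab_r]
  have h : ∀ (i : Fin 6) (x : Fin 4), papp SplitData.Tr (idx (mog i x)) =
    idx (mog i (x ^^^ (![0, 0, 1, 1, 2, 3] i))) := by decide +kernel
  exact h i x

theorem xor_self4 : ∀ a : Fin 4, a ^^^ a = 0 := by decide

/-- elements of `M24` acting by translations on the columns are determined by three coordinates,
and are involutions -/
theorem eq_of_Tr {g g' : M24} {h h' : Fin 6 → Fin 4} (ht : Tr (g : Equiv.Perm GolayPt) h)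
    (ht' : Tr (g' : Equiv.Perm GolayPt) h') (h0 : h 0 = h' 0) (h1 : h 1 = h' 1)
    (h2 : h 2 = h' 2) : g = g' := by
  have e1 : g * g' = 1 := by
    apply Subtype.ext
    exact eq_one (g * g').2 (ht.mul ht') (by simp only [h0, xor_self4])
      (by simp only [h1, xor_self4]) (by simp only [h2, xor_self4])
  have e2 : g' * g' = 1 := by
    apply Subtype.ext
    exact eq_one (g' * g').2 (ht'.mul ht') (by simp only [xor_self4])
      (by simp only [xor_self4]) (by simp only [xor_self4])
  exact mul_right_cancel (e1.trans e2.symm)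

/-- `r0 ∈ π R` -/
theorem R_r0 (hker : ∀ r ∈ R F, F.π r = 1 → r = 1) (hcard : Nat.card (R F) = 64) :
    ∃ r ∈ R F, F.π r = r0 := by
  let φ : R F → Fin 4 × Fin 4 × Fin 4 := fun r =>
    (row ((F.π (r : NE F) : Equiv.Perm GolayPt) (mog 0 0)),
      row ((F.π (r : NE F) : Equiv.Perm GolayPt) (mog 1 0)),
      row ((F.π (r : NE F) : Equiv.Perm GolayPt) (mog 2 0)))
  have hφ : Function.Injective φ := by
    rintro ⟨r, hr⟩ ⟨r', hr'⟩ h
    have h1 := congrArg Prod.fst h
    have h2 := congrArg (fun x => x.2.1) h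
    have h3 := congrArg (fun x => x.2.2) h
    have h4 : F.π r = F.π r' := eq_of_Tr (exists_Tr F hr) (exists_Tr F hr') h1 h2 h3
    have h5 : r * r'⁻¹ = 1 :=
      hker _ (mul_mem hr (inv_mem hr')) (by rw [map_mul, map_inv, h4, mul_inv_cancel])
    exact Subtype.ext (mul_inv_eq_one.1 h5)
  have hφ' : Function.Bijective φ := by
    apply hφ.bijective_of_nat_card_le
    rw [hcard, Nat.card_eq_fintype_card]
    rfl
  obtain ⟨⟨r, hr⟩, h⟩ := hφ'.2 (0, 0, 1)
  refine ⟨r, hr, ?_⟩
  have h1 := congrArg Prod.fst h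
  have h2 := congrArg (fun x => x.2.1) h
  have h3 := congrArg (fun x => x.2.2) h
  exact eq_of_Tr (exists_Tr F hr) Tr_r0 h1 h2 h3

end

end Cfsg.Agent.J4Type.FrameRr0
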