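import Cfsg.Agent.J4Type.Setup
import Cfsg.Agent.J4Type.CocodeMask
import Cfsg.Agent.SporadicStructure.M24Frame
import Cfsg.Agent.S0381
import Cfsg.Agent.S1604

/-!
# J₄ type: the pointwise stabiliser of `hex0` (R07)

* `fix_hex1` : an element of `M24` fixing `hex0` pointwise and `hex1` is trivial;
* `exists_move` : the pointwise stabiliser of `hex0` is transitive on the 16 hexads meeting `hex0`
  in the two base points only.
-/

set_option autoImplicit false

namespace Cfsg.Agent.J4Type.OctHex0

open Cfsg Cfsg.Agent.SporadicA.GolayBase Cfsg.Agent.SporadicA.GolayPerm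
open Cfsg.Agent.J4Type.CocodeMask Cfsg.Agent.SporadicStructure
open scoped Pointwise

/-- The elements of the pointwise stabiliser of `hex0`, by the image of the point `1`. -/
def tabs : List ℕ :=
  [0, 984818244535754528103549039458486304, 0, 967739223789245171407146504132003936, 0, 0, 0,
   978241746458226444833005867658250464, 983553042649537266979977019204733184,
   959823939071994704882402347086186784, 0, 0, 974394222122509349096603230276913536,
   976539006901119804582877792120867232, 971700361611140356443901154824849856,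
   980747918883362939279568022996060640, 972388651884523380316328689283009024,
   965094429999691373696704173595626016, 981940260449521198767676458684353088,
   975141542956546445243913353447475808, 979236149903553240597937305795791488,
   965823287528192349793434105431984800, 957028651706772161000819827381930688, 0]

def tb (i : ℕ) : ℕ := tabs.getD i 0

/-- index lists of the two hexads -/
def l0 : List ℕ := [0, 2, 4, 5, 6, 10, 11, 23]
def l1 : List ℕ := [0, 3, 8, 14, 15, 18, 20, 23]

theorem tb_spec : ∀ i < 24, i ∉ l0 → (isPerm (tb i) && isAut (tb i)) = true ∧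
    (∀ j ∈ l0, papp (tb i) j = j) ∧ papp (tb i) 1 = i ∧
    (i ≠ 1 → ∃ k ∈ l1, papp (tb i) k ∉ l1) := by
  decide +kernel

theorem mem_hex0 (p : GolayPt) : p ∈ hex0 ↔ idx p ∈ l0 := by revert p; decide +kernel

theorem mem_hex1 (p : GolayPt) : p ∈ hex1 ↔ idx p ∈ l1 := by revert p; decide +kernel

theorem hex0_mem : hex0 ∈ octads := by
  have h : hex0 = fin 8391797 := by decide +kernel
  rw [h]
  exact M24Frame.fin_mem_octads_of_isOct (by decide +kernel)

theorem hex1_mem : hex1 ∈ octads := by
  have h : hex1 = fin 9748745 := by decide +kernel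
  rw [h]
  exact M24Frame.fin_mem_octads_of_isOct (by decide +kernel)

theorem isHex0 : IsHex hex0 := ⟨hex0_mem, by decide +kernel⟩

theorem isHex1 : IsHex hex1 := ⟨hex1_mem, by decide +kernel⟩

theorem hex0_inter_hex1 : (hex0 ∩ hex1).card = 2 := by decide +kernel

/-- An element of `M24` fixing `hex0` pointwise and mapping `hex1` to itself is trivial. -/
theorem fix_hex1 {g : Equiv.Perm GolayPt} (hg : g ∈ M24) (h0 : ∀ p ∈ hex0, g p = p)
    (h1 : g • hex1 = hex1) : g = 1 := by
  have hp : gp 1 ∉ hex0 := by decide +kernel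
  have hq : g (gp 1) ∉ hex0 := by
    intro h
    have h2 := h0 _ h
    exact hp (g.injective h2 ▸ h)
  set i := idx (g (gp 1)) with hi
  have hil : i ∉ l0 := fun h => hq ((mem_hex0 _).2 h)
  obtain ⟨hT, hfix, hone, hmove⟩ := tb_spec i (idx_lt _) hil
  have htab : IsTab (mk (tb i) hT) (tb i) := isTab_mk _ _
  set k : M24 := mk (tb i) hT with hk
  have hk0 : ∀ p ∈ hex0, (k : Equiv.Perm GolayPt) p = p := by
    intro p hp
    apply idx_injective
    rw [htab p]
    exact hfix _ ((mem_hex0 p).1 hp)
  have hk1 : (k : Equiv.Perm GolayPt) (gp 1) = g (gp 1) := by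
    apply idx_injective
    rw [htab, ← hi]
    exact hone
  have hgk : (k : Equiv.Perm GolayPt)⁻¹ * g = 1 := by
    apply M24Frame.eq_one_of_fix_frame (mul_mem (inv_mem k.2) hg) hex0_mem
      (s := hex0) (Finset.Subset.refl _) (by rw [octad_card hex0_mem]; norm_num) ?_ hp ?_
    · intro z hz
      rw [Equiv.Perm.mul_apply, h0 z hz]
      exact M24Frame.inv_apply_eq' (hk0 z hz)
    · rw [Equiv.Perm.mul_apply]
      exact M24Frame.inv_apply_eq' hk1
  have hgk' : g = (k : Equiv.Perm GolayPt) := (inv_mul_eq_one.1 hgk).symm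
  by_cases hi1 : i = 1
  · have h2 : g (gp 1) = gp 1 := by
      apply idx_injective
      rw [← hi, hi1]
      decide +kernel
    exact M24Frame.eq_one_of_fix_frame hg hex0_mem (s := hex0) (Finset.Subset.refl _)
      (by rw [octad_card hex0_mem]; norm_num) h0 hp h2
  · exfalso
    obtain ⟨j, hj, hj'⟩ := hmove hi1
    have hj24 : j < 24 := (by decide : ∀ j ∈ l1, j < 24) j hj
    have h2 : pt j ∈ hex1 := (mem_hex1 _).2 (by rw [idx_pt hj24]; exact hj)
    have h3 : g (pt j) ∈ hex1 := by
      have := Finset.smul_mem_smul_finset (a := g) h2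
      rwa [h1] at this
    rw [mem_hex1, hgk', htab, idx_pt hj24] at h3
    exact hj' h3

/-- The pointwise stabiliser of `hex0` is transitive on the hexads meeting it in two points. -/
theorem exists_move {O : Finset GolayPt} (hO : IsHex O) (h2 : (hex0 ∩ O).card = 2) :
    ∃ g ∈ M24, (∀ p ∈ hex0, g p = p) ∧ g • O = hex1 := by
  classical
  set K : Subgroup (Equiv.Perm GolayPt) :=
    M24 ⊓ fixingSubgroup (Equiv.Perm GolayPt) (hex0 : Set GolayPt) with hK
  have hKc : Nat.card K = 16 := (Cfsg.Agent.S0381.result hex0 hex0_mem).1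
  have hKfix : ∀ g ∈ K, ∀ p ∈ hex0, g p = p := fun g hg p hp =>
    (mem_fixingSubgroup_iff _).1 hg.2 p hp
  set X : Set (Finset GolayPt) := {x | x ∈ octads ∧ none ∈ x ∧ some 0 ∈ x ∧ (hex0 ∩ x).card = 2}
    with hX
  have hbase : ∀ x : Finset GolayPt, (none ∈ x ∧ some 0 ∈ x) ↔ base ⊆ x := by
    intro x
    rw [base, Finset.insert_subset_iff, Finset.singleton_subset_iff]
  have h0b := (hbase hex0).2 isHex0.2
  have h1b := (hbase hex1).2 isHex1.2
  have hXc : X.ncard = 16 :=
    (Cfsg.Agent.S1604.result none (some 0) (by simp) hex0 hex1 hex1 hex0_mem hex1_mem hex1_mem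
      ⟨h0b.1, h1b.1, h1b.1⟩ ⟨h0b.2, h1b.2, h1b.2⟩ rfl).1
  have hXf : X.Finite := Set.toFinite X
  have hmap : ∀ g : K, (g : Equiv.Perm GolayPt) • hex1 ∈ X := by
    intro g
    have hg := hKfix _ g.2
    have h3 : (g : Equiv.Perm GolayPt) • hex0 = hex0 := by
      ext x
      rw [Finset.mem_smul_finset]
      constructor
      · rintro ⟨y, hy, rfl⟩
        rw [Equiv.Perm.smul_def, hg y hy]
        exact hy
      · intro hx
        exact ⟨x, hx, hg x hx⟩
    refine ⟨(smul_mem_octads g.2.1).2 hex1_mem, ?_, ?_, ?_⟩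
    · have := Finset.smul_mem_smul_finset (a := (g : Equiv.Perm GolayPt)) h1b.1
      rwa [Equiv.Perm.smul_def, hg _ h0b.1] at this
    · have := Finset.smul_mem_smul_finset (a := (g : Equiv.Perm GolayPt)) h1b.2
      rwa [Equiv.Perm.smul_def, hg _ h0b.2] at this
    · rw [← hex0_inter_hex1]
      conv_lhs => rw [← h3]
      rw [← Finset.smul_finset_inter, Finset.card_smul_finset]
  let f : K → X := fun g => ⟨(g : Equiv.Perm GolayPt) • hex1, hmap g⟩
  have hfin : Finite X := hXf
  have hinj : Function.Injective f := by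
    intro g h hgh
    have h3 : (g : Equiv.Perm GolayPt) • hex1 = (h : Equiv.Perm GolayPt) • hex1 :=
      congrArg Subtype.val hgh
    apply Subtype.ext
    have h4 : (h : Equiv.Perm GolayPt)⁻¹ * g = 1 := by
      apply fix_hex1 (mul_mem (inv_mem h.2.1) g.2.1)
      · intro p hp
        rw [Equiv.Perm.mul_apply, hKfix _ g.2 p hp]
        exact M24Frame.inv_apply_eq' (hKfix _ h.2 p hp)
      · rw [mul_smul, h3, inv_smul_smul]
    exact (inv_mul_eq_one.1 h4).symm
  have hcard : Nat.card K = Nat.card X := by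
    rw [hKc, Nat.card_coe_set_eq, hXc]
  have hbij := (Nat.bijective_iff_injective_and_card f).2 ⟨hinj, hcard⟩
  have hOX : O ∈ X := ⟨hO.1, ((hbase O).2 hO.2).1, ((hbase O).2 hO.2).2, h2⟩
  obtain ⟨g, hg⟩ := hbij.2 ⟨O, hOX⟩
  have h3 : (g : Equiv.Perm GolayPt) • hex1 = O := congrArg Subtype.val hg
  refine ⟨(g : Equiv.Perm GolayPt)⁻¹, inv_mem g.2.1, fun p hp => ?_, ?_⟩
  · exact M24Frame.inv_apply_eq' (hKfix _ g.2 p hp)
  · rw [← h3, inv_smul_smul]

end Cfsg.Agent.J4Type.OctHex0
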