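import Cfsg.Agent.J4Type.CocodeExt

/-!
Explicit elements of the sextet group of `M24`, in the labelling of `Setup` (columns = tetrads of
the sextet `S0`), and the hypotheses of the splitting theorem (part (d)).
-/

set_option autoImplicit false

namespace Cfsg.Agent.J4Type.SplitData

open Cfsg Cfsg.Agent.SporadicA.GolayBase Cfsg.Agent.SporadicA.GolayPerm
open Cfsg.Agent.J4Type.CocodeMask Cfsg.Agent.J4Type.CocodeExt

/-- `(i, x) ↦ (i, ω x)` -/
def Tρ : ℕ := 973047580892981701841065988820402241
/-- a semilinear monomial map inducing the transposition `(0 1)` of the columns, an involution -/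
def Ts : ℕ := 146261786287366217854178837448604197
/-- a semilinear monomial map inducing the cycle `(0 1 2 3 4 5)` of the columns -/
def Tt : ℕ := 139260912721925278443297473353103909
/-- the inverse of `Tt` -/
def Tt' : ℕ := 422612348023553412542878578516928143
/-- the translation by the hexacode word `(0, 0, 1, 1, ω, ω²)` -/
def Tr : ℕ := 976448692869377735270425038196672544

noncomputable def ρ0 : M24 := mk Tρ (by decide +kernel)
noncomputable def s0 : M24 := mk Ts (by decide +kernel)
noncomputable def t0 : M24 := mk Tt (by decide +kernel)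
noncomputable def r0 : M24 := mk Tr (by decide +kernel)

theorem tab_ρ : IsTab ρ0 Tρ := isTab_mk _ _
theorem tab_s : IsTab s0 Ts := isTab_mk _ _
theorem tab_t : IsTab t0 Tt := isTab_mk _ _
theorem tab_r : IsTab r0 Tr := isTab_mk _ _

theorem tab_t' : IsTab t0⁻¹ Tt' := by
  have h : IsTab (mk Tt' (by decide +kernel)) Tt' := isTab_mk _ _
  rw [tab_t.inv_eq h (by decide +kernel)]
  exact h

/-- the mask of the sextet `S0` (the central involution `z`) -/
def zm : ℕ := 3489

theorem ev_zm : ev zm = true := by decide +kernel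

/-- the column (tetrad of `S0`) of the point of index `i` -/
def col (i : ℕ) : ℕ := (colPack >>> (3 * i)) % 8
where
  /-- packed table of the columns -/
  colPack : ℕ := 190865548615175152128

/-- The hypotheses of the splitting theorem. `f : N → M24` is the extension by the even cocode,
`Y` is a subgroup mapping onto `3.S6` (generated by `s0`, `t0`) and meeting the cocode in `⟨z⟩`,
`R` is a complement of the cocode in the preimage of `2^6`. -/
structure Input {N : Type*} [Group N] (f : N →* M24) (c : ℕ → N) (Y R : Subgroup N) (ρ : N) :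
    Prop where
  ext : Ext f c
  ρ_mem : ρ ∈ Y
  ρ_cube : ρ * ρ * ρ = 1
  f_ρ : f ρ = ρ0
  Y_ker : ∀ y ∈ Y, f y = 1 → y = 1 ∨ y = c zm
  z_mem : c zm ∈ Y
  s_mem : ∃ y ∈ Y, f y = s0
  t_mem : ∃ y ∈ Y, f y = t0
  Y_inv : ∀ y ∈ Y, f y * ρ0 = ρ0 * f y → f y * f y = 1 → y * y = 1
  R_ker : ∀ r ∈ R, f r = 1 → r = 1
  R_card : Nat.card R = 64
  R_col : ∀ r ∈ R, ∀ p : GolayPt, col (idx ((f r : Equiv.Perm GolayPt) p)) = col (idx p)
  R_r0 : ∃ r ∈ R, f r = r0
  R_conj : ∀ y ∈ Y, ∀ r ∈ R, y * r * y⁻¹ ∈ R

end Cfsg.Agent.J4Type.SplitData
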