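import Cfsg.Agent.J4Type.NormE
import Cfsg.Agent.J4Type.OctHex0
import Cfsg.Agent.J4Type.SplitData

/-!
# J₄ type: the subgroup `Y` of `N_G(E)` (R07)

Elements of `N_G(E hex0)` commuting with `z`, normalising `⟨ρ⟩` and fixing `hex1`:
* `eq_of_E` : those in `E hex0` are `1` and `z`;
* `exists_Y` : every `g : M24` fixing the sextet of `z` and normalising `⟨π ρ⟩` is the image of
  such an element;
* `π_ρ` : `π ρ = ρ0` or `ρ0⁻¹`.
-/

set_option autoImplicit false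

namespace Cfsg.Agent.J4Type.FrameY

open Cfsg Cfsg.Agent.J4Type Cfsg.Agent.J4Type.OctHex0
open Cfsg.Agent.SporadicA.GolayBase
open Cfsg.Agent.SporadicA.GolayPerm hiding pcomp
open Cfsg.Agent.J4Type.CocodeMask Cfsg.Agent.J4Type.SplitData
open scoped Pointwise

variable {G : Type*} [Group G]

section hex

variable (H : Hex G)

/-- `ρ` as an element of the centraliser -/
def ρC : Subgroup.centralizer ({H.z} : Set G) := ⟨H.ρ, NormE.ρ_mem H.toCent⟩

theorem P_ρ : H.P (ρC H) = 1 :=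
  (H.P_ker _).2 ⟨1, H.Q.one_mem, 1, by rw [one_mul, pow_one]; rfl⟩

variable {O : Finset GolayPt}

theorem ρ_mem_N (hO : IsHex O) : H.ρ ∈ Subgroup.normalizer (H.E O : Set G) :=
  (NormE.mem_normalizer_iff H hO (ρC H)).2 (by rw [P_ρ, one_smul])

theorem ρ_sq_ne : H.ρ * H.ρ ≠ 1 := by
  intro h
  have h1 := orderOf_dvd_of_pow_eq_one (x := H.ρ) (n := 2) (by rw [pow_two]; exact h)
  rw [H.ρ_order] at h1
  omega

theorem ρ_notMem_E (hO : IsHex O) : H.ρ ∉ H.E O := fun h => ρ_sq_ne H ((H.E_elem O hO).1 _ h)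

theorem E_le (hO : IsHex O) {a : G} (ha : a ∈ H.E O) : a ∈ Subgroup.centralizer ({H.z} : Set G) := by
  rw [Subgroup.mem_centralizer_singleton_iff]
  exact (H.E_elem O hO).2 a ha H.z (H.z_mem_E O hO)

/-- an element commuting with `ρ` and squaring to one in the kernel of `P` -/
theorem eq_of_P {a : G} (hc : a ∈ Subgroup.centralizer ({H.z} : Set G)) (ha : a * a = 1)
    (hρ : a * H.ρ = H.ρ * a) (hP : H.P ⟨a, hc⟩ = 1) : a = 1 ∨ a = H.z := by
  obtain ⟨q, hq, i, hi⟩ := (H.P_ker _).1 hP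
  have hi' : a = q * H.ρ ^ i := hi
  have hqe : q = a * (H.ρ ^ i)⁻¹ := by rw [hi', mul_inv_cancel_right]
  have hcom : Commute a H.ρ := hρ
  have hqρ : H.ρ * q = q * H.ρ := by
    rw [hqe]
    have h1 : Commute H.ρ a := hcom.symm
    have h2 : Commute H.ρ (H.ρ ^ i)⁻¹ := ((Commute.refl H.ρ).pow_right i).inv_right
    exact (h1.mul_right h2).eq
  have hz : H.z * H.z = 1 := NormE.z_sq H.toCent
  have hq1 := H.ρ_fix q hq hqρ
  have hqq : q * q = 1 := by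
    rcases hq1 with h | h <;> rw [h]
    · exact one_mul 1
    · exact hz
  have hρi : H.ρ ^ i * H.ρ ^ i = 1 := by
    have h1 : Commute q (H.ρ ^ i) := by
      have : Commute q H.ρ := hqρ.symm
      exact this.pow_right i
    have h2 : a * a = (q * q) * (H.ρ ^ i * H.ρ ^ i) := by
      rw [hi', mul_assoc, ← mul_assoc (H.ρ ^ i) q, ← h1.eq, mul_assoc q (H.ρ ^ i), mul_assoc]
    rw [ha, hqq, one_mul] at h2
    exact h2.symm
  have hρ1 : H.ρ ^ i = 1 := by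
    have h3 : (H.ρ ^ i) ^ 3 = 1 := by
      rw [← pow_mul, mul_comm, pow_mul, NormE.ρ_pow_three H.toCent, one_pow]
    rw [pow_succ, pow_two, hρi, one_mul] at h3
    exact h3
  rw [hρ1, mul_one] at hi'
  rw [hi']
  exact hq1

/-- The fixed points of `ρ` in `E O` map onto the pointwise stabiliser of `O`. -/
theorem exists_lift (hO : IsHex O) {g : Equiv.Perm GolayPt} (hg : g ∈ M24) (hfix : ∀ p ∈ O, g p = p) :
    ∃ v ∈ H.E O, v * H.ρ = H.ρ * v ∧ ∀ hc : v ∈ Subgroup.centralizer ({H.z} : Set G),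
      H.P ⟨v, hc⟩ = g := by
  set Fr : Subgroup G := H.E O ⊓ Subgroup.centralizer ({H.ρ} : Set G) with hFr
  have hle : Fr ≤ Subgroup.centralizer ({H.z} : Set G) := fun a ha => E_le H hO ha.1
  set K : Subgroup (Equiv.Perm GolayPt) :=
    M24 ⊓ fixingSubgroup (Equiv.Perm GolayPt) (O : Set GolayPt) with hK
  have hKc : Nat.card K = 16 := (Cfsg.Agent.S0381.result O hO.1).1
  let f : Fr →* Equiv.Perm GolayPt := H.P.comp (Subgroup.inclusion hle)
  have hrange : f.range ≤ K := by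
    rintro _ ⟨a, rfl⟩
    have h1 := (H.E_map O hO (f a)).1 ⟨Subgroup.inclusion hle a, a.2.1, rfl⟩
    exact ⟨h1.1, (mem_fixingSubgroup_iff _).2 fun p hp => h1.2 p hp⟩
  have hker : Nat.card f.ker ≤ 2 := by
    have h1 : f.ker.map Fr.subtype ≤ Subgroup.zpowers H.z := by
      rintro _ ⟨a, ha, rfl⟩
      have h2 := eq_of_P H (hle a.2) ((H.E_elem O hO).1 _ a.2.1)
        (Subgroup.mem_centralizer_singleton_iff.1 a.2.2) ha
      rcases h2 with h | h
      · rw [Subgroup.subtype_apply, h]; exact Subgroup.one_mem _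
      · rw [Subgroup.subtype_apply, h]; exact Subgroup.mem_zpowers _
    have h2 : Nat.card (Subgroup.zpowers H.z) = 2 := by rw [Nat.card_zpowers, H.z_order]
    have hfin : Finite (Subgroup.zpowers H.z) := Nat.finite_of_card_ne_zero (by rw [h2]; norm_num)
    have h3 := Subgroup.card_le_of_le h1
    rwa [h2, Subgroup.card_map_of_injective Fr.subtype_injective] at h3
  have hcard := Subgroup.card_mul_index f.ker
  rw [Subgroup.index_ker, H.F_card O hO] at hcard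
  have hKe : f.range = K := by
    apply Subgroup.eq_of_le_of_card_ge hrange
    rw [hKc]
    by_contra hcon
    have h4 : Nat.card f.range ≤ 15 := by omega
    have h5 : Nat.card f.ker * Nat.card f.range ≤ 2 * 15 := Nat.mul_le_mul hker h4
    omega
  have hgK : g ∈ f.range := by
    rw [hKe]
    exact ⟨hg, (mem_fixingSubgroup_iff _).2 fun p hp => hfix p hp⟩
  obtain ⟨v, hv⟩ := hgK
  exact ⟨v, v.2.1, Subgroup.mem_centralizer_singleton_iff.1 v.2.2, fun _ => hv⟩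

/-- Elements of `E hex0` commuting with `ρ` and fixing `hex1`. -/
theorem eq_of_E {a : G} (ha : a ∈ H.E hex0) (hρ : a * H.ρ = H.ρ * a)
    (h1 : ∀ hc : a ∈ Subgroup.centralizer ({H.z} : Set G), H.P ⟨a, hc⟩ • hex1 = hex1) :
    a = 1 ∨ a = H.z := by
  have hc := E_le H isHex0 ha
  apply eq_of_P H hc ((H.E_elem _ isHex0).1 a ha) hρ
  obtain ⟨h2, h3⟩ := (H.E_map hex0 isHex0 (H.P ⟨a, hc⟩)).1 ⟨⟨a, hc⟩, ha, rfl⟩
  exact fix_hex1 h2 h3 (h1 hc)

/-- Coprime action: two elements of order 3 in `E⟨ρ⟩` with the same image are conjugate. -/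
theorem adjust (hO : IsHex O) {n e r : G} (hr3 : r ^ 3 = 1) (hr : r ∈ Subgroup.normalizer (H.E O : Set G))
    (he : e ∈ H.E O) (hn : n * H.ρ * n⁻¹ = e * r) :
    (r * e * r⁻¹ * n) * H.ρ * (r * e * r⁻¹ * n)⁻¹ = r := by
  have hm : ∀ a ∈ H.E O, r * a * r⁻¹ ∈ H.E O := fun a ha =>
    (Subgroup.mem_normalizer_iff.1 hr a).1 ha
  have hsq := (H.E_elem O hO).1
  have hcm := (H.E_elem O hO).2
  have h1 := hm e he
  have h2 := hm _ h1
  have h3 : (e * r) ^ 3 = 1 := by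
    rw [← hn, conj_pow, NormE.ρ_pow_three H.toCent, mul_one, mul_inv_cancel]
  have h4 : e * (r * e * r⁻¹) * (r * (r * e * r⁻¹) * r⁻¹) = 1 := by
    have : e * (r * e * r⁻¹) * (r * (r * e * r⁻¹) * r⁻¹) = (e * r) ^ 3 * (r ^ 3)⁻¹ := by
      simp only [pow_succ, pow_zero, one_mul]
      group
    rw [this, h3, hr3, inv_one, one_mul]
  set e' := r * e * r⁻¹ with he'
  have h5 : e'⁻¹ = e' := inv_eq_of_mul_eq_one_right (hsq _ h1)
  calc e' * n * H.ρ * (e' * n)⁻¹ = e' * (n * H.ρ * n⁻¹) * e'⁻¹ := by group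
    _ = e' * e * (r * e' * r⁻¹) * r := by rw [hn, h5]; group
    _ = e * e' * (r * e' * r⁻¹) * r := by rw [hcm e' h1 e he]
    _ = r := by rw [h4, one_mul]

end hex

theorem inter_smul {g : Equiv.Perm GolayPt} (h : g • hex0 = hex0) :
    (hex0 ∩ g • hex1).card = 2 := by
  conv_lhs => rw [← h]
  rw [← Finset.smul_finset_inter, Finset.card_smul_finset, hex0_inter_hex1]

section frame

variable (F : Frame G)

/-- `ρ` as an element of the normaliser -/
def ρN : Subgroup.normalizer (F.E hex0 : Set G) := ⟨F.ρ, ρ_mem_N F.toHex isHex0⟩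

theorem even_tet (i : Fin 6) : Even (tet i).card := by revert i; decide +kernel

theorem exists_Y (g : M24) (hz : ∃ j, (g : Equiv.Perm GolayPt) • tet 0 = tet j)
    (hρ : g * F.π (ρN F) * g⁻¹ = F.π (ρN F) ∨ g * F.π (ρN F) * g⁻¹ = (F.π (ρN F))⁻¹) :
    ∃ n : Subgroup.normalizer (F.E hex0 : Set G), F.π n = g ∧ (n : G) * F.z = F.z * n ∧
      (∀ hc : (n : G) ∈ Subgroup.centralizer ({F.z} : Set G), F.P ⟨n, hc⟩ • hex1 = hex1) ∧
      ((n : G) * F.ρ * (n : G)⁻¹ = F.ρ ∨ (n : G) * F.ρ * (n : G)⁻¹ = F.ρ⁻¹) := by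
  obtain ⟨n0, hn0⟩ := F.π_surj g
  obtain ⟨j, hj⟩ := hz
  have hz0 : (n0 : G) * F.z * (n0 : G)⁻¹ = F.z := by
    have h1 := F.π_smul n0 (tet 0) (even_tet 0)
    rwa [hn0, hj, F.ε_tet, F.ε_tet] at h1
  -- the image of `ρ`
  have hr : ∃ r : Subgroup.normalizer (F.E hex0 : Set G), ((r : G) = F.ρ ∨ (r : G) = F.ρ⁻¹) ∧
      F.π (n0 * ρN F * n0⁻¹ * r⁻¹) = 1 := by
    rcases hρ with h | h
    · refine ⟨ρN F, Or.inl rfl, ?_⟩
      rw [map_mul, map_mul, map_mul, map_inv, map_inv, hn0, h, mul_inv_cancel]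
    · refine ⟨(ρN F)⁻¹, Or.inr rfl, ?_⟩
      rw [map_mul, map_mul, map_mul, map_inv, map_inv, map_inv, hn0, h, mul_inv_cancel]
  obtain ⟨r, hr, hre⟩ := hr
  have he := (F.π_ker _).1 hre
  have hr3 : (r : G) ^ 3 = 1 := by
    rcases hr with h | h <;> rw [h]
    · exact NormE.ρ_pow_three F.toCent
    · rw [inv_pow, NormE.ρ_pow_three F.toCent, inv_one]
  have hn : (n0 : G) * F.ρ * (n0 : G)⁻¹ = (n0 * F.ρ * (n0 : G)⁻¹ * (r : G)⁻¹) * r := by group
  have hadj := adjust F.toHex isHex0 hr3 r.2 he hn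
  set e : G := ((n0 * ρN F * n0⁻¹ * r⁻¹ : Subgroup.normalizer (F.E hex0 : Set G)) : G) with hedef
  change ((r : G) * e * (r : G)⁻¹ * n0) * F.ρ * ((r : G) * e * (r : G)⁻¹ * n0)⁻¹ = r at hadj
  have he' : (r : G) * e * (r : G)⁻¹ ∈ F.E hex0 := (Subgroup.mem_normalizer_iff.1 r.2 e).1 he
  set e' : G := (r : G) * e * (r : G)⁻¹ with he'def
  have hEN : F.E hex0 ≤ Subgroup.normalizer (F.E hex0 : Set G) := Subgroup.le_normalizer
  set n1 : Subgroup.normalizer (F.E hex0 : Set G) := ⟨e', hEN he'⟩ * n0 with hn1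
  have hn1G : (n1 : G) = e' * n0 := rfl
  have hn1z : (n1 : G) * F.z = F.z * n1 := by
    have h1 : (n0 : G) * F.z = F.z * n0 := by rw [← mul_inv_eq_iff_eq_mul]; exact hz0
    have h2 := Subgroup.mem_centralizer_singleton_iff.1 (E_le F.toHex isHex0 he')
    rw [hn1G, mul_assoc, h1, ← mul_assoc, h2, mul_assoc]
  have hn1c : (n1 : G) ∈ Subgroup.centralizer ({F.z} : Set G) :=
    Subgroup.mem_centralizer_singleton_iff.2 hn1z
  have hP0 : F.P ⟨n1, hn1c⟩ • hex0 = hex0 :=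
    (NormE.mem_normalizer_iff F.toHex isHex0 ⟨n1, hn1c⟩).1 n1.2
  have hP1 : IsHex (F.P ⟨n1, hn1c⟩ • hex1) := NormE.isHex_P_smul F.toHex _ isHex1
  have hint : (hex0 ∩ F.P ⟨n1, hn1c⟩ • hex1).card = 2 := inter_smul hP0
  obtain ⟨g', hg', hfix, hmove⟩ := exists_move hP1 hint
  obtain ⟨v, hv, hvρ, hvP⟩ := exists_lift F.toHex isHex0 hg' hfix
  refine ⟨⟨v, hEN hv⟩ * n1, ?_, ?_, ?_, ?_⟩
  · rw [map_mul, hn1, map_mul, hn0, (F.π_ker ⟨v, hEN hv⟩).2 hv, (F.π_ker ⟨e', hEN he'⟩).2 he',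
      one_mul, one_mul]
  · have h2 := Subgroup.mem_centralizer_singleton_iff.1 (E_le F.toHex isHex0 hv)
    show v * n1 * F.z = F.z * (v * n1)
    rw [mul_assoc, hn1z, ← mul_assoc, h2, mul_assoc]
  · intro hc
    have h1 : (⟨((⟨v, hEN hv⟩ * n1 : Subgroup.normalizer (F.E hex0 : Set G)) : G), hc⟩ :
        Subgroup.centralizer ({F.z} : Set G)) = ⟨v, E_le F.toHex isHex0 hv⟩ * ⟨n1, hn1c⟩ := rfl
    rw [h1, map_mul, mul_smul, hvP, hmove]
  · have h1 : ((⟨v, hEN hv⟩ * n1 : Subgroup.normalizer (F.E hex0 : Set G)) : G) * F.ρ *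
        ((⟨v, hEN hv⟩ * n1 : Subgroup.normalizer (F.E hex0 : Set G)) : G)⁻¹ =
        v * ((e' * n0) * F.ρ * (e' * n0)⁻¹) * v⁻¹ := by
      show v * n1 * F.ρ * (v * n1)⁻¹ = _
      rw [hn1G]
      group
    rw [h1, hadj]
    have hvc : Commute v F.ρ := hvρ
    rcases hr with h | h
    · left
      rw [h, hvρ, mul_inv_cancel_right]
    · right
      rw [h, hvc.inv_right.eq, mul_inv_cancel_right]

/-- An element of `M24` fixing the points `mog i 0` and `mog 0 1` is trivial. -/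
theorem rigid {h : M24} (h0 : ∀ i, (h : Equiv.Perm GolayPt) (mog i 0) = mog i 0)
    (h1 : (h : Equiv.Perm GolayPt) (mog 0 1) = mog 0 1) : h = 1 := by
  apply Subtype.ext
  have hO : (gset [0, 1, 2, 3, 4, 7, 10, 12]) ∈ octads := by
    have h : gset [0, 1, 2, 3, 4, 7, 10, 12] = fin 5279 := by decide +kernel
    rw [h]
    exact SporadicStructure.M24Frame.fin_mem_octads_of_isOct (by decide +kernel)
  refine SporadicStructure.M24Frame.eq_one_of_fix_frame h.2 hO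
    (s := {mog 1 0, mog 2 0, mog 3 0, mog 4 0, mog 5 0, mog 0 1}) (by decide +kernel)
    (by decide +kernel) ?_ (p := mog 0 0) (by decide +kernel) (h0 0)
  intro z hz
  simp only [Finset.mem_insert, Finset.mem_singleton] at hz
  rcases hz with rfl | rfl | rfl | rfl | rfl | rfl
  · exact h0 1
  · exact h0 2
  · exact h0 3
  · exact h0 4
  · exact h0 5
  · exact h1

theorem apply_tab {g : M24} {P : ℕ} (hg : IsTab g P) {p q : GolayPt}
    (h : papp P (idx p) = idx q) : (g : Equiv.Perm GolayPt) p = q :=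
  idx_injective ((hg p).trans h)

theorem ρ0_fix (i : Fin 6) : (ρ0 : Equiv.Perm GolayPt) (mog i 0) = mog i 0 :=
  apply_tab tab_ρ (by revert i; decide +kernel)

/-- `π ρ` is `ρ0` or its inverse. -/
theorem π_ρ : F.π (ρN F) = ρ0 ∨ F.π (ρN F) = ρ0⁻¹ := by
  obtain ⟨h0, ht⟩ : (∀ i, (F.π (ρN F) : Equiv.Perm GolayPt) (mog i 0) = mog i 0) ∧
      (F.π (ρN F) : Equiv.Perm GolayPt) • tet 0 = tet 0 :=
    ⟨fun i => (F.ρ_tet (ρN F) rfl i).1, (F.ρ_tet (ρN F) rfl 0).2⟩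
  set g := F.π (ρN F) with hg
  have hq : (g : Equiv.Perm GolayPt) (mog 0 1) ∈ tet 0 := by
    rw [← ht]
    exact Finset.smul_mem_smul_finset (a := (g : Equiv.Perm GolayPt)) (by decide +kernel)
  have hq0 : (g : Equiv.Perm GolayPt) (mog 0 1) ≠ mog 0 0 := by
    intro h
    rw [← h0 0] at h
    exact absurd ((g : Equiv.Perm GolayPt).injective h) (by decide +kernel)
  have hcases : ∀ q : GolayPt, q ∈ tet 0 → q ≠ mog 0 0 → q = mog 0 1 ∨
      q = mog 0 2 ∨ q = mog 0 3 := by decide +kernel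
  have hinv : ∀ (a : M24) (p q : GolayPt), (a : Equiv.Perm GolayPt) p = q →
      ((a⁻¹ : M24) : Equiv.Perm GolayPt) q = p := by
    intro a p q h
    exact SporadicStructure.M24Frame.inv_apply_eq' h
  have e1 : (ρ0 : Equiv.Perm GolayPt) (mog 0 1) = mog 0 2 := apply_tab tab_ρ (by decide +kernel)
  have e2 : (ρ0 : Equiv.Perm GolayPt) (mog 0 3) = mog 0 1 := apply_tab tab_ρ (by decide +kernel)
  rcases hcases _ hq hq0 with h | h | h
  · exfalso
    have h1 := rigid h0 h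
    exact ρ_notMem_E F.toHex isHex0 ((F.π_ker (ρN F)).1 h1)
  · left
    have h1 : ρ0⁻¹ * g = 1 := by
      apply rigid
      · intro i
        show ((ρ0⁻¹ : M24) : Equiv.Perm GolayPt) ((g : Equiv.Perm GolayPt) (mog i 0)) = _
        rw [h0 i]
        exact hinv _ _ _ (ρ0_fix i)
      · show ((ρ0⁻¹ : M24) : Equiv.Perm GolayPt) ((g : Equiv.Perm GolayPt) (mog 0 1)) = _
        rw [h]
        exact hinv _ _ _ e1
    exact (inv_mul_eq_one.1 h1).symm
  · right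
    have h1 : ρ0 * g = 1 := by
      apply rigid
      · intro i
        show (ρ0 : Equiv.Perm GolayPt) ((g : Equiv.Perm GolayPt) (mog i 0)) = _
        rw [h0 i]
        exact ρ0_fix i
      · show (ρ0 : Equiv.Perm GolayPt) ((g : Equiv.Perm GolayPt) (mog 0 1)) = _
        rw [h]
        exact e2
    exact eq_inv_of_mul_eq_one_right h1

/-! ### The generators `s0`, `t0` -/

theorem pi_norm {g : M24} (h : g * ρ0 * g⁻¹ = ρ0 ∨ g * ρ0 * g⁻¹ = ρ0⁻¹) :
    g * F.π (ρN F) * g⁻¹ = F.π (ρN F) ∨ g * F.π (ρN F) * g⁻¹ = (F.π (ρN F))⁻¹ := by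
  have h2 : g * ρ0⁻¹ * g⁻¹ = (g * ρ0 * g⁻¹)⁻¹ := by group
  rcases π_ρ F with h1 | h1 <;> rw [h1]
  · exact h
  · rw [h2]
    rcases h with h | h <;> rw [h]
    · exact Or.inl rfl
    · exact Or.inr rfl

/-- the inverse of `Tρ` -/
def Tρ' : ℕ := pcomp Tρ Tρ

theorem tab_ρ' : IsTab ρ0⁻¹ Tρ' := by
  have h : ρ0⁻¹ = ρ0 * ρ0 := by
    rw [inv_eq_iff_mul_eq_one]
    exact ((tab_ρ.mul (tab_ρ.mul tab_ρ)).eq (by
      have h1 : pcomp Tρ (pcomp Tρ Tρ) = pone := by decide +kernel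
      rw [h1]
      exact isTab_one))
  rw [h]
  exact tab_ρ.mul tab_ρ

theorem norm_of_tab {g : M24} {P : ℕ} (hg : IsTab g P)
    (h : pcomp P Tρ = pcomp Tρ P ∨ pcomp P Tρ = pcomp Tρ' P) :
    g * ρ0 * g⁻¹ = ρ0 ∨ g * ρ0 * g⁻¹ = ρ0⁻¹ := by
  rcases h with h | h
  · left
    rw [mul_inv_eq_iff_eq_mul]
    have h1 := hg.mul tab_ρ
    rw [h] at h1
    exact h1.eq (tab_ρ.mul hg)
  · right
    rw [mul_inv_eq_iff_eq_mul]
    have h1 := hg.mul tab_ρ
    rw [h] at h1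
    exact h1.eq (tab_ρ'.mul hg)

/-- tetrads by indices -/
theorem smul_tet {g : M24} {P : ℕ} (hg : IsTab g P) (i j : Fin 6)
    (h : ∀ c : Fin 4, ∃ d : Fin 4, papp P (idx (mog i c)) = idx (mog j d)) :
    (g : Equiv.Perm GolayPt) • tet i = tet j := by
  have hc : ∀ k, (tet k).card = 4 := by decide +kernel
  apply Finset.eq_of_subset_of_card_le
  · intro x hx
    obtain ⟨y, hy, rfl⟩ := Finset.mem_smul_finset.1 hx
    obtain ⟨c, -, rfl⟩ := Finset.mem_image.1 hy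
    obtain ⟨d, hd⟩ := h c
    rw [Equiv.Perm.smul_def, apply_tab hg hd]
    exact Finset.mem_image.2 ⟨d, Finset.mem_univ _, rfl⟩
  · rw [Finset.card_smul_finset, hc, hc]

theorem s0_norm : s0 * ρ0 * s0⁻¹ = ρ0 ∨ s0 * ρ0 * s0⁻¹ = ρ0⁻¹ :=
  norm_of_tab tab_s (by decide +kernel)

theorem t0_norm : t0 * ρ0 * t0⁻¹ = ρ0 ∨ t0 * ρ0 * t0⁻¹ = ρ0⁻¹ :=
  norm_of_tab tab_t (by decide +kernel)

theorem s0_tet : (s0 : Equiv.Perm GolayPt) • tet 0 = tet 1 :=
  smul_tet tab_s 0 1 (by decide +kernel)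

theorem t0_tet : (t0 : Equiv.Perm GolayPt) • tet 0 = tet 1 :=
  smul_tet tab_t 0 1 (by decide +kernel)

theorem exists_s : ∃ n : Subgroup.normalizer (F.E hex0 : Set G), F.π n = s0 ∧
    (n : G) * F.z = F.z * n ∧
    (∀ hc : (n : G) ∈ Subgroup.centralizer ({F.z} : Set G), F.P ⟨n, hc⟩ • hex1 = hex1) ∧
    ((n : G) * F.ρ * (n : G)⁻¹ = F.ρ ∨ (n : G) * F.ρ * (n : G)⁻¹ = F.ρ⁻¹) :=
  exists_Y F s0 ⟨1, s0_tet⟩ (pi_norm F s0_norm)

theorem exists_t : ∃ n : Subgroup.normalizer (F.E hex0 : Set G), F.π n = t0 ∧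
    (n : G) * F.z = F.z * n ∧
    (∀ hc : (n : G) ∈ Subgroup.centralizer ({F.z} : Set G), F.P ⟨n, hc⟩ • hex1 = hex1) ∧
    ((n : G) * F.ρ * (n : G)⁻¹ = F.ρ ∨ (n : G) * F.ρ * (n : G)⁻¹ = F.ρ⁻¹) :=
  exists_Y F t0 ⟨1, t0_tet⟩ (pi_norm F t0_norm)

end frame

end Cfsg.Agent.J4Type.FrameY
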