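import Cfsg.Agent.J4Type.FusionEA
import Cfsg.Agent.SporadicStructure.M22Flags

/-!
# J₄ type, part (b): conjugates of `E O` (R07, helper607)

* `E_unique` : the field `E_unique` of `Frame` (every conjugate of `E` containing `z` is one of the 77 groups `E O`);
* `exists_normalizer_conj` : `z^G ∩ E = z^{N_G(E)}`;
* `isHex_hex0`, `exists_C_smul` (`C` is transitive on the hexads).
-/

set_option autoImplicit false
set_option linter.unusedSectionVars false

namespace Cfsg.Agent.J4Type.FusionConj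

open Cfsg Cfsg.Agent.J4Type Cfsg.Agent.J4Type.FusionV Cfsg.Agent.J4Type.FusionEA
open scoped Pointwise

variable {G : Type*} [Group G]

section

variable (H : Hex G) [Finite G]

theorem isElem2_conj {A : Subgroup G} (hA : IsElem2 A) (g : G) :
    IsElem2 (A.map (MulAut.conj g).toMonoidHom) := by
  constructor
  · rintro _ ⟨a, ha, rfl⟩
    rw [← map_mul, hA.1 a ha, map_one]
  · rintro _ ⟨a, ha, rfl⟩ _ ⟨b, hb, rfl⟩
    rw [← map_mul, ← map_mul, hA.2 a ha b hb]

theorem mem_map_conj {A : Subgroup G} {g a : G} :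
    a ∈ A.map (MulAut.conj g).toMonoidHom ↔ g⁻¹ * a * g ∈ A := by
  constructor
  · rintro ⟨b, hb, rfl⟩
    have : g⁻¹ * (MulAut.conj g) b * g = b := by
      rw [MulAut.conj_apply]; group
    show g⁻¹ * (MulAut.conj g) b * g ∈ A
    rw [this]
    exact hb
  · intro h
    refine ⟨_, h, ?_⟩
    show (MulAut.conj g) _ = a
    rw [MulAut.conj_apply]
    group

/-- every conjugate of `E O` containing `z` is one of the 77 groups `E O'` -/
theorem E_unique_hex {O : Finset GolayPt} (hO : IsHex O) (g : G) (hg : g⁻¹ * H.z * g ∈ H.E O) :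
    ∃ O', IsHex O' ∧ ∀ a : G, g⁻¹ * a * g ∈ H.E O ↔ a ∈ H.E O' := by
  obtain ⟨O', hO', h⟩ := ea_unique H (isElem2_conj (H.E_elem O hO) g) (mem_map_conj.2 hg) (by
    rw [Subgroup.card_map_of_injective (MulAut.conj g).injective, H.E_card O hO])
  refine ⟨O', hO', fun a => ?_⟩
  rw [← h, mem_map_conj]

theorem isHex_hex0 : IsHex hex0 := by
  have h1 : hex0 = Cfsg.Agent.Golay.Orbit.fin 8391797 := by decide +kernel
  refine ⟨?_, by decide +kernel⟩
  rw [h1]
  exact Cfsg.Agent.SporadicStructure.M22Flags.octadB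

/-- the field `E_unique` of `Frame` -/
theorem E_unique (g : G) (hg : g⁻¹ * H.z * g ∈ H.E hex0) :
    ∃ O, IsHex O ∧ ∀ a : G, g⁻¹ * a * g ∈ H.E hex0 ↔ a ∈ H.E O :=
  E_unique_hex H isHex_hex0 g hg

/-- `C` is transitive on the 77 hexads -/
theorem exists_C_smul {O O' : Finset GolayPt} (hO : IsHex O) (hO' : IsHex O') :
    ∃ c : CC H.toCent, H.P c none = none ∧ H.P c • O = O' := by
  obtain ⟨g, hgM, hg1, hg2, hg⟩ := Cfsg.Agent.SporadicStructure.M22Flags.exists_map_B hO.1 hO'.1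
    (hO.2 (show (none : GolayPt) ∈ base by decide)) (hO.2 (show (some 0 : GolayPt) ∈ base by decide))
    (hO'.2 (show (none : GolayPt) ∈ base by decide)) (hO'.2 (show (some 0 : GolayPt) ∈ base by decide))
  have hmem : g ∈ M22d := by
    refine ⟨hgM, ?_⟩
    show g • base = base
    unfold base
    rw [Finset.smul_finset_insert, Finset.smul_finset_singleton]
    show ({g none, g (some 0)} : Finset GolayPt) = _
    rw [hg1, hg2]
  rw [← H.P_range] at hmem
  obtain ⟨c, rfl⟩ := hmem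
  exact ⟨c, hg1, hg⟩

/-- two conjugates of `z` in `E O` are conjugate in `N_G(E O)`: `z^G ∩ E = z^{N_G(E)}` -/
theorem exists_normalizer_conj {O : Finset GolayPt} (hO : IsHex O) (g : G)
    (hg : g⁻¹ * H.z * g ∈ H.E O) :
    ∃ n ∈ Subgroup.normalizer (H.E O : Set G), n⁻¹ * H.z * n = g⁻¹ * H.z * g := by
  obtain ⟨O', hO', h⟩ := E_unique_hex H hO g hg
  obtain ⟨c, -, hc⟩ := exists_C_smul H hO hO'
  have hcz : (c : G) * H.z = H.z * c := Subgroup.mem_centralizer_singleton_iff.1 c.2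
  refine ⟨(c : G)⁻¹ * g, ?_, ?_⟩
  · rw [Subgroup.mem_normalizer_iff]
    intro a
    have h1 := H.E_conj O hO c ((c : G)⁻¹ * g * a * ((c : G)⁻¹ * g)⁻¹)
    rw [hc] at h1
    rw [h1, ← h]
    have : g⁻¹ * ((c : G) * ((c : G)⁻¹ * g * a * ((c : G)⁻¹ * g)⁻¹) * (c : G)⁻¹) * g = a := by group
    rw [this]
  · have : ((c : G)⁻¹ * g)⁻¹ * H.z * ((c : G)⁻¹ * g) = g⁻¹ * ((c : G) * H.z * (c : G)⁻¹) * g := by group
    rw [this, hcz, mul_inv_cancel_right]

end

end Cfsg.Agent.J4Type.FusionConj
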