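import Cfsg.Agent.J4.M24Invol
import Cfsg.Agent.SporadicA.OctadFix
import Cfsg.Agent.SporadicStructure.OctadStabFinal
import Cfsg.Agent.SporadicStructure.MonoCounts

/-!
# J₄ type, part (b): elementary abelian 2-subgroups of `M22 : 2` and hexads (R07, helper607)

* `card_fix` : an involution of `M24` with a fixed point has exactly 8 fixed points;
* `exists_hexad` : a 2-subgroup of the stabiliser of `{none, some 0}` in `M24` fixes one of the 77 octads through
  the two points;
* `card_le` : an elementary abelian 2-subgroup of `M24` fixing a point has order at most 16;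
* `card_le_four_mul` : if moreover it fixes two points of an octad `O` and stabilises `O`, its subgroup fixing `O`
  pointwise has index at most 4.
-/

set_option autoImplicit false

namespace Cfsg.Agent.J4Type.FusionM22

open Cfsg Cfsg.Agent.SporadicA.GolayBase Cfsg.Agent.SporadicA.OctadFix
open Cfsg.Agent.J4.M24InvolData Cfsg.Agent.J4.M24Invol
open scoped Pointwise

/-! ### fixed points of involutions -/

theorem fix_P1 : (Finset.univ.filter fun p : GolayPt => pt (Cfsg.Agent.SporadicA.GolayPerm.papp P1 (idx p)) = p).card = 8 := by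
  decide +kernel

theorem fix_P2 : ∀ p : GolayPt, pt (Cfsg.Agent.SporadicA.GolayPerm.papp P2 (idx p)) ≠ p := by
  decide +kernel

/-- An involution of `M24` with a fixed point has exactly 8 fixed points. -/
theorem card_fix {u : Equiv.Perm GolayPt} (hM : u ∈ M24) (hu : u * u = 1) (h1 : u ≠ 1)
    {p₀ : GolayPt} (hp₀ : u p₀ = p₀) : (Finset.univ.filter fun p : GolayPt => u p = p).card = 8 := by
  obtain ⟨g, hg⟩ := invol_conj ⟨u, hM⟩ (Subtype.ext hu) (fun h => h1 (congrArg Subtype.val h))
  have key : ∀ (v : M24), g * ⟨u, hM⟩ * g⁻¹ = v → ∀ p : GolayPt, u p = p ↔ v • (g • p) = g • p := by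
    intro v hv p
    rw [← hv, mul_smul, mul_smul, inv_smul_smul, smul_left_cancel_iff]
    exact Iff.rfl
  rcases hg with hg | hg
  · rw [← fix_P1]
    apply Finset.card_bij (fun p _ => g • p)
    · intro p hp
      rw [Finset.mem_filter] at hp ⊢
      refine ⟨Finset.mem_univ _, ?_⟩
      have := (key _ hg p).1 hp.2
      rw [Cfsg.Agent.SporadicStructure.M24El.el_smul_pt ok_P1] at this
      exact this
    · intro p _ q _ h
      exact smul_left_cancel g h
    · intro q hq
      rw [Finset.mem_filter] at hq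
      refine ⟨g⁻¹ • q, ?_, smul_inv_smul g q⟩
      rw [Finset.mem_filter]
      refine ⟨Finset.mem_univ _, (key _ hg _).2 ?_⟩
      rw [smul_inv_smul, Cfsg.Agent.SporadicStructure.M24El.el_smul_pt ok_P1]
      exact hq.2
  · exfalso
    have := (key _ hg p₀).1 hp₀
    rw [Cfsg.Agent.SporadicStructure.M24El.el_smul_pt ok_P2] at this
    exact fix_P2 _ this

/-! ### a fixed hexad -/

/-- the 77 octads through `none` and `some 0` -/
def IsHexad (O : Finset GolayPt) : Prop := O ∈ octads ∧ none ∈ O ∧ some 0 ∈ O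

theorem smul_isHexad {g : Equiv.Perm GolayPt} (hg : g ∈ M24)
    (hg2 : (g none = none ∧ g (some 0) = some 0) ∨ (g none = some 0 ∧ g (some 0) = none))
    {O : Finset GolayPt} (hO : IsHexad O) : IsHexad (g • O) := by
  refine ⟨Cfsg.Agent.SporadicStructure.OctadStabM24.smul_octad hg hO.1, ?_, ?_⟩
  · rcases hg2 with h | h
    · rw [← h.1]; exact Finset.smul_mem_smul_finset hO.2.1
    · rw [← h.2]; exact Finset.smul_mem_smul_finset hO.2.2
  · rcases hg2 with h | h
    · rw [← h.2]; exact Finset.smul_mem_smul_finset hO.2.2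
    · rw [← h.1]; exact Finset.smul_mem_smul_finset hO.2.1

/-- A 2-subgroup of the stabiliser of `{none, some 0}` in `M24` fixes a hexad. -/
theorem exists_hexad (S : Subgroup (Equiv.Perm GolayPt)) (hS : S ≤ M24) (h2 : IsPGroup 2 S)
    (hpair : ∀ g ∈ S, (g none = none ∧ g (some 0) = some 0) ∨ (g none = some 0 ∧ g (some 0) = none)) :
    ∃ O, IsHexad O ∧ ∀ g ∈ S, g • O = O := by
  let X := {O : Finset GolayPt // IsHexad O}
  let _ : MulAction S X :=
    { smul := fun g O => ⟨(g : Equiv.Perm GolayPt) • O.1, smul_isHexad (hS g.2) (hpair _ g.2) O.2⟩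
      one_smul := fun O => Subtype.ext (one_smul (Equiv.Perm GolayPt) O.1)
      mul_smul := fun g k O => Subtype.ext (mul_smul (g : Equiv.Perm GolayPt) (k : Equiv.Perm GolayPt) O.1) }
  have hcard : Nat.card X = 77 := by
    have := Cfsg.Agent.SporadicStructure.MonoCounts.ncard_octads_in
    rw [← this]
    rfl
  have : Finite X := Nat.finite_of_card_ne_zero (by rw [hcard]; norm_num)
  have : Fact (Nat.Prime 2) := ⟨Nat.prime_two⟩
  obtain ⟨O, hO⟩ := h2.nonempty_fixed_point_of_prime_not_dvd_card X (by rw [hcard]; norm_num)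
  refine ⟨O.1, O.2, fun g hg => ?_⟩
  exact congrArg Subtype.val (hO ⟨g, hg⟩)

/-! ### orders -/

/-- An elementary abelian 2-subgroup of `M24` fixing a point has order at most 16. -/
theorem card_le (S : Subgroup (Equiv.Perm GolayPt)) (hS : S ≤ M24) (hel : ∀ g ∈ S, g * g = 1)
    {p₀ : GolayPt} (hp₀ : ∀ g ∈ S, g p₀ = p₀) : Nat.card S ≤ 16 := by
  classical
  let _ : Fintype S := Fintype.ofFinite S
  have hB := MulAction.sum_card_fixedBy_eq_card_orbits_mul_card_group S GolayPt
  have hf : ∀ g : S, Fintype.card (MulAction.fixedBy GolayPt g) = if g = 1 then 24 else 8 := by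
    intro g
    rw [Fintype.card_subtype]
    split_ifs with h
    · subst h
      simp only [MulAction.mem_fixedBy, one_smul]
      decide +kernel
    · exact card_fix (hS g.2) (hel _ g.2) (fun h' => h (Subtype.ext h')) (hp₀ _ g.2)
  rw [Finset.sum_congr rfl (fun g _ => hf g), Finset.sum_ite, Finset.sum_const, Finset.sum_const] at hB
  have h1 : (Finset.univ.filter fun g : S => g = 1).card = 1 := by
    rw [Finset.filter_eq' Finset.univ (1 : S), if_pos (Finset.mem_univ _), Finset.card_singleton]
  have h2 : (Finset.univ.filter fun g : S => ¬ g = 1).card = Fintype.card S - 1 := by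
    have := Finset.card_filter_add_card_filter_not (s := (Finset.univ : Finset S)) (fun g => g = 1)
    rw [h1, Finset.card_univ] at this
    omega
  rw [h1, h2, smul_eq_mul, smul_eq_mul] at hB
  have hpos : 0 < Fintype.card S := Fintype.card_pos
  rw [Nat.card_eq_fintype_card]
  have h3 : 16 = (Fintype.card (Quotient (MulAction.orbitRel S GolayPt)) - 8) * Fintype.card S := by
    rw [Nat.sub_mul, ← hB]
    omega
  have h4 : Fintype.card S ∣ 16 := ⟨_, by rw [mul_comm]; exact h3⟩
  exact Nat.le_of_dvd (by norm_num) h4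

/-- An element of `M24` stabilising an octad induces an even permutation on it. -/
theorem sign_octad {O : Finset GolayPt} (hO : O ∈ octads) {g : Equiv.Perm GolayPt} (hM : g ∈ M24)
    (hst : ∀ x, g x ∈ O ↔ x ∈ O) : Equiv.Perm.sign (g.subtypePerm hst : Equiv.Perm ↥O) = 1 := by
  have hO8 : O.card = 8 := octad_card hO
  obtain ⟨r, hr⟩ : ∃ r, r ∉ O := by
    by_contra hno
    push Not at hno
    have : O = Finset.univ := Finset.eq_univ_iff_forall.mpr hno
    rw [this] at hO8
    exact absurd hO8 (by decide)
  have hA := Cfsg.Agent.SporadicStructure.OctadStabAbs.induced_eq_alternating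
    (Cfsg.Agent.SporadicStructure.OctadStabFinal.hyp hO hr)
  have : (g.subtypePerm hst : Equiv.Perm ↥O) ∈ (alternatingGroup ↥O : Set (Equiv.Perm ↥O)) := by
    rw [← hA]
    exact ⟨g, hM, hst, rfl⟩
  exact Equiv.Perm.mem_alternatingGroup.1 this

theorem mem_iff_of_smul_eq {O : Finset GolayPt} {g : Equiv.Perm GolayPt} (h : g • O = O) :
    ∀ x, g x ∈ O ↔ x ∈ O :=
  (Cfsg.Agent.SporadicStructure.OctadStabAbs.mem_stabilizer_finset_iff g O).1 (MulAction.mem_stabilizer_iff.2 h)

/-- An element of `M24` inducing a nontrivial involution on an octad and fixing two points of it fixes exactly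
four points of it. -/
theorem card_fix_octad {O : Finset GolayPt} (hO : O ∈ octads) {g : Equiv.Perm GolayPt} (hM : g ∈ M24)
    (hg : ∀ x ∈ O, g (g x) = x) (hgO : g • O = O) {p q : GolayPt} (hp : p ∈ O) (hq : q ∈ O) (hpq : p ≠ q)
    (hgp : g p = p) (hgq : g q = q) (hne : ¬ ∀ x ∈ O, g x = x) :
    (Finset.univ.filter fun x : ↥O => g x = x).card = 4 := by
  have hO8 : O.card = 8 := octad_card hO
  have hst := mem_iff_of_smul_eq hgO
  set e : Equiv.Perm ↥O := g.subtypePerm hst with he
  have hsign : Equiv.Perm.sign e = 1 := sign_octad hO hM hst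
  have hee : e ^ 2 = 1 := by
    rw [pow_two]
    apply Equiv.ext
    intro x
    apply Subtype.ext
    exact hg x x.2
  have hne1 : e ≠ 1 := by
    intro h
    apply hne
    intro x hx
    have := congrArg (fun f : Equiv.Perm ↥O => ((f ⟨x, hx⟩ : ↥O) : GolayPt)) h
    exact this
  have hord : orderOf e = 2 := orderOf_eq_prime hee hne1
  obtain ⟨n, hn⟩ := Equiv.Perm.cycleType_prime_order (σ := e) (by rw [hord]; exact Nat.prime_two)
  rw [hord] at hn
  have hsupp : e.support.card = 2 * (n + 1) := by
    rw [← Equiv.Perm.sum_cycleType, hn, Multiset.sum_replicate, smul_eq_mul, mul_comm]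
  rw [Equiv.Perm.sign_of_cycleType, hn, Multiset.sum_replicate, Multiset.card_replicate] at hsign
  have heven : Even (n + 1) := by
    have h1 : (-1 : ℤˣ) ^ ((n + 1) • 2 + (n + 1)) = (-1) ^ (n + 1) := by
      rw [pow_add, smul_eq_mul, mul_comm (n + 1) 2, pow_mul]
      simp
    rw [h1] at hsign
    by_contra h
    rw [Nat.not_even_iff_odd] at h
    rw [h.neg_one_pow] at hsign
    exact absurd hsign (by decide)
  -- the fixed points are the complement of the support
  have hcompl : (Finset.univ.filter fun x : ↥O => g x = x) = Finset.univ \ e.support := by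
    ext x
    rw [Finset.mem_filter, Finset.mem_sdiff, Equiv.Perm.mem_support, not_not]
    refine and_congr_right fun _ => ?_
    rw [Subtype.ext_iff]
    exact Iff.rfl
  have hle : 2 ≤ (Finset.univ.filter fun x : ↥O => g x = x).card := by
    have h2 : ({⟨p, hp⟩, ⟨q, hq⟩} : Finset ↥O) ⊆ Finset.univ.filter fun x : ↥O => g x = x := by
      intro x hx
      rw [Finset.mem_insert, Finset.mem_singleton] at hx
      rw [Finset.mem_filter]
      refine ⟨Finset.mem_univ _, ?_⟩
      rcases hx with rfl | rfl
      · exact hgp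
      · exact hgq
    have h3 := Finset.card_le_card h2
    rwa [Finset.card_pair (fun h => hpq (congrArg Subtype.val h))] at h3
  have hcard : (Finset.univ.filter fun x : ↥O => g x = x).card + e.support.card = 8 := by
    rw [hcompl, Finset.card_sdiff_of_subset (Finset.subset_univ _), Finset.card_univ, Fintype.card_coe, hO8]
    have := Finset.card_le_card (Finset.subset_univ e.support)
    rw [Finset.card_univ, Fintype.card_coe, hO8] at this
    omega
  rw [hsupp] at hcard
  obtain ⟨k, hk⟩ := heven
  omega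

/-- Let `S` be a subgroup of `M24` stabilising the octad `O`, fixing two of its points and inducing an elementary
abelian 2-group on `O`. Then the subgroup fixing `O` pointwise has index at most 4. -/
theorem card_le_four_mul' (S : Subgroup (Equiv.Perm GolayPt)) (hS : S ≤ M24)
    {O : Finset GolayPt} (hO : O ∈ octads) (hel : ∀ g ∈ S, ∀ x ∈ O, g (g x) = x)
    (hSO : ∀ g ∈ S, g • O = O) {p q : GolayPt} (hp : p ∈ O)
    (hq : q ∈ O) (hpq : p ≠ q) (hSp : ∀ g ∈ S, g p = p) (hSq : ∀ g ∈ S, g q = q) :
    Nat.card S ≤ 4 * Nat.card (S ⊓ fixOct O : Subgroup (Equiv.Perm GolayPt)) := by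
  classical
  let _ : Fintype S := Fintype.ofFinite S
  have hst : ∀ g ∈ S, ∀ x, g x ∈ O ↔ x ∈ O := fun g hg => mem_iff_of_smul_eq (hSO g hg)
  let _ : MulAction S ↥O :=
    { smul := fun g x => ⟨(g : Equiv.Perm GolayPt) x, (hst _ g.2 _).2 x.2⟩
      one_smul := fun x => rfl
      mul_smul := fun g k x => rfl }
  have hB := MulAction.sum_card_fixedBy_eq_card_orbits_mul_card_group S ↥O
  have hf : ∀ g : S, Fintype.card (MulAction.fixedBy ↥O g) =
      if (g : Equiv.Perm GolayPt) ∈ fixOct O then 8 else 4 := by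
    intro g
    have hcard : Fintype.card (MulAction.fixedBy ↥O g) =
        (Finset.univ.filter fun x : ↥O => (g : Equiv.Perm GolayPt) (x : GolayPt) = (x : GolayPt)).card := by
      rw [Fintype.card_subtype]
      congr 1
      ext x
      rw [Finset.mem_filter, Finset.mem_filter, MulAction.mem_fixedBy, Subtype.ext_iff]
      exact Iff.rfl
    rw [hcard]
    split_ifs with h
    · rw [mem_fixOct] at h
      rw [Finset.filter_true_of_mem (fun (x : ↥O) _ => h.2 _ x.2), Finset.card_univ, Fintype.card_coe, octad_card hO]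
    · apply card_fix_octad hO (hS g.2) (hel _ g.2) (hSO _ g.2) hp hq hpq (hSp _ g.2) (hSq _ g.2)
      intro hx
      exact h (mem_fixOct.2 ⟨hS g.2, hx⟩)
  rw [Finset.sum_congr rfl (fun g _ => hf g), Finset.sum_ite, Finset.sum_const, Finset.sum_const] at hB
  have h1 : (Finset.univ.filter fun g : S => (g : Equiv.Perm GolayPt) ∈ fixOct O).card =
      Nat.card (S ⊓ fixOct O : Subgroup (Equiv.Perm GolayPt)) := by
    rw [← Fintype.card_subtype, ← Nat.card_eq_fintype_card]
    exact Nat.card_congr
      { toFun := fun g => ⟨g.1, g.1.2, g.2⟩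
        invFun := fun g => ⟨⟨g.1, g.2.1⟩, g.2.2⟩
        left_inv := fun g => rfl
        right_inv := fun g => rfl }
  have h2 := Finset.card_filter_add_card_filter_not (s := (Finset.univ : Finset S))
    (fun g => (g : Equiv.Perm GolayPt) ∈ fixOct O)
  rw [h1, Finset.card_univ] at h2
  rw [h1, smul_eq_mul, smul_eq_mul] at hB
  have hpos : 0 < Fintype.card S := Fintype.card_pos
  have hKpos : 0 < Nat.card (S ⊓ fixOct O : Subgroup (Equiv.Perm GolayPt)) := Nat.card_pos
  rw [Nat.card_eq_fintype_card (α := S)]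
  have h3 : 4 * Nat.card (S ⊓ fixOct O : Subgroup (Equiv.Perm GolayPt)) =
      (Fintype.card (Quotient (MulAction.orbitRel S ↥O)) - 4) * Fintype.card S := by
    rw [Nat.sub_mul, ← hB]
    omega
  exact Nat.le_of_dvd (by omega) (Dvd.intro_left _ h3.symm)

/-- Let `S` be an elementary abelian 2-subgroup of `M24` stabilising the octad `O` and fixing two of its points.
Then the subgroup fixing `O` pointwise has index at most 4. -/
theorem card_le_four_mul (S : Subgroup (Equiv.Perm GolayPt)) (hS : S ≤ M24) (hel : ∀ g ∈ S, g * g = 1)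
    {O : Finset GolayPt} (hO : O ∈ octads) (hSO : ∀ g ∈ S, g • O = O) {p q : GolayPt} (hp : p ∈ O)
    (hq : q ∈ O) (hpq : p ≠ q) (hSp : ∀ g ∈ S, g p = p) (hSq : ∀ g ∈ S, g q = q) :
    Nat.card S ≤ 4 * Nat.card (S ⊓ fixOct O : Subgroup (Equiv.Perm GolayPt)) :=
  card_le_four_mul' S hS hO (fun g hg x _ => by rw [← Equiv.Perm.mul_apply, hel g hg]; rfl) hSO hp hq hpq hSp hSq

end Cfsg.Agent.J4Type.FusionM22
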