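import Cfsg.Agent.J4Type.FusionCent
import Cfsg.Agent.J4Type.FusionConj
import Cfsg.Agent.J4Type.FusionM22
import Cfsg.Agent.J4Type.InvFix
import Cfsg.Agent.J4Type.FrameDefs

/-!
# R07 (J4 type), part (d): the field `Y_inv` of `SplitData.Input`

`C_{E(O)}(ρ)` is mapped by `P` onto the pointwise stabiliser of the octad `O`; hence an element
`y` of the centraliser of `z` and `ρ` with `y ^ 2 ∈ {1, z}` satisfies `y ^ 2 = 1`.
-/

set_option autoImplicit false

open scoped Pointwise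

namespace Cfsg.Agent.J4Type.FrameYInv

open Cfsg Cfsg.Agent.J4Type Cfsg.Agent.J4Type.FusionCent

variable {G : Type*} [Group G] (H : Hex G)

theorem E_le_cent {O : Finset GolayPt} (hO : IsHex O) :
    H.E O ≤ Subgroup.centralizer ({H.z} : Set G) := fun a ha =>
  Subgroup.mem_centralizer_singleton_iff.2 ((H.E_elem O hO).2 a ha H.z (H.z_mem_E O hO))

/-- the restriction of `P` to `C_{E(O)}(ρ)` -/
def θ {O : Finset GolayPt} (hO : IsHex O) :
    (H.E O ⊓ Subgroup.centralizer ({H.ρ} : Set G) : Subgroup G) →* Equiv.Perm GolayPt :=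
  H.P.comp (Subgroup.inclusion (inf_le_left.trans (E_le_cent H hO)))

theorem ker_θ {O : Finset GolayPt} (hO : IsHex O)
    {a : (H.E O ⊓ Subgroup.centralizer ({H.ρ} : Set G) : Subgroup G)} (ha : a ∈ (θ H hO).ker) :
    (a : G) = 1 ∨ (a : G) = H.z := by
  obtain ⟨a, haE, haρ⟩ := a
  have h1 : H.P ⟨a, E_le_cent H hO haE⟩ = 1 := ha
  have h2 : (a : G) ∈ H.Q := by
    refine mem_Q_of_pow H.toCent ⟨a, E_le_cent H hO haE⟩ h1 (n := 2) (by norm_num) ?_
    rw [pow_two]
    simp only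
    rw [(H.E_elem O hO).1 a haE]
    exact H.Q.one_mem
  exact H.ρ_fix a h2 (Subgroup.mem_centralizer_singleton_iff.1 haρ).symm

theorem card_ker_θ [Finite G] {O : Finset GolayPt} (hO : IsHex O) :
    Nat.card (θ H hO).ker ≤ 2 := by
  classical
  have h1 : Nat.card (θ H hO).ker ≤ Nat.card ({1, H.z} : Set G) := by
    refine Nat.card_le_card_of_injective
      (fun a : (θ H hO).ker => (⟨((a : (H.E O ⊓ Subgroup.centralizer ({H.ρ} : Set G) :
        Subgroup G)) : G), ?_⟩ : ({1, H.z} : Set G))) ?_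
    · rcases ker_θ H hO a.2 with h | h
      · rw [h]; exact Set.mem_insert _ _
      · rw [h]; exact Set.mem_insert_of_mem _ rfl
    · intro a b hab
      have h2 := congrArg Subtype.val hab
      exact Subtype.ext (Subtype.ext h2)
  refine h1.trans ?_
  rw [Nat.card_coe_set_eq]
  exact Set.ncard_insert_le _ _ |>.trans (by rw [Set.ncard_singleton])

/-- the pointwise stabiliser of `O` in `M24` -/
def K (O : Finset GolayPt) : Subgroup (Equiv.Perm GolayPt) :=
  (fixingSubgroup M24 (O : Set GolayPt)).map M24.subtype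

theorem mem_K {O : Finset GolayPt} {g : Equiv.Perm GolayPt} :
    g ∈ K O ↔ g ∈ M24 ∧ ∀ p ∈ O, g p = p := by
  constructor
  · rintro ⟨g, hg, rfl⟩
    refine ⟨g.2, fun p hp => ?_⟩
    exact (mem_fixingSubgroup_iff M24).1 hg p hp
  · rintro ⟨hg, hp⟩
    exact ⟨⟨g, hg⟩, (mem_fixingSubgroup_iff M24).2 fun p hpO => hp p hpO, rfl⟩

theorem card_K {O : Finset GolayPt} (hO : IsHex O) : Nat.card (K O) = 16 := by
  rw [K, Subgroup.card_map_of_injective (Subgroup.subtype_injective _)]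
  exact InvFix.card_fix_octad hO.1

/-- `C_{E(O)}(ρ)` is mapped onto the pointwise stabiliser of `O` -/
theorem exists_F [Finite G] {O : Finset GolayPt} (hO : IsHex O) {g : Equiv.Perm GolayPt}
    (hg : g ∈ M24) (hfix : ∀ p ∈ O, g p = p) :
    ∃ a : Subgroup.centralizer ({H.z} : Set G), (a : G) ∈ H.E O ∧
      (a : G) * H.ρ = H.ρ * (a : G) ∧ H.P a = g := by
  have hle : (θ H hO).range ≤ K O := by
    rintro _ ⟨a, rfl⟩
    rw [mem_K]
    exact (H.E_map O hO _).1 ⟨⟨a, E_le_cent H hO a.2.1⟩, a.2.1, rfl⟩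
  have h1 : Nat.card (θ H hO).ker * Nat.card (θ H hO).range = 2 ^ 5 := by
    rw [← Subgroup.index_ker, Subgroup.card_mul_index, H.F_card O hO]
  have h2 := card_ker_θ H hO
  have h3 : Nat.card (K O) ≤ Nat.card (θ H hO).range := by
    rw [card_K hO]
    nlinarith
  have h4 : (θ H hO).range = K O := Subgroup.eq_of_le_of_card_ge hle h3
  have h5 : g ∈ (θ H hO).range := by
    rw [h4, mem_K]
    exact ⟨hg, hfix⟩
  obtain ⟨a, ha⟩ := h5
  exact ⟨⟨a, E_le_cent H hO a.2.1⟩, a.2.1, Subgroup.mem_centralizer_singleton_iff.1 a.2.2, ha⟩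

/-- an element of the kernel of `P` commuting with `ρ` -/
theorem eq_of_P_eq_one {c : Subgroup.centralizer ({H.z} : Set G)} (hc : H.P c = 1)
    (hρ : (c : G) * H.ρ = H.ρ * (c : G)) :
    ∃ q : G, (q = 1 ∨ q = H.z) ∧ ∃ i : ℕ, (c : G) = q * H.ρ ^ i := by
  obtain ⟨q, hq, i, hqi⟩ := (H.P_ker c).1 hc
  refine ⟨q, H.ρ_fix q hq ?_, i, hqi⟩
  have h1 : q = (c : G) * (H.ρ ^ i)⁻¹ := by rw [hqi]; group
  have h2 : Commute H.ρ (c : G) := hρ.symm
  have h3 : Commute H.ρ ((c : G) * (H.ρ ^ i)⁻¹) :=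
    h2.mul_right ((Commute.refl H.ρ).pow_right i).inv_right
  rw [h1]
  exact h3.eq

theorem z_sq : H.z * H.z = 1 := (large H.toCent).z_sq

theorem z_ne_one : H.z ≠ 1 := (large H.toCent).z_ne

theorem ρ_pow_ne_z (i : ℕ) : H.ρ ^ i ≠ H.z := by
  intro h
  have h1 := ρ_pow_eq_one H.toCent (i := i) (by rw [h]; exact H.z_mem_Q)
  exact z_ne_one H (h.symm.trans h1)

/-- an element centralising `ρ` is inner -/
theorem inner_of_comm {c : Subgroup.centralizer ({H.z} : Set G)}
    (hρ : (c : G) * H.ρ = H.ρ * (c : G)) : H.P c none = none := by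
  by_contra hne
  obtain ⟨q, hq, h1⟩ := H.P_outer c hne
  rw [hρ, mul_inv_cancel_right] at h1
  have h2 : H.ρ ^ 2 = q := by
    rw [pow_two]
    nth_rw 1 [h1]
    group
  have h3 : H.ρ ^ 2 = 1 := ρ_pow_eq_one H.toCent (by rw [h2]; exact hq)
  have h4 := orderOf_dvd_of_pow_eq_one h3
  rw [H.ρ_order] at h4
  exact absurd h4 (by norm_num)

/-- involutions of `M22` fix a hexad pointwise -/
theorem factInv {g : Equiv.Perm GolayPt} (hg : g ∈ M24) (hgg : g * g = 1) (h0 : g none = none)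
    (h1 : g (some 0) = some 0) : ∃ O, IsHex O ∧ ∀ p ∈ O, g p = p := by
  by_cases hg1 : g = 1
  · exact ⟨hex0, FusionConj.isHex_hex0, fun p _ => by rw [hg1]; rfl⟩
  · have h2 := FusionM22.card_fix hg hgg hg1 h0
    obtain ⟨o, ho, hso, hfix⟩ := InvFix.involution_fix (u := ⟨g, hg⟩)
      (by rw [pow_two]; exact Subtype.ext hgg) (fun h => hg1 (congrArg Subtype.val h))
      (s := Finset.univ.filter fun p : GolayPt => g p = p) (by rw [h2]; norm_num)
      (fun p hp => (Finset.mem_filter.1 hp).2)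
    refine ⟨o, ⟨ho, ?_⟩, fun p hp => (hfix p).2 hp⟩
    intro p hp
    rw [base, Finset.mem_insert, Finset.mem_singleton] at hp
    rcases hp with rfl | rfl
    · exact (hfix _).1 h0
    · exact (hfix _).1 h1

/-- an element commuting with `z` and `ρ` does not have square `z` -/
theorem sq_ne_z [Finite G] {c : Subgroup.centralizer ({H.z} : Set G)}
    (hρ : (c : G) * H.ρ = H.ρ * (c : G)) : (c : G) * (c : G) ≠ H.z := by
  intro hz
  have hin := inner_of_comm H hρ
  have hPz : H.P (c * c) = 1 := by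
    apply P_of_mem_Q H.toCent
    show (c : G) * (c : G) ∈ H.Q
    rw [hz]
    exact H.z_mem_Q
  rw [map_mul] at hPz
  obtain ⟨hM, h0⟩ := mem_M22d (P_mem H.toCent c)
  have h0 : H.P c (some 0) = some 0 := by
    rcases h0 with h | h
    · exact h.2
    · rw [hin] at h; simp at h
  obtain ⟨O, hO, hfix⟩ := factInv hM hPz hin h0
  obtain ⟨a, haE, haρ, haP⟩ := exists_F H hO hM hfix
  have ha1 : (a : G) * a = 1 := (H.E_elem O hO).1 a haE
  have h1 : H.P (a⁻¹ * c) = 1 := by rw [map_mul, map_inv, haP, inv_mul_cancel]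
  have hcomm : ((a⁻¹ * c : Subgroup.centralizer ({H.z} : Set G)) : G) * H.ρ =
      H.ρ * ((a⁻¹ * c : Subgroup.centralizer ({H.z} : Set G)) : G) := by
    have h2 : Commute H.ρ (a : G) := haρ.symm
    have h3 : Commute H.ρ (c : G) := hρ.symm
    exact (h2.inv_right.mul_right h3).symm.eq
  obtain ⟨q, hq, i, hqi⟩ := eq_of_P_eq_one H h1 hcomm
  have hc : (c : G) = a * (q * H.ρ ^ i) := by
    rw [← hqi]
    show (c : G) = a * ((a : G)⁻¹ * c)
    group
  have hqq : q * q = 1 := by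
    rcases hq with rfl | rfl
    · simp
    · exact z_sq H
  have hqa : Commute q (a : G) := by
    rcases hq with rfl | rfl
    · exact Commute.one_left _
    · exact (Subgroup.mem_centralizer_singleton_iff.1 a.2).symm
  have hqρ : Commute q (H.ρ ^ i) := by
    rcases hq with rfl | rfl
    · exact Commute.one_left _
    · exact (show Commute H.z H.ρ from H.ρ_comm.symm).pow_right i
  have haρi : Commute (a : G) (H.ρ ^ i) := (show Commute (a : G) H.ρ from haρ).pow_right i
  have h5 : (c : G) * c = H.ρ ^ (i + i) := by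
    rw [hc, pow_add]
    calc (a : G) * (q * H.ρ ^ i) * (a * (q * H.ρ ^ i))
        = a * (q * (H.ρ ^ i * a)) * (q * H.ρ ^ i) := by group
      _ = a * (q * (a * H.ρ ^ i)) * (q * H.ρ ^ i) := by rw [haρi.eq]
      _ = a * (q * a) * (H.ρ ^ i * q) * H.ρ ^ i := by group
      _ = a * (a * q) * (q * H.ρ ^ i) * H.ρ ^ i := by rw [hqa.eq, hqρ.eq]
      _ = (a * a) * (q * q) * (H.ρ ^ i * H.ρ ^ i) := by group
      _ = H.ρ ^ i * H.ρ ^ i := by rw [ha1, hqq]; group
  rw [hz] at h5
  exact ρ_pow_ne_z H _ h5.symm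

/-! ### The field `Y_inv` -/

section Frame

variable (F : Frame G)

open FrameDefs

/-- an element of `Y` whose image commutes with the image of `ρ` centralises `ρ` -/
theorem comm_of_Y {y : NE F} (hy : y ∈ Y F)
    (hc : F.π y * F.π (rho F) = F.π (rho F) * F.π y) : (y : G) * F.ρ = F.ρ * (y : G) := by
  obtain ⟨h1, h2, h3⟩ := (mem_YG F.toHex).1 ((mem_Y F).1 hy)
  rcases h3 with h3 | h3
  · exact mul_inv_eq_iff_eq_mul.1 h3
  · exfalso
    have h4 : y * rho F * y⁻¹ = (rho F)⁻¹ := Subtype.ext h3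
    have h5 : F.π (rho F) = (F.π (rho F))⁻¹ := by
      calc F.π (rho F) = F.π y * F.π (rho F) * (F.π y)⁻¹ := by rw [hc, mul_inv_cancel_right]
        _ = F.π (y * rho F * y⁻¹) := by rw [map_mul, map_mul, map_inv]
        _ = (F.π (rho F))⁻¹ := by rw [h4, map_inv]
    have h6 : F.π (rho F * rho F) = 1 := by
      rw [map_mul]
      nth_rw 1 [h5]
      rw [inv_mul_cancel]
    have h7 : F.ρ * F.ρ ∈ F.E hex0 := (F.π_ker _).1 h6
    have h8 := (F.E_elem hex0 FusionConj.isHex_hex0).1 _ h7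
    have h9 : F.ρ ^ 4 = 1 := by
      have : F.ρ ^ 4 = F.ρ * F.ρ * (F.ρ * F.ρ) := by rw [pow_succ, pow_succ, pow_two]; group
      rw [this, h8]
    have h10 := orderOf_dvd_of_pow_eq_one h9
    rw [F.ρ_order] at h10
    exact absurd h10 (by norm_num)

/-- the field `Y_inv` of `SplitData.Input` (for `g = ρ0`, `f = π`); the hypothesis `hk` comes
from `Y_ker` -/
theorem Y_inv [Finite G] {g : M24} (hg : F.π (rho F) = g ∨ F.π (rho F) = g⁻¹) {y : NE F}
    (hy : y ∈ Y F) (hk : y * y = 1 ∨ ((y * y : NE F) : G) = F.z)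
    (hc : F.π y * g = g * F.π y) : y * y = 1 := by
  have h0 : F.π y * F.π (rho F) = F.π (rho F) * F.π y := by
    rcases hg with hg | hg
    · rw [hg, hc]
    · rw [hg]
      exact (show Commute (F.π y) g from hc).inv_right.eq
  have h1 := comm_of_Y F hy h0
  rcases hk with hk | hk
  · exact hk
  · obtain ⟨h2, -⟩ := (mem_YG F.toHex).1 ((mem_Y F).1 hy)
    exact absurd hk (sq_ne_z F.toHex (c := ⟨(y : G), h2⟩) h1)

end Frame

end Cfsg.Agent.J4Type.FrameYInv
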