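import Cfsg.Agent.J4Type.FrameDefs
import Cfsg.Agent.J4Type.FrameR
import Cfsg.Agent.J4Type.FrameYInv
import Cfsg.Agent.J4Type.FrameY
import Cfsg.Agent.J4Type.FrameRr0

/-!
# J₄ type: `Frame` gives the input of the splitting theorem (R07 (d))
-/

set_option autoImplicit false

namespace Cfsg.Agent.J4Type.FrameInput

open Cfsg Cfsg.Agent.SporadicA.GolayBase
open Cfsg.Agent.SporadicA.GolayPerm hiding pcomp
open Cfsg.Agent.J4Type.CocodeMask Cfsg.Agent.J4Type.CocodeExt Cfsg.Agent.J4Type.SplitData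
open Cfsg.Agent.J4Type.FrameDefs
open scoped Pointwise

variable {G : Type*} [Group G] (F : Frame G)

theorem ρN_eq : FrameY.ρN F = rho F := rfl

/-- `z` in the normaliser -/
theorem c_zm : (c F zm : G) = F.z := by
  rw [c_coe F ev_zm]
  have h1 : Even (fin (zm <<< 12)).card := by decide +kernel
  have h2 : Even (tet 0).card := FrameY.even_tet 0
  have h3 : IsCode (symmDiff (fin (zm <<< 12)) (tet 0)) := by
    have h : symmDiff (fin (zm <<< 12)) (tet 0) = fin 5902343 := by decide +kernel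
    rw [h]
    exact (fin_mem_supports_iff (by norm_num)).2 (by decide +kernel)
  have h4 : F.ε (symmDiff (fin (zm <<< 12)) (tet 0)) = 1 := by
    refine (F.ε_ker _ ?_).2 h3
    decide +kernel
  rw [F.ε_mul _ _ h1 h2, F.ε_tet] at h4
  have h5 : F.z * F.z = 1 := NormE.z_sq F.toCent
  rw [← h5] at h4
  exact mul_right_cancel h4

theorem Y_ker : ∀ y ∈ Y F, F.π y = 1 → y = 1 ∨ y = c F zm := by
  intro y hy h1
  obtain ⟨hC, hP, hρ⟩ := (mem_YG F.toHex).1 ((mem_Y F).1 hy)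
  have hE : (y : G) ∈ F.E hex0 := (F.π_ker y).1 h1
  have hcomm : (y : G) * F.ρ = F.ρ * y := by
    rcases hρ with h | h
    · exact mul_inv_eq_iff_eq_mul.1 h
    · exfalso
      have h2 : (y : G) * F.ρ * (y : G)⁻¹ * F.ρ⁻¹ ∈ F.E hex0 := by
        have h3 := (ρ_E F.toHex HexMax.hex0_isHex _).1 (inv_mem hE)
        have h4 := mul_mem hE h3
        have h5 : (y : G) * (F.ρ * (y : G)⁻¹ * F.ρ⁻¹) = (y : G) * F.ρ * (y : G)⁻¹ * F.ρ⁻¹ := by group
        rwa [h5] at h4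
      rw [h] at h2
      have h6 : F.ρ⁻¹ * F.ρ⁻¹ = F.ρ := by
        rw [← mul_inv_rev, inv_eq_iff_mul_eq_one]
        exact ρ_cube F.toCent
      rw [h6] at h2
      exact FrameY.ρ_notMem_E F.toHex HexMax.hex0_isHex h2
  rcases FrameY.eq_of_E F.toHex hE hcomm (fun _ => hP) with h | h
  · exact Or.inl (Subtype.ext h)
  · exact Or.inr (Subtype.ext (h.trans (c_zm F).symm))

theorem z_mem : c F zm ∈ Y F := by
  rw [mem_Y, c_zm, mem_YG]
  refine ⟨zC F.toCent F.z_mem_Q, ?_, Or.inl ?_⟩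
  · rw [P_Q F.toCent F.z_mem_Q, one_smul]
  · rw [← F.ρ_comm, mul_inv_cancel_right]

theorem rho_mem : rho F ∈ Y F := by
  rw [mem_Y, mem_YG]
  refine ⟨ρC F.toCent, ?_, Or.inl ?_⟩
  · have h := P_ρ F.toCent
    show F.P ⟨F.ρ, _⟩ • hex1 = hex1
    rw [h, one_smul]
  · show F.ρ * F.ρ * F.ρ⁻¹ = F.ρ
    rw [mul_inv_cancel_right]

theorem mem_Y_of {n : NE F} (hz : (n : G) * F.z = F.z * n)
    (h1 : ∀ hc : (n : G) ∈ Subgroup.centralizer ({F.z} : Set G), F.P ⟨n, hc⟩ • hex1 = hex1)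
    (h2 : (n : G) * F.ρ * (n : G)⁻¹ = F.ρ ∨ (n : G) * F.ρ * (n : G)⁻¹ = F.ρ⁻¹) : n ∈ Y F := by
  rw [mem_Y, mem_YG]
  exact ⟨Subgroup.mem_centralizer_singleton_iff.2 hz, h1 _, h2⟩

theorem s_mem : ∃ y ∈ Y F, F.π y = s0 := by
  obtain ⟨n, h1, h2, h3, h4⟩ := FrameY.exists_s F
  exact ⟨n, mem_Y_of F h2 h3 h4, h1⟩

theorem t_mem : ∃ y ∈ Y F, F.π y = t0 := by
  obtain ⟨n, h1, h2, h3, h4⟩ := FrameY.exists_t F
  exact ⟨n, mem_Y_of F h2 h3 h4, h1⟩

theorem Y_inv [Finite G] : ∀ y ∈ Y F, F.π y * ρ0 = ρ0 * F.π y → F.π y * F.π y = 1 → y * y = 1 := by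
  intro y hy hc h1
  have h2 : F.π (rho F) = ρ0 ∨ F.π (rho F) = ρ0⁻¹ := FrameY.π_ρ F
  refine FrameYInv.Y_inv F h2 hy ?_ hc
  rcases Y_ker F (y * y) (mul_mem hy hy) (by rw [map_mul]; exact h1) with h | h
  · exact Or.inl h
  · right
    rw [h]
    exact c_zm F

theorem exists_input_aux [Finite G]
    (R_col : ∀ r ∈ R F, ∀ p : GolayPt, col (idx ((F.π r : Equiv.Perm GolayPt) p)) = col (idx p))
    (R_r0 : ∃ r ∈ R F, F.π r = r0) :
    ∃ r : NE F, ((r : G) = F.ρ ∨ (r : G) = F.ρ⁻¹) ∧ Input F.π (c F) (Y F) (R F) r := by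
  have key : ∀ r : NE F, r ∈ Y F → r * r * r = 1 → F.π r = ρ0 → Input F.π (c F) (Y F) (R F) r :=
    fun r h1 h2 h3 =>
    { ext := FrameDefs.ext F
      ρ_mem := h1
      ρ_cube := h2
      f_ρ := h3
      Y_ker := Y_ker F
      z_mem := z_mem F
      s_mem := s_mem F
      t_mem := t_mem F
      Y_inv := Y_inv F
      R_ker := FrameR.R_ker F
      R_card := FrameR.R_card F
      R_col := R_col
      R_r0 := R_r0
      R_conj := FrameR.R_conj F }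
  have h3 : rho F * rho F * rho F = 1 := Subtype.ext (ρ_cube F.toCent)
  rcases FrameY.π_ρ F with h | h
  · exact ⟨rho F, Or.inl rfl, key _ (rho_mem F) h3 h⟩
  · refine ⟨(rho F)⁻¹, Or.inr rfl, key _ (inv_mem (rho_mem F)) ?_ ?_⟩
    · rw [← mul_inv_rev, ← mul_inv_rev, ← mul_assoc, h3, inv_one]
    · rw [map_inv]
      have h' : F.π (rho F) = ρ0⁻¹ := h
      rw [h', inv_inv]

/-- **Input of the splitting theorem.** -/
theorem exists_input [Finite G] :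
    ∃ r : NE F, ((r : G) = F.ρ ∨ (r : G) = F.ρ⁻¹) ∧ Input F.π (c F) (Y F) (R F) r :=
  exists_input_aux F (FrameRr0.R_col F) (FrameRr0.R_r0 F (FrameR.R_ker F) (FrameR.R_card F))

end Cfsg.Agent.J4Type.FrameInput
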