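import Cfsg.Agent.J4Type.ComplOf
import Cfsg.Agent.J4Type.FrameInput

/-!
# Part (d): every `Frame` extends to a `Compl`
-/

set_option autoImplicit false

namespace Cfsg.Agent.J4Type.ComplExists

open Cfsg Cfsg.Agent.J4Type Cfsg.Agent.J4Type.FrameDefs

theorem exists_compl {G : Type*} [Group G] [Finite G] (F : Frame G) :
    ∃ C : Compl G, C.toFrame = F := by
  obtain ⟨r, hr, H⟩ := FrameInput.exists_input F
  refine ComplOf.exists_compl F (ρ' := r) ?_ H
  rcases hr with h | h
  · exact Or.inl (Subtype.ext h)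
  · exact Or.inr (Subtype.ext h)

end Cfsg.Agent.J4Type.ComplExists
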