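import Cfsg.Agent.J4Type.Split2
import Cfsg.Agent.J4Type.CocodeAct

/-!
Part (d): choice of the complement: it can be chosen to contain `ρ`, with `s0, t0` in `Y` and
`r0` in `R`.
-/

set_option autoImplicit false

namespace Cfsg.Agent.J4Type.Normalise

open Cfsg Cfsg.Agent.SporadicA.GolayBase
open Cfsg.Agent.J4Type.CocodeMask Cfsg.Agent.J4Type.CocodeExt Cfsg.Agent.J4Type.SplitData
open Cfsg.Agent.J4Type.Split Cfsg.Agent.J4Type.Split2 Cfsg.Agent.J4Type.CocodeAct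
open Cfsg.Agent.SporadicA.GolayPerm (papp)

/-! ### Kernel checks -/

/-- the even masks fixed by `ρ0` -/
def Fl : List ℕ := [0, 95, 435, 492, 686, 753, 797, 834, 1043, 1100, 1440, 1535, 1725, 1762, 1806, 1873, 2049, 2142,
  2482, 2541, 2735, 2800, 2844, 2883, 3090, 3149, 3489, 3582, 3772, 3811, 3855, 3920]

theorem check_Fl : allR 12 0 (fun a => !(ev a && Nat.beq (actT Tρ a) a) || Fl.any (Nat.beq a)) =
    true := by decide +kernel

theorem mem_Fl {a : ℕ} (ha : ev a = true) (h : act ρ0 a = a) : a ∈ Fl := by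
  have h1 := allR_zero_spec check_Fl a ((ev_iff a).1 ha).1
  rw [act_eq tab_ρ] at h
  rw [ha, h, Nat.beq_refl, Bool.and_true, Bool.not_true, Bool.false_or, List.any_eq_true] at h1
  obtain ⟨b, hb, h2⟩ := h1
  rw [Nat.beq_eq] at h2
  rwa [h2]

/-- `(v, v + s0 v, v + t0 v)` for `v` fixed by `ρ0` -/
def Fv : List (ℕ × ℕ × ℕ) := [(0, 0, 0), (95, 3811, 3149), (435, 3811, 1873), (492, 0, 2844), (686, 0, 2735), (753, 3811,
  1762), (797, 3811, 3582), (834, 0, 435), (1043, 0, 2142), (1100, 3811, 1043), (1440, 3811,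
  3855), (1535, 0, 834), (1725, 0, 753), (1762, 3811, 3772), (1806, 3811, 1440), (1873, 0, 2541),
  (2049, 3811, 3855), (2142, 0, 834), (2482, 0, 2142), (2541, 3811, 1043), (2735, 3811, 1440),
  (2800, 0, 2541), (2844, 0, 753), (2883, 3811, 3772), (3090, 3811, 1873), (3149, 0, 2844), (3489,
  0, 0), (3582, 3811, 3149), (3772, 3811, 3582), (3811, 0, 435), (3855, 0, 2735), (3920, 3811,
  1762)]

theorem check_Fv : Fv.all (fun x => ev x.1 && Nat.beq (actT Tρ x.1) x.1 &&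
    (Nat.beq x.2.1 (x.1 ^^^ actT Ts x.1) && Nat.beq x.2.2 (x.1 ^^^ actT Tt x.1))) = true := by
  decide +kernel

/-- masks of `1` and `z` -/
def inz (x : ℕ) : Bool := Nat.beq x 0 || Nat.beq x zm

/-- the letters of the cocycle of a pair -/
def am (a b : ℕ) : ℕ → ℕ
  | 0 => a
  | 1 => b
  | _ => actT Tt' b

/-- the cocycle on words -/
def wm (a b : ℕ) : List ℕ → ℕ
  | [] => 0
  | x :: w => am a b x ^^^ actT (letterT x) (wm a b w)

def W1 : List ℕ := [0, 1, 0, 2, 0, 1, 0, 2, 0, 1, 0, 2]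
def W2 : List ℕ := [0, 1, 1, 0, 2, 2, 0, 1, 1, 0, 2, 2]

def sol (a b : ℕ) : Bool := Fv.any fun x => inz (x.2.1 ^^^ a) && inz (x.2.2 ^^^ b)

def ap : ℕ := st 23 ^^^ st (papp Ts 23)
def bp : ℕ := st 23 ^^^ st (papp Tt 23)

theorem check_pairs : Fl.all (fun a => Fl.all fun b =>
    !(inz (wm a b W1) && inz (wm a b W2)) || (sol a b || sol (ap ^^^ a) (bp ^^^ b))) = true := by
  decide +kernel

theorem check_m : allR 12 0 (fun m => !(ev m && (Nat.beq (actT (wT [2, 0, 1, 0, 2]) m) m &&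
    (Nat.beq (actT (wT [1, 1, 1, 0, 1, 1, 1]) m) m && (Nat.beq (actT Tr m) m &&
      Nat.beq (m ^^^ actT Tr (actT Tρ m)) (actT Tr (actT Tρ (actT Tr (actT Tρ m)))))))) ||
      Nat.beq m 0) = true := by
  decide +kernel

theorem check_pone : allR 12 0 (fun a => Nat.beq (actT pone a) a) = true := by
  decide +kernel

theorem actT_pone {a : ℕ} (ha : ev a = true) : actT pone a = a := by
  have h := allR_zero_spec check_pone a ((ev_iff a).1 ha).1
  rwa [Nat.beq_eq] at h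

/-! ### Group theory -/

theorem cube_z {N : Type*} [Group N] {x z : N} (hx : x * z = z * x) (hz : z * z = 1)
    (hc : x * x * x = 1) : (x * z) * (x * z) * (x * z) = z := by
  have h : (x * z) ^ 3 = x ^ 3 * z ^ 3 := (show Commute x z from hx).mul_pow 3
  have h3 : ∀ y : N, y ^ 3 = y * y * y := fun y => by rw [pow_succ, pow_two]
  rw [h3, h3, h3, hc, hz, one_mul, one_mul] at h
  exact h

section main

variable {N : Type*} [Group N] {f : N →* M24} {c : ℕ → N} {Y R : Subgroup N} {ρ : N}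
  (H : Input f c Y R ρ)

include H

theorem c_inz {m : ℕ} (hm : ev m = true) (h : c m = 1 ∨ c m = c zm) : inz m = true := by
  unfold inz
  rw [Bool.or_eq_true, Nat.beq_eq, Nat.beq_eq]
  rcases h with h | h
  · exact Or.inl (H.ext.inj m hm h)
  · exact Or.inr (H.ext.injOn hm ev_zm h)

theorem inz_mem {m : ℕ} (h : inz m = true) : c m ∈ Y := by
  unfold inz at h
  rw [Bool.or_eq_true, Nat.beq_eq, Nat.beq_eq] at h
  rcases h with h | h
  · rw [h, H.ext.c_zero]; exact Y.one_mem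
  · rw [h]; exact H.z_mem

/-- Step 1: a section through `ρ`. -/
theorem exists_section1 [Finite N] : ∃ φ : M24 →* N, (∀ g, f (φ g) = g) ∧ φ ρ0 = ρ := by
  obtain ⟨φ, hφ⟩ := exists_section0 H
  have h1 : f (φ ρ0) = f ρ := by rw [hφ, H.f_ρ]
  obtain ⟨b, hb, h2⟩ := H.ext.exists_mul' h1
  have hb1 : ev (act ρ0 b) = true := ev_act _ hb
  have hb2 : ev (act ρ0 (act ρ0 b)) = true := ev_act _ hb1
  have e3 : ρ0 * ρ0 * ρ0 = 1 := by rw [← H.f_ρ, ← map_mul, ← map_mul, H.ρ_cube, map_one]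
  have h3 : φ ρ0 * φ ρ0 * φ ρ0 = 1 := by rw [← map_mul, ← map_mul, e3, map_one]
  have m1 := H.ext.mul_c ρ hb
  have m2 := H.ext.mul_c ρ hb1
  rw [H.f_ρ] at m1 m2
  have h4 : c (b ^^^ (act ρ0 b ^^^ act ρ0 (act ρ0 b))) = 1 := by
    rw [H.ext.xor _ _ hb (ev_xor hb1 hb2), H.ext.xor _ _ hb1 hb2, ← h3, h2]
    symm
    calc c b * ρ * (c b * ρ) * (c b * ρ) = c b * (ρ * c b) * (ρ * c b) * ρ := by group
      _ = c b * (c (act ρ0 b) * ρ) * (c (act ρ0 b) * ρ) * ρ := by rw [m1]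
      _ = c b * c (act ρ0 b) * (ρ * c (act ρ0 b)) * ρ * ρ := by group
      _ = c b * c (act ρ0 b) * (c (act ρ0 (act ρ0 b)) * ρ) * ρ * ρ := by rw [m2]
      _ = c b * (c (act ρ0 b) * c (act ρ0 (act ρ0 b))) * (ρ * ρ * ρ) := by group
      _ = _ := by rw [H.ρ_cube, mul_one]
  have h5 := H.ext.inj _ (ev_xor hb (ev_xor hb1 hb2)) h4
  obtain ⟨ψ, hψ, h6⟩ := exists_conj H.ext hb1 hφ
  refine ⟨ψ, hψ, ?_⟩
  rw [h6, ← Nat.xor_eq_zero_iff.1 h5, h2, ← mul_assoc, H.ext.sq hb, one_mul]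

/-- The part in the cocode of an element inverting `ρ`. -/
theorem act_fix {φ : M24 →* N} (hρ : φ ρ0 = ρ) {g : M24} {a : ℕ} {y : N}
    (ha : ev a = true) (hy : y ∈ Y) (fy : f y = g) (h : φ g = c a * y)
    (hg : g * ρ0 = ρ0 * ρ0 * g) : act ρ0 a = a := by
  have e3 : ρ0 * ρ0 * ρ0 = 1 := by rw [← H.f_ρ, ← map_mul, ← map_mul, H.ρ_cube, map_one]
  -- `y ρ y⁻¹ = ρ²`
  have h1 : y * ρ * y⁻¹ = ρ * ρ := by
    have k1 : y * ρ * y⁻¹ ∈ Y := Y.mul_mem (Y.mul_mem hy H.ρ_mem) (Y.inv_mem hy)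
    have k2 : ρ * ρ ∈ Y := Y.mul_mem H.ρ_mem H.ρ_mem
    have k3 : f (y * ρ * y⁻¹) = f (ρ * ρ) := by
      rw [map_mul, map_mul, map_mul, map_inv, H.f_ρ, fy, hg, mul_inv_cancel_right]
    rcases eq_or H k1 k2 k3 with k4 | k4
    · exact k4
    · exfalso
      have k5 : (y * ρ * y⁻¹) * (y * ρ * y⁻¹) * (y * ρ * y⁻¹) = 1 := by
        have : (y * ρ * y⁻¹) * (y * ρ * y⁻¹) * (y * ρ * y⁻¹) = y * (ρ * ρ * ρ) * y⁻¹ := by group
        rw [this, H.ρ_cube, mul_one, mul_inv_cancel]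
      have k6 := central_z H k2
      have k7 : (ρ * ρ) * (ρ * ρ) * (ρ * ρ) = 1 := by
        have : (ρ * ρ) * (ρ * ρ) * (ρ * ρ) = (ρ * ρ * ρ) * (ρ * ρ * ρ) := by group
        rw [this, H.ρ_cube, one_mul]
      rw [k4, cube_z k6 (z_sq H) k7] at k5
      exact cz_ne H k5
  have h2 : φ g * φ ρ0 * (φ g)⁻¹ = φ ρ0 * φ ρ0 := by
    rw [← map_mul, hg, map_mul, map_mul, mul_inv_cancel_right]
  rw [hρ, h] at h2
  have h3 : c a * (ρ * ρ) * (c a)⁻¹ = ρ * ρ := by
    conv_rhs => rw [← h2]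
    rw [← h1]
    group
  have h4 : (ρ * ρ) * c a * (ρ * ρ)⁻¹ = c a := by
    rw [mul_inv_eq_iff_eq_mul]
    rw [mul_inv_eq_iff_eq_mul] at h3
    exact h3.symm
  rw [H.ext.conj _ _ ha, map_mul, H.f_ρ] at h4
  have h5 := H.ext.injOn (ev_act _ ha) ha h4
  rw [H.ext.act_act _ _ ha] at h5
  have h6 : act ρ0 (act ρ0 (act ρ0 a)) = a := by
    rw [← H.ext.act_act _ _ (ev_act _ ha), ← H.ext.act_act _ _ ha, e3,
      act_eq isTab_one, actT_pone ha]
  rw [h5] at h6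
  exact h6

/-- The cocycle on words. -/
theorem map_word {φ : M24 →* N} {S T : N} {a b : ℕ} (hS : S ∈ Y) (fS : f S = s0) (hT : T ∈ Y)
    (fT : f T = t0) (ha : ev a = true) (hb : ev b = true) (hs : φ s0 = c a * S)
    (ht : φ t0 = c b * T) (w : List ℕ) :
    ev (wm a b w) = true ∧ ∃ y ∈ Y, f y = wE w ∧ φ (wE w) = c (wm a b w) * y := by
  have hlet : ∀ x, ev (am a b x) = true ∧ ∃ y ∈ Y, f y = letter x ∧
      φ (letter x) = c (am a b x) * y := by
    intro x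
    match x with
    | 0 => exact ⟨ha, S, hS, fS, hs⟩
    | 1 => exact ⟨hb, T, hT, fT, ht⟩
    | n + 2 =>
      have e1 : actT Tt' b = act t0⁻¹ b := (act_eq tab_t' b).symm
      refine ⟨?_, T⁻¹, Y.inv_mem hT, by rw [map_inv, fT]; rfl, ?_⟩
      · show ev (actT Tt' b) = true
        rw [e1]
        exact ev_act _ hb
      · show φ t0⁻¹ = c (actT Tt' b) * T⁻¹
        have h1 := H.ext.mul_c T⁻¹ hb
        rw [map_inv, fT, ← e1] at h1
        rw [map_inv, ht, mul_inv_rev, H.ext.inv hb, h1]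
  induction w with
  | nil => exact ⟨ev_zero, 1, Y.one_mem, map_one f, by
      show φ 1 = c 0 * 1
      rw [map_one, H.ext.c_zero, mul_one]⟩
  | cons x w ih =>
    obtain ⟨h1, y, hy, fy, h2⟩ := ih
    obtain ⟨h3, u, hu, fu, h4⟩ := hlet x
    have e1 : actT (letterT x) (wm a b w) = act (letter x) (wm a b w) :=
      (act_eq (tab_letter x) _).symm
    have h5 : ev (actT (letterT x) (wm a b w)) = true := by rw [e1]; exact ev_act _ h1
    refine ⟨ev_xor h3 h5, u * y, Y.mul_mem hu hy, by rw [map_mul, fu, fy]; rfl, ?_⟩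
    show φ (letter x * wE w) = c (am a b x ^^^ actT (letterT x) (wm a b w)) * (u * y)
    rw [map_mul, h4, h2, H.ext.xor _ _ h3 h5, e1]
    have h6 := H.ext.mul_c u h1
    rw [fu] at h6
    calc c (am a b x) * u * (c (wm a b w) * y) = c (am a b x) * (u * c (wm a b w)) * y := by group
      _ = _ := by rw [h6]; group

theorem inz_word {φ : M24 →* N} (hρ : φ ρ0 = ρ) {S T : N} {a b : ℕ} (hS : S ∈ Y) (fS : f S = s0)
    (hT : T ∈ Y) (fT : f T = t0) (ha : ev a = true) (hb : ev b = true) (hs : φ s0 = c a * S)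
    (ht : φ t0 = c b * T) (w : List ℕ) (k : ℕ) (hw : wE w = ρ0 ^ k) : inz (wm a b w) = true := by
  obtain ⟨h1, y, hy, fy, h2⟩ := map_word H hS fS hT fT ha hb hs ht w
  apply c_inz H h1
  rw [hw, map_pow, hρ] at h2
  have h3 : f (ρ ^ k) = f y := by rw [map_pow, H.f_ρ, fy, hw]
  have h4 : ρ ^ k * y⁻¹ = c (wm a b w) := by rw [h2, mul_inv_cancel_right]
  rw [← h4]
  apply H.Y_ker _ (Y.mul_mem (Y.pow_mem H.ρ_mem k) (Y.inv_mem hy))
  rw [map_mul, map_inv, h3, mul_inv_cancel]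

/-- Step 2: solution given. -/
theorem solve {φ : M24 →* N} (hφ : ∀ g, f (φ g) = g) (hρ : φ ρ0 = ρ) {S T : N} {a b : ℕ}
    (hS : S ∈ Y) (hT : T ∈ Y) (ha : ev a = true) (hb : ev b = true) (hs : φ s0 = c a * S)
    (ht : φ t0 = c b * T) (h : sol a b = true) :
    ∃ ψ : M24 →* N, (∀ g, f (ψ g) = g) ∧ ψ ρ0 = ρ ∧ ψ s0 ∈ Y ∧ ψ t0 ∈ Y := by
  unfold sol at h
  rw [List.any_eq_true] at h
  obtain ⟨x, hx, h1⟩ := h
  rw [Bool.and_eq_true] at h1
  have h2 := List.all_eq_true.1 check_Fv x hx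
  simp only [Bool.and_eq_true, Nat.beq_eq] at h2
  obtain ⟨⟨hv, h3⟩, h4, h5⟩ := h2
  obtain ⟨v, x1, x2⟩ := x
  dsimp only at *
  subst h4 h5
  obtain ⟨ψ, hψ, h6⟩ := exists_conj H.ext hv hφ
  rw [← act_eq tab_ρ] at h3
  rw [← act_eq tab_s, ← act_eq tab_t] at h1
  refine ⟨ψ, hψ, ?_, ?_, ?_⟩
  · rw [h6, h3, Nat.xor_self, H.ext.c_zero, one_mul, hρ]
  · rw [h6, hs, ← mul_assoc, ← H.ext.xor _ _ (ev_xor hv (ev_act _ hv)) ha]
    exact Y.mul_mem (inz_mem H h1.1) hS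
  · rw [h6, ht, ← mul_assoc, ← H.ext.xor _ _ (ev_xor hv (ev_act _ hv)) hb]
    exact Y.mul_mem (inz_mem H h1.2) hT

/-- Step 2: a section with `s0`, `t0` in `Y`. -/
theorem exists_section2 [Finite N] :
    ∃ φ : M24 →* N, (∀ g, f (φ g) = g) ∧ φ ρ0 = ρ ∧ φ s0 ∈ Y ∧ φ t0 ∈ Y := by
  obtain ⟨φ, hφ, hρ⟩ := exists_section1 H
  obtain ⟨S, hS, fS⟩ := H.s_mem
  obtain ⟨T, hT, fT⟩ := H.t_mem
  obtain ⟨a, ha, hs⟩ := H.ext.exists_mul' (show f (φ s0) = f S by rw [hφ, fS])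
  obtain ⟨b, hb, ht⟩ := H.ext.exists_mul' (show f (φ t0) = f T by rw [hφ, fT])
  have is : s0 * ρ0 = ρ0 * ρ0 * s0 := (tab_s.mul tab_ρ).eq (by
    rw [show pcomp Ts Tρ = pcomp (pcomp Tρ Tρ) Ts by decide +kernel]
    exact (tab_ρ.mul tab_ρ).mul tab_s)
  have it : t0 * ρ0 = ρ0 * ρ0 * t0 := (tab_t.mul tab_ρ).eq (by
    rw [show pcomp Tt Tρ = pcomp (pcomp Tρ Tρ) Tt by decide +kernel]
    exact (tab_ρ.mul tab_ρ).mul tab_t)
  have fa := mem_Fl ha (act_fix H hρ ha hS fS hs is)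
  have fb := mem_Fl hb (act_fix H hρ hb hT fT ht it)
  have w1 : wE W1 = ρ0 ^ 0 := (tab_w W1).eq (by
    rw [pow_zero, show wT W1 = pone by decide +kernel]
    exact isTab_one)
  have w2 : wE W2 = ρ0 ^ 1 := (tab_w W2).eq (by
    rw [pow_one, show wT W2 = Tρ by decide +kernel]
    exact tab_ρ)
  have i1 := inz_word H hρ hS fS hT fT ha hb hs ht W1 0 w1
  have i2 := inz_word H hρ hS fS hT fT ha hb hs ht W2 1 w2
  have h1 := List.all_eq_true.1 (List.all_eq_true.1 check_pairs a fa) b fb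
  rw [i1, i2, Bool.and_true, Bool.not_true, Bool.false_or, Bool.or_eq_true] at h1
  rcases h1 with h1 | h1
  · exact solve H hφ hρ hS hT ha hb hs ht h1
  · obtain ⟨ψ, hψ, h2⟩ := exists_twist H.ext (pt 23) hφ
    have i23 : idx (pt 23) = 23 := idx_pt (by norm_num)
    have eρ : (ρ0 : Equiv.Perm GolayPt) (pt 23) = pt 23 := by
      apply idx_injective
      rw [tab_ρ, i23]
      decide +kernel
    have es : du (pt 23) ((s0 : Equiv.Perm GolayPt) (pt 23)) = ap := by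
      unfold du ap
      rw [tab_s, i23]
    have et : du (pt 23) ((t0 : Equiv.Perm GolayPt) (pt 23)) = bp := by
      unfold du bp
      rw [tab_t, i23]
    have ea : ev ap = true := by rw [← es]; exact ev_du _ _
    have eb : ev bp = true := by rw [← et]; exact ev_du _ _
    refine solve H (a := ap ^^^ a) (b := bp ^^^ b) hψ ?_ hS hT (ev_xor ea ha) (ev_xor eb hb) ?_ ?_
      h1
    · rw [h2, eρ, du_self, H.ext.c_zero, one_mul, hρ]
    · rw [h2, es, hs, ← mul_assoc, H.ext.xor _ _ ea ha]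
    · rw [h2, et, ht, ← mul_assoc, H.ext.xor _ _ eb hb]

omit H in
theorem word_mem_Y {φ : M24 →* N} (hs : φ s0 ∈ Y) (ht : φ t0 ∈ Y) (w : List ℕ) :
    φ (wE w) ∈ Y := by
  induction w with
  | nil => rw [show wE [] = 1 from rfl, map_one]; exact Y.one_mem
  | cons x w ih =>
    rw [show wE (x :: w) = letter x * wE w from rfl, map_mul]
    apply Y.mul_mem _ ih
    match x with
    | 0 => exact hs
    | 1 => exact ht
    | n + 2 =>
      show φ t0⁻¹ ∈ Y
      rw [map_inv]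
      exact Y.inv_mem ht

theorem R_inj {x y : N} (hx : x ∈ R) (hy : y ∈ R) (h : f x = f y) : x = y := by
  have h1 := H.R_ker (x * y⁻¹) (R.mul_mem hx (R.inv_mem hy)) (by
    rw [map_mul, map_inv, h, mul_inv_cancel])
  exact mul_inv_eq_one.1 h1

/-- **Part (d)**: a complement of the cocode, adapted to `Y` and `R`. -/
theorem exists_section [Finite N] :
    ∃ φ : M24 →* N, (∀ g, f (φ g) = g) ∧ φ ρ0 = ρ ∧ φ s0 ∈ Y ∧ φ t0 ∈ Y ∧ φ r0 ∈ R := by
  obtain ⟨φ, hφ, hρ, hs, ht⟩ := exists_section2 H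
  refine ⟨φ, hφ, hρ, hs, ht, ?_⟩
  obtain ⟨u, hu, fu⟩ := H.R_r0
  obtain ⟨m, hm, h1⟩ := H.ext.exists_mul' (show f (φ r0) = f u by rw [hφ, fu])
  -- words commuting with `r0`
  have key : ∀ w : List ℕ, pcomp (wT w) Tr = pcomp Tr (wT w) → actT (wT w) m = m := by
    intro w hw
    have e1 : wE w * r0 = r0 * wE w := ((tab_w w).mul tab_r).eq (by
      rw [hw]
      exact tab_r.mul (tab_w w))
    have k1 := word_mem_Y hs ht w
    have k2 : φ (wE w) * u * (φ (wE w))⁻¹ = u := by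
      apply R_inj H (H.R_conj _ k1 _ hu) hu
      rw [map_mul, map_mul, map_inv, hφ, fu, e1, mul_inv_cancel_right]
    have k3 : φ (wE w) * φ r0 * (φ (wE w))⁻¹ = φ r0 := by
      rw [← map_mul, e1, map_mul, mul_inv_cancel_right]
    rw [h1] at k3
    have k4 : (φ (wE w) * c m * (φ (wE w))⁻¹) * (φ (wE w) * u * (φ (wE w))⁻¹) = c m * u := by
      rw [← k3]
      group
    rw [k2, H.ext.conj _ _ hm, hφ] at k4
    rw [← act_eq (tab_w w)]
    exact H.ext.injOn (ev_act _ hm) hm (mul_right_cancel k4)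
  have h2 := key [2, 0, 1, 0, 2] (by decide +kernel)
  have h3 := key [1, 1, 1, 0, 1, 1, 1] (by decide +kernel)
  have u2 : u * u = 1 := by
    apply H.R_ker _ (R.mul_mem hu hu)
    rw [map_mul, fu]
    exact sq_eq tab_r (by decide +kernel)
  have mu := H.ext.mul_c u hm
  rw [fu] at mu
  have h4 : act r0 m = m := by
    have k1 : φ r0 * φ r0 = 1 := by
      rw [← map_mul, sq_eq tab_r (by decide +kernel), map_one]
    rw [h1] at k1
    have k2 : c (m ^^^ act r0 m) = 1 := by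
      rw [H.ext.xor _ _ hm (ev_act _ hm), ← k1]
      symm
      calc c m * u * (c m * u) = c m * (u * c m) * u := by group
        _ = c m * (c (act r0 m) * u) * u := by rw [mu]
        _ = c m * c (act r0 m) * (u * u) := by group
        _ = _ := by rw [u2, mul_one]
    exact (Nat.xor_eq_zero_iff.1 (H.ext.inj _ (ev_xor hm (ev_act _ hm)) k2)).symm
  have h5 : m ^^^ act r0 (act ρ0 m) = act r0 (act ρ0 (act r0 (act ρ0 m))) := by
    have hm1 : ev (act r0 (act ρ0 m)) = true := ev_act _ (ev_act _ hm)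
    have hm2 : ev (act r0 (act ρ0 (act r0 (act ρ0 m)))) = true := ev_act _ (ev_act _ hm1)
    have e3 : (r0 * ρ0) * (r0 * ρ0) * (r0 * ρ0) = 1 :=
      (((tab_r.mul tab_ρ).mul (tab_r.mul tab_ρ)).mul (tab_r.mul tab_ρ)).eq (by
        rw [show pcomp (pcomp (pcomp Tr Tρ) (pcomp Tr Tρ)) (pcomp Tr Tρ) = pone by decide +kernel]
        exact isTab_one)
    have k1 : φ (r0 * ρ0) * φ (r0 * ρ0) * φ (r0 * ρ0) = 1 := by
      rw [← map_mul, ← map_mul, e3, map_one]
    have k2 : φ (r0 * ρ0) = c m * (u * ρ) := by rw [map_mul, h1, hρ, mul_assoc]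
    have k3 : (u * ρ) * (u * ρ) * (u * ρ) = 1 := by
      have k4 : (u * ρ) * (u * ρ) * (u * ρ) =
          u * (ρ * u * ρ⁻¹) * ((ρ * ρ) * u * (ρ * ρ)⁻¹) * (ρ * ρ * ρ) := by group
      rw [H.ρ_cube, mul_one] at k4
      have k5 : (u * ρ) * (u * ρ) * (u * ρ) ∈ R := by
        rw [k4]
        exact R.mul_mem (R.mul_mem hu (H.R_conj _ H.ρ_mem _ hu))
          (H.R_conj _ (Y.mul_mem H.ρ_mem H.ρ_mem) _ hu)
      apply H.R_ker _ k5
      rw [map_mul, map_mul, map_mul, fu, H.f_ρ, e3]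
    have fx : f (u * ρ) = r0 * ρ0 := by rw [map_mul, fu, H.f_ρ]
    have m1 := H.ext.mul_c (u * ρ) hm
    have m2 := H.ext.mul_c (u * ρ) hm1
    rw [fx, H.ext.act_act _ _ hm] at m1
    rw [fx, H.ext.act_act _ _ hm1] at m2
    have k6 : c (m ^^^ (act r0 (act ρ0 m) ^^^ act r0 (act ρ0 (act r0 (act ρ0 m))))) = 1 := by
      rw [H.ext.xor _ _ hm (ev_xor hm1 hm2), H.ext.xor _ _ hm1 hm2, ← k1, k2]
      generalize u * ρ = x at *
      symm
      calc c m * x * (c m * x) * (c m * x) = c m * (x * c m) * (x * c m) * x := by group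
        _ = c m * (c (act r0 (act ρ0 m)) * x) * (c (act r0 (act ρ0 m)) * x) * x := by rw [m1]
        _ = c m * c (act r0 (act ρ0 m)) * (x * c (act r0 (act ρ0 m))) * x * x := by group
        _ = c m * c (act r0 (act ρ0 m)) * (c (act r0 (act ρ0 (act r0 (act ρ0 m)))) * x) *
              x * x := by rw [m2]
        _ = c m * (c (act r0 (act ρ0 m)) * c (act r0 (act ρ0 (act r0 (act ρ0 m))))) *
              (x * x * x) := by group
        _ = _ := by rw [k3, mul_one]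
    have k7 := H.ext.inj _ (ev_xor hm (ev_xor hm1 hm2)) k6
    rw [← Nat.xor_assoc] at k7
    exact Nat.xor_eq_zero_iff.1 k7
  have h6 : m = 0 := by
    have k1 := allR_zero_spec check_m m ((ev_iff m).1 hm).1
    rw [act_eq tab_r] at h4
    simp only [act_eq tab_r, act_eq tab_ρ] at h5
    rw [hm, h2, h3, h4, h5] at k1
    simpa [Nat.beq_eq] using k1
  rw [h1, h6, H.ext.c_zero, one_mul]
  exact hu

end main

end Cfsg.Agent.J4Type.Normalise
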