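import Cfsg.Agent.J4Type.Split
import Cfsg.Agent.J4Type.Setup
import Cfsg.Agent.SporadicStructure.M24Frame
import Cfsg.Agent.S0363

/-!
The stabiliser of the sextet `S0` in `M24`: every element is a product of a word in `s0`, `t0`, a
translation (a product of conjugates of `r0`), and a power of `ρ0`.
-/

set_option autoImplicit false

namespace Cfsg.Agent.J4Type.SextetStab

open Cfsg Cfsg.Agent.SporadicA.GolayBase
open Cfsg.Agent.J4Type Cfsg.Agent.J4Type.CocodeMask Cfsg.Agent.J4Type.SplitData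
open Cfsg.Agent.J4Type.Split
open Cfsg.Agent.SporadicA.GolayPerm (papp)
open scoped Pointwise

/-! ### Columns -/

/-- `g` fixes all tetrads of `S0` -/
def ColFix (g : M24) : Prop := ∀ p : GolayPt, col (idx ((g : Equiv.Perm GolayPt) p)) = col (idx p)

theorem colFix_one : ColFix 1 := fun _ => rfl

theorem ColFix.mul {g h : M24} (hg : ColFix g) (hh : ColFix h) : ColFix (g * h) := by
  intro p
  exact (hg ((h : Equiv.Perm GolayPt) p)).trans (hh p)

theorem ColFix.inv {g : M24} (hg : ColFix g) : ColFix g⁻¹ := by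
  intro p
  have h := hg (((g⁻¹ : M24) : Equiv.Perm GolayPt) p)
  have h1 : (g : Equiv.Perm GolayPt) (((g⁻¹ : M24) : Equiv.Perm GolayPt) p) = p :=
    Equiv.apply_symm_apply (g : Equiv.Perm GolayPt) p
  rw [h1] at h
  exact h.symm

theorem ColFix.pow {g : M24} (hg : ColFix g) (k : ℕ) : ColFix (g ^ k) := by
  induction k with
  | zero => rw [pow_zero]; exact colFix_one
  | succ k ih => rw [pow_succ]; exact ih.mul hg

theorem mem_tet_iff : ∀ (i : Fin 6) (p : GolayPt), p ∈ tet i ↔ col (idx p) = (i : ℕ) := by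
  decide +kernel

theorem col_lt : ∀ p : GolayPt, col (idx p) < 6 := by decide +kernel

theorem colFix_iff (g : M24) : ColFix g ↔ ∀ i, (g : Equiv.Perm GolayPt) • tet i = tet i := by
  constructor
  · intro h i
    apply Finset.eq_of_subset_of_card_le
    · intro p hp
      rw [Finset.mem_smul_finset] at hp
      obtain ⟨q, hq, rfl⟩ := hp
      rw [mem_tet_iff] at hq ⊢
      exact (h q).trans hq
    · rw [Finset.card_smul_finset]
  · intro h p
    have h1 : p ∈ tet ⟨col (idx p), col_lt p⟩ := (mem_tet_iff _ _).2 rfl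
    have h2 : (g : Equiv.Perm GolayPt) • p ∈ (g : Equiv.Perm GolayPt) •
        tet ⟨col (idx p), col_lt p⟩ := Finset.smul_mem_smul_finset h1
    rw [h, mem_tet_iff] at h2
    exact h2

/-- tables fixing the columns -/
def colFixT (T : ℕ) : Bool := (List.range 24).all fun i => Nat.beq (col (papp T i)) (col i)

theorem colFix_of_tab {g : M24} {T : ℕ} (hg : IsTab g T) (h : colFixT T = true) : ColFix g := by
  intro p
  rw [hg]
  unfold colFixT at h
  have h1 := List.all_eq_true.1 h (idx p) (List.mem_range.2 (idx_lt p))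
  rwa [Nat.beq_eq] at h1

/-! ### Trivial elements -/

/-- The octad `(tet 0 \ mog 0 0) ∪ {mog i 0 : i ≠ 0}`. -/
def oct0 : Finset GolayPt :=
  {mog 0 1, mog 0 2, mog 0 3, mog 1 0, mog 2 0, mog 3 0, mog 4 0, mog 5 0}

theorem oct0_mem : oct0 ∈ octads := by
  rw [mem_octads_iff]
  decide +kernel

theorem eq_one_of_fix {g : M24} (hg : ColFix g)
    (h0 : (g : Equiv.Perm GolayPt) (mog 0 0) = mog 0 0)
    (h01 : (g : Equiv.Perm GolayPt) (mog 0 1) = mog 0 1)
    (h1 : (g : Equiv.Perm GolayPt) (mog 1 0) = mog 1 0)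
    (h2 : (g : Equiv.Perm GolayPt) (mog 2 0) = mog 2 0) : g = 1 := by
  classical
  have hcol : ∀ p, p ∈ tet 0 → p ≠ mog 0 0 → (g : Equiv.Perm GolayPt) p ∈ oct0 := by
    intro p hp hp0
    have h3 : (g : Equiv.Perm GolayPt) p ∈ tet 0 := by
      rw [mem_tet_iff] at hp ⊢
      exact (hg p).trans hp
    have h4 : (g : Equiv.Perm GolayPt) p ≠ mog 0 0 := by
      intro h
      apply hp0
      exact (g : Equiv.Perm GolayPt).injective (h.trans h0.symm)
    have h5 : ∀ q : GolayPt, q ∈ tet 0 → q ≠ mog 0 0 → q ∈ oct0 := by decide +kernel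
    exact h5 _ h3 h4
  have hO : (g : Equiv.Perm GolayPt) • oct0 = oct0 := by
    have k1 : (g : Equiv.Perm GolayPt) • oct0 ∈ octads :=
      (SporadicA.GolayPerm.smul_mem_octads g.2).2 oct0_mem
    have k2 : (({mog 0 1, mog 0 2, mog 0 3, mog 1 0, mog 2 0} : Finset GolayPt)).card = 5 := by
      decide +kernel
    have k3 : ((g : Equiv.Perm GolayPt) •
        ({mog 0 1, mog 0 2, mog 0 3, mog 1 0, mog 2 0} : Finset GolayPt)).card = 5 := by
      rw [Finset.card_smul_finset, k2]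
    have k4 : (g : Equiv.Perm GolayPt) •
        ({mog 0 1, mog 0 2, mog 0 3, mog 1 0, mog 2 0} : Finset GolayPt) ⊆ oct0 := by
      intro p hp
      rw [Finset.mem_smul_finset] at hp
      obtain ⟨q, hq, rfl⟩ := hp
      simp only [Finset.mem_insert, Finset.mem_singleton] at hq
      have c1 : mog 0 1 ∈ tet 0 ∧ mog 0 1 ≠ mog 0 0 := by decide +kernel
      have c2 : mog 0 2 ∈ tet 0 ∧ mog 0 2 ≠ mog 0 0 := by decide +kernel
      have c3 : mog 0 3 ∈ tet 0 ∧ mog 0 3 ≠ mog 0 0 := by decide +kernel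
      rcases hq with rfl | rfl | rfl | rfl | rfl
      · exact hcol _ c1.1 c1.2
      · exact hcol _ c2.1 c2.2
      · exact hcol _ c3.1 c3.2
      · rw [Equiv.Perm.smul_def, h1]; decide +kernel
      · rw [Equiv.Perm.smul_def, h2]; decide +kernel
    have k5 : (g : Equiv.Perm GolayPt) •
        ({mog 0 1, mog 0 2, mog 0 3, mog 1 0, mog 2 0} : Finset GolayPt) ⊆
          (g : Equiv.Perm GolayPt) • oct0 := by
      apply Finset.smul_finset_subset_smul_finset
      decide +kernel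
    obtain ⟨b, -, hb⟩ := S0363.result.2 _ k3
    rw [hb _ ⟨k1, k5⟩, hb _ ⟨oct0_mem, k4⟩]
  have key : ∀ i : Fin 6, i ≠ 0 → (g : Equiv.Perm GolayPt) (mog i 0) = mog i 0 := by
    intro i hi
    have e1 : ∀ i : Fin 6, i ≠ 0 → mog i 0 ∈ oct0 ∧ mog i 0 ∈ tet i := by decide +kernel
    have e2 : ∀ i : Fin 6, i ≠ 0 → ∀ p : GolayPt, p ∈ oct0 → p ∈ tet i → p = mog i 0 := by
      decide +kernel
    apply e2 i hi
    · have := Finset.smul_mem_smul_finset (a := (g : Equiv.Perm GolayPt)) (e1 i hi).1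
      rwa [hO] at this
    · have h3 := (e1 i hi).2
      rw [mem_tet_iff] at h3 ⊢
      exact (hg _).trans h3
  apply Subtype.ext
  refine SporadicStructure.M24Frame.eq_one_of_fix_frame g.2 oct0_mem
    (s := {mog 0 1, mog 1 0, mog 2 0, mog 3 0, mog 4 0, mog 5 0}) ?_ ?_ ?_ (p := mog 0 0) ?_ h0
  · decide +kernel
  · decide +kernel
  · intro z hz
    simp only [Finset.mem_insert, Finset.mem_singleton] at hz
    rcases hz with rfl | rfl | rfl | rfl | rfl | rfl
    · exact h01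
    · exact h1
    · exact h2
    · exact key 3 (by decide)
    · exact key 4 (by decide)
    · exact key 5 (by decide)
  · decide +kernel

/-! ### Translations -/

/-- Tables of six translations generating the group of translations. -/
def Te : Fin 6 → ℕ :=
  ![29340620570662517957029049942508631, 70399228063273750146191920654811874,
    984202951082164080105044112956360736, 984724508489452699215480746259449888,
    Tr, 972512676110088067912772961567868960]

/-- Words conjugating `r0` to them. -/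
def we : Fin 6 → List ℕ :=
  ![[1, 1, 1, 0, 2, 2], [1], [2, 2, 0, 1, 1, 0, 1], [0, 2, 0, 1, 1], [], [1, 1, 0, 2, 2]]

theorem check_tr : ∀ k, (SporadicA.GolayPerm.isPerm (Te k) && SporadicA.GolayPerm.isAut (Te k)) =
    true := by decide +kernel

/-- the six translations -/
noncomputable def tr (k : Fin 6) : M24 := mk (Te k) (check_tr k)

theorem tab_tr (k : Fin 6) : IsTab (tr k) (Te k) := isTab_mk _ _

theorem check_conj : ∀ k, pcomp (wT (we k)) Tr = pcomp (Te k) (wT (we k)) := by decide +kernel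

theorem tr_eq (k : Fin 6) : tr k = wE (we k) * r0 * (wE (we k))⁻¹ := by
  rw [eq_mul_inv_iff_mul_eq]
  exact ((tab_tr k).mul (tab_w _)).eq (by
    rw [← check_conj]
    exact (tab_w _).mul tab_r)

/-- tables moving `mog i c` to `mog i 0` (`i < 3`) -/
def Tc (i : Fin 3) (c : Fin 4) : ℕ :=
  match i, c with
  | _, 0 => pone
  | 0, 1 => Te 0
  | 0, 2 => Te 1
  | 0, 3 => pcomp (Te 0) (Te 1)
  | 1, 1 => Te 2
  | 1, 2 => Te 3
  | 1, 3 => pcomp (Te 2) (Te 3)
  | 2, 1 => Te 4
  | 2, 2 => Te 5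
  | 2, 3 => pcomp (Te 4) (Te 5)

/-- the corresponding translations -/
noncomputable def tc (i : Fin 3) (c : Fin 4) : M24 :=
  match i, c with
  | _, 0 => 1
  | 0, 1 => tr 0
  | 0, 2 => tr 1
  | 0, 3 => tr 0 * tr 1
  | 1, 1 => tr 2
  | 1, 2 => tr 3
  | 1, 3 => tr 2 * tr 3
  | 2, 1 => tr 4
  | 2, 2 => tr 5
  | 2, 3 => tr 4 * tr 5

theorem tab_tc (i : Fin 3) (c : Fin 4) : IsTab (tc i c) (Tc i c) := by
  fin_cases i <;> fin_cases c <;> first
    | exact isTab_one
    | exact tab_tr _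
    | exact (tab_tr _).mul (tab_tr _)

/-- the group of translations -/
noncomputable def TG : Subgroup M24 := Subgroup.closure (Set.range tr)

theorem tr_mem (k : Fin 6) : tr k ∈ TG := Subgroup.subset_closure ⟨k, rfl⟩

theorem tc_mem (i : Fin 3) (c : Fin 4) : tc i c ∈ TG := by
  fin_cases i <;> fin_cases c <;> first
    | exact TG.one_mem
    | exact tr_mem _
    | exact TG.mul_mem (tr_mem _) (tr_mem _)

/-- the columns `0, 1, 2` -/
def c3 (i : Fin 3) : Fin 6 := ⟨i, by omega⟩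

theorem check_tc : ∀ i c, colFixT (Tc i c) = true ∧
    papp (Tc i c) (idx (mog (c3 i) c)) = idx (mog (c3 i) 0) ∧
    ∀ j, j ≠ i → ∀ d, papp (Tc i c) (idx (mog (c3 j) d)) = idx (mog (c3 j) d) := by
  decide +kernel

theorem tc_colFix (i : Fin 3) (c : Fin 4) : ColFix (tc i c) :=
  colFix_of_tab (tab_tc i c) (check_tc i c).1

theorem tc_apply (i : Fin 3) (c : Fin 4) :
    (tc i c : Equiv.Perm GolayPt) (mog (c3 i) c) = mog (c3 i) 0 := by
  apply idx_injective
  rw [tab_tc, (check_tc i c).2.1]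

theorem tc_apply' (i : Fin 3) (c : Fin 4) {j : Fin 3} (hj : j ≠ i) (d : Fin 4) :
    (tc i c : Equiv.Perm GolayPt) (mog (c3 j) d) = mog (c3 j) d := by
  apply idx_injective
  rw [tab_tc, (check_tc i c).2.2 j hj]

theorem exists_mog {i : Fin 6} {p : GolayPt} (h : p ∈ tet i) : ∃ c, p = mog i c := by
  unfold tet at h
  rw [Finset.mem_image] at h
  obtain ⟨c, -, hc⟩ := h
  exact ⟨c, hc.symm⟩

theorem exists_mog_image {g : M24} (hg : ColFix g) (i : Fin 6) (c : Fin 4) :
    ∃ d, (g : Equiv.Perm GolayPt) (mog i c) = mog i d := by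
  apply exists_mog
  have h : ∀ (i : Fin 6) (c : Fin 4), mog i c ∈ tet i := by decide +kernel
  have h1 := h i c
  rw [mem_tet_iff] at h1 ⊢
  exact (hg _).trans h1

theorem colFix_ρ : ColFix ρ0 := colFix_of_tab tab_ρ (by decide +kernel)

/-- An element fixing all tetrads is a translation times a power of `ρ0`. -/
theorem exists_of_colFix {g : M24} (hg : ColFix g) : ∃ τ ∈ TG, ∃ k : ℕ, k < 3 ∧ g = τ * ρ0 ^ k := by
  -- move `mog 0 0`, `mog 1 0`, `mog 2 0` back
  have step : ∀ i : Fin 3, ∀ h : M24, ColFix h → ∃ τ ∈ TG, ColFix (τ * h) ∧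
      ((τ * h : M24) : Equiv.Perm GolayPt) (mog (c3 i) 0) = mog (c3 i) 0 ∧
      ∀ j, j ≠ i → (h : Equiv.Perm GolayPt) (mog (c3 j) 0) = mog (c3 j) 0 →
        ((τ * h : M24) : Equiv.Perm GolayPt) (mog (c3 j) 0) = mog (c3 j) 0 := by
    intro i h hh
    obtain ⟨c, hc⟩ := exists_mog_image hh (c3 i) 0
    refine ⟨tc i c, tc_mem i c, (tc_colFix i c).mul hh, ?_, ?_⟩
    · show (tc i c : Equiv.Perm GolayPt) ((h : Equiv.Perm GolayPt) (mog (c3 i) 0)) = _
      rw [hc, tc_apply]
    · intro j hj hj'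
      show (tc i c : Equiv.Perm GolayPt) ((h : Equiv.Perm GolayPt) (mog (c3 j) 0)) = _
      rw [hj', tc_apply' i c hj]
  obtain ⟨τ0, m0, f0, a0, -⟩ := step 0 g hg
  obtain ⟨τ1, m1, f1, a1, b1⟩ := step 1 _ f0
  obtain ⟨τ2, m2, f2, a2, b2⟩ := step 2 _ f1
  have p0 := b2 0 (by decide) (b1 0 (by decide) a0)
  have p1 := b2 1 (by decide) a1
  have p2 := a2
  rw [show c3 0 = 0 from rfl] at p0
  rw [show c3 1 = 1 from rfl] at p1
  rw [show c3 2 = 2 from rfl] at p2
  generalize hg' : τ2 * (τ1 * (τ0 * g)) = g' at *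
  obtain ⟨d, hd⟩ := exists_mog_image f2 0 1
  have hd0 : d ≠ 0 := by
    rintro rfl
    have h := (g' : Equiv.Perm GolayPt).injective (hd.trans p0.symm)
    exact absurd h (by decide +kernel)
  obtain ⟨k, hk, hk1⟩ : ∃ k < 3, (ρ0 ^ k : M24) = g' := by
    -- `ρ0 ^ k` moves `mog 0 1` to `mog 0 d`
    have hρ : ∀ k, k < 3 → IsTab (ρ0 ^ k) (Nat.iterate (pcomp Tρ) k pone) := by
      intro k hk
      interval_cases k
      · exact isTab_one
      · rw [pow_one]
        exact (by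
          have h := tab_ρ.mul isTab_one
          rwa [mul_one] at h)
      · rw [pow_two]
        have h := tab_ρ.mul (tab_ρ.mul isTab_one)
        rwa [mul_one] at h
    have hch : ∀ d : Fin 4, d ≠ 0 → ∃ k < 3,
        papp (Nat.iterate (pcomp Tρ) k pone) (idx (mog 0 1)) = idx (mog 0 d) ∧
        papp (Nat.iterate (pcomp Tρ) k pone) (idx (mog 0 0)) = idx (mog 0 0) ∧
        papp (Nat.iterate (pcomp Tρ) k pone) (idx (mog 1 0)) = idx (mog 1 0) ∧
        papp (Nat.iterate (pcomp Tρ) k pone) (idx (mog 2 0)) = idx (mog 2 0) := by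
      decide +kernel
    obtain ⟨k, hk, e1, e2, e3, e4⟩ := hch d hd0
    refine ⟨k, hk, ?_⟩
    rw [← inv_mul_eq_one]
    have q1 : ((ρ0 ^ k : M24) : Equiv.Perm GolayPt) (mog 0 1) = mog 0 d := by
      apply idx_injective; rw [hρ k hk, e1]
    have q2 : ((ρ0 ^ k : M24) : Equiv.Perm GolayPt) (mog 0 0) = mog 0 0 := by
      apply idx_injective; rw [hρ k hk, e2]
    have q3 : ((ρ0 ^ k : M24) : Equiv.Perm GolayPt) (mog 1 0) = mog 1 0 := by
      apply idx_injective; rw [hρ k hk, e3]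
    have q4 : ((ρ0 ^ k : M24) : Equiv.Perm GolayPt) (mog 2 0) = mog 2 0 := by
      apply idx_injective; rw [hρ k hk, e4]
    have inv : ∀ p q : GolayPt, ((ρ0 ^ k : M24) : Equiv.Perm GolayPt) p = q →
        (((ρ0 ^ k)⁻¹ : M24) : Equiv.Perm GolayPt) q = p := by
      rintro p q rfl
      exact Equiv.symm_apply_apply ((ρ0 ^ k : M24) : Equiv.Perm GolayPt) p
    refine eq_one_of_fix ((colFix_ρ.pow k).inv.mul f2) ?_ ?_ ?_ ?_
    · show (((ρ0 ^ k)⁻¹ : M24) : Equiv.Perm GolayPt) ((g' : Equiv.Perm GolayPt) (mog 0 0)) = _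
      rw [p0, inv _ _ q2]
    · show (((ρ0 ^ k)⁻¹ : M24) : Equiv.Perm GolayPt) ((g' : Equiv.Perm GolayPt) (mog 0 1)) = _
      rw [hd, inv _ _ q1]
    · show (((ρ0 ^ k)⁻¹ : M24) : Equiv.Perm GolayPt) ((g' : Equiv.Perm GolayPt) (mog 1 0)) = _
      rw [p1, inv _ _ q3]
    · show (((ρ0 ^ k)⁻¹ : M24) : Equiv.Perm GolayPt) ((g' : Equiv.Perm GolayPt) (mog 2 0)) = _
      rw [p2, inv _ _ q4]
  refine ⟨(τ2 * τ1 * τ0)⁻¹, TG.inv_mem (TG.mul_mem (TG.mul_mem m2 m1) m0), k, hk, ?_⟩
  rw [hk1, ← hg']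
  group

/-! ### Permutations of the columns -/

theorem tet_injective : Function.Injective tet := by decide +kernel

/-- the words in `s0`, `t0` -/
noncomputable def ΛG : Subgroup M24 := Subgroup.closure {s0, t0}

theorem check_cols : ∀ i : Fin 6, ∀ c : Fin 4,
    col (papp Ts (idx (mog i c))) = (Equiv.swap (0 : Fin 6) 1 i : Fin 6) ∧
    col (papp Tt (idx (mog i c))) = (finRotate 6 i : Fin 6) := by
  decide +kernel

theorem smul_tet_of {g : M24} {i j : Fin 6}
    (h : ∀ c, col (idx ((g : Equiv.Perm GolayPt) (mog i c))) = (j : ℕ)) :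
    (g : Equiv.Perm GolayPt) • tet i = tet j := by
  apply Finset.eq_of_subset_of_card_le
  · intro p hp
    rw [Finset.mem_smul_finset] at hp
    obtain ⟨q, hq, rfl⟩ := hp
    obtain ⟨c, rfl⟩ := exists_mog hq
    rw [mem_tet_iff]
    exact h c
  · rw [Finset.card_smul_finset]
    have : ∀ i j : Fin 6, (tet j).card ≤ (tet i).card := by decide +kernel
    exact this i j

theorem s0_tet (i : Fin 6) : (s0 : Equiv.Perm GolayPt) • tet i = tet (Equiv.swap (0 : Fin 6) 1 i) :=
  smul_tet_of fun c => by rw [tab_s]; exact (check_cols i c).1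

theorem t0_tet (i : Fin 6) : (t0 : Equiv.Perm GolayPt) • tet i = tet (finRotate 6 i) :=
  smul_tet_of fun c => by rw [tab_t]; exact (check_cols i c).2

/-- the permutations of the columns induced by words -/
def colGroup : Subgroup (Equiv.Perm (Fin 6)) where
  carrier := {σ | ∃ y ∈ ΛG, ∀ i, (y : Equiv.Perm GolayPt) • tet i = tet (σ i)}
  mul_mem' := by
    rintro σ τ ⟨y, hy, h⟩ ⟨x, hx, h'⟩
    refine ⟨y * x, ΛG.mul_mem hy hx, fun i => ?_⟩
    rw [Subgroup.coe_mul, mul_smul, h', h]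
    rfl
  one_mem' := ⟨1, ΛG.one_mem, fun i => by rw [Subgroup.coe_one, one_smul]; rfl⟩
  inv_mem' := by
    rintro σ ⟨y, hy, h⟩
    refine ⟨y⁻¹, ΛG.inv_mem hy, fun i => ?_⟩
    rw [Subgroup.coe_inv, inv_smul_eq_iff, h]
    congr 1
    exact (Equiv.apply_symm_apply σ i).symm

theorem colGroup_eq_top : colGroup = ⊤ := by
  rw [eq_top_iff, ← Equiv.Perm.closure_cycle_adjacent_swap (σ := finRotate 6)
    (isCycle_finRotate (n := 4)) (support_finRotate (n := 4)) 0, Subgroup.closure_le]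
  rintro σ (rfl | hσ)
  · exact ⟨t0, Subgroup.subset_closure (by simp), t0_tet⟩
  · rw [Set.mem_singleton_iff.1 hσ]
    exact ⟨s0, Subgroup.subset_closure (by simp), fun i => by
      rw [s0_tet]
      have : finRotate 6 0 = 1 := by decide
      rw [this]⟩

/-- The stabiliser of the sextet. -/
theorem exists_of_sextet {g : M24} (hg : (g : Equiv.Perm GolayPt) • S0 = S0) :
    ∃ y ∈ ΛG, ∃ τ ∈ TG, ∃ k : ℕ, k < 3 ∧ g = y * (τ * ρ0 ^ k) := by
  classical
  have h1 : ∀ i, ∃ j, (g : Equiv.Perm GolayPt) • tet i = tet j := by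
    intro i
    have h2 : tet i ∈ S0 := Finset.mem_image_of_mem _ (Finset.mem_univ _)
    have h3 : (g : Equiv.Perm GolayPt) • tet i ∈ (g : Equiv.Perm GolayPt) • S0 :=
      Finset.smul_mem_smul_finset h2
    rw [hg] at h3
    obtain ⟨j, -, hj⟩ := Finset.mem_image.1 h3
    exact ⟨j, hj.symm⟩
  choose j hj using h1
  have hinj : Function.Injective j := by
    intro a b hab
    apply tet_injective
    apply smul_left_cancel (g : Equiv.Perm GolayPt)
    rw [hj, hj, hab]
  let σ : Equiv.Perm (Fin 6) := Equiv.ofBijective j (Finite.injective_iff_bijective.1 hinj)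
  have hσ : σ ∈ colGroup := by rw [colGroup_eq_top]; trivial
  obtain ⟨y, hy, hyσ⟩ := hσ
  have h4 : ColFix (y⁻¹ * g) := by
    rw [colFix_iff]
    intro i
    rw [Subgroup.coe_mul, Subgroup.coe_inv, mul_smul, hj, inv_smul_eq_iff, hyσ]
    rfl
  obtain ⟨τ, hτ, k, hk, h5⟩ := exists_of_colFix h4
  exact ⟨y, hy, τ, hτ, k, hk, by rw [← h5, mul_inv_cancel_left]⟩

end Cfsg.Agent.J4Type.SextetStab
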