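import Cfsg.Agent.J4Type.FrameDefs
import Cfsg.Agent.J4Type.Normalise
import Cfsg.Agent.J4Type.SextetStab

/-!
# Part (d): from the input of the splitting theorem to `Compl`

`exists_compl` : `Input` for a frame `F` gives a `Compl` extending `F`.
-/

set_option autoImplicit false

namespace Cfsg.Agent.J4Type.ComplOf

open Cfsg Cfsg.Agent.J4Type Cfsg.Agent.J4Type.SplitData Cfsg.Agent.J4Type.Split
open Cfsg.Agent.J4Type.Normalise Cfsg.Agent.J4Type.SextetStab Cfsg.Agent.J4Type.CocodeMask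
open Cfsg.Agent.SporadicA.GolayBase (idx)
open scoped Pointwise

section abstract

variable {N : Type*} [Group N] {f : N →* M24} {c : ℕ → N} {Y R : Subgroup N} {ρ : N}
  (H : Input f c Y R ρ)

theorem ΛG_mem {φ : M24 →* N} (hs : φ s0 ∈ Y) (ht : φ t0 ∈ Y) {y : M24} (hy : y ∈ ΛG) :
    φ y ∈ Y := by
  have h : ΛG ≤ Y.comap φ := by
    unfold ΛG
    rw [Subgroup.closure_le]
    rintro x (rfl | hx)
    · exact hs
    · rw [Set.mem_singleton_iff.1 hx]; exact ht
  exact h hy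

include H

theorem TG_mem {φ : M24 →* N} (hs : φ s0 ∈ Y) (ht : φ t0 ∈ Y) (hr : φ r0 ∈ R) {τ : M24}
    (hτ : τ ∈ TG) : φ τ ∈ R := by
  have h : TG ≤ R.comap φ := by
    unfold TG
    rw [Subgroup.closure_le]
    rintro _ ⟨k, rfl⟩
    show φ (tr k) ∈ R
    rw [tr_eq, map_mul, map_mul, map_inv]
    exact H.R_conj _ (word_mem_Y hs ht _) _ hr
  exact h hτ

/-- Elements of order 2 fixing all tetrads are mapped into `R`. -/
theorem colFix_mem {φ : M24 →* N} (hρ : φ ρ0 = ρ) (hs : φ s0 ∈ Y)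
    (ht : φ t0 ∈ Y) (hr : φ r0 ∈ R) {g : M24} (hg : ColFix g) (h2 : g * g = 1) : φ g ∈ R := by
  obtain ⟨τ, hτ, k, hk, rfl⟩ := exists_of_colFix hg
  have hτR := TG_mem H hs ht hr hτ
  have e3 : ρ0 * ρ0 * ρ0 = 1 := by rw [← H.f_ρ, ← map_mul, ← map_mul, H.ρ_cube, map_one]
  have key : k = 0 := by
    -- `ρ ^ (2 k)` lies in `R`
    have h3 : φ (τ * ρ0 ^ k) * φ (τ * ρ0 ^ k) = 1 := by rw [← map_mul, h2, map_one]
    rw [map_mul, map_pow, hρ] at h3
    have h4 : φ τ * (ρ ^ k * φ τ * (ρ ^ k)⁻¹) * ρ ^ (2 * k) = 1 := by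
      rw [← h3, two_mul, pow_add]
      group
    have h5 : φ τ * (ρ ^ k * φ τ * (ρ ^ k)⁻¹) ∈ R :=
      R.mul_mem hτR (H.R_conj _ (Y.pow_mem H.ρ_mem k) _ hτR)
    have h6 : ρ ^ (2 * k) ∈ R := by
      have := inv_eq_of_mul_eq_one_right h4
      rw [← this]
      exact R.inv_mem h5
    have h7 : (ρ ^ (2 * k)) ^ 64 = 1 := by
      have h8 := H.R_card
      have h9 : (⟨ρ ^ (2 * k), h6⟩ : R) ^ Nat.card R = 1 := pow_card_eq_one'
      rw [h8] at h9
      exact congrArg Subtype.val h9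
    have h8 : ρ ^ 3 = 1 := by rw [pow_succ, pow_two]; exact H.ρ_cube
    have hρ1 : ρ ≠ 1 := by
      intro h
      have h9 := H.f_ρ
      rw [h, map_one] at h9
      have h10 := tab_ρ (mog 0 1)
      rw [← h9] at h10
      exact absurd h10 (by
        show ¬ (idx (mog 0 1) = _)
        decide +kernel)
    by_contra hk0
    apply hρ1
    have h9 : ρ ^ Nat.gcd (2 * k * 64) 3 = 1 := pow_gcd_eq_one.2 ⟨by rw [pow_mul, h7], h8⟩
    have h10 : Nat.gcd (2 * k * 64) 3 = 1 := by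
      interval_cases k
      · exact absurd rfl hk0
      · norm_num
      · norm_num
    rwa [h10, pow_one] at h9
  rw [key, pow_zero, mul_one]
  exact hτR

end abstract

section main

open FrameDefs

variable {G : Type*} [Group G] [Finite G] (F : Frame G)

/-- **Part (d)**: a complement, from the input of the splitting theorem. -/
theorem exists_compl {ρ' : NE F} (hρ' : ρ' = rho F ∨ ρ' = (rho F)⁻¹)
    (H : Input F.π (c F) (FrameDefs.Y F) (FrameDefs.R F) ρ') :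
    ∃ C : Compl G, C.toFrame = F := by
  obtain ⟨φ, hf, hρ, hs, ht, hr⟩ := exists_section H
  refine ⟨{ toFrame := F
            φ := (NE F).subtype.comp φ
            φ_mem := fun g => (φ g).2
            π_φ := fun g => hf g
            φ_hex1 := ?_
            φ_Q := ?_
            φ_ρ := ?_ }, rfl⟩
  · intro g x hg hx
    obtain ⟨y, hy, τ, hτ, k, -, rfl⟩ := exists_of_sextet hg
    have hyY := ΛG_mem hs ht hy
    have hτR := TG_mem H hs ht hr hτ
    obtain ⟨hyC, hy1, -⟩ := (mem_YG F.toHex).1 ((mem_Y F).1 hyY)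
    have hτQ := ((mem_RG F.toHex).1 ((mem_R F).1 hτR)).2.1
    have hρY : ρ' ^ k ∈ FrameDefs.Y F := (FrameDefs.Y F).pow_mem H.ρ_mem k
    obtain ⟨hρC, hρ1, -⟩ := (mem_YG F.toHex).1 ((mem_Y F).1 hρY)
    have hx' : x = ⟨(φ y : G), hyC⟩ * (⟨(φ τ : G), zC F.toCent hτQ⟩ * ⟨((ρ' ^ k : NE F) : G), hρC⟩) := by
      apply Subtype.ext
      rw [hx]
      show ((φ (y * (τ * ρ0 ^ k)) : NE F) : G) = (φ y : G) * ((φ τ : G) * ((ρ' ^ k : NE F) : G))
      rw [map_mul, map_mul, map_pow, hρ]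
      rfl
    rw [hx', map_mul, map_mul, P_Q F.toCent hτQ, one_mul, mul_smul, hρ1, hy1]
  · intro g hg h2
    have h3 := colFix_mem H hρ hs ht hr ((colFix_iff g).2 hg) h2
    have h4 := (mem_RG F.toHex).1 ((mem_R F).1 h3)
    exact ⟨h4.2.1, h4.1⟩
  · rcases hρ' with h | h
    · exact ⟨ρ0, by
        show ((φ ρ0 : NE F) : G) = F.ρ
        rw [hρ, h]
        rfl⟩
    · exact ⟨ρ0⁻¹, by
        show ((φ ρ0⁻¹ : NE F) : G) = F.ρ
        rw [map_inv, hρ, h, inv_inv]
        rfl⟩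

end main

end Cfsg.Agent.J4Type.ComplOf
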