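import Cfsg.Agent.J4Type.Setup

/-!
# R07 (J₄ type): transport of the structures `Cent` and `Hex` along an automorphism (helper461)

`Cent.map C α`, `Hex.map H α` for `α : G ≃* G`, and `Hex.conj H g := H.map (MulAut.conj g)`.
-/

set_option autoImplicit false

open scoped Pointwise

namespace Cfsg.Agent.J4Type

open Cfsg

variable {G : Type*} [Group G]

/-- the isomorphism `C_G(α z) → C_G(z)` -/
def centMap (α : G ≃* G) (z : G) :
    Subgroup.centralizer ({α z} : Set G) →* Subgroup.centralizer ({z} : Set G) where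
  toFun c := ⟨α.symm c, by
    have h := Subgroup.mem_centralizer_singleton_iff.1 c.2
    rw [Subgroup.mem_centralizer_singleton_iff]
    apply α.injective
    simpa using h⟩
  map_one' := Subtype.ext (by simp)
  map_mul' a b := Subtype.ext (by simp)

@[simp] theorem centMap_coe (α : G ≃* G) (z : G) (c : Subgroup.centralizer ({α z} : Set G)) :
    ((centMap α z c : Subgroup.centralizer ({z} : Set G)) : G) = α.symm c := rfl

/-- the inverse of `centMap` -/
def centMapInv (α : G ≃* G) (z : G) (c : Subgroup.centralizer ({z} : Set G)) :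
    Subgroup.centralizer ({α z} : Set G) :=
  ⟨α c, by
    have h := Subgroup.mem_centralizer_singleton_iff.1 c.2
    rw [Subgroup.mem_centralizer_singleton_iff, ← map_mul, h, map_mul]⟩

@[simp] theorem centMapInv_coe (α : G ≃* G) (z : G) (c : Subgroup.centralizer ({z} : Set G)) :
    ((centMapInv α z c : Subgroup.centralizer ({α z} : Set G)) : G) = α c := rfl

@[simp] theorem centMap_inv (α : G ≃* G) (z : G) (c : Subgroup.centralizer ({z} : Set G)) :
    centMap α z (centMapInv α z c) = c := Subtype.ext (by simp)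

theorem centMapInv_map (α : G ≃* G) (z : G) (c : Subgroup.centralizer ({α z} : Set G)) :
    centMapInv α z (centMap α z c) = c := Subtype.ext (by simp)

theorem mem_mapα (α : G ≃* G) (A : Subgroup G) (x : G) :
    x ∈ A.map α.toMonoidHom ↔ α.symm x ∈ A := by
  rw [Subgroup.mem_map]
  constructor
  · rintro ⟨y, hy, rfl⟩
    simpa using hy
  · intro h
    exact ⟨α.symm x, h, by simp⟩

theorem card_mapα (α : G ≃* G) (A : Subgroup G) :
    Nat.card (A.map α.toMonoidHom : Subgroup G) = Nat.card A :=
  (Nat.card_congr (A.equivMapOfInjective α.toMonoidHom α.injective).toEquiv).symm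

theorem map_infα (α : G ≃* G) (A B : Subgroup G) :
    (A.map α.toMonoidHom ⊓ B.map α.toMonoidHom : Subgroup G) = (A ⊓ B).map α.toMonoidHom := by
  ext x
  simp only [Subgroup.mem_inf, mem_mapα]

/-- transport of `Cent` -/
def Cent.map (C : Cent G) (α : G ≃* G) : Cent G where
  z := α C.z
  z_order := by rw [MulEquiv.orderOf_eq]; exact C.z_order
  Q := C.Q.map α.toMonoidHom
  Q_le := by
    rintro x hx
    rw [mem_mapα] at hx
    have h := Subgroup.mem_centralizer_singleton_iff.1 (C.Q_le hx)
    rw [Subgroup.mem_centralizer_singleton_iff]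
    apply α.symm.injective
    simpa using h
  Q_conj := by
    intro c hc q hq
    rw [mem_mapα] at hq ⊢
    have := C.Q_conj (α.symm c) (by apply α.injective; simpa using hc) _ hq
    simpa using this
  Q_card := by rw [card_mapα]; exact C.Q_card
  z_mem_Q := by rw [mem_mapα]; simpa using C.z_mem_Q
  Q_sq := by
    intro q hq
    rw [mem_mapα] at hq
    rcases C.Q_sq _ hq with h | h
    · left; apply α.symm.injective; simpa using h
    · right; apply α.symm.injective; simpa using h
  Q_comm := by
    intro a ha b hb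
    rw [mem_mapα] at ha hb
    rcases C.Q_comm _ ha _ hb with h | h
    · left; apply α.symm.injective; simpa using h
    · right; apply α.symm.injective; simpa using h
  Q_cent := by
    intro c hc
    rcases C.Q_cent (α.symm c) (fun q hq => by
      have := hc (α q) ((mem_mapα α C.Q _).2 (by simpa using hq))
      apply α.injective; simpa using this) with h | h
    · left; apply α.symm.injective; simpa using h
    · right; apply α.symm.injective; simpa using h
  ρ := α C.ρ
  ρ_order := by rw [MulEquiv.orderOf_eq]; exact C.ρ_order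
  ρ_comm := by rw [← map_mul, C.ρ_comm, map_mul]
  ρ_fix := by
    intro q hq h
    rw [mem_mapα] at hq
    rcases C.ρ_fix _ hq (by apply α.injective; simpa using h) with h | h
    · left; apply α.symm.injective; simpa using h
    · right; apply α.symm.injective; simpa using h
  P := C.P.comp (centMap α C.z)
  P_ker := by
    intro c
    rw [MonoidHom.comp_apply, C.P_ker]
    constructor
    · rintro ⟨q, hq, i, h⟩
      refine ⟨α q, (mem_mapα α C.Q _).2 (by simpa using hq), i, ?_⟩
      rw [centMap_coe] at h
      apply α.symm.injective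
      simpa using h
    · rintro ⟨q, hq, i, h⟩
      refine ⟨α.symm q, (mem_mapα α C.Q _).1 hq, i, ?_⟩
      rw [centMap_coe, h]
      simp
  P_range := by
    rw [← C.P_range]
    ext g
    simp only [MonoidHom.mem_range, MonoidHom.comp_apply]
    constructor
    · rintro ⟨c, h⟩; exact ⟨_, h⟩
    · rintro ⟨c, h⟩; exact ⟨centMapInv α C.z c, by rw [centMap_inv]; exact h⟩
  P_inner := by
    intro c hc
    obtain ⟨q, hq, h⟩ := C.P_inner (centMap α C.z c) hc
    refine ⟨α q, (mem_mapα α C.Q _).2 (by simpa using hq), ?_⟩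
    apply α.symm.injective
    simpa using h

/-- transport of `Hex` -/
def Hex.map (H : Hex G) (α : G ≃* G) : Hex G where
  toCent := H.toCent.map α
  P_outer := by
    intro c hc
    obtain ⟨q, hq, h⟩ := H.P_outer (centMap α H.z c) hc
    refine ⟨α q, (mem_mapα α H.Q _).2 (by simpa using hq), ?_⟩
    change (c : G) * α H.ρ * (c : G)⁻¹ = α q * (α H.ρ)⁻¹
    change α.symm (c : G) * H.ρ * (α.symm (c : G))⁻¹ = q * H.ρ⁻¹ at h
    apply α.symm.injective
    simpa using h
  E O := (H.E O).map α.toMonoidHom
  E_elem := by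
    intro O hO
    obtain ⟨h1, h2⟩ := H.E_elem O hO
    refine ⟨fun a ha => ?_, fun a ha b hb => ?_⟩
    · rw [mem_mapα] at ha
      apply α.symm.injective
      simpa using h1 _ ha
    · rw [mem_mapα] at ha hb
      apply α.symm.injective
      simpa using h2 _ ha _ hb
  E_card := by
    intro O hO
    rw [card_mapα]; exact H.E_card O hO
  z_mem_E := by
    intro O hO
    rw [mem_mapα]
    change α.symm (α H.z) ∈ H.E O
    simpa using H.z_mem_E O hO
  E_conj := by
    intro O hO c a
    rw [mem_mapα, mem_mapα, H.E_conj O hO (centMap α H.z c) (α.symm a)]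
    change α.symm (c : G) * α.symm a * (α.symm (c : G))⁻¹ ∈ H.E (H.P (centMap α H.z c) • O) ↔
      α.symm ((c : G) * a * (c : G)⁻¹) ∈ H.E (H.P (centMap α H.z c) • O)
    simp
  E_map := by
    intro O hO g
    rw [← H.E_map O hO g]
    constructor
    · rintro ⟨a, ha, h⟩
      exact ⟨centMap α H.z a, (mem_mapα α _ _).1 ha, h⟩
    · rintro ⟨a, ha, h⟩
      refine ⟨centMapInv α H.z a, (mem_mapα α _ _).2 (by simpa using ha), ?_⟩
      change H.P (centMap α H.z (centMapInv α H.z a)) = g
      rw [centMap_inv]; exact h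
  A_card := by
    intro O hO
    change Nat.card ((H.E O).map α.toMonoidHom ⊓ H.Q.map α.toMonoidHom : Subgroup G) = _
    rw [map_infα, card_mapα]; exact H.A_card O hO
  A_cent := by
    intro O hO g hg
    rw [mem_mapα]
    apply H.A_cent O hO
    intro a ha haQ
    have := hg (α a) ((mem_mapα α _ _).2 (by simpa using ha)) ((mem_mapα α _ _).2 (by simpa using haQ))
    apply α.injective; simpa using this
  E_inf := by
    intro O O' hO hO' hne x hx
    obtain ⟨h1, h2⟩ := Subgroup.mem_inf.1 hx
    rw [mem_mapα] at h1 h2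
    exact (mem_mapα α _ _).2 (H.E_inf O O' hO hO' hne (Subgroup.mem_inf.2 ⟨h1, h2⟩))
  E_inf_two := by
    intro O O' hO hO' h
    rw [map_infα, card_mapα]; exact H.E_inf_two O O' hO hO' h
  E_inf_eight := by
    intro O O' hO hO' h
    rw [map_infα, card_mapα]; exact H.E_inf_eight O O' hO hO' h
  F_card := by
    intro O hO
    have : ((H.E O).map α.toMonoidHom ⊓ Subgroup.centralizer ({α H.ρ} : Set G) : Subgroup G) =
        (H.E O ⊓ Subgroup.centralizer ({H.ρ} : Set G)).map α.toMonoidHom := by
      ext x
      simp only [Subgroup.mem_inf, mem_mapα, Subgroup.mem_centralizer_singleton_iff]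
      refine and_congr Iff.rfl ?_
      constructor
      · intro h; apply α.injective; simpa using h
      · intro h; apply α.symm.injective; simpa using h
    change Nat.card ((H.E O).map α.toMonoidHom ⊓ Subgroup.centralizer ({α H.ρ} : Set G) :
      Subgroup G) = _
    rw [this, card_mapα]; exact H.F_card O hO
  V_dim := by
    intro O hO a ha haQ
    rw [mem_mapα] at ha
    rw [← H.V_dim O hO (α.symm a) ha (fun h => haQ ((mem_mapα α _ _).2 h))]
    apply Nat.card_congr
    refine Equiv.subtypeEquiv α.symm.toEquiv ?_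
    intro q
    change (q ∈ H.Q.map α.toMonoidHom ∧ (a * q = q * a ∨ a * q = α H.z * (q * a))) ↔
      (α.symm q ∈ H.Q ∧ (α.symm a * α.symm q = α.symm q * α.symm a ∨
        α.symm a * α.symm q = H.z * (α.symm q * α.symm a)))
    rw [mem_mapα]
    refine and_congr Iff.rfl (or_congr ?_ ?_)
    · rw [← map_mul, ← map_mul]; exact α.symm.injective.eq_iff.symm
    · constructor
      · intro h; rw [← map_mul, h]; simp
      · intro h; apply α.symm.injective; simpa using h
  V_inf := by
    intro O hO a ha b hb haQ hbQ habQ q hq h1 h2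
    change a ∉ H.Q.map α.toMonoidHom at haQ
    change b ∉ H.Q.map α.toMonoidHom at hbQ
    change a * b ∉ H.Q.map α.toMonoidHom at habQ
    change q ∈ H.Q.map α.toMonoidHom at hq
    change a * q = q * a ∨ a * q = α H.z * (q * a) at h1
    change b * q = q * b ∨ b * q = α H.z * (q * b) at h2
    rw [mem_mapα] at ha hb hq ⊢
    have haQ' : α.symm a ∉ H.Q := fun h => haQ ((mem_mapα α _ _).2 h)
    have hbQ' : α.symm b ∉ H.Q := fun h => hbQ ((mem_mapα α _ _).2 h)
    have habQ' : α.symm a * α.symm b ∉ H.Q := fun h => habQ ((mem_mapα α _ _).2 (by simpa using h))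
    have key : ∀ x : G, (x * q = q * x ∨ x * q = α H.z * (q * x)) →
        (α.symm x * α.symm q = α.symm q * α.symm x ∨
          α.symm x * α.symm q = H.z * (α.symm q * α.symm x)) := by
      intro x hx
      rcases hx with h | h
      · left; rw [← map_mul, h, map_mul]
      · right; rw [← map_mul, h]; simp
    exact H.V_inf O hO _ ha _ hb haQ' hbQ' habQ' _ hq (key a h1) (key b h2)

/-- the structure `Hex` at the conjugate involution `g z g⁻¹` -/
def Hex.conj (H : Hex G) (g : G) : Hex G := H.map (MulAut.conj g)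

@[simp] theorem Hex.map_z (H : Hex G) (α : G ≃* G) : (H.map α).z = α H.z := rfl
@[simp] theorem Hex.map_Q (H : Hex G) (α : G ≃* G) : (H.map α).Q = H.Q.map α.toMonoidHom := rfl
@[simp] theorem Hex.map_ρ (H : Hex G) (α : G ≃* G) : (H.map α).ρ = α H.ρ := rfl
@[simp] theorem Hex.map_E (H : Hex G) (α : G ≃* G) (O : Finset GolayPt) :
    (H.map α).E O = (H.E O).map α.toMonoidHom := rfl

theorem Hex.map_P (H : Hex G) (α : G ≃* G) (c : Subgroup.centralizer ({α H.z} : Set G)) :
    (H.map α).P c = H.P (centMap α H.z c) := rfl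

@[simp] theorem Hex.conj_z (H : Hex G) (g : G) : (H.conj g).z = g * H.z * g⁻¹ := rfl
@[simp] theorem Hex.conj_ρ (H : Hex G) (g : G) : (H.conj g).ρ = g * H.ρ * g⁻¹ := rfl

theorem Hex.conj_mem_Q (H : Hex G) (g x : G) : x ∈ (H.conj g).Q ↔ g⁻¹ * x * g ∈ H.Q :=
  mem_mapα (MulAut.conj g) H.Q x

theorem Hex.conj_mem_E (H : Hex G) (g x : G) (O : Finset GolayPt) :
    x ∈ (H.conj g).E O ↔ g⁻¹ * x * g ∈ H.E O :=
  mem_mapα (MulAut.conj g) (H.E O) x

theorem Hex.conj_P (H : Hex G) (g : G) (c : Subgroup.centralizer ({g * H.z * g⁻¹} : Set G))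
    (h : g⁻¹ * (c : G) * g ∈ Subgroup.centralizer ({H.z} : Set G)) :
    (H.conj g).P c = H.P ⟨g⁻¹ * (c : G) * g, h⟩ := rfl

end Cfsg.Agent.J4Type
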