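import Mathlib
import Cfsg.Agent.SporadicA.FieldFour

/-!
# Subspaces invariant under two maps commuting up to a scalar `ω` (R07, J₄ type, helper856)

`X`, `X'` of order 3 with `X X' = ω X' X`: every invariant subspace `U` has dimension `3 dim U₀`,
`U₀ = U ∩ ker (X - 1)`.
-/

set_option autoImplicit false

namespace Cfsg.Agent.J4Type.CoordT

open Cfsg.Agent.SporadicA.FieldFour (F4)

variable {V : Type*} [AddCommGroup V] [Module F4 V]

/-- two maps of order 3 commuting up to `ω` -/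
structure TPair (X X' : V ≃ₗ[F4] V) : Prop where
  cube : ∀ v, X (X (X v)) = v
  cube' : ∀ v, X' (X' (X' v)) = v
  comm : ∀ v, X (X' v) = (F4.w) • X' (X v)

theorem w3 : (F4.w : F4) * F4.w * F4.w = 1 := by decide
theorem wsum : (1 : F4) + F4.w + F4.w * F4.w = 0 := by decide
theorem two : (1 : F4) + 1 = 0 := by decide

theorem add_self (v : V) : v + v = 0 := by
  have h : (1 : F4) • v + (1 : F4) • v = 0 := by rw [← add_smul, two, zero_smul]
  simpa using h

theorem sum3 (v : V) : v + F4.w • v + F4.w • F4.w • v = 0 := by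
  have h : ((1 : F4) + F4.w + F4.w * F4.w) • v = 0 := by rw [wsum, zero_smul]
  rw [add_smul, add_smul, one_smul, mul_smul] at h
  exact h

theorem three (v : V) : v + v + v = v := by rw [add_self, zero_add]

theorem www (v : V) : F4.w • F4.w • F4.w • v = v := by
  rw [← mul_smul, ← mul_smul, w3, one_smul]

/-- the fixed vectors of `X` in `U` -/
def E0 (X : V ≃ₗ[F4] V) (U : Submodule F4 V) : Submodule F4 V := U ⊓ LinearMap.ker (X.toLinearMap - LinearMap.id)

theorem mem_E0 {X : V ≃ₗ[F4] V} {U : Submodule F4 V} {v : V} : v ∈ E0 X U ↔ v ∈ U ∧ X v = v := by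
  rw [E0, Submodule.mem_inf, LinearMap.mem_ker]
  show v ∈ U ∧ X v - v = 0 ↔ _
  rw [sub_eq_zero]

namespace TPair

variable {X X' : V ≃ₗ[F4] V}

/-- `X x'² = ω² x'² X` -/
theorem comm2 (T : TPair X X') (v : V) : X (X' (X' v)) = F4.w • F4.w • X' (X' (X v)) := by
  rw [T.comm, T.comm, map_smul]

/-- the sum map -/
def Ψ (X X' : V ≃ₗ[F4] V) (U : Submodule F4 V) : (E0 X U × E0 X U × E0 X U) →ₗ[F4] V :=
  (E0 X U).subtype.coprod ((X'.toLinearMap ∘ₗ (E0 X U).subtype).coprod
    (X'.toLinearMap ∘ₗ X'.toLinearMap ∘ₗ (E0 X U).subtype))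

theorem Ψ_apply (U : Submodule F4 V) (a b c : E0 X U) :
    Ψ X X' U (a, b, c) = (a : V) + (X' b + X' (X' c)) := rfl

theorem Ψ_inj (T : TPair X X') (U : Submodule F4 V) : Function.Injective (Ψ X X' U) := by
  rw [injective_iff_map_eq_zero]
  rintro ⟨a, b, c⟩ h
  rw [Ψ_apply] at h
  have ha := (mem_E0.1 a.2).2
  have hb := (mem_E0.1 b.2).2
  have hc := (mem_E0.1 c.2).2
  have h1 : (a : V) + (F4.w • X' b + F4.w • F4.w • X' (X' c)) = 0 := by
    have := congrArg X h
    rw [map_add, map_add, T.comm, T.comm2, ha, hb, hc, map_zero] at this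
    exact this
  have h2 : (a : V) + (F4.w • F4.w • X' b + F4.w • X' (X' c)) = 0 := by
    have := congrArg X h1
    rw [map_add, map_add, map_smul, map_smul, map_smul, T.comm, T.comm2, ha, hb, hc, map_zero] at this
    rw [www] at this
    exact this
  have e : ∀ y : V, y + F4.w • y + F4.w • F4.w • y = 0 := sum3
  have h3 : (a : V) = 0 := by
    have h4 : ((a : V) + (X' b + X' (X' c))) + ((a : V) + (F4.w • X' b + F4.w • F4.w • X' (X' c))) +
        ((a : V) + (F4.w • F4.w • X' b + F4.w • X' (X' c))) = 0 := by rw [h, h1, h2, add_zero, add_zero]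
    have h5 : ((a : V) + (X' b + X' (X' c))) + ((a : V) + (F4.w • X' b + F4.w • F4.w • X' (X' c))) +
        ((a : V) + (F4.w • F4.w • X' b + F4.w • X' (X' c))) =
        ((a : V) + a + a) + (X' b + F4.w • X' b + F4.w • F4.w • X' b) +
          (X' (X' c) + F4.w • X' (X' c) + F4.w • F4.w • X' (X' c)) := by abel
    rw [h5, e, e, three, add_zero, add_zero] at h4
    exact h4
  rw [h3, zero_add] at h h1
  have h6 : X' (b : V) = 0 := by
    -- multiply the first equation by `ω²` and add the second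
    have h9 : F4.w • F4.w • (X' (b : V) + X' (X' c)) + (F4.w • X' b + F4.w • F4.w • X' (X' c)) = 0 := by
      rw [h, h1]; simp
    have h10 : F4.w • F4.w • (X' (b : V) + X' (X' c)) + (F4.w • X' b + F4.w • F4.w • X' (X' c)) =
        (X' b + F4.w • X' b + F4.w • F4.w • X' b) + X' b - (X' b + X' b) +
          ((F4.w • F4.w • X' (X' c)) + (F4.w • F4.w • X' (X' c))) := by
      rw [smul_add, smul_add]; abel
    rw [h10, e, add_self, add_self, sub_zero, add_zero, zero_add] at h9
    exact h9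
  rw [h6, zero_add] at h
  have hb0 : (b : V) = 0 := X'.map_eq_zero_iff.1 h6
  have hc0 : (c : V) = 0 := X'.map_eq_zero_iff.1 (X'.map_eq_zero_iff.1 h)
  exact Prod.ext (Subtype.ext h3) (Prod.ext (Subtype.ext hb0) (Subtype.ext hc0))

theorem Ψ_range (T : TPair X X') (U : Submodule F4 V) (hU : ∀ u ∈ U, X u ∈ U) (hU' : ∀ u ∈ U, X' u ∈ U) :
    LinearMap.range (Ψ X X' U) = U := by
  apply le_antisymm
  · rintro _ ⟨⟨a, b, c⟩, rfl⟩
    rw [Ψ_apply]
    exact U.add_mem (mem_E0.1 a.2).1 (U.add_mem (hU' _ (mem_E0.1 b.2).1) (hU' _ (hU' _ (mem_E0.1 c.2).1)))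
  · intro u hu
    -- `X x'² = ω² x'² X`, `X (x'² y) = x'² y` if `X y = ω y`
    have hX := hU u hu
    have hXX := hU _ hX
    -- components
    have m0 : u + X u + X (X u) ∈ E0 X U := by
      refine mem_E0.2 ⟨U.add_mem (U.add_mem hu hX) hXX, ?_⟩
      rw [map_add, map_add, T.cube]; abel
    have hy : u + F4.w • F4.w • X u + F4.w • X (X u) ∈ U :=
      U.add_mem (U.add_mem hu (U.smul_mem _ (U.smul_mem _ hX))) (U.smul_mem _ hXX)
    have hyX : X (u + F4.w • F4.w • X u + F4.w • X (X u)) = F4.w • (u + F4.w • F4.w • X u + F4.w • X (X u)) := by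
      rw [map_add, map_add, map_smul, map_smul, map_smul, T.cube, smul_add, smul_add, www]; abel
    have hz : u + F4.w • X u + F4.w • F4.w • X (X u) ∈ U :=
      U.add_mem (U.add_mem hu (U.smul_mem _ hX)) (U.smul_mem _ (U.smul_mem _ hXX))
    have hzX : X (u + F4.w • X u + F4.w • F4.w • X (X u)) =
        F4.w • F4.w • (u + F4.w • X u + F4.w • F4.w • X (X u)) := by
      rw [map_add, map_add, map_smul, map_smul, map_smul, T.cube, smul_add, smul_add, smul_add, smul_add, www,
        www]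
      abel
    have m1 : X' (X' (u + F4.w • F4.w • X u + F4.w • X (X u))) ∈ E0 X U := by
      refine mem_E0.2 ⟨hU' _ (hU' _ hy), ?_⟩
      rw [T.comm2, hyX, map_smul, map_smul, www]
    have m2 : X' (u + F4.w • X u + F4.w • F4.w • X (X u)) ∈ E0 X U := by
      refine mem_E0.2 ⟨hU' _ hz, ?_⟩
      rw [T.comm, hzX, map_smul, map_smul, www]
    refine ⟨(⟨_, m0⟩, ⟨_, m1⟩, ⟨_, m2⟩), ?_⟩
    rw [Ψ_apply]
    show (u + X u + X (X u)) + (X' (X' (X' (u + F4.w • F4.w • X u + F4.w • X (X u)))) +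
      X' (X' (X' (u + F4.w • X u + F4.w • F4.w • X (X u))))) = u
    rw [T.cube', T.cube']
    have e1 : (u + X u + X (X u)) + ((u + F4.w • F4.w • X u + F4.w • X (X u)) +
        (u + F4.w • X u + F4.w • F4.w • X (X u))) =
        (u + u + u) + (X u + F4.w • X u + F4.w • F4.w • X u) +
          (X (X u) + F4.w • X (X u) + F4.w • F4.w • X (X u)) := by abel
    rw [e1, sum3, sum3, three, add_zero, add_zero]

theorem finrank_eq (T : TPair X X') [Module.Finite F4 V] (U : Submodule F4 V) (hU : ∀ u ∈ U, X u ∈ U)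
    (hU' : ∀ u ∈ U, X' u ∈ U) :
    Module.finrank F4 U = 3 * Module.finrank F4 (E0 X U) := by
  have h1 := LinearMap.finrank_range_of_inj (T.Ψ_inj U)
  rw [T.Ψ_range U hU hU', Module.finrank_prod, Module.finrank_prod] at h1
  omega

/-- every element of an invariant subspace -/
theorem exists_eq (T : TPair X X') (U : Submodule F4 V) (hU : ∀ u ∈ U, X u ∈ U)
    (hU' : ∀ u ∈ U, X' u ∈ U) {u : V} (hu : u ∈ U) :
    ∃ a ∈ E0 X U, ∃ b ∈ E0 X U, ∃ c ∈ E0 X U, u = a + (X' b + X' (X' c)) := by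
  rw [← T.Ψ_range U hU hU'] at hu
  obtain ⟨⟨a, b, c⟩, h⟩ := hu
  exact ⟨a, a.2, b, b.2, c, c.2, by rw [← h, Ψ_apply]⟩

end TPair

/-! ### common fixed vectors of commuting involutions -/

theorem exists_fixed (l : List (V ≃ₗ[F4] V)) (hc : ∀ a ∈ l, ∀ b ∈ l, ∀ v, a (b v) = b (a v))
    (hi : ∀ a ∈ l, ∀ v, a (a v) = v) (U : Submodule F4 V) (hU : ∀ a ∈ l, ∀ u ∈ U, a u ∈ U)
    {u : V} (hu : u ∈ U) (hu0 : u ≠ 0) : ∃ y ∈ U, y ≠ 0 ∧ ∀ a ∈ l, a y = y := by
  induction l with
  | nil => exact ⟨u, hu, hu0, by simp⟩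
  | cons b l ih =>
    obtain ⟨y, hy, hy0, hyl⟩ := ih (fun a ha b hb => hc a (List.mem_cons_of_mem _ ha) b (List.mem_cons_of_mem _ hb))
      (fun a ha => hi a (List.mem_cons_of_mem _ ha)) (fun a ha => hU a (List.mem_cons_of_mem _ ha))
    have hb : b ∈ b :: l := List.mem_cons_self
    by_cases h : y + b y = 0
    · refine ⟨y, hy, hy0, ?_⟩
      intro a ha
      rcases List.mem_cons.1 ha with rfl | ha
      · have h2 := add_self y
        rw [← h] at h2
        exact (add_left_cancel h2).symm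
      · exact hyl a ha
    · refine ⟨y + b y, U.add_mem hy (hU b hb y hy), h, ?_⟩
      intro a ha
      rcases List.mem_cons.1 ha with rfl | ha
      · rw [map_add, hi _ hb, add_comm]
      · rw [map_add, hc a (List.mem_cons_of_mem _ ha) b hb, hyl a ha]

end Cfsg.Agent.J4Type.CoordT
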