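import Cfsg.Agent.J4Type.CoordPR
import Cfsg.Agent.J4Type.CoordT

/-!
# Lifts of involutions and of the elements of order 3 (R07, J₄ type, helper856)

For `R : PR V`:
* `lift_scalar` : two lifts of `p` differ by a scalar;
* `exists_inv`, `inv_unique` : an involution of `M22` has exactly one lift of order 2;
* `inv_comm`, `inv_mul` : lifts of order 2 of commuting involutions commute, products;
* `cube_s`, `cube_s'` : lifts of `ps`, `ps'` have order 3.
-/

set_option autoImplicit false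

namespace Cfsg.Agent.J4Type.CoordLift

open Cfsg Cfsg.Agent.J4Type Cfsg.Agent.J4Type.CoordPR
open Cfsg.Agent.SporadicA.FieldFour (F4)

variable {V : Type*} [AddCommGroup V] [Module F4 V] (R : PR V)

include R in
theorem exists_ne : ∃ v : V, v ≠ 0 := by
  by_contra h
  push Not at h
  have : Nat.card V ≤ 1 := by
    have : Subsingleton V := ⟨fun a b => by rw [h a, h b]⟩
    exact Finite.card_le_one_iff_subsingleton.2 this
  rw [R.card] at this
  omega

theorem smul_cancel {γ δ : F4} {v : V} (hv : v ≠ 0) (h : γ • v = δ • v) : γ = δ :=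
  smul_left_injective F4 hv h

theorem sq_eq_one : ∀ γ : F4, γ * γ = 1 → γ = 1 := by decide

theorem cube_eq_one : ∀ γ : F4, γ ≠ 0 → γ * γ * γ = 1 := by decide

/-- two lifts of `p` differ by a scalar -/
theorem lift_scalar {p : M24} {x y : V ≃ₗ[F4] V} (hx : R.L p x) (hy : R.L p y) :
    ∃ γ : F4, γ ≠ 0 ∧ ∀ v, x v = γ • y v := by
  have h1 := R.L_mul _ _ _ _ (R.L_inv _ _ hy) hx
  rw [inv_mul_cancel] at h1
  obtain ⟨γ, hγ, h2⟩ := (R.L_one _).1 h1
  refine ⟨γ, hγ, fun v => ?_⟩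
  have h3 : y ((y⁻¹ * x) v) = x v := y.apply_symm_apply (x v)
  rw [← h3, h2, map_smul]

/-- multiplying a lift by a scalar -/
theorem exists_smul {p : M24} {x : V ≃ₗ[F4] V} (hx : R.L p x) {γ : F4} (hγ : γ ≠ 0) :
    ∃ y, R.L p y ∧ ∀ v, y v = γ • x v := by
  refine ⟨LinearEquiv.smulOfNeZero F4 V γ hγ * x, ?_, fun v => rfl⟩
  have h1 : R.L 1 (LinearEquiv.smulOfNeZero F4 V γ hγ) := (R.L_one _).2 ⟨γ, hγ, fun v => rfl⟩
  have := R.L_mul _ _ _ _ h1 hx
  rwa [one_mul] at this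

/-- an involution has a lift of order two -/
theorem exists_inv {p : M24} (hp : Inn p) (h2 : p * p = 1) : ∃ x, R.L p x ∧ x * x = 1 := by
  obtain ⟨x, hx⟩ := R.L_exists p hp
  have h1 := R.L_mul _ _ _ _ hx hx
  rw [h2] at h1
  obtain ⟨γ, hγ, h3⟩ := (R.L_one _).1 h1
  obtain ⟨y, hy, h4⟩ := exists_smul R hx hγ
  refine ⟨y, hy, ?_⟩
  ext v
  show y (y v) = v
  rw [h4, h4, map_smul]
  have : x (x v) = γ • v := h3 v
  rw [this, ← mul_smul, ← mul_smul, cube_eq_one γ hγ, one_smul]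

theorem invol_apply {x : V ≃ₗ[F4] V} (h : x * x = 1) (v : V) : x (x v) = v :=
  LinearEquiv.congr_fun h v

theorem invol_of_apply {x : V ≃ₗ[F4] V} (h : ∀ v, x (x v) = v) : x * x = 1 :=
  LinearEquiv.ext h

/-- the lift of order two is unique -/
theorem inv_unique {p : M24} {x y : V ≃ₗ[F4] V} (hx : R.L p x) (hy : R.L p y) (hx2 : x * x = 1)
    (hy2 : y * y = 1) : x = y := by
  obtain ⟨γ, hγ, h⟩ := lift_scalar R hx hy
  obtain ⟨v, hv⟩ := exists_ne R
  have h1 : x (x v) = v := invol_apply hx2 v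
  rw [h, h, map_smul, invol_apply hy2, ← mul_smul] at h1
  have h2 : γ * γ = 1 := smul_cancel hv (by rw [h1, one_smul])
  have h3 := sq_eq_one γ h2
  ext w
  rw [h, h3, one_smul]

/-- lifts of order two of commuting involutions commute -/
theorem inv_comm {p p' : M24} {x x' : V ≃ₗ[F4] V} (hx : R.L p x) (hx' : R.L p' x') (hx2 : x * x = 1)
    (hx2' : x' * x' = 1) (hc : p * p' = p' * p) (v : V) : x (x' v) = x' (x v) := by
  have h1 := R.L_mul _ _ _ _ hx hx'
  have h2 := R.L_mul _ _ _ _ hx' hx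
  rw [← hc] at h2
  obtain ⟨γ, hγ, h⟩ := lift_scalar R h1 h2
  have h' : ∀ v, x (x' v) = γ • x' (x v) := h
  obtain ⟨w, hw⟩ := exists_ne R
  have h3 : ∀ u, x (x' (x u)) = γ • x' u := fun u => by rw [h', invol_apply hx2]
  have h4 : x (x' (x (x (x' (x w))))) = w := by
    rw [invol_apply hx2, invol_apply hx2', invol_apply hx2]
  rw [h3, h3, map_smul, invol_apply hx2', ← mul_smul] at h4
  have h5 : γ * γ = 1 := smul_cancel hw (by rw [h4, one_smul])
  rw [h', sq_eq_one γ h5, one_smul]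

/-- product of lifts of order two of commuting involutions -/
theorem inv_mul' {p p' p'' : M24} {x x' x'' : V ≃ₗ[F4] V} (hx : R.L p x) (hx' : R.L p' x') (hx'' : R.L p'' x'')
    (hx2 : x * x = 1) (hx2' : x' * x' = 1) (hx2'' : x'' * x'' = 1) (hc : p * p' = p' * p) (hm : p * p' = p'')
    (v : V) : x (x' v) = x'' v := by
  have h1 := R.L_mul _ _ _ _ hx hx'
  rw [hm] at h1
  have h2 : (x * x') * (x * x') = 1 := by
    ext u
    show x (x' (x (x' u))) = u
    rw [inv_comm R hx hx' hx2 hx2' hc, invol_apply hx2, invol_apply hx2']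
  have h3 := inv_unique R h1 hx'' h2 hx2''
  exact LinearEquiv.congr_fun h3 v

/-- conjugates of lifts of order two -/
theorem inv_conj {g p : M24} {y x : V ≃ₗ[F4] V} (hy : R.L g y) (hx : R.L p x) (hx2 : x * x = 1) :
    R.L (g * p * g⁻¹) (y * x * y⁻¹) ∧ (y * x * y⁻¹) * (y * x * y⁻¹) = 1 := by
  refine ⟨R.L_mul _ _ _ _ (R.L_mul _ _ _ _ hy hx) (R.L_inv _ _ hy), ?_⟩
  have : (y * x * y⁻¹) * (y * x * y⁻¹) = y * (x * x) * y⁻¹ := by group
  rw [this, hx2, mul_one, mul_inv_cancel]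

/-- a lift of order two of an element commuting with `g` commutes with the lifts of `g` -/
theorem inv_comm_lift {g p : M24} {y x : V ≃ₗ[F4] V} (hy : R.L g y) (hx : R.L p x) (hx2 : x * x = 1)
    (hc : g * p = p * g) (v : V) : y (x v) = x (y v) := by
  obtain ⟨h1, h2⟩ := inv_conj R hy hx hx2
  have h3 : g * p * g⁻¹ = p := by rw [hc, mul_inv_cancel_right]
  rw [h3] at h1
  have h4 := inv_unique R h1 hx h2 hx2
  rw [mul_inv_eq_iff_eq_mul] at h4
  exact LinearEquiv.congr_fun h4 v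

/-- lifts of a real element of order 3 have order 3 -/
theorem cube_of_real {p g : M24} {x : V ≃ₗ[F4] V} (hx : R.L p x) (hg : Inn g) (h3 : p * p * p = 1)
    (hr : p * g * p = g) (v : V) : x (x (x v)) = v := by
  obtain ⟨u, hu⟩ := R.L_exists g hg
  have h1 := R.L_mul _ _ _ _ (R.L_mul _ _ _ _ hx hx) hx
  rw [h3] at h1
  obtain ⟨δ, hδ, h2⟩ := (R.L_one _).1 h1
  have h2' : ∀ v, x (x (x v)) = δ • v := h2
  have h4 := R.L_mul _ _ _ _ (R.L_mul _ _ _ _ hx hu) hx
  rw [hr] at h4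
  obtain ⟨γ, hγ, h5⟩ := lift_scalar R h4 hu
  have h5' : ∀ v, x (u (x v)) = γ • u v := h5
  obtain ⟨w, hw⟩ := exists_ne R
  have h6 : x (x (x (u (x (x (x w)))))) = (γ * γ * γ) • u w := by
    rw [h5', map_smul, map_smul, h5', map_smul, h5', mul_smul, mul_smul]
  rw [h2', h2', map_smul, ← mul_smul, cube_eq_one γ hγ] at h6
  have h7 : u w ≠ 0 := fun h => hw (u.map_eq_zero_iff.1 h)
  have h8 : δ * δ = 1 := smul_cancel h7 h6
  rw [h2', sq_eq_one δ h8, one_smul]

theorem cube_s {x : V ≃ₗ[F4] V} (hx : R.L ps x) (v : V) : x (x (x v)) = v :=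
  cube_of_real R hx inn_u s_cube s_u_s v

theorem cube_s' {x : V ≃ₗ[F4] V} (hx : R.L ps' x) (v : V) : x (x (x v)) = v :=
  cube_of_real R hx inn_u s'_cube s'_u_s' v

theorem tpair {x x' : V ≃ₗ[F4] V} (hx : R.L ps x) (hx' : R.L ps' x') : CoordT.TPair x x' :=
  ⟨cube_s R hx, cube_s' R hx', R.comm x x' hx hx'⟩

/-! ### the bilinear form -/

theorem B_add' (u v w : V) : R.B u (v + w) = R.B u v + R.B u w := by
  rw [R.B_comm, R.B_add, R.B_comm v, R.B_comm w]

theorem q_zero : R.q 0 = 0 := by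
  have h1 := R.q_add 0 0
  have h2 := R.B_add 0 0 0
  rw [add_zero] at h1 h2
  have h3 : R.B 0 0 = 0 := left_eq_add.1 h2
  rw [h3, add_zero] at h1
  exact left_eq_add.1 h1

theorem B_zero (u : V) : R.B 0 u = 0 := by
  have h2 := R.B_add 0 0 u
  rw [add_zero] at h2
  exact left_eq_add.1 h2

theorem B_zero' (u : V) : R.B u 0 = 0 := by rw [R.B_comm, B_zero]

theorem B_eq (u v : V) : R.B u v = R.q (u + v) + R.q u + R.q v := by
  have two : ∀ a b c : ZMod 2, c = a + b + c + a + b := by decide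
  rw [R.q_add]
  exact two _ _ _

/-- the scalars are isometries -/
theorem B_smul {γ : F4} (hγ : γ ≠ 0) (u v : V) : R.B (γ • u) (γ • v) = R.B u v := by
  rw [B_eq, B_eq R u v, ← smul_add, R.q_smul _ _ hγ, R.q_smul _ _ hγ, R.q_smul _ _ hγ]

theorem B_L {p : M24} {x : V ≃ₗ[F4] V} (hx : R.L p x) (u v : V) : R.B (x u) (x v) = R.B u v := by
  rw [B_eq, B_eq R u v, ← map_add, R.L_q p x hx, R.L_q p x hx, R.L_q p x hx]

end Cfsg.Agent.J4Type.CoordLift
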