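import Mathlib.Algebra.Group.Basic

/-!
# Relations between the seven permutations used to determine `Q/⟨z⟩` (J4 type recognition)

`s, t` generate an elementary abelian group of order 9, `u` inverts it, `a, b` (`c, d`) generate
with it the pointwise stabiliser of a hexad (of another hexad disjoint from the first).
-/

set_option autoImplicit false

namespace Cfsg.Agent.J4Type.FrameRels

/-- The relations. -/
structure Rels {Γ : Type*} [Group Γ] (s t a b c d u : Γ) : Prop where
  s3 : s * s * s = 1
  t3 : t * t * t = 1
  st : s * t = t * s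
  s1 : s ≠ 1
  t1 : t ≠ 1
  ts : t ≠ s
  tss : t ≠ s * s
  u2 : u * u = 1
  us : u * s = s * s * u
  ut : u * t = t * t * u
  ua : u * a = a * u
  ub : u * b = s * b * s * s * u
  uc : u * c = c * u
  ud : u * d = d * u
  a2 : a * a = 1
  sa : s * a = a * s
  atr : a * (t * a * t * t) * (t * t * a * t) = 1
  b2 : b * b = 1
  tb : t * b = b * t
  btr : b * (s * b * s * s) * (s * s * b * s) = 1
  aa : a * (t * a * t * t) = (t * a * t * t) * a
  ab : a * b = b * a
  ab' : a * (s * b * s * s) = (s * b * s * s) * a
  a'b : (t * a * t * t) * b = b * (t * a * t * t)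
  a'b' : (t * a * t * t) * (s * b * s * s) = (s * b * s * s) * (t * a * t * t)
  bb : b * (s * b * s * s) = (s * b * s * s) * b
  c2 : c * c = 1
  stc : s * t * c = c * s * t
  ctr : c * (s * c * s * s) * (s * s * c * s) = 1
  d2 : d * d = 1
  std : s * t * t * d = d * s * t * t
  dtr : d * (s * d * s * s) * (s * s * d * s) = 1
  cc : c * (s * c * s * s) = (s * c * s * s) * c
  cd : c * d = d * c
  cd' : c * (s * d * s * s) = (s * d * s * s) * c
  c'd : (s * c * s * s) * d = d * (s * c * s * s)
  c'd' : (s * c * s * s) * (s * d * s * s) = (s * d * s * s) * (s * c * s * s)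
  dd : d * (s * d * s * s) = (s * d * s * s) * d
  ac : a * c ≠ c * a

end Cfsg.Agent.J4Type.FrameRels
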