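import Cfsg.Agent.J4Type.FrameOps2
import Cfsg.Agent.J4Type.FrameRels
import Mathlib.Data.ZMod.Basic

/-!
# Projective actions with kernel of order three (J4 type recognition)
-/

set_option autoImplicit false

namespace Cfsg.Agent.J4Type.FramePR

open Cfsg.Agent.SporadicA.FieldFour
open Cfsg.Agent.J4Type.Frame
open Cfsg.Agent.J4Type.FrameForm
open Cfsg.Agent.J4Type.FrameRels

/-- A projective action of `Γ` on `V`: `L p x` means that `x` is a lift of `p`.  The lifts of the
identity form a group `⟨ρ⟩` of order three. -/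
structure PR (Γ V : Type*) [Group Γ] [AddCommGroup V] [Module (ZMod 2) V] where
  In : Subgroup Γ
  L : Γ → (V ≃ₗ[ZMod 2] V) → Prop
  ρ : V ≃ₗ[ZMod 2] V
  q : V → ZMod 2
  b : V → V → ZMod 2
  mul : ∀ {p p' x x'}, L p x → L p' x' → L (p * p') (x * x')
  inv : ∀ {p x}, L p x → L p⁻¹ x⁻¹
  one : ∀ x, L 1 x ↔ x = 1 ∨ x = ρ ∨ x = ρ * ρ
  inj : ∀ {p p' x}, L p x → L p' x → p = p'
  ex : ∀ p ∈ In, ∃ x, L p x
  comm : ∀ p ∈ In, ∀ x, L p x → x * ρ = ρ * x
  q_L : ∀ {p x}, L p x → ∀ v, q (x v) = q v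
  q_add : ∀ u v, q (u + v) = q u + q v + b u v
  b_add : ∀ u v w, b (u + v) w = b u w + b v w
  b_comm : ∀ u v, b u v = b v u
  b_nondeg : ∀ v, (∀ w, b v w = 0) → v = 0
  sum : ∀ v, v + ρ v + ρ (ρ v) = 0

namespace PR

variable {Γ V : Type*} [Group Γ] [AddCommGroup V] [Module (ZMod 2) V] (P : PR Γ V)

theorem two (v : V) : v + v = 0 := by
  have h : ((1 : ZMod 2) + 1) • v = 0 := by
    rw [show (1 : ZMod 2) + 1 = 0 from by decide, zero_smul]
  rwa [add_smul, one_smul] at h

theorem eq_of_add {u v : V} (h : u + v = 0) : u = v := by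
  have h1 := two v
  rw [← h1] at h
  exact add_right_cancel h

theorem rho3 : P.ρ * P.ρ * P.ρ = 1 := by
  apply LinearEquiv.ext
  intro v
  change P.ρ (P.ρ (P.ρ v)) = v
  have h1 := P.sum v
  have h2 := P.sum (P.ρ v)
  have h3 : v + P.ρ (P.ρ (P.ρ v)) = 0 := by
    have : v + P.ρ (P.ρ (P.ρ v)) = (v + P.ρ v + P.ρ (P.ρ v)) + (P.ρ v + P.ρ (P.ρ v) + P.ρ (P.ρ (P.ρ v))) := by
      have e1 := two (P.ρ v)
      have e2 := two (P.ρ (P.ρ v))
      calc v + P.ρ (P.ρ (P.ρ v)) = v + (P.ρ v + P.ρ v) + (P.ρ (P.ρ v) + P.ρ (P.ρ v)) +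
            P.ρ (P.ρ (P.ρ v)) := by rw [e1, e2, add_zero, add_zero]
        _ = _ := by abel
    rw [this, h1, h2, add_zero]
  exact (eq_of_add h3).symm

theorem one_one : P.L 1 1 := (P.one 1).2 (Or.inl rfl)

theorem b_L {p : Γ} {x : V ≃ₗ[ZMod 2] V} (h : P.L p x) (u v : V) : P.b (x u) (x v) = P.b u v := by
  have h1 := P.q_add u v
  have h2 := P.q_add (x u) (x v)
  rw [← map_add, P.q_L h, P.q_L h, P.q_L h, h1] at h2
  exact (add_left_cancel h2).symm

theorem K_comm {k x : V ≃ₗ[ZMod 2] V} {p : Γ} (hp : p ∈ P.In) (hk : P.L 1 k) (hx : P.L p x) :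
    k * x = x * k := by
  have h := P.comm p hp x hx
  rcases (P.one k).1 hk with rfl | rfl | rfl
  · rw [one_mul, mul_one]
  · exact h.symm
  · rw [mul_assoc, ← h, ← mul_assoc, ← h, mul_assoc]

theorem K_cube {k : V ≃ₗ[ZMod 2] V} (hk : P.L 1 k) : k * k * k = 1 := by
  rcases (P.one k).1 hk with rfl | rfl | rfl
  · simp
  · exact P.rho3
  · have h := P.rho3
    calc P.ρ * P.ρ * (P.ρ * P.ρ) * (P.ρ * P.ρ) = (P.ρ * P.ρ * P.ρ) * (P.ρ * P.ρ * P.ρ) := by group
      _ = 1 := by rw [h, one_mul]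

theorem K_one_of_sq {k : V ≃ₗ[ZMod 2] V} (hk : P.L 1 k) (h : k * k = 1) : k = 1 := by
  have := P.K_cube hk
  rwa [h, one_mul] at this

theorem lift_eq {p : Γ} {x y : V ≃ₗ[ZMod 2] V} (hx : P.L p x) (hy : P.L p y) :
    ∃ k, P.L 1 k ∧ y = k * x := by
  refine ⟨y * x⁻¹, ?_, by group⟩
  have := P.mul hy (P.inv hx)
  rwa [mul_inv_cancel] at this

theorem inv_unique {p : Γ} (hp : p ∈ P.In) {x y : V ≃ₗ[ZMod 2] V} (hx : P.L p x) (hx2 : x * x = 1)
    (hy : P.L p y) (hy2 : y * y = 1) : x = y := by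
  obtain ⟨k, hk, rfl⟩ := P.lift_eq hx hy
  have h : k * k = 1 := by
    have : k * x * (k * x) = k * k * (x * x) := by
      rw [mul_assoc, ← mul_assoc x, ← P.K_comm hp hk hx]; group
    rwa [this, hx2, mul_one] at hy2
  rw [P.K_one_of_sq hk h, one_mul]

theorem inv_exists {p : Γ} (hp : p ∈ P.In) (hp2 : p * p = 1) :
    ∃ y, P.L p y ∧ y * y = 1 := by
  obtain ⟨x, hx⟩ := P.ex p hp
  refine ⟨x * x * x, ?_, ?_⟩
  · have := P.mul (P.mul hx hx) hx
    rwa [hp2, one_mul] at this
  · have h := P.mul hx hx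
    rw [hp2] at h
    have := P.K_cube h
    calc x * x * x * (x * x * x) = (x * x) * (x * x) * (x * x) := by group
      _ = 1 := this

theorem inv_conj {p p' g : Γ} (hp' : p' ∈ P.In) {x y y' : V ≃ₗ[ZMod 2] V}
    (hx : P.L g x) (hg : g * p = p' * g) (hy : P.L p y) (hy2 : y * y = 1) (hy' : P.L p' y')
    (hy2' : y' * y' = 1) : x * y = y' * x := by
  have h1 := P.mul (P.mul hx hy) (P.inv hx)
  rw [hg, mul_inv_cancel_right] at h1
  have h2 : x * y * x⁻¹ * (x * y * x⁻¹) = 1 := by
    calc x * y * x⁻¹ * (x * y * x⁻¹) = x * (y * y) * x⁻¹ := by group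
      _ = 1 := by rw [hy2]; group
  have h3 := P.inv_unique hp' h1 h2 hy' hy2'
  rw [← h3]; group

theorem inv_mul3 {p p' p'' : Γ} (hp'' : p'' ∈ P.In) {y y' y'' : V ≃ₗ[ZMod 2] V}
    (h1 : p * p' * p'' = 1) (hyy : y * y' = y' * y)
    (hy : P.L p y) (hy2 : y * y = 1) (hy' : P.L p' y') (hy2' : y' * y' = 1)
    (hy'' : P.L p'' y'') (hy2'' : y'' * y'' = 1) : y * y' * y'' = 1 := by
  have hk := P.mul (P.mul hy hy') hy''
  rw [h1] at hk
  set k := y * y' * y'' with hkd
  have e1 : y * y' = k * y'' := by rw [hkd, mul_assoc, hy2'', mul_one]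
  have e2 : y * y' * (y * y') = 1 := by
    calc y * y' * (y * y') = y * y' * (y' * y) := by rw [← hyy]
      _ = y * (y' * y') * y := by group
      _ = 1 := by rw [hy2', mul_one, hy2]
  rw [e1] at e2
  have e3 : k * y'' * (k * y'') = k * k * (y'' * y'') := by
    rw [mul_assoc, ← mul_assoc y'', ← P.K_comm hp'' hk hy'']; group
  rw [e3, hy2'', mul_one] at e2
  exact P.K_one_of_sq hk e2

/-- An element of order three inverted by an involution has a lift of order three. -/
theorem order_three {s u : Γ} (hs : s ∈ P.In) (hu : u ∈ P.In) (hs3 : s * s * s = 1)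
    (hus : u * s = s * s * u) {x : V ≃ₗ[ZMod 2] V} (hx : P.L s x) : x * x * x = 1 := by
  obtain ⟨y, hy⟩ := P.ex u hu
  -- `x ^ 3` is a lift of the identity
  have h1 := P.mul (P.mul hx hx) hx
  rw [hs3] at h1
  -- `y x y⁻¹` is a lift of `s s = s⁻¹`
  have h2 := P.mul (P.mul hy hx) (P.inv hy)
  rw [hus, mul_inv_cancel_right] at h2
  have h3 := P.mul hx hx
  obtain ⟨k, hk, hkk⟩ := P.lift_eq h3 h2
  -- cubes
  have hc : P.L s x → k * x = x * k := P.K_comm hs hk
  have e1 : y * x * y⁻¹ * (y * x * y⁻¹) * (y * x * y⁻¹) = x * x * x := by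
    calc y * x * y⁻¹ * (y * x * y⁻¹) * (y * x * y⁻¹) = y * (x * x * x) * y⁻¹ := by group
      _ = x * x * x := by rw [← P.K_comm hu h1 hy]; group
  rw [hkk] at e1
  have e2 : k * (x * x) * (k * (x * x)) * (k * (x * x)) = k * k * k * ((x * x * x) * (x * x * x)) := by
    have c1 := hc hx
    have c2 : x * x * k = k * (x * x) := by rw [mul_assoc, ← c1, ← mul_assoc, ← c1, mul_assoc]
    calc k * (x * x) * (k * (x * x)) * (k * (x * x))
        = k * (x * x * k) * (x * x) * (k * (x * x)) := by group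
      _ = k * (k * (x * x)) * (x * x) * (k * (x * x)) := by rw [c2]
      _ = k * k * (x * x) * (x * x * k) * (x * x) := by group
      _ = k * k * (x * x) * (k * (x * x)) * (x * x) := by rw [c2]
      _ = k * k * (x * x * k) * (x * x) * (x * x) := by group
      _ = k * k * (k * (x * x)) * (x * x) * (x * x) := by rw [c2]
      _ = _ := by group
  rw [e2, P.K_cube hk, one_mul] at e1
  exact mul_eq_right.1 e1

end PR

/-- The vector space structure over `F4` given by an operator of order three. -/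
@[reducible] def modF4 {V : Type*} [AddCommGroup V] [Module (ZMod 2) V] (ω : V ≃ₗ[ZMod 2] V)
    (hs : ∀ v, v + ω v + ω (ω v) = 0) : Module F4 V :=
  have h2 : ∀ v : V, v + v = 0 := PR.two
  have h3 : ∀ v, ω (ω (ω v)) = v := by
    intro v
    have h1 := hs v
    have h2' := hs (ω v)
    have h4 : v + ω (ω (ω v)) = 0 := by
      calc v + ω (ω (ω v)) = v + (ω v + ω v) + (ω (ω v) + ω (ω v)) + ω (ω (ω v)) := by
            rw [h2, h2, add_zero, add_zero]
        _ = (v + ω v + ω (ω v)) + (ω v + ω (ω v) + ω (ω (ω v))) := by abel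
        _ = 0 := by rw [h1, h2', add_zero]
    exact (PR.eq_of_add h4).symm
  have e1 : ∀ v, v + ω v = ω (ω v) := fun v => PR.eq_of_add (hs v)
  have e2 : ∀ v, v + ω (ω v) = ω v := fun v => by
    apply PR.eq_of_add
    rw [add_assoc, add_comm (ω (ω v)), ← add_assoc]; exact hs v
  have e3 : ∀ v, ω v + ω (ω v) = v := fun v => by
    apply PR.eq_of_add
    rw [add_comm, ← add_assoc]; exact hs v
  { smul := fun r v => match r with
      | F4.z => 0
      | F4.o => v
      | F4.w => ω v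
      | F4.v => ω (ω v)
    one_smul := fun v => rfl
    mul_smul := by
      intro r r' v
      cases r <;> cases r'
      · rfl
      · rfl
      · rfl
      · rfl
      · rfl
      · rfl
      · rfl
      · rfl
      · exact (map_zero ω).symm
      · rfl
      · rfl
      · exact (h3 v).symm
      · change (0 : V) = ω (ω 0); rw [map_zero, map_zero]
      · rfl
      · exact (h3 v).symm
      · change ω v = ω (ω (ω (ω v))); rw [h3]
    smul_zero := by
      intro r
      cases r
      · rfl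
      · rfl
      · exact map_zero ω
      · change ω (ω 0) = 0; rw [map_zero, map_zero]
    smul_add := by
      intro r u v
      cases r
      · exact (add_zero 0).symm
      · rfl
      · exact map_add ω u v
      · change ω (ω (u + v)) = ω (ω u) + ω (ω v); rw [map_add, map_add]
    add_smul := by
      intro r r' v
      cases r <;> cases r'
      · exact (add_zero 0).symm
      · exact (zero_add v).symm
      · exact (zero_add (ω v)).symm
      · exact (zero_add (ω (ω v))).symm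
      · exact (add_zero v).symm
      · exact (h2 v).symm
      · exact (e1 v).symm
      · exact (e2 v).symm
      · exact (add_zero (ω v)).symm
      · change ω (ω v) = ω v + v; rw [add_comm]; exact (e1 v).symm
      · exact (h2 _).symm
      · exact (e3 v).symm
      · exact (add_zero (ω (ω v))).symm
      · change ω v = ω (ω v) + v; rw [add_comm]; exact (e2 v).symm
      · change v = ω (ω v) + ω v; rw [add_comm]; exact (e3 v).symm
      · exact (h2 _).symm
    zero_smul := fun v => rfl }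

end Cfsg.Agent.J4Type.FramePR
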