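import Cfsg.Agent.J4Type.CoordOutB
import Cfsg.Agent.J4Type.FrameLift

/-!
# J₄ type: `CentCoords` from the relations between the explicit permutations (R07, helper565)
-/

set_option autoImplicit false

namespace Cfsg.Agent.J4Type.CoordMain

open Cfsg Cfsg.Agent.J4Type Cfsg.Agent.J4Type.CoordPR Cfsg.Agent.J4Type.CentCoords
open Cfsg.Agent.J4Type.VCoord Cfsg.Agent.J4Type.CocodeMask Cfsg.Agent.J4Type.CoordOut
open Cfsg.Agent.J4Type.CoordOutB
open Cfsg.Agent.SporadicA.FieldFour (F4)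

universe u

variable {G : Type u} [Group G] [Finite G] {t : G} {Q N M : Subgroup (Subgroup.centralizer ({t} : Set G))}
  {P : Subgroup.centralizer ({t} : Set G) →* Equiv.Perm GolayPt}

/-- `IsCoord => CentCoords` -/
theorem centCoords_of_isCoord (H : Hyp t Q N M) (hP : IsP N M P)
    {r : Subgroup.centralizer ({t} : Set G)} (hr : r ∈ N) (hrQ : r ∉ Q) (hr3 : r ^ 3 = 1)
    {r₀ : Subgroup.centralizer ({t} : Set G)} (hr₀ : r₀ ∈ N) (hrQ₀ : r₀ ∉ Q) (hr3₀ : r₀ ^ 3 = 1)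
    {c d : M24} (hd : ps * ps * d * ps = pc1) (hc : ps * ps * c * ps = pc2)
    {ω : H.large.V ≃ₗ[ZMod 2] H.large.V} {φ : V6 → H.large.V}
    (C : FrameLift.IsCoord (framePR H hP hr hrQ hr3) ps ps' pb01 pb45 c d ω φ) :
    Nonempty (CentCoords (H.toCent hP hr₀ hrQ₀ hr3₀)) := by
  have hr₀1 : P r₀ = 1 := by rw [← MonoidHom.mem_ker, hP.ker]; exact hr₀
  have hk : (framePR H hP hr hrQ hr3).L 1 (H.large.act r₀) := ⟨r₀, hr₀1, rfl⟩
  have hr₀n : H.large.act r₀ ≠ 1 := fun h => hrQ₀ (H.act_eq_one.1 h)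
  -- an element acting as `ω`
  have key : ∃ r₁ : Subgroup.centralizer ({t} : Set G), r₁ ∈ N ∧ r₁ ∉ Q ∧ r₁ ^ 3 = 1 ∧ H.large.act r₁ = ω := by
    rcases FrameLift.PR.K_smul _ C.L_om C.om_ne hk with h | h | h
    · exact absurd h hr₀n
    · exact ⟨r₀, hr₀, hrQ₀, hr3₀, h⟩
    · have h3 : H.large.act r₀ * H.large.act r₀ * H.large.act r₀ = 1 := by
        rw [← map_mul, ← map_mul, ← pow_two, ← pow_succ, hr3₀, map_one]
      have h3' : ω * ω * ω = 1 := FramePR.PR.K_cube _ C.L_om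
      refine ⟨r₀ ^ 2, N.pow_mem hr₀ 2, ?_, ?_, ?_⟩
      · intro h2
        apply hrQ₀
        have h4 : r₀ = (r₀ ^ 2) ^ 2 := by
          rw [← pow_mul, show 2 * 2 = 3 + 1 from rfl, pow_succ, hr3₀, one_mul]
        rw [h4]
        exact Q.pow_mem h2 2
      · rw [← pow_mul, mul_comm, pow_mul, hr3₀, one_pow]
      · rw [map_pow, h, pow_two]
        calc ω * ω * (ω * ω) = ω * ω * ω * ω := by group
          _ = ω := by rw [h3', one_mul]
  obtain ⟨r₁, hr₁, hrQ₁, hr3₁, e₁⟩ := key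
  have hφ := C.bij
  obtain ⟨co, hl, hrr⟩ := Function.bijective_iff_has_inverse.1 hφ
  have hcf : ∀ p, co (φ p) = p := hl
  have hfc : ∀ v, φ (co v) = v := hrr
  refine centCoords_of' H hP hr₁ hrQ₁ hr3₁ hr₀ hrQ₀ hr3₀ co ?_ ?_ ?_ ?_ ?_ ?_
  · intro u v
    apply hφ.1
    rw [hfc, C.add, hfc, hfc]
  · intro u v h
    rw [← hfc u, ← hfc v, h]
  · intro p
    exact ⟨φ p, hcf p⟩
  · intro v
    have h := C.q (co v)
    rw [hfc] at h
    exact h
  · intro v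
    apply hφ.1
    rw [hfc, C.om, hfc, e₁]
  · have hgen : ∀ (p : M24) (Mm : V6 → V6),
        (∀ x, (framePR H hP hr hrQ hr3).L p x → ∃ γ : F4, γ ≠ 0 ∧ ∀ w, x (φ w) = φ (scm γ (Mm w))) →
        ∀ x, LRel.L H P p x → ∃ γ : F4, γ ≠ 0 ∧ ∀ v, co (x v) = scm γ (Mm (co v)) := by
      intro p Mm h x hx
      obtain ⟨γ, hγ, h1⟩ := h x hx
      refine ⟨γ, hγ, fun v => ?_⟩
      apply hφ.1
      rw [hfc, ← h1, hfc]
    rintro p Mm (⟨rfl, rfl⟩ | ⟨rfl, rfl⟩ | ⟨rfl, rfl⟩ | ⟨rfl, rfl⟩ | ⟨rfl, rfl⟩ | ⟨rfl, rfl⟩)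
    · exact hgen _ _ C.lin_s
    · exact hgen _ _ C.lin_t
    · exact hgen _ _ C.lin_a
    · exact hgen _ _ C.lin_b
    · exact hgen _ _ (fun x hx => C.lin_c1 x (by rw [hd]; exact hx))
    · exact hgen _ _ (fun x hx => C.lin_c2 x (by rw [hc]; exact hx))

/-- lifts of `ps`, `ps'` do not commute -/
theorem not_comm (H : Hyp t Q N M) (hP : IsP N M P)
    {r : Subgroup.centralizer ({t} : Set G)} (hr : r ∈ N) (hrQ : r ∉ Q) (hr3 : r ^ 3 = 1)
    (x y : H.large.V ≃ₗ[ZMod 2] H.large.V) (hx : (framePR H hP hr hrQ hr3).L ps x)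
    (hy : (framePR H hP hr hrQ hr3).L ps' y) : x * y ≠ y * x := by
  have hn : ∀ g h : M24, g ≠ h → (g : Equiv.Perm GolayPt) ≠ h := fun g h e e' => e (Subtype.ext e')
  have hcube : ∀ g : M24, g * g * g = 1 → (g : Equiv.Perm GolayPt) ^ 3 = 1 := by
    intro g hg
    have h1 : (g : Equiv.Perm GolayPt) * g * g = 1 := congrArg Subtype.val hg
    rw [pow_succ, pow_two]; exact h1
  refine LRel.L_not_comm H hP hx hy inn_s.1 inn_s'.1 (hcube _ s_cube) (hcube _ s'_cube)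
    (congrArg Subtype.val s_comm) (hn _ _ s_ne) (hn _ _ s'_ne) (hn _ _ s'_ne_s) ?_
  rw [pow_two]
  exact hn _ _ s'_ne_s2

/-- **`CentCoords` from the relations.** -/
theorem exists_centCoords_of_rels (H : Hyp t Q N M) (hP : IsP N M P)
    {c d : M24} (hd : ps * ps * d * ps = pc1) (hc : ps * ps * c * ps = pc2)
    (R : FrameRels.Rels ps ps' pb01 pb45 c d pu)
    {r₀ : Subgroup.centralizer ({t} : Set G)} (hr₀ : r₀ ∈ N) (hrQ₀ : r₀ ∉ Q) (hr3₀ : r₀ ^ 3 = 1) :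
    Nonempty (CentCoords (H.toCent hP hr₀ hrQ₀ hr3₀)) := by
  have hs3 : ps * ps * ps = 1 := s_cube
  have hd' : d = ps * pc1 * (ps * ps) := by
    rw [← hd]
    calc d = ps * ps * ps * d * (ps * ps * ps) := by rw [hs3, one_mul, mul_one]
      _ = _ := by group
  have hc' : c = ps * pc2 * (ps * ps) := by
    rw [← hc]
    calc c = ps * ps * ps * c * (ps * ps * ps) := by rw [hs3, one_mul, mul_one]
      _ = _ := by group
  have hid : Inn d := by rw [hd']; exact (inn_s.mul inn_c1).mul (inn_s.mul inn_s)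
  have hic : Inn c := by rw [hc']; exact (inn_s.mul inn_c2).mul (inn_s.mul inn_s)
  have hd1 : d ≠ 1 := by
    intro h
    apply c1_ne
    rw [← hd, h, mul_one, hs3]
  obtain ⟨ω, φ, C⟩ := FrameLift.exists_coord (framePR H hP hr₀ hrQ₀ hr3₀) H.card_V R b45_ne hd1
    (mem_InnSub.2 inn_s) (mem_InnSub.2 inn_s') (mem_InnSub.2 inn_b01) (mem_InnSub.2 inn_b45)
    (mem_InnSub.2 hic) (mem_InnSub.2 hid) (mem_InnSub.2 inn_u) (not_comm H hP hr₀ hrQ₀ hr3₀)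
  exact centCoords_of_isCoord H hP hr₀ hrQ₀ hr3₀ hr₀ hrQ₀ hr3₀ hd hc C

end Cfsg.Agent.J4Type.CoordMain
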