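import Cfsg.Agent.J4Type.CoordMain

/-!
# J₄ type: `CentCoords` with `om = ω` (R07, helper565)
-/

set_option autoImplicit false

namespace Cfsg.Agent.J4Type.CoordMainW

open Cfsg Cfsg.Agent.J4Type Cfsg.Agent.J4Type.CoordPR Cfsg.Agent.J4Type.CentCoords
open Cfsg.Agent.J4Type.VCoord Cfsg.Agent.J4Type.CocodeMask
open Cfsg.Agent.SporadicA.FieldFour (F4)

universe u

variable {G : Type u} [Group G] [Finite G] {t : G} {Q N M : Subgroup (Subgroup.centralizer ({t} : Set G))}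
  {P : Subgroup.centralizer ({t} : Set G) →* Equiv.Perm GolayPt}

theorem sq_mem (H : Hyp t Q N M) {r : Subgroup.centralizer ({t} : Set G)} (hrQ : r ∉ Q) (hr3 : r ^ 3 = 1) :
    r ^ 2 ∉ Q ∧ (r ^ 2) ^ 3 = 1 := by
  refine ⟨?_, by rw [← pow_mul, mul_comm, pow_mul, hr3, one_pow]⟩
  intro h2
  apply hrQ
  have h4 : r = (r ^ 2) ^ 2 := by
    rw [← pow_mul, show 2 * 2 = 3 + 1 from rfl, pow_succ, hr3, one_mul]
  rw [h4]
  exact Q.pow_mem h2 2

/-- replacing `r` by `r²` replaces `om` by its square -/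
theorem exists_sq (H : Hyp t Q N M) (hP : IsP N M P) {r : Subgroup.centralizer ({t} : Set G)} (hr : r ∈ N)
    (hrQ : r ∉ Q) (hr3 : r ^ 3 = 1) (K : CentCoords (H.toCent hP hr hrQ hr3)) :
    ∃ K' : CentCoords (H.toCent hP (N.pow_mem hr 2) (sq_mem H hrQ hr3).1 (sq_mem H hrQ hr3).2),
      K'.om = K.om * K.om := by
  have h0 : ∀ x : F4, x ≠ 0 → x * x ≠ 0 := by decide
  have h1 : ∀ x : F4, x ≠ 1 → x * x ≠ 1 := by decide
  refine ⟨{ co := K.co
            co_mul := K.co_mul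
            co_z := K.co_z
            co_ker := K.co_ker
            co_surj := K.co_surj
            co_sq := K.co_sq
            om := K.om * K.om
            om_ne_zero := h0 _ K.om_ne_zero
            om_ne_one := h1 _ K.om_ne_one
            co_rho := ?_
            lin_s := K.lin_s
            lin_s' := K.lin_s'
            lin_b01 := K.lin_b01
            lin_b45 := K.lin_b45
            lin_c1 := K.lin_c1
            lin_c2 := K.lin_c2 }, rfl⟩
  intro q hq
  have hq' : (r : G) * q * (r : G)⁻¹ ∈ (H.toCent hP hr hrQ hr3).Q :=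
    (H.toCent hP hr hrQ hr3).Q_conj _ (H.toCent hP hr hrQ hr3).ρ_comm q hq
  have e1 : K.co ((r : G) * q * (r : G)⁻¹) = scm K.om (K.co q) := K.co_rho q hq
  have e2 : K.co ((r : G) * ((r : G) * q * (r : G)⁻¹) * (r : G)⁻¹) = scm K.om (K.co ((r : G) * q * (r : G)⁻¹)) :=
    K.co_rho _ hq'
  have e3 : (((r ^ 2 : Subgroup.centralizer ({t} : Set G)) : G) * q *
      ((r ^ 2 : Subgroup.centralizer ({t} : Set G)) : G)⁻¹) = (r : G) * ((r : G) * q * (r : G)⁻¹) * (r : G)⁻¹ := by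
    rw [Subgroup.coe_pow, pow_two]
    group
  show K.co (((r ^ 2 : Subgroup.centralizer ({t} : Set G)) : G) * q *
      ((r ^ 2 : Subgroup.centralizer ({t} : Set G)) : G)⁻¹) = _
  rw [e3, e2, e1]
  refine Prod.ext (funext fun k => ?_) (funext fun k => ?_)
  · exact (mul_assoc _ _ _).symm
  · exact (mul_assoc _ _ _).symm

/-- **`CentCoords` with `om = ω` for a suitable element `r` of order 3.** -/
theorem exists_w (H : Hyp t Q N M) (hP : IsP N M P)
    (hK : ∀ (r : Subgroup.centralizer ({t} : Set G)) (hr : r ∈ N) (hrQ : r ∉ Q) (hr3 : r ^ 3 = 1),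
      Nonempty (CentCoords (H.toCent hP hr hrQ hr3))) :
    ∃ (r : Subgroup.centralizer ({t} : Set G)) (hr : r ∈ N) (hrQ : r ∉ Q) (hr3 : r ^ 3 = 1)
      (K : CentCoords (H.toCent hP hr hrQ hr3)), K.om = .w := by
  obtain ⟨r, hr, hrQ, hr3⟩ := H.exists_r
  obtain ⟨K⟩ := hK r hr hrQ hr3
  have hc : ∀ x : F4, x ≠ 0 → x ≠ 1 → x = .w ∨ x * x = .w := by decide
  rcases hc K.om K.om_ne_zero K.om_ne_one with h | h
  · exact ⟨r, hr, hrQ, hr3, K, h⟩
  · obtain ⟨K', hK'⟩ := exists_sq H hP hr hrQ hr3 K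
    exact ⟨_, _, _, _, K', hK'.trans h⟩

/-- **`CentCoords` with `om = ω` from the relations.** -/
theorem exists_w_of_rels (H : Hyp t Q N M) (hP : IsP N M P)
    {c d : M24} (hd : ps * ps * d * ps = pc1) (hc : ps * ps * c * ps = pc2)
    (R : FrameRels.Rels ps ps' pb01 pb45 c d pu) :
    ∃ (r : Subgroup.centralizer ({t} : Set G)) (hr : r ∈ N) (hrQ : r ∉ Q) (hr3 : r ^ 3 = 1)
      (K : CentCoords (H.toCent hP hr hrQ hr3)), K.om = .w :=
  exists_w H hP fun _ hr hrQ hr3 => CoordMain.exists_centCoords_of_rels H hP hd hc R hr hrQ hr3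

end Cfsg.Agent.J4Type.CoordMainW
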