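import Cfsg.Agent.J4Type.POuter

/-!
# J₄ type: the relation `L p x` = "`x` is the action on `V` of some `c` with `P c = p`" (R07, helper856)
-/

set_option autoImplicit false

namespace Cfsg.Agent.J4Type.LRel

open Cfsg Cfsg.Agent.J4Type

section

variable {G : Type*} [Group G] [Finite G] {t : G} {Q N M : Subgroup (Subgroup.centralizer ({t} : Set G))}

/-- The relation `L p x`. -/
def L (H : Hyp t Q N M) (P : Subgroup.centralizer ({t} : Set G) →* Equiv.Perm GolayPt)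
    (p : Equiv.Perm GolayPt) (x : H.large.V ≃ₗ[ZMod 2] H.large.V) : Prop :=
  ∃ c : Subgroup.centralizer ({t} : Set G), P c = p ∧ x = H.large.act c

variable {P : Subgroup.centralizer ({t} : Set G) →* Equiv.Perm GolayPt}

theorem L_mul (H : Hyp t Q N M) {p p' : Equiv.Perm GolayPt} {x x' : H.large.V ≃ₗ[ZMod 2] H.large.V}
    (h : L H P p x) (h' : L H P p' x') : L H P (p * p') (x * x') := by
  obtain ⟨c, rfl, rfl⟩ := h
  obtain ⟨c', rfl, rfl⟩ := h'
  exact ⟨c * c', map_mul _ _ _, (map_mul _ _ _).symm⟩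

theorem L_inv (H : Hyp t Q N M) {p : Equiv.Perm GolayPt} {x : H.large.V ≃ₗ[ZMod 2] H.large.V}
    (h : L H P p x) : L H P p⁻¹ x⁻¹ := by
  obtain ⟨c, rfl, rfl⟩ := h
  exact ⟨c⁻¹, map_inv _ _, (map_inv _ _).symm⟩

theorem L_one (H : Hyp t Q N M) (hP : IsP N M P) {r : Subgroup.centralizer ({t} : Set G)} (hr : r ∈ N)
    (hrQ : r ∉ Q) (hr3 : r ^ 3 = 1) (x : H.large.V ≃ₗ[ZMod 2] H.large.V) :
    L H P 1 x ↔ x = 1 ∨ x = H.large.act r ∨ x = H.large.act r * H.large.act r := by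
  constructor
  · rintro ⟨c, hc, rfl⟩
    have h1 : c ∈ N := by rw [← hP.ker]; exact hc
    rcases H.act_N hr hrQ hr3 h1 with h | h | h
    · left; exact h
    · right; left; exact h
    · right; right
      rw [h, pow_two]
  · have h1 : P r = 1 := by rw [← MonoidHom.mem_ker, hP.ker]; exact hr
    rintro (h | h | h)
    · exact ⟨1, map_one _, by rw [h, map_one]⟩
    · exact ⟨r, h1, h⟩
    · exact ⟨r * r, by rw [map_mul, h1, one_mul], by rw [h, map_mul]⟩

theorem L_inj (H : Hyp t Q N M) (hP : IsP N M P) {p p' : Equiv.Perm GolayPt}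
    {x : H.large.V ≃ₗ[ZMod 2] H.large.V} (h : L H P p x) (h' : L H P p' x) : p = p' := by
  obtain ⟨c, rfl, rfl⟩ := h
  obtain ⟨c', rfl, e⟩ := h'
  have h1 := H.act_eq_act.1 e
  have h2 : P (c'⁻¹ * c) = 1 := by
    rw [← MonoidHom.mem_ker, hP.ker]; exact H.QN h1
  rw [map_mul, map_inv, inv_mul_eq_one] at h2
  exact h2.symm

theorem L_q (H : Hyp t Q N M) {p : Equiv.Perm GolayPt} {x : H.large.V ≃ₗ[ZMod 2] H.large.V}
    (h : L H P p x) (v : H.large.V) : H.large.q (x v) = H.large.q v := by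
  obtain ⟨c, rfl, rfl⟩ := h
  exact H.large.q_act c v

theorem L_comm (H : Hyp t Q N M) (hP : IsP N M P) {r : Subgroup.centralizer ({t} : Set G)} (hr : r ∈ N)
    {p : Equiv.Perm GolayPt} {x : H.large.V ≃ₗ[ZMod 2] H.large.V} (h : L H P p x) (hp : p none = none) :
    x * H.large.act r = H.large.act r * x := by
  obtain ⟨c, rfl, rfl⟩ := h
  exact H.act_comm ((hP.mem c).2 hp) hr

theorem L_outer (H : Hyp t Q N M) (hP : IsP N M P) {r : Subgroup.centralizer ({t} : Set G)} (hr : r ∈ N)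
    (hrQ : r ∉ Q) (hr3 : r ^ 3 = 1) {p : Equiv.Perm GolayPt} {x : H.large.V ≃ₗ[ZMod 2] H.large.V}
    (h : L H P p x) (hp : p none ≠ none) : x * H.large.act r = (H.large.act r)⁻¹ * x := by
  obtain ⟨c, rfl, rfl⟩ := h
  exact H.outer_inv' hP hr hrQ hr3 (fun h => hp ((hP.mem c).1 h))

theorem L_exists (H : Hyp t Q N M) (hP : IsP N M P) {p : Equiv.Perm GolayPt} (hp : p ∈ M22d) :
    ∃ x, L H P p x := by
  rw [← hP.range] at hp
  obtain ⟨c, rfl⟩ := hp
  exact ⟨_, c, rfl, rfl⟩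

/-- lifts of commuting `p`, `p'` of order 3, generating a group of order 9, do not commute -/
theorem L_not_comm (H : Hyp t Q N M) (hP : IsP N M P) {p p' : Equiv.Perm GolayPt}
    {x x' : H.large.V ≃ₗ[ZMod 2] H.large.V}
    (h : L H P p x) (h' : L H P p' x') (hp0 : p none = none) (hp0' : p' none = none)
    (h3 : p ^ 3 = 1) (h3' : p' ^ 3 = 1) (hcomm : p * p' = p' * p)
    (hp : p ≠ 1) (hn1 : p' ≠ 1) (hn2 : p' ≠ p) (hn3 : p' ≠ p ^ 2) : x * x' ≠ x' * x := by
  obtain ⟨c, rfl, rfl⟩ := h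
  obtain ⟨c', rfl, rfl⟩ := h'
  exact H.not_comm hP.ker hP.map ((hP.mem c).2 hp0) ((hP.mem c').2 hp0') h3 h3' hcomm hp hn1 hn2 hn3

end

end Cfsg.Agent.J4Type.LRel
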