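import Cfsg.Agent.J4Type.CoordPR
import Cfsg.Agent.J4Type.LRel

/-!
# J₄ type: from the hypotheses to `PR`, and from coordinates to `CentCoords` (R07, helper565)

* `modF` : the `F₄`-structure given by an element `T` with `1 + T + T² = 0`;
* `exists_PR` : the structure `PR` on `H.large.V`;
* `exists_centCoords` : `CentCoords (H.toCent hP hr hrQ hr3)` from the existence of coordinates for every `PR`.
-/

set_option autoImplicit false

namespace Cfsg.Agent.J4Type.CoordOut

open Cfsg Cfsg.Agent.J4Type Cfsg.Agent.J4Type.CoordPR Cfsg.Agent.J4Type.CentCoords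
open Cfsg.Agent.J4Type.VCoord Cfsg.Agent.J4Type.CocodeMask
open Cfsg.Agent.SporadicA.FieldFour (F4)

universe u

section Mod

variable {V : Type*} [AddCommGroup V]

/-- the scalar multiplication given by `T` -/
def smulF (T : V → V) : F4 → V → V
  | .z, _ => 0
  | .o, v => v
  | .w, v => T v
  | .v, v => T (T v)

theorem cube_eq (T : V →+ V) (hT : ∀ v, v + T v + T (T v) = 0) (v : V) : T (T (T v)) = v := by
  have h1 := hT v
  have h2 := congrArg T h1
  rw [map_add, map_add, map_zero] at h2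
  have h3 : T (T (T v)) = -(T v + T (T v)) := by
    rw [eq_neg_iff_add_eq_zero, add_comm]; exact h2
  have h4 : v = -(T v + T (T v)) := by
    rw [eq_neg_iff_add_eq_zero, ← add_assoc]; exact h1
  rw [h3, ← h4]

/-- the `F₄`-space given by `T` with `1 + T + T² = 0` -/
@[reducible] def modF (T : V →+ V) (h2 : ∀ v : V, v + v = 0) (hT : ∀ v, v + T v + T (T v) = 0) : Module F4 V where
  smul := smulF T
  one_smul _ := rfl
  mul_smul a b v := by
    have h3 := cube_eq T hT
    cases a <;> cases b <;> first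
      | rfl
      | exact (map_zero T).symm
      | exact (h3 v).symm
      | (show (0 : V) = T (T 0); rw [map_zero, map_zero])
      | (show T v = T (T (T (T v))); rw [h3])
  smul_zero a := by
    cases a
    · rfl
    · rfl
    · exact map_zero T
    · show T (T 0) = 0
      rw [map_zero, map_zero]
  smul_add a v w := by
    cases a
    · exact (add_zero (0 : V)).symm
    · rfl
    · exact map_add T v w
    · show T (T (v + w)) = T (T v) + T (T w)
      rw [map_add, map_add]
  add_smul a b v := by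
    have hn : ∀ x y : V, x + y = 0 → x = y := fun x y h => by
      rw [← h2 y] at h; exact add_right_cancel h
    have e := hT v
    cases a <;> cases b <;> first
      | exact (zero_add _).symm
      | exact (add_zero _).symm
      | exact (h2 _).symm
      | (show T (T v) = v + T v; exact hn _ _ (by rw [← e]; abel))
      | (show T (T v) = T v + v; exact hn _ _ (by rw [← e]; abel))
      | (show T v = v + T (T v); exact hn _ _ (by rw [← e]; abel))
      | (show T v = T (T v) + v; exact hn _ _ (by rw [← e]; abel))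
      | (show v = T v + T (T v); exact hn _ _ (by rw [← e]; abel))
      | (show v = T (T v) + T v; exact hn _ _ (by rw [← e]; abel))
  zero_smul _ := rfl

end Mod

section

variable {G : Type u} [Group G] [Finite G] {t : G} {Q N M : Subgroup (Subgroup.centralizer ({t} : Set G))}
  {P : Subgroup.centralizer ({t} : Set G) →* Equiv.Perm GolayPt}

/-- the `F₄`-structure on `V` given by `r` -/
@[reducible] noncomputable def mod (H : Hyp t Q N M) {r : Subgroup.centralizer ({t} : Set G)} (hr : r ∈ N)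
    (hrQ : r ∉ Q) (hr3 : r ^ 3 = 1) : Module F4 H.large.V :=
  modF ((H.large.act r : H.large.V →ₗ[ZMod 2] H.large.V) : H.large.V →+ H.large.V) H.large.add_self
    (fun v => H.rho_sum hr hrQ hr3 v)

/-- an additive equivalence commuting with `r` is `F₄`-linear -/
noncomputable def linF (H : Hyp t Q N M) {r : Subgroup.centralizer ({t} : Set G)} (hr : r ∈ N)
    (hrQ : r ∉ Q) (hr3 : r ^ 3 = 1) (x : H.large.V ≃ₗ[ZMod 2] H.large.V)
    (hx : x * H.large.act r = H.large.act r * x) :
    letI := mod H hr hrQ hr3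
    H.large.V ≃ₗ[F4] H.large.V :=
  letI := mod H hr hrQ hr3
  { x with
    map_smul' := by
      have e : ∀ v, x (H.large.act r v) = H.large.act r (x v) := fun v => LinearEquiv.congr_fun hx v
      intro a v
      cases a
      · exact map_zero x
      · rfl
      · exact e v
      · show x (H.large.act r (H.large.act r v)) = H.large.act r (H.large.act r (x v))
        rw [e, e] }

/-- the structure `PR` on `V` -/
noncomputable def thePR (H : Hyp t Q N M) (hP : IsP N M P) {r : Subgroup.centralizer ({t} : Set G)} (hr : r ∈ N)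
    (hrQ : r ∉ Q) (hr3 : r ^ 3 = 1)
    (hcm : ∀ c c', P c = ps → P c' = ps' →
      H.large.act c * H.large.act c' = H.large.act r * (H.large.act c' * H.large.act c)) :
    letI := mod H hr hrQ hr3
    PR H.large.V :=
  letI := mod H hr hrQ hr3
  { q := H.large.q
    B := fun u v => H.large.b u v
    L := fun p x => ∃ c : Subgroup.centralizer ({t} : Set G), P c = p ∧ ∀ v, x v = H.large.act c v
    card := H.card_V
    q_add := H.large.q_add'
    B_add := fun u v w => by rw [map_add]; rfl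
    B_comm := H.large.b_comm
    nondeg := fun u hu => H.large.b_nondeg hu
    q_smul := by
      intro γ v hγ
      cases γ
      · exact absurd rfl hγ
      · rfl
      · exact H.large.q_act r v
      · exact (H.large.q_act r _).trans (H.large.q_act r v)
    L_one := by
      intro x
      constructor
      · rintro ⟨c, hc, hx⟩
        have h1 : c ∈ N := by rw [← hP.ker]; exact hc
        rcases H.act_N hr hrQ hr3 h1 with h | h | h
        · exact ⟨.o, by decide, fun v => by rw [hx, h]; rfl⟩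
        · exact ⟨.w, by decide, fun v => by rw [hx, h]; rfl⟩
        · exact ⟨.v, by decide, fun v => by rw [hx, h]; rfl⟩
      · have h1 : P r = 1 := by rw [← MonoidHom.mem_ker, hP.ker]; exact hr
        rintro ⟨γ, hγ, hx⟩
        cases γ
        · exact absurd rfl hγ
        · exact ⟨1, map_one _, fun v => by rw [hx, map_one]; rfl⟩
        · exact ⟨r, h1, fun v => by rw [hx]; rfl⟩
        · exact ⟨r * r, by rw [map_mul, h1, one_mul]; rfl, fun v => by rw [hx, map_mul]; rfl⟩
    L_mul := by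
      rintro p p' x x' ⟨c, hc, hx⟩ ⟨c', hc', hx'⟩
      refine ⟨c * c', by rw [map_mul, hc, hc']; rfl, fun v => ?_⟩
      rw [map_mul]
      show x (x' v) = H.large.act c (H.large.act c' v)
      rw [hx, hx']
    L_inv := by
      rintro p x ⟨c, hc, hx⟩
      refine ⟨c⁻¹, by rw [map_inv, hc]; rfl, fun v => ?_⟩
      rw [map_inv]
      apply (H.large.act c).injective
      rw [← hx]
      show x (x⁻¹ v) = H.large.act c ((H.large.act c)⁻¹ v)
      exact (x.apply_symm_apply v).trans ((H.large.act c).apply_symm_apply v).symm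
    L_inj := by
      rintro p p' x ⟨c, hc, hx⟩ ⟨c', hc', hx'⟩
      apply Subtype.ext
      refine LRel.L_inj H hP (x := H.large.act c) ⟨c, hc, rfl⟩ ⟨c', hc', ?_⟩
      ext v
      rw [← hx, ← hx']
    L_q := by
      rintro p x ⟨c, hc, hx⟩ v
      rw [hx]
      exact H.large.q_act c v
    L_exists := by
      intro p hp
      have h1 : (p : Equiv.Perm GolayPt) ∈ M22d := by
        refine M22_le ⟨⟨p.2, hp.1⟩, hp.2⟩
      rw [← hP.range] at h1
      obtain ⟨c, hc⟩ := h1
      have hcM : c ∈ M := (hP.mem c).2 (by rw [hc]; exact hp.1)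
      exact ⟨linF H hr hrQ hr3 (H.large.act c) (H.act_comm hcM hr), c, hc, fun v => rfl⟩
    comm := by
      rintro x x' ⟨c, hc, hx⟩ ⟨c', hc', hx'⟩ v
      have h1 := LinearEquiv.congr_fun (hcm c c' hc hc') v
      rw [hx, hx', hx', hx]
      exact h1 }

/-- the coordinates `co` satisfy the linear conditions for `pb01`, `pb45`, `pc1`, `pc2` -/
structure LinB {V : Type*} [AddCommGroup V] [Module F4 V] {R : PR V} (C : Co R) : Prop where
  b01 : ∀ x, R.L pb01 x → ∃ γ : F4, γ ≠ 0 ∧ ∀ v, C.co (x v) = γ • MB01 (C.co v)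
  b45 : ∀ x, R.L pb45 x → ∃ γ : F4, γ ≠ 0 ∧ ∀ v, C.co (x v) = γ • MB45 (C.co v)
  c1 : ∀ x, R.L pc1 x → ∃ γ : F4, γ ≠ 0 ∧ ∀ v, C.co (x v) = γ • MC1 (C.co v)
  c2 : ∀ x, R.L pc2 x → ∃ γ : F4, γ ≠ 0 ∧ ∀ v, C.co (x v) = γ • MC2 (C.co v)

/-- the function `G → V6` defined by coordinates of `V` -/
noncomputable def coG (H : Hyp t Q N M) (co : H.large.V → V6) (g : G) : V6 := by
  classical
  exact if h : g ∈ Q.map (Subgroup.centralizer ({t} : Set G)).subtype then co (H.large.pr ⟨g, h⟩) else 0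

theorem coG_eq (H : Hyp t Q N M) (co : H.large.V → V6) {g : G}
    (h : g ∈ Q.map (Subgroup.centralizer ({t} : Set G)).subtype) :
    coG H co g = co (H.large.pr ⟨g, h⟩) := by
  rw [coG, dif_pos h]

/-- conjugation corresponds to the action -/
theorem coG_conj (H : Hyp t Q N M) (co : H.large.V → V6) {g : G}
    (h : g ∈ Q.map (Subgroup.centralizer ({t} : Set G)).subtype) (c : Subgroup.centralizer ({t} : Set G)) :
    coG H co ((c : G) * g * (c : G)⁻¹) = co (H.large.act c (H.large.pr ⟨g, h⟩)) := by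
  rw [coG_eq H co (H.large.conj_mem_cent c ⟨g, h⟩), H.large.act_pr]
  rfl

/-- `CentCoords` for `r₀` acting as `ω` or `ω²` -/
theorem centCoords_of (H : Hyp t Q N M) (hP : IsP N M P) {r : Subgroup.centralizer ({t} : Set G)} (hr : r ∈ N)
    (hrQ : r ∉ Q) (hr3 : r ^ 3 = 1)
    (hcm : ∀ c c', P c = ps → P c' = ps' →
      H.large.act c * H.large.act c' = H.large.act r * (H.large.act c' * H.large.act c))
    {r₀ : Subgroup.centralizer ({t} : Set G)} (hr₀ : r₀ ∈ N) (hrQ₀ : r₀ ∉ Q) (hr3₀ : r₀ ^ 3 = 1)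
    (C : letI := mod H hr hrQ hr3; Co (thePR H hP hr hrQ hr3 hcm))
    (hC : letI := mod H hr hrQ hr3; LinB C) :
    Nonempty (CentCoords (H.toCent hP hr₀ hrQ₀ hr3₀)) := by
  letI := mod H hr hrQ hr3
  -- lifts
  have hlift : ∀ c : Subgroup.centralizer ({t} : Set G), P c none = none → ∀ p : M24, P c = p →
      ∃ x, (thePR H hP hr hrQ hr3 hcm).L p x ∧ ∀ v, x v = H.large.act c v := by
    intro c hc0 p hc
    have hcM : c ∈ M := (hP.mem c).2 hc0
    exact ⟨linF H hr hrQ hr3 (H.large.act c) (H.act_comm hcM hr), ⟨c, hc, fun v => rfl⟩, fun v => rfl⟩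
  have hlin : ∀ (p : M24) (Mm : V6 → V6), Inn p →
      (∀ x, (thePR H hP hr hrQ hr3 hcm).L p x → ∃ γ : F4, γ ≠ 0 ∧ ∀ v, C.co (x v) = γ • Mm (C.co v)) →
      Lin (H.toCent hP hr₀ hrQ₀ hr3₀) (coG H C.co) p Mm := by
    intro p Mm hp h c hc
    have hc' : P c = p := hc
    obtain ⟨x, hx, hxc⟩ := hlift c (by rw [hc']; exact hp.1) p hc'
    obtain ⟨γ, hγ, h1⟩ := h x hx
    refine ⟨γ, hγ, fun q hq => ?_⟩
    have h2 := h1 (H.large.pr ⟨q, hq⟩)
    rw [hxc] at h2
    rw [coG_conj H C.co hq c, coG_eq H C.co hq, h2]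
    rfl
  have hac : ∃ γ : F4, γ ≠ 0 ∧ γ ≠ 1 ∧ ∀ v : H.large.V, H.large.act r₀ v = γ • v := by
    rcases H.act_N hr hrQ hr3 hr₀ with h | h | h
    · exact absurd (H.act_eq_one.1 h) hrQ₀
    · exact ⟨.w, by decide, by decide, fun v => by rw [h]; rfl⟩
    · exact ⟨.v, by decide, by decide, fun v => by rw [h]; rfl⟩
  obtain ⟨om, hom0, hom1, hom⟩ := hac
  refine ⟨{
    co := coG H C.co
    co_mul := ?_
    co_z := ?_
    co_ker := ?_
    co_surj := ?_
    co_sq := ?_
    om := om
    om_ne_zero := hom0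
    om_ne_one := hom1
    co_rho := ?_
    lin_s := ?_
    lin_s' := ?_
    lin_b01 := ?_
    lin_b45 := ?_
    lin_c1 := ?_
    lin_c2 := ?_ }⟩
  · intro q hq r hr
    rw [coG_eq H C.co hq, coG_eq H C.co hr, coG_eq H C.co (mul_mem hq hr), ← map_add, ← H.large.pr_mul]
    rfl
  · have h1 : t ∈ Q.map (Subgroup.centralizer ({t} : Set G)).subtype := H.large.z_mem
    show coG H C.co t = 0
    rw [coG_eq H C.co h1, (H.large.pr_eq_zero).2 (Or.inr rfl), map_zero]
  · intro q hq h
    rw [coG_eq H C.co hq, map_eq_zero_iff C.co C.co.injective] at h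
    exact (H.large.pr_eq_zero).1 h
  · intro v
    obtain ⟨⟨q, hq⟩, hq'⟩ := H.large.pr_surjective (C.co.symm v)
    refine ⟨q, hq, ?_⟩
    rw [coG_eq H C.co hq, hq', LinearEquiv.apply_symm_apply]
  · intro q hq
    rw [coG_eq H C.co hq, ← C.q_co]
    exact (H.large.q_eq_zero (x := ⟨q, hq⟩)).symm
  · intro q hq
    show coG H C.co ((r₀ : G) * q * (r₀ : G)⁻¹) = _
    rw [coG_conj H C.co hq r₀, hom, map_smul, coG_eq H C.co hq]
    rfl
  · intro p hp
    rw [hp.eq tab_s]
    exact hlin ps MDg inn_s C.co_s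
  · intro p hp
    rw [hp.eq tab_s']
    exact hlin ps' MSh inn_s' C.co_s'
  · intro p hp
    rw [hp.eq tab_b01]
    exact hlin pb01 MB01 inn_b01 hC.b01
  · intro p hp
    rw [hp.eq tab_b45]
    exact hlin pb45 MB45 inn_b45 hC.b45
  · intro p hp
    rw [hp.eq tab_c1]
    exact hlin pc1 MC1 inn_c1 hC.c1
  · intro p hp
    rw [hp.eq tab_c2]
    exact hlin pc2 MC2 inn_c2 hC.c2

theorem comm_aux {X : Type*} [Group X] {n₁ n₂ a b : X} (k1 : Commute n₁ a) (k2 : Commute n₁ b)
    (k3 : Commute n₂ a) (k4 : Commute n₂ b) (k5 : Commute n₁ n₂) :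
    n₁ * a * (n₂ * b) * (n₂ * b * (n₁ * a))⁻¹ = a * b * (b * a)⁻¹ := by
  have f1 : n₁ * a * (n₂ * b) = n₁ * n₂ * (a * b) := by
    rw [mul_assoc, ← mul_assoc a, ← k3.eq, mul_assoc n₂, ← mul_assoc]
  have f2 : n₂ * b * (n₁ * a) = n₁ * n₂ * (b * a) := by
    rw [mul_assoc, ← mul_assoc b, ← k2.eq, mul_assoc n₁, ← mul_assoc, k5.eq]
  have f3 : Commute (n₁ * n₂) (a * b * (b * a)⁻¹) :=
    (((k1.mul_right k2).mul_left (k3.mul_right k4))).mul_right
      (((k2.mul_right k1).mul_left (k4.mul_right k3)).inv_right)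
  rw [f1, f2, mul_inv_rev (n₁ * n₂)]
  have f4 : n₁ * n₂ * (a * b) * ((b * a)⁻¹ * (n₁ * n₂)⁻¹) = n₁ * n₂ * (a * b * (b * a)⁻¹) * (n₁ * n₂)⁻¹ := by
    simp only [mul_assoc]
  rw [f4, f3.eq, mul_inv_cancel_right]

/-- some element of order 3 of `N` is the commutator of all pairs of lifts of `ps`, `ps'` -/
theorem exists_comm (H : Hyp t Q N M) (hP : IsP N M P) :
    ∃ r : Subgroup.centralizer ({t} : Set G), r ∈ N ∧ r ∉ Q ∧ r ^ 3 = 1 ∧
      ∀ c c', P c = ps → P c' = ps' →
        H.large.act c * H.large.act c' = H.large.act r * (H.large.act c' * H.large.act c) := by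
  obtain ⟨r, hr, hrQ, hr3⟩ := H.exists_r
  have hmem : ∀ p : M24, Inn p → (p : Equiv.Perm GolayPt) ∈ P.range := by
    intro p hp
    rw [hP.range]
    exact M22_le ⟨⟨p.2, hp.1⟩, hp.2⟩
  obtain ⟨c₁, h₁⟩ := hmem ps inn_s
  obtain ⟨c₂, h₂⟩ := hmem ps' inn_s'
  have hM₁ : c₁ ∈ M := (hP.mem _).2 (by rw [h₁]; exact inn_s.1)
  have hM₂ : c₂ ∈ M := (hP.mem _).2 (by rw [h₂]; exact inn_s'.1)
  have hn : ∀ g h : M24, g ≠ h → (g : Equiv.Perm GolayPt) ≠ h := fun g h e e' => e (Subtype.ext e')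
  have hcube : ∀ g : M24, g * g * g = 1 → (g : Equiv.Perm GolayPt) ^ 3 = 1 := by
    intro g hg
    have h1 : (g : Equiv.Perm GolayPt) * g * g = 1 := congrArg Subtype.val hg
    rw [pow_succ, pow_two]; exact h1
  have hps2 : P c₂ ≠ P c₁ ^ 2 := by
    rw [h₁, h₂, pow_two]
    exact hn _ _ s'_ne_s2
  have hcomm : P c₁ * P c₂ = P c₂ * P c₁ := by
    rw [h₁, h₂]
    exact congrArg Subtype.val s_comm
  have hne := H.not_comm hP.ker hP.map hM₁ hM₂ (by rw [h₁]; exact hcube _ s_cube)
    (by rw [h₂]; exact hcube _ s'_cube) hcomm (by rw [h₁]; exact hn _ _ s_ne)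
    (by rw [h₂]; exact hn _ _ s'_ne) (by rw [h₁, h₂]; exact hn _ _ s'_ne_s) hps2
  -- the commutator of the two lifts
  have hcN : c₁ * c₂ * (c₂ * c₁)⁻¹ ∈ N := by
    rw [← hP.ker, MonoidHom.mem_ker, map_mul, map_inv, map_mul, map_mul, hcomm, mul_inv_cancel]
  -- general lifts
  have hgen : ∀ c c', P c = ps → P c' = ps' →
      H.large.act c * H.large.act c' * (H.large.act c' * H.large.act c)⁻¹
        = H.large.act (c₁ * c₂ * (c₂ * c₁)⁻¹) := by
    intro c c' hc hc'
    have hn₁ : c * c₁⁻¹ ∈ N := by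
      rw [← hP.ker, MonoidHom.mem_ker, map_mul, map_inv, hc, h₁, mul_inv_cancel]
    have hn₂ : c' * c₂⁻¹ ∈ N := by
      rw [← hP.ker, MonoidHom.mem_ker, map_mul, map_inv, hc', h₂, mul_inv_cancel]
    have e₁ : H.large.act c = H.large.act (c * c₁⁻¹) * H.large.act c₁ := by
      rw [← map_mul, inv_mul_cancel_right]
    have e₂ : H.large.act c' = H.large.act (c' * c₂⁻¹) * H.large.act c₂ := by
      rw [← map_mul, inv_mul_cancel_right]
    have k1 : Commute (H.large.act (c * c₁⁻¹)) (H.large.act c₁) := (H.act_comm hM₁ hn₁).symm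
    have k2 : Commute (H.large.act (c * c₁⁻¹)) (H.large.act c₂) := (H.act_comm hM₂ hn₁).symm
    have k3 : Commute (H.large.act (c' * c₂⁻¹)) (H.large.act c₁) := (H.act_comm hM₁ hn₂).symm
    have k4 : Commute (H.large.act (c' * c₂⁻¹)) (H.large.act c₂) := (H.act_comm hM₂ hn₂).symm
    have k5 : Commute (H.large.act (c * c₁⁻¹)) (H.large.act (c' * c₂⁻¹)) :=
      (H.act_comm (H.NM hn₂) hn₁).symm
    have k6 : H.large.act (c₁ * c₂ * (c₂ * c₁)⁻¹)
        = H.large.act c₁ * H.large.act c₂ * (H.large.act c₂ * H.large.act c₁)⁻¹ := by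
      simp only [map_mul, map_inv]
    rw [e₁, e₂, k6]
    exact comm_aux k1 k2 k3 k4 k5
  -- the choice of `r`
  have key : ∃ r' : Subgroup.centralizer ({t} : Set G), r' ∈ N ∧ r' ∉ Q ∧ r' ^ 3 = 1 ∧
      H.large.act r' = H.large.act (c₁ * c₂ * (c₂ * c₁)⁻¹) := by
    rcases H.act_N hr hrQ hr3 hcN with h | h | h
    · exfalso
      apply hne
      rw [← map_mul, ← map_mul, ← mul_inv_eq_one, ← map_inv, ← map_mul, h]
    · exact ⟨r, hr, hrQ, hr3, h.symm⟩
    · refine ⟨r ^ 2, N.pow_mem hr 2, ?_, ?_, by rw [h, map_pow]⟩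
      · intro h2
        apply hrQ
        have h4 : r = (r ^ 2) ^ 2 := by
          rw [← pow_mul, show 2 * 2 = 3 + 1 from rfl, pow_succ, hr3, one_mul]
        rw [h4]
        exact Q.pow_mem h2 2
      · rw [← pow_mul, mul_comm, pow_mul, hr3, one_pow]
  obtain ⟨r', h1, h2, h3, h4⟩ := key
  refine ⟨r', h1, h2, h3, fun c c' hc hc' => ?_⟩
  rw [h4, ← hgen c c' hc hc', inv_mul_cancel_right]

/-- **`CentCoords` from the existence of coordinates of every `PR`.** -/
theorem exists_centCoords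
    (hco : ∀ (V : Type u) [AddCommGroup V] [Module F4 V] (R : PR V), ∃ C : Co R, LinB C)
    (H : Hyp t Q N M) (hP : IsP N M P)
    {r₀ : Subgroup.centralizer ({t} : Set G)} (hr₀ : r₀ ∈ N) (hrQ₀ : r₀ ∉ Q) (hr3₀ : r₀ ^ 3 = 1) :
    Nonempty (CentCoords (H.toCent hP hr₀ hrQ₀ hr3₀)) := by
  obtain ⟨r, hr, hrQ, hr3, hcm⟩ := exists_comm H hP
  letI := mod H hr hrQ hr3
  obtain ⟨C, hC⟩ := hco H.large.V (thePR H hP hr hrQ hr3 hcm)
  exact centCoords_of H hP hr hrQ hr3 hcm hr₀ hrQ₀ hr3₀ C hC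

end

end Cfsg.Agent.J4Type.CoordOut
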