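import Cfsg.Agent.J4Type.CoordOut
import Cfsg.Agent.J4Type.FramePR

/-!
# J₄ type: from the hypotheses to helper494's `FramePR.PR` (R07, helper565)
-/

set_option autoImplicit false

namespace Cfsg.Agent.J4Type.CoordOutB

open Cfsg Cfsg.Agent.J4Type Cfsg.Agent.J4Type.CoordPR Cfsg.Agent.J4Type.CentCoords
open Cfsg.Agent.J4Type.VCoord Cfsg.Agent.J4Type.CocodeMask Cfsg.Agent.J4Type.CoordOut
open Cfsg.Agent.SporadicA.FieldFour (F4)

universe u

/-- the inner elements of `M24` -/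
def InnSub : Subgroup M24 where
  carrier := {p | Inn p}
  mul_mem' h h' := h.mul h'
  one_mem' := ⟨rfl, rfl⟩
  inv_mem' h := h.inv

theorem mem_InnSub {p : M24} : p ∈ InnSub ↔ Inn p := Iff.rfl

variable {G : Type u} [Group G] [Finite G] {t : G} {Q N M : Subgroup (Subgroup.centralizer ({t} : Set G))}
  {P : Subgroup.centralizer ({t} : Set G) →* Equiv.Perm GolayPt}

/-- the projective action of `M24` on `V` -/
noncomputable def framePR (H : Hyp t Q N M) (hP : IsP N M P) {r : Subgroup.centralizer ({t} : Set G)}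
    (hr : r ∈ N) (hrQ : r ∉ Q) (hr3 : r ^ 3 = 1) : FramePR.PR M24 H.large.V where
  In := InnSub
  L := fun p x => LRel.L H P p x
  ρ := H.large.act r
  q := H.large.q
  b := fun u v => H.large.b u v
  mul := fun h h' => LRel.L_mul H h h'
  inv := fun h => LRel.L_inv H h
  one := fun x => LRel.L_one H hP hr hrQ hr3 x
  inj := fun h h' => Subtype.ext (LRel.L_inj H hP h h')
  ex := by
    intro p hp
    exact LRel.L_exists H hP (M22_le ⟨⟨p.2, (mem_InnSub.1 hp).1⟩, (mem_InnSub.1 hp).2⟩)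
  comm := fun p hp x hx => LRel.L_comm H hP hr hx (mem_InnSub.1 hp).1
  q_L := fun h v => LRel.L_q H h v
  q_add := H.large.q_add'
  b_add := fun u v w => by rw [map_add]; rfl
  b_comm := H.large.b_comm
  b_nondeg := fun v hv => H.large.b_nondeg hv
  sum := fun v => H.rho_sum hr hrQ hr3 v

/-- the commutator of lifts of `ps`, `ps'` -/
theorem exists_comm' (H : Hyp t Q N M) (hP : IsP N M P) :
    ∃ r : Subgroup.centralizer ({t} : Set G), ∃ (hr : r ∈ N) (hrQ : r ∉ Q) (hr3 : r ^ 3 = 1),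
      ∀ x x', (framePR H hP hr hrQ hr3).L ps x → (framePR H hP hr hrQ hr3).L ps' x' →
        x * x' = (framePR H hP hr hrQ hr3).ρ * (x' * x) := by
  obtain ⟨r, hr, hrQ, hr3, h⟩ := exists_comm H hP
  refine ⟨r, hr, hrQ, hr3, ?_⟩
  rintro x x' ⟨c, hc, rfl⟩ ⟨c', hc', rfl⟩
  exact h c c' hc hc'

/-- `CentCoords` from coordinates of `V`, elementary version -/
theorem centCoords_of' (H : Hyp t Q N M) (hP : IsP N M P) {r : Subgroup.centralizer ({t} : Set G)} (hr : r ∈ N)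
    (hrQ : r ∉ Q) (hr3 : r ^ 3 = 1)
    {r₀ : Subgroup.centralizer ({t} : Set G)} (hr₀ : r₀ ∈ N) (hrQ₀ : r₀ ∉ Q) (hr3₀ : r₀ ^ 3 = 1)
    (co : H.large.V → V6) (hadd : ∀ u v, co (u + v) = co u + co v) (hinj : Function.Injective co)
    (hsurj : Function.Surjective co) (hq : ∀ v, H.large.q v = tr (hp3 (co v).1 (co v).2))
    (hom : ∀ v, co (H.large.act r v) = scm .w (co v))
    (hlin : ∀ (p : M24) (Mm : V6 → V6), (p = ps ∧ Mm = MDg) ∨ (p = ps' ∧ Mm = MSh) ∨ (p = pb01 ∧ Mm = MB01) ∨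
      (p = pb45 ∧ Mm = MB45) ∨ (p = pc1 ∧ Mm = MC1) ∨ (p = pc2 ∧ Mm = MC2) →
      ∀ x, LRel.L H P p x → ∃ γ : F4, γ ≠ 0 ∧ ∀ v, co (x v) = scm γ (Mm (co v))) :
    Nonempty (CentCoords (H.toCent hP hr₀ hrQ₀ hr3₀)) := by
  have h0 : co 0 = 0 := by
    have h := hadd 0 0
    rw [add_zero] at h
    exact left_eq_add.1 h
  have hl : ∀ (p : M24) (Mm : V6 → V6),
      (∀ x, LRel.L H P p x → ∃ γ : F4, γ ≠ 0 ∧ ∀ v, co (x v) = scm γ (Mm (co v))) →
      Lin (H.toCent hP hr₀ hrQ₀ hr3₀) (coG H co) p Mm := by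
    intro p Mm h c hc
    obtain ⟨γ, hγ, h1⟩ := h (H.large.act c) ⟨c, hc, rfl⟩
    refine ⟨γ, hγ, fun q hq => ?_⟩
    rw [coG_conj H co hq c, coG_eq H co hq, h1]
  have hsc : ∀ v : V6, scm .w (scm .w v) = scm .v v := by
    intro v
    refine Prod.ext (funext fun k => ?_) (funext fun k => ?_)
    · exact (mul_assoc _ _ _).symm
    · exact (mul_assoc _ _ _).symm
  have hac : ∃ γ : F4, γ ≠ 0 ∧ γ ≠ 1 ∧ ∀ v : H.large.V, co (H.large.act r₀ v) = scm γ (co v) := by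
    rcases H.act_N hr hrQ hr3 hr₀ with h | h | h
    · exact absurd (H.act_eq_one.1 h) hrQ₀
    · exact ⟨.w, by decide, by decide, fun v => by rw [h, hom]⟩
    · refine ⟨.v, by decide, by decide, fun v => ?_⟩
      rw [h, pow_two]
      show co (H.large.act r (H.large.act r v)) = _
      rw [hom, hom, hsc]
  obtain ⟨om, hom0, hom1, hom'⟩ := hac
  refine ⟨{
    co := coG H co
    co_mul := ?_
    co_z := ?_
    co_ker := ?_
    co_surj := ?_
    co_sq := ?_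
    om := om
    om_ne_zero := hom0
    om_ne_one := hom1
    co_rho := ?_
    lin_s := ?_
    lin_s' := ?_
    lin_b01 := ?_
    lin_b45 := ?_
    lin_c1 := ?_
    lin_c2 := ?_ }⟩
  · intro q hq r hr
    rw [coG_eq H co hq, coG_eq H co hr, coG_eq H co (mul_mem hq hr), ← hadd, ← H.large.pr_mul]
    rfl
  · have h1 : t ∈ Q.map (Subgroup.centralizer ({t} : Set G)).subtype := H.large.z_mem
    show coG H co t = 0
    rw [coG_eq H co h1, (H.large.pr_eq_zero).2 (Or.inr rfl), h0]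
  · intro q hq h
    rw [coG_eq H co hq] at h
    exact (H.large.pr_eq_zero).1 (hinj (h.trans h0.symm))
  · intro v
    obtain ⟨w, hw⟩ := hsurj v
    obtain ⟨⟨q, hq⟩, hq'⟩ := H.large.pr_surjective w
    refine ⟨q, hq, ?_⟩
    rw [coG_eq H co hq, hq', hw]
  · intro q hq'
    rw [coG_eq H co hq', ← hq]
    exact (H.large.q_eq_zero (x := ⟨q, hq'⟩)).symm
  · intro q hq
    show coG H co ((r₀ : G) * q * (r₀ : G)⁻¹) = _
    rw [coG_conj H co hq r₀, hom', coG_eq H co hq]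
  · intro p hp
    rw [hp.eq tab_s]
    exact hl ps MDg (hlin _ _ (Or.inl ⟨rfl, rfl⟩))
  · intro p hp
    rw [hp.eq tab_s']
    exact hl ps' MSh (hlin _ _ (Or.inr (Or.inl ⟨rfl, rfl⟩)))
  · intro p hp
    rw [hp.eq tab_b01]
    exact hl pb01 MB01 (hlin _ _ (Or.inr (Or.inr (Or.inl ⟨rfl, rfl⟩))))
  · intro p hp
    rw [hp.eq tab_b45]
    exact hl pb45 MB45 (hlin _ _ (Or.inr (Or.inr (Or.inr (Or.inl ⟨rfl, rfl⟩)))))
  · intro p hp
    rw [hp.eq tab_c1]
    exact hl pc1 MC1 (hlin _ _ (Or.inr (Or.inr (Or.inr (Or.inr (Or.inl ⟨rfl, rfl⟩))))))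
  · intro p hp
    rw [hp.eq tab_c2]
    exact hl pc2 MC2 (hlin _ _ (Or.inr (Or.inr (Or.inr (Or.inr (Or.inr ⟨rfl, rfl⟩))))))

end Cfsg.Agent.J4Type.CoordOutB
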