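import Cfsg.Agent.J4Type.CoordMainW

/-!
# J₄ type: the relations between the explicit permutations, and the final form of `CentCoords` (R07, helper565)
-/

set_option autoImplicit false

namespace Cfsg.Agent.J4Type.CoordRels

open Cfsg Cfsg.Agent.J4Type Cfsg.Agent.J4Type.CoordPR Cfsg.Agent.J4Type.CentCoords
open Cfsg.Agent.SporadicA.GolayBase Cfsg.Agent.SporadicA.GolayPerm
open Cfsg.Agent.J4Type.VCoord Cfsg.Agent.J4Type.CocodeMask
open Cfsg.Agent.SporadicA.FieldFour (F4)

/-- `s c₂ s⁻¹` -/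
def Tc : ℕ := 983560219871965054030433640375233920
/-- `s c₁ s⁻¹` -/
def Td : ℕ := 958450755090271637751347090883205344

noncomputable def pc : M24 := mk Tc (by decide +kernel)
noncomputable def pd : M24 := mk Td (by decide +kernel)

theorem tab_c : IsTab pc Tc := isTab_mk _ _
theorem tab_d : IsTab pd Td := isTab_mk _ _

theorem conj_d : ps * ps * pd * ps = pc1 :=
  eq_of_tab (((tab_s.mul tab_s).mul tab_d).mul tab_s) tab_c1 (by decide +kernel)

theorem conj_c : ps * ps * pc * ps = pc2 :=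
  eq_of_tab (((tab_s.mul tab_s).mul tab_c).mul tab_s) tab_c2 (by decide +kernel)

theorem rels : FrameRels.Rels ps ps' pb01 pb45 pc pd pu where
  s1 := s_ne
  t1 := s'_ne
  ts := s'_ne_s
  tss := s'_ne_s2
  s3 := eq_of_tab ((tab_s.mul tab_s).mul tab_s) isTab_one (by decide +kernel)
  t3 := eq_of_tab ((tab_s'.mul tab_s').mul tab_s') isTab_one (by decide +kernel)
  st := eq_of_tab (tab_s.mul tab_s') (tab_s'.mul tab_s) (by decide +kernel)
  u2 := eq_of_tab (tab_u.mul tab_u) isTab_one (by decide +kernel)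
  us := eq_of_tab (tab_u.mul tab_s) ((tab_s.mul tab_s).mul tab_u) (by decide +kernel)
  ut := eq_of_tab (tab_u.mul tab_s') ((tab_s'.mul tab_s').mul tab_u) (by decide +kernel)
  ua := eq_of_tab (tab_u.mul tab_b01) (tab_b01.mul tab_u) (by decide +kernel)
  ub := eq_of_tab (tab_u.mul tab_b45) ((((tab_s.mul tab_b45).mul tab_s).mul tab_s).mul tab_u) (by decide +kernel)
  uc := eq_of_tab (tab_u.mul tab_c) (tab_c.mul tab_u) (by decide +kernel)
  ud := eq_of_tab (tab_u.mul tab_d) (tab_d.mul tab_u) (by decide +kernel)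
  a2 := eq_of_tab (tab_b01.mul tab_b01) isTab_one (by decide +kernel)
  sa := eq_of_tab (tab_s.mul tab_b01) (tab_b01.mul tab_s) (by decide +kernel)
  atr := eq_of_tab
    ((tab_b01.mul (((tab_s'.mul tab_b01).mul tab_s').mul tab_s')).mul (((tab_s'.mul tab_s').mul tab_b01).mul tab_s'))
    isTab_one
    (by decide +kernel)
  b2 := eq_of_tab (tab_b45.mul tab_b45) isTab_one (by decide +kernel)
  tb := eq_of_tab (tab_s'.mul tab_b45) (tab_b45.mul tab_s') (by decide +kernel)
  btr := eq_of_tab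
    ((tab_b45.mul (((tab_s.mul tab_b45).mul tab_s).mul tab_s)).mul (((tab_s.mul tab_s).mul tab_b45).mul tab_s))
    isTab_one
    (by decide +kernel)
  aa := eq_of_tab
    (tab_b01.mul (((tab_s'.mul tab_b01).mul tab_s').mul tab_s'))
    ((((tab_s'.mul tab_b01).mul tab_s').mul tab_s').mul tab_b01)
    (by decide +kernel)
  ab := eq_of_tab (tab_b01.mul tab_b45) (tab_b45.mul tab_b01) (by decide +kernel)
  ab' := eq_of_tab
    (tab_b01.mul (((tab_s.mul tab_b45).mul tab_s).mul tab_s))
    ((((tab_s.mul tab_b45).mul tab_s).mul tab_s).mul tab_b01)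
    (by decide +kernel)
  a'b := eq_of_tab
    ((((tab_s'.mul tab_b01).mul tab_s').mul tab_s').mul tab_b45)
    (tab_b45.mul (((tab_s'.mul tab_b01).mul tab_s').mul tab_s'))
    (by decide +kernel)
  a'b' := eq_of_tab
    ((((tab_s'.mul tab_b01).mul tab_s').mul tab_s').mul (((tab_s.mul tab_b45).mul tab_s).mul tab_s))
    ((((tab_s.mul tab_b45).mul tab_s).mul tab_s).mul (((tab_s'.mul tab_b01).mul tab_s').mul tab_s'))
    (by decide +kernel)
  bb := eq_of_tab
    (tab_b45.mul (((tab_s.mul tab_b45).mul tab_s).mul tab_s))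
    ((((tab_s.mul tab_b45).mul tab_s).mul tab_s).mul tab_b45)
    (by decide +kernel)
  c2 := eq_of_tab (tab_c.mul tab_c) isTab_one (by decide +kernel)
  stc := eq_of_tab ((tab_s.mul tab_s').mul tab_c) ((tab_c.mul tab_s).mul tab_s') (by decide +kernel)
  ctr := eq_of_tab
    ((tab_c.mul (((tab_s.mul tab_c).mul tab_s).mul tab_s)).mul (((tab_s.mul tab_s).mul tab_c).mul tab_s))
    isTab_one
    (by decide +kernel)
  d2 := eq_of_tab (tab_d.mul tab_d) isTab_one (by decide +kernel)
  std := eq_of_tab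
    (((tab_s.mul tab_s').mul tab_s').mul tab_d)
    (((tab_d.mul tab_s).mul tab_s').mul tab_s')
    (by decide +kernel)
  dtr := eq_of_tab
    ((tab_d.mul (((tab_s.mul tab_d).mul tab_s).mul tab_s)).mul (((tab_s.mul tab_s).mul tab_d).mul tab_s))
    isTab_one
    (by decide +kernel)
  cc := eq_of_tab
    (tab_c.mul (((tab_s.mul tab_c).mul tab_s).mul tab_s))
    ((((tab_s.mul tab_c).mul tab_s).mul tab_s).mul tab_c)
    (by decide +kernel)
  cd := eq_of_tab (tab_c.mul tab_d) (tab_d.mul tab_c) (by decide +kernel)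
  cd' := eq_of_tab
    (tab_c.mul (((tab_s.mul tab_d).mul tab_s).mul tab_s))
    ((((tab_s.mul tab_d).mul tab_s).mul tab_s).mul tab_c)
    (by decide +kernel)
  c'd := eq_of_tab
    ((((tab_s.mul tab_c).mul tab_s).mul tab_s).mul tab_d)
    (tab_d.mul (((tab_s.mul tab_c).mul tab_s).mul tab_s))
    (by decide +kernel)
  c'd' := eq_of_tab
    ((((tab_s.mul tab_c).mul tab_s).mul tab_s).mul (((tab_s.mul tab_d).mul tab_s).mul tab_s))
    ((((tab_s.mul tab_d).mul tab_s).mul tab_s).mul (((tab_s.mul tab_c).mul tab_s).mul tab_s))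
    (by decide +kernel)
  dd := eq_of_tab
    (tab_d.mul (((tab_s.mul tab_d).mul tab_s).mul tab_s))
    ((((tab_s.mul tab_d).mul tab_s).mul tab_s).mul tab_d)
    (by decide +kernel)
  ac := ne_of_tab (tab_b01.mul tab_c) (tab_c.mul tab_b01) (pt 1) (by decide +kernel)

universe u

variable {G : Type u} [Group G] [Finite G] {t : G} {Q N M : Subgroup (Subgroup.centralizer ({t} : Set G))}
  {P : Subgroup.centralizer ({t} : Set G) →* Equiv.Perm GolayPt}

/-- **`CentCoords` for every element `r` of order 3 of `N`.** -/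
theorem exists_centCoords (H : Hyp t Q N M) (hP : IsP N M P)
    {r : Subgroup.centralizer ({t} : Set G)} (hr : r ∈ N) (hrQ : r ∉ Q) (hr3 : r ^ 3 = 1) :
    Nonempty (CentCoords (H.toCent hP hr hrQ hr3)) :=
  CoordMain.exists_centCoords_of_rels H hP conj_d conj_c rels hr hrQ hr3

/-- **`CentCoords` with `om = ω` for a suitable element `r` of order 3 of `N`.** -/
theorem exists_w (H : Hyp t Q N M) (hP : IsP N M P) :
    ∃ (r : Subgroup.centralizer ({t} : Set G)) (hr : r ∈ N) (hrQ : r ∉ Q) (hr3 : r ^ 3 = 1)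
      (K : CentCoords (H.toCent hP hr hrQ hr3)), K.om = .w :=
  CoordMainW.exists_w_of_rels H hP conj_d conj_c rels

end Cfsg.Agent.J4Type.CoordRels
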