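import Cfsg.Agent.J4Type.CoordLift

/-!
# The fixed space `W` of the four-group cosets (R07, J₄ type, helper856)

`l` a list of commuting involutory isometries, stable under conjugation by the lifts `x`, `x'` of `ps`, `ps'`:
`W = Fix l` has dimension 3, is totally singular and `W = W^⊥`.
-/

set_option autoImplicit false

namespace Cfsg.Agent.J4Type.CoordW

open Cfsg Cfsg.Agent.J4Type Cfsg.Agent.J4Type.CoordPR Cfsg.Agent.J4Type.CoordT Cfsg.Agent.J4Type.CoordLift
open Cfsg.Agent.SporadicA.FieldFour (F4)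

variable {V : Type*} [AddCommGroup V] [Module F4 V] (R : PR V)

include R in
theorem finite : Finite V := Nat.finite_of_card_ne_zero (by rw [R.card]; norm_num)

include R in
theorem modFinite : Module.Finite F4 V := by
  have := finite R
  exact Module.Finite.of_finite

include R in
theorem finrank_V : Module.finrank F4 V = 6 := by
  have := finite R
  have := modFinite R
  have h := Module.natCard_eq_pow_finrank (K := F4) (V := V)
  rw [R.card, Nat.card_eq_fintype_card, show Fintype.card F4 = 4 from rfl] at h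
  have h2 : (4 : ℕ) ^ 6 = 4 ^ Module.finrank F4 V := by rw [← h]; norm_num
  exact (Nat.pow_right_injective (by norm_num : 2 ≤ 4) h2).symm

/-- common fixed vectors -/
def Fix (l : List (V ≃ₗ[F4] V)) : Submodule F4 V where
  carrier := {v | ∀ a ∈ l, a v = v}
  add_mem' := by
    intro u v hu hv a ha
    rw [map_add, hu a ha, hv a ha]
  zero_mem' := fun a _ => map_zero a
  smul_mem' := by
    intro c v hv a ha
    rw [map_smul, hv a ha]

theorem mem_Fix {l : List (V ≃ₗ[F4] V)} {v : V} : v ∈ Fix l ↔ ∀ a ∈ l, a v = v := Iff.rfl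

/-- orthogonal space -/
def perp (U : Submodule F4 V) : Submodule F4 V where
  carrier := {v | ∀ u ∈ U, R.B v u = 0}
  add_mem' := by
    intro u v hu hv w hw
    rw [R.B_add, hu w hw, hv w hw, add_zero]
  zero_mem' := fun u _ => B_zero R u
  smul_mem' := by
    intro c v hv u hu
    by_cases hc : c = 0
    · rw [hc, zero_smul, B_zero]
    · have h1 : R.B (c • v) u = R.B (c • v) (c • (c⁻¹ • u)) := by
        rw [← mul_smul, mul_inv_cancel₀ hc, one_smul]
      rw [h1, B_smul R hc]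
      exact hv _ (U.smul_mem _ hu)

theorem mem_perp {U : Submodule F4 V} {v : V} : v ∈ perp R U ↔ ∀ u ∈ U, R.B v u = 0 := Iff.rfl

/-- `B v` vanishes on the multiples of `u` as soon as it does on `u` and `ω u`. -/
theorem B_span {v u : V} (h1 : R.B v u = 0) (h2 : R.B v (F4.w • u) = 0) (a : F4) : R.B v (a • u) = 0 := by
  have ha : a = 0 ∨ a = 1 ∨ a = F4.w ∨ a = 1 + F4.w := by revert a; decide
  rcases ha with rfl | rfl | rfl | rfl
  · rw [zero_smul, B_zero']
  · rw [one_smul, h1]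
  · exact h2
  · rw [add_smul, one_smul, B_add', h1, h2, add_zero]

/-- for two eigenvectors of `x` with distinct eigenvalues -/
theorem B_eigen {p : M24} {x : V ≃ₗ[F4] V} (hx : R.L p x) {u v : V} {α β : F4} (hα : α ≠ 0) (hβ : β ≠ 0)
    (hu : x u = α • u) (hv : x v = β • v) (hne : α ≠ β) : R.B u v = 0 := by
  have key : ∀ c : F4, c ≠ 0 → R.B (c • u) v = R.B ((α * β⁻¹ * c) • u) v := by
    intro c _
    have h1 : R.B (x (c • u)) (x v) = R.B (c • u) v := B_L R hx _ _
    rw [map_smul, hu, hv] at h1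
    have h2 : R.B (c • α • u) (β • v) = R.B ((α * β⁻¹ * c) • u) v := by
      have h3 : c • α • u = β • ((α * β⁻¹ * c) • u) := by
        rw [← mul_smul, ← mul_smul]
        congr 1
        field_simp
      rw [h3, B_smul R hβ]
    rw [← h1, h2]
  set θ := α * β⁻¹ with hθ
  have hθ1 : θ ≠ 1 := by
    intro h
    apply hne
    rw [hθ, mul_inv_eq_one₀ hβ] at h
    exact h
  have hθ0 : θ ≠ 0 := mul_ne_zero hα (inv_ne_zero hβ)
  have k1 := key 1 one_ne_zero
  have k2 := key θ hθ0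
  rw [one_smul, mul_one] at k1
  have k3 : R.B (u + θ • u + (θ * θ) • u) v = 0 := by
    have : u + θ • u + (θ * θ) • u = ((1 : F4) + θ + θ * θ) • u := by
      rw [add_smul, add_smul, one_smul]
    rw [this]
    have h4 : ∀ θ : F4, θ ≠ 0 → θ ≠ 1 → (1 : F4) + θ + θ * θ = 0 := by decide
    rw [h4 θ hθ0 hθ1, zero_smul, B_zero]
  rw [R.B_add, R.B_add, ← k2, ← k1] at k3
  have : ∀ a : ZMod 2, a + a + a = 0 → a = 0 := by decide
  exact this _ k3

theorem smul_cases (a : F4) (u : V) : a • u = 0 ∨ a • u = u ∨ a • u = F4.w • u ∨ a • u = u + F4.w • u := by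
  have ha : a = 0 ∨ a = 1 ∨ a = F4.w ∨ a = 1 + F4.w := by revert a; decide
  rcases ha with rfl | rfl | rfl | rfl
  · left; rw [zero_smul]
  · right; left; rw [one_smul]
  · right; right; left; rfl
  · right; right; right; rw [add_smul, one_smul]

section main

variable {x x' : V ≃ₗ[F4] V} (hx : R.L ps x) (hx' : R.L ps' x') (l : List (V ≃ₗ[F4] V))
  (hne : ∃ a ∈ l, ∃ v, a v ≠ v) (hcomm : ∀ a ∈ l, ∀ b ∈ l, ∀ v, a (b v) = b (a v))
  (hinv : ∀ a ∈ l, ∀ v, a (a v) = v) (hiso : ∀ a ∈ l, ∀ u v, R.B (a u) (a v) = R.B u v)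
  (hc : ∀ a ∈ l, ∃ a' ∈ l, ∀ v, a (x v) = x (a' v)) (hc' : ∀ a ∈ l, ∃ a' ∈ l, ∀ v, a (x' v) = x' (a' v))

include hx hx' in
theorem finrank_cases (U : Submodule F4 V) (hU : ∀ u ∈ U, x u ∈ U) (hU' : ∀ u ∈ U, x' u ∈ U) :
    Module.finrank F4 U = 3 * Module.finrank F4 (E0 x U) ∧ Module.finrank F4 (E0 x U) ≤ 2 := by
  have := modFinite R
  have h1 := (tpair R hx hx').finrank_eq U hU hU'
  have h2 : Module.finrank F4 U ≤ 6 := by rw [← finrank_V R]; exact Submodule.finrank_le U
  exact ⟨h1, by omega⟩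

include hc in
theorem Fix_x : ∀ u ∈ Fix l, x u ∈ Fix l := by
  intro u hu a ha
  obtain ⟨a', ha', h⟩ := hc a ha
  rw [h, hu a' ha']

include hx hx' hne hcomm hinv hc hc' in
theorem finrank_Fix : Module.finrank F4 (Fix l) = 3 ∧ Module.finrank F4 (E0 x (Fix l)) = 1 := by
  have := modFinite R
  obtain ⟨h1, h2⟩ := finrank_cases R hx hx' (Fix l) (Fix_x l hc) (Fix_x l hc')
  have h3 : Module.finrank F4 (Fix l) ≠ 0 := by
    intro h
    have h4 : Fix l = ⊥ := Submodule.finrank_eq_zero.1 h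
    obtain ⟨v, hv⟩ := exists_ne R
    obtain ⟨y, -, hy0, hy⟩ := exists_fixed l hcomm hinv ⊤ (fun _ _ _ _ => trivial) (u := v) trivial hv
    have h5 : y ∈ Fix l := hy
    rw [h4, Submodule.mem_bot] at h5
    exact hy0 h5
  have h6 : Module.finrank F4 (Fix l) ≠ 6 := by
    intro h
    rw [← finrank_V R] at h
    have h4 : Fix l = ⊤ := Submodule.eq_top_of_finrank_eq h
    obtain ⟨a, ha, v, hv⟩ := hne
    have h5 : v ∈ Fix l := by rw [h4]; trivial
    exact hv (h5 a ha)
  constructor <;> omega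

include hx hx' hne hcomm hinv hc hc' in
/-- the generator of `W ∩ ker (x - 1)` -/
theorem exists_gen : ∃ e ∈ Fix l, e ≠ 0 ∧ x e = e ∧ ∀ u ∈ Fix l, ∃ a b c : F4,
    u = a • e + (b • x' e + c • x' (x' e)) := by
  obtain ⟨h1, h2⟩ := finrank_Fix R hx hx' l hne hcomm hinv hc hc'
  obtain ⟨e, he0, he⟩ := finrank_eq_one_iff'.1 h2
  have hem := mem_E0.1 e.2
  refine ⟨e, hem.1, fun h => he0 (Subtype.ext h), hem.2, ?_⟩
  intro u hu
  obtain ⟨a, ha, b, hb, c, hc, h⟩ := (tpair R hx hx').exists_eq (Fix l) (Fix_x l hc) (Fix_x l hc') hu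
  obtain ⟨α, hα⟩ := he ⟨a, ha⟩
  obtain ⟨β, hβ⟩ := he ⟨b, hb⟩
  obtain ⟨γ, hγ⟩ := he ⟨c, hc⟩
  have e1 : a = α • (e : V) := congrArg Subtype.val hα.symm
  have e2 : b = β • (e : V) := congrArg Subtype.val hβ.symm
  have e3 : c = γ • (e : V) := congrArg Subtype.val hγ.symm
  refine ⟨α, β, γ, ?_⟩
  rw [h, e1, e2, e3, map_smul, map_smul, map_smul]

include hx hx' hne hcomm hinv hc hc' in
theorem perp_ne_bot : ∃ v ∈ perp R (Fix l), v ≠ 0 := by
  have := finite R
  obtain ⟨e, -, -, -, hgen⟩ := exists_gen R hx hx' l hne hcomm hinv hc hc'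
  by_contra hno
  push Not at hno
  let f : V → (Fin 6 → ZMod 2) := fun v => ![R.B v e, R.B v (F4.w • e), R.B v (x' e), R.B v (F4.w • x' e),
    R.B v (x' (x' e)), R.B v (F4.w • x' (x' e))]
  have hf : Function.Injective f := by
    intro u v huv
    have h0 : ∀ i, f u i = f v i := fun i => congrFun huv i
    have key : ∀ y, R.B u y = R.B v y → R.B (u + v) y = 0 := by
      intro y hy
      rw [R.B_add, hy]
      exact CharTwo.add_self_eq_zero _
    have hz : u + v = 0 := by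
      apply hno
      intro y hy
      obtain ⟨a, b, c, rfl⟩ := hgen y hy
      rw [B_add', B_add', B_span R (key _ (h0 0)) (key _ (h0 1)), B_span R (key _ (h0 2)) (key _ (h0 3)),
        B_span R (key _ (h0 4)) (key _ (h0 5))]
      rfl
    have h2 := add_self v
    rw [← hz] at h2
    exact (add_right_cancel h2).symm
  have h1 := Nat.card_le_card_of_injective f hf
  rw [R.card, Nat.card_eq_fintype_card, Fintype.card_fun, ZMod.card, Fintype.card_fin] at h1
  norm_num at h1

include hx hx' hne hcomm hinv hiso hc hc' in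
theorem perp_eq : perp R (Fix l) = Fix l := by
  have := modFinite R
  have hax : ∀ (a : V ≃ₗ[F4] V), (∀ u v, R.B (a u) (a v) = R.B u v) → (∀ u ∈ Fix l, ∃ u' ∈ Fix l, a u' = u) →
      ∀ v ∈ perp R (Fix l), a v ∈ perp R (Fix l) := by
    intro a h1 h2 v hv u hu
    obtain ⟨u', hu', rfl⟩ := h2 u hu
    rw [h1]
    exact hv u' hu'
  have hPx : ∀ v ∈ perp R (Fix l), x v ∈ perp R (Fix l) := by
    refine hax x (B_L R hx) ?_
    intro u hu
    exact ⟨x (x u), Fix_x l hc _ (Fix_x l hc _ hu), cube_s R hx u⟩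
  have hPx' : ∀ v ∈ perp R (Fix l), x' v ∈ perp R (Fix l) := by
    refine hax x' (B_L R hx') ?_
    intro u hu
    exact ⟨x' (x' u), Fix_x l hc' _ (Fix_x l hc' _ hu), cube_s' R hx' u⟩
  have hPl : ∀ a ∈ l, ∀ v ∈ perp R (Fix l), a v ∈ perp R (Fix l) := by
    intro a ha
    refine hax a (hiso a ha) ?_
    intro u hu
    exact ⟨u, hu, hu a ha⟩
  obtain ⟨v, hv, hv0⟩ := perp_ne_bot R hx hx' l hne hcomm hinv hc hc'
  obtain ⟨y, hy, hy0, hyl⟩ := exists_fixed l hcomm hinv (perp R (Fix l)) hPl hv hv0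
  have hyW : y ∈ Fix l := hyl
  -- the intersection
  obtain ⟨h1, -⟩ := finrank_Fix R hx hx' l hne hcomm hinv hc hc'
  obtain ⟨h2, -⟩ := finrank_cases R hx hx' (Fix l ⊓ perp R (Fix l))
    (fun u hu => ⟨Fix_x l hc _ hu.1, hPx _ hu.2⟩) (fun u hu => ⟨Fix_x l hc' _ hu.1, hPx' _ hu.2⟩)
  have h3 : Module.finrank F4 (Fix l ⊓ perp R (Fix l) : Submodule F4 V) ≠ 0 := by
    intro h
    have h4 : Fix l ⊓ perp R (Fix l) = ⊥ := Submodule.finrank_eq_zero.1 h
    have h5 : y ∈ Fix l ⊓ perp R (Fix l) := ⟨hyW, hy⟩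
    rw [h4, Submodule.mem_bot] at h5
    exact hy0 h5
  have h4 : Module.finrank F4 (Fix l ⊓ perp R (Fix l) : Submodule F4 V) ≤ 3 := by
    rw [← h1]; exact Submodule.finrank_mono inf_le_left
  have h5 : Fix l ⊓ perp R (Fix l) = Fix l :=
    Submodule.eq_of_le_of_finrank_eq inf_le_left (by omega)
  have h6 : Fix l ≤ perp R (Fix l) := inf_eq_left.1 h5
  obtain ⟨h7, h8⟩ := finrank_cases R hx hx' (perp R (Fix l)) hPx hPx'
  have h9 : Module.finrank F4 (perp R (Fix l)) ≠ 6 := by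
    intro h
    rw [← finrank_V R] at h
    have h10 : perp R (Fix l) = ⊤ := Submodule.eq_top_of_finrank_eq h
    apply hy0
    apply R.nondeg
    intro u
    have h11 : u ∈ perp R (Fix l) := by rw [h10]; trivial
    rw [R.B_comm]
    exact h11 y hyW
  have h10 : Module.finrank F4 (Fix l) ≤ Module.finrank F4 (perp R (Fix l)) := Submodule.finrank_mono h6
  exact (Submodule.eq_of_le_of_finrank_eq h6 (by omega)).symm

include hx hx' hne hcomm hinv hiso hc hc' in
theorem B_Fix {u v : V} (hu : u ∈ Fix l) (hv : v ∈ Fix l) : R.B u v = 0 := by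
  have h : u ∈ perp R (Fix l) := by rw [perp_eq R hx hx' l hne hcomm hinv hiso hc hc']; exact hu
  exact h v hv

include hx hx' hne hcomm hinv hiso hc hc' in
theorem q_Fix {u : V} (hu : u ∈ Fix l) : R.q u = 0 := by
  have h1 := R.q_add u (F4.w • u)
  rw [B_Fix R hx hx' l hne hcomm hinv hiso hc hc' hu ((Fix l).smul_mem _ hu),
    R.q_smul F4.w u (by decide)] at h1
  have h2 : u + F4.w • u = (F4.w * F4.w) • u := by
    have : (1 : F4) + F4.w = F4.w * F4.w := by decide
    rw [← this, add_smul, one_smul]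
  rw [h2, R.q_smul _ u (by decide), add_zero] at h1
  exact left_eq_add.1 h1

include hx hx' hne hcomm hinv hiso hc hc' in
theorem add_mem {a : V ≃ₗ[F4] V} (ha : a ∈ l) (v : V) : a v + v ∈ Fix l := by
  rw [← perp_eq R hx hx' l hne hcomm hinv hiso hc hc']
  intro u hu
  have h1 := hiso a ha v u
  rw [hu a ha] at h1
  rw [R.B_add, h1]
  exact CharTwo.add_self_eq_zero _

end main

end Cfsg.Agent.J4Type.CoordW
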