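import Mathlib

/-!
# Counting in quadratic spaces over `F₂` (J₄ type, helper856)

* `gauss_sq` : `(∑ (-1)^{q v})² = |V|` for a nondegenerate quadratic form;
* `prime_dvd_card` : a map of prime order without fixed points;
* `no_seven` : a quadratic space with commuting isometries of orders `3`, `7`, such that the one of order `3` has
  non-zero fixed vectors and the one of order 7 acts non-trivially on its commutator, has more than `2^12` elements.
-/

set_option autoImplicit false

namespace Cfsg.Agent.J4Type.Count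

/-- the sign of an element of `F₂` -/
def sgn (a : ZMod 2) : ℤ := if a = 0 then 1 else -1

theorem sgn_add : ∀ a b : ZMod 2, sgn (a + b) = sgn a * sgn b := by decide

theorem sgn_one : sgn 1 = -1 := by decide

theorem sgn_zero : sgn 0 = 1 := by decide

section

variable {V : Type*} [AddCommGroup V]

theorem gauss_sq [Fintype V] (q : V → ZMod 2) (b : V → V → ZMod 2)
    (hq : ∀ v w, q (v + w) = q v + q w + b v w)
    (hb : ∀ u v w, b (u + v) w = b u w + b v w)
    (hnd : ∀ u, u ≠ 0 → ∃ v, b v u ≠ 0) : (∑ v, sgn (q v)) ^ 2 = Fintype.card V := by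
  classical
  have h2 : ∀ a : ZMod 2, a + a = 0 := by decide
  have hb0 : ∀ w, b 0 w = 0 := by
    intro w
    have := hb 0 0 w
    rw [add_zero] at this
    exact (left_eq_add.1 this)
  have hq0 : q 0 = 0 := by
    have := hq 0 0
    rw [add_zero, hb0, h2, zero_add] at this
    exact this
  have hb0' : ∀ v, b v 0 = 0 := by
    intro v
    have := hq v 0
    rw [add_zero, hq0, add_zero] at this
    exact left_eq_add.1 this
  have h1 : (∑ v, sgn (q v)) ^ 2 = ∑ v, ∑ u, sgn (q v) * sgn (q (v + u)) := by
    rw [sq, Finset.sum_mul_sum]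
    refine Finset.sum_congr rfl fun v _ => ?_
    exact (Equiv.sum_comp (Equiv.addLeft v) (fun w => sgn (q v) * sgn (q w))).symm
  have h3 : ∀ v u, sgn (q v) * sgn (q (v + u)) = sgn (q u) * sgn (b v u) := by
    intro v u
    rw [← sgn_add, ← sgn_add, hq]
    congr 1
    rw [add_assoc, ← add_assoc, h2, zero_add]
  rw [h1, Finset.sum_comm]
  have h4 : ∀ u, ∑ v, sgn (q v) * sgn (q (v + u)) = if u = 0 then (Fintype.card V : ℤ) else 0 := by
    intro u
    have h5 : ∑ v, sgn (q v) * sgn (q (v + u)) = sgn (q u) * ∑ v, sgn (b v u) := by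
      rw [Finset.mul_sum]
      exact Finset.sum_congr rfl fun v _ => h3 v u
    rw [h5]
    split_ifs with hu
    · rw [hu, hq0, sgn_zero, one_mul]
      simp [hb0', sgn_zero]
    · obtain ⟨v0, hv0⟩ := hnd u hu
      have h01 : ∀ a : ZMod 2, a ≠ 0 → a = 1 := by decide
      have h6 : ∑ v, sgn (b v u) = -∑ v, sgn (b v u) := by
        conv_lhs => rw [← Equiv.sum_comp (Equiv.addRight v0)]
        rw [← Finset.sum_neg_distrib]
        refine Finset.sum_congr rfl fun v _ => ?_
        show sgn (b (v + v0) u) = _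
        rw [hb, h01 _ hv0, sgn_add, sgn_one, mul_neg_one]
      have h7 : ∑ v, sgn (b v u) = 0 := by omega
      rw [h7, mul_zero]
  rw [Finset.sum_congr rfl fun u _ => h4 u]
  simp

end

theorem prime_dvd_card {α : Type*} [Finite α] (σ : α → α) (p : ℕ) [hp : Fact p.Prime]
    (hσ : ∀ a, σ^[p] a = a) (hfix : ∀ a, σ a ≠ a) : p ∣ Nat.card α := by
  classical
  have := Fintype.ofFinite α
  have h := Equiv.Perm.card_fixedPoints_modEq (α := α) (f := (σ : Function.End α)) (p := p) (n := 1) (by
    rw [pow_one]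
    funext a
    let f : Function.End α := σ
    have : ∀ (n : ℕ) (a : α), (f ^ n) a = σ^[n] a := by
      intro n
      induction n with
      | zero => intro a; rfl
      | succ n ih => intro a; rw [pow_succ]; exact ih (σ a)
    exact (this p a).trans (hσ a))
  have h0 : Fintype.card (Function.fixedPoints σ) = 0 := by
    rw [Fintype.card_eq_zero_iff]
    exact ⟨fun a => hfix a a.2⟩
  rw [Nat.card_eq_fintype_card]
  have h' : Fintype.card α ≡ 0 [MOD p] := by
    have h2 : Fintype.card (Function.fixedPoints (σ : Function.End α)) = 0 := by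
      convert h0
    rw [h2] at h
    exact h
  exact (Nat.modEq_zero_iff_dvd).1 h'

section

variable {V : Type*} [AddCommGroup V] [Finite V]

omit [AddCommGroup V] in
/-- a set stable under maps of orders 3 and 7 without fixed points has a multiple of 21 elements -/
theorem dvd_twentyone (P : V → Prop) (R F : V → V)
    (hR : ∀ v, R (R (R v)) = v) (hF : ∀ v, F^[7] v = v)
    (hPR : ∀ v, P v → P (R v)) (hPF : ∀ v, P v → P (F v))
    (hR' : ∀ v, P v → R v ≠ v) (hF' : ∀ v, P v → F v ≠ v) :
    21 ∣ Nat.card {v : V // P v} := by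
  have h3 : 3 ∣ Nat.card {v : V // P v} := by
    have : Fact (Nat.Prime 3) := ⟨Nat.prime_three⟩
    refine prime_dvd_card (fun v => ⟨R v, hPR v v.2⟩) 3 ?_ ?_
    · intro v
      exact Subtype.ext (hR v)
    · intro v h
      exact hR' v v.2 (congrArg Subtype.val h)
  have h7 : 7 ∣ Nat.card {v : V // P v} := by
    have : Fact (Nat.Prime 7) := ⟨by norm_num⟩
    refine prime_dvd_card (fun v => ⟨F v, hPF v v.2⟩) 7 ?_ ?_
    · intro v
      apply Subtype.ext
      have : ∀ (n : ℕ) (w : {v : V // P v}),
          (((fun v : {v : V // P v} => (⟨F v, hPF v v.2⟩ : {v : V // P v}))^[n] w : {v : V // P v}) : V)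
            = F^[n] w := by
        intro n
        induction n with
        | zero => intro w; rfl
        | succ n ih => intro w; rw [Function.iterate_succ_apply, ih]; rfl
      rw [this]
      exact hF v
    · intro v h
      exact hF' v v.2 (congrArg Subtype.val h)
  exact Nat.Coprime.mul_dvd_of_dvd_of_dvd (by norm_num) h3 h7

/-- no quadratic space of `2^k` elements, `1 < 2^k < 2^12`, with fixed-point-free isometries of orders 3 and 7 that
generate a group all of whose non-trivial elements are fixed point free -/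
theorem no_space (q : V → ZMod 2) (b : V → V → ZMod 2)
    (hq : ∀ v w, q (v + w) = q v + q w + b v w)
    (hb : ∀ u v w, b (u + v) w = b u w + b v w)
    (hnd : ∀ u, u ≠ 0 → ∃ v, b v u ≠ 0)
    (R F : V → V) (hR : ∀ v, R (R (R v)) = v) (hF : ∀ v, F^[7] v = v)
    (hqR : ∀ v, q (R v) = q v) (hqF : ∀ v, q (F v) = q v)
    (hR' : ∀ v, R v = v → v = 0) (hF' : ∀ v, F v = v → v = 0)
    (hR0 : R 0 = 0) (hF0 : F 0 = 0)
    (k : ℕ) (hk0 : 0 < k) (hk : k < 12) (hcard : Nat.card V = 2 ^ k) : False := by
  classical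
  have := Fintype.ofFinite V
  have hR1 : ∀ v, v ≠ 0 → R v ≠ 0 := by
    intro v hv h
    apply hv
    rw [← hR v, h, hR0, hR0]
  have hF1 : ∀ v, v ≠ 0 → F v ≠ 0 := by
    intro v hv h
    apply hv
    rw [← hF v, show (7 : ℕ) = 6 + 1 from rfl, Function.iterate_succ_apply, h]
    simp [hF0]
  have hA : 21 ∣ Nat.card {v : V // v ≠ 0} :=
    dvd_twentyone (fun v => v ≠ 0) R F hR hF hR1 hF1 (fun v hv h => hv (hR' v h)) (fun v hv h => hv (hF' v h))
  have hB : 21 ∣ Nat.card {v : V // v ≠ 0 ∧ q v = 0} :=
    dvd_twentyone (fun v => v ≠ 0 ∧ q v = 0) R F hR hF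
      (fun v hv => ⟨hR1 v hv.1, by rw [hqR, hv.2]⟩) (fun v hv => ⟨hF1 v hv.1, by rw [hqF, hv.2]⟩)
      (fun v hv h => hv.1 (hR' v h)) (fun v hv h => hv.1 (hF' v h))
  have hA' : Nat.card {v : V // v ≠ 0} + 1 = 2 ^ k := by
    rw [← hcard, Nat.card_eq_fintype_card, Nat.card_eq_fintype_card, Fintype.card_subtype_compl,
      Fintype.card_subtype_eq]
    have : 0 < Fintype.card V := Fintype.card_pos
    omega
  have hk6 : k = 6 := by
    obtain ⟨m, hm⟩ := hA
    rw [hm] at hA'
    interval_cases k <;> omega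
  subst hk6
  have h2 : ∀ a : ZMod 2, a + a = 0 := by decide
  have hb0 : ∀ w, b 0 w = 0 := by
    intro w
    have := hb 0 0 w
    rw [add_zero] at this
    exact (left_eq_add.1 this)
  have hq0 : q 0 = 0 := by
    have := hq 0 0
    rw [add_zero, hb0, h2, zero_add] at this
    exact this
  have hS := gauss_sq q b hq hb hnd
  have hcardV : Fintype.card V = 64 := by
    rw [← Nat.card_eq_fintype_card, hcard]; norm_num
  have hZ : Nat.card {v : V // v ≠ 0 ∧ q v = 0} + 1 = (Finset.univ.filter fun v : V => q v = 0).card := by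
    have h0 : (0 : V) ∈ Finset.univ.filter fun v : V => q v = 0 := by simp [hq0]
    rw [Nat.card_eq_fintype_card, Fintype.card_subtype, ← Finset.card_erase_add_one h0]
    congr 2
    ext v
    simp
  have hsum : ∑ v, sgn (q v) = 2 * ((Finset.univ.filter fun v : V => q v = 0).card : ℤ) - 64 := by
    have h5 : ∀ v, sgn (q v) = 2 * (if q v = 0 then 1 else 0) - 1 := by
      intro v
      unfold sgn
      split_ifs <;> norm_num
    rw [Finset.sum_congr rfl fun v _ => h5 v, Finset.sum_sub_distrib, ← Finset.mul_sum,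
      Finset.sum_boole]
    simp [hcardV]
  obtain ⟨m, hm⟩ := hB
  rw [hm] at hZ
  rw [hsum, ← hZ, hcardV] at hS
  push_cast at hS
  have hm' : (m : ℤ) < 4 := by nlinarith
  have hm0 : (0 : ℤ) ≤ m := by positivity
  have : m < 4 := by exact_mod_cast hm'
  interval_cases m <;> norm_num at hS

end

end Cfsg.Agent.J4Type.Count
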