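import Cfsg.Agent.J4Type.EElems

/-!
# Interface: the elements of `E` not conjugate to `z` under `N_G(E)`

`DData H` : coordinates of `E = E hex0` in which the elements not conjugate to `z` under `N_G(E)`
are the 36 elements `z^t w(i,x)` and the 240 elements `z^(N x + N y) w(i,x) w(j,y) f_ij`.
-/

set_option autoImplicit false

namespace Cfsg.Agent.J4Type

open Cfsg VCoord HexPerms ECoord EElems
open SporadicA.FieldFour (F4)

/-- The input: coordinates of `E` and the list of the elements not conjugate to `z`. -/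
structure DData {G : Type*} [Group G] (H : Hex G) where
  C : ECoord H
  F : FSys H
  al : ZMod 2
  be : ZMod 2
  tri : ∀ i j k : Fin 6, i ≠ j → i ≠ k → j ≠ k →
    F.f (mo i j) * F.f (mo j k) * F.f (mo i k) = zp H.z al
  hex : F.f (mo 0 1) * F.f (mo 2 3) * F.f (mo 4 5) = zp H.z be
  hD : ∀ a ∈ H.E hex0, a ≠ 1 →
    ((∃ n ∈ Subgroup.normalizer (H.E hex0 : Set G), n * H.z * n⁻¹ = a) ↔
      ¬ ((∃ t i x, x ≠ 0 ∧ a = el C F t (sc x (hv i)) 0) ∨
        (∃ i j x y, i ≠ j ∧
          a = el C F (nm x + nm y) (sc x (hv i) + sc y (hv j)) (mo i j))))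

end Cfsg.Agent.J4Type
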