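import Cfsg.Agent.J4Type.DDataOf
import Cfsg.Agent.J4Type.DData

/-!
# From `|z^{N_G(E)}| = 1771` to `DData` (part (c), helper233)
-/

set_option autoImplicit false

open scoped Pointwise

namespace Cfsg.Agent.J4Type.DDataMain

open Cfsg VCoord HexPerms ECoord EElems EPi EOrbCheck EOrbits EClasses DDataOf
open SporadicA.FieldFour (F4)
open FusionCount (cls Om)

variable {G : Type*} [Group G] {H : Hex G} (C : ECoord H) (F : FSys H)

/-- the cardinality of a union of classes -/
theorem ncard_eq (S : Set G) (hSE : S ⊆ H.E hex0) (χ : Fin 7 → Prop) [DecidablePred χ]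
    (h : ∀ t a o, el C F t a o ∈ S ↔ χ (kap t a o)) :
    S.ncard = ∑ k : Fin 7, if χ k then sizes k else 0 := by
  classical
  have h1 : S = ⋃ k : {k : Fin 7 // χ k}, K C F k := by
    ext x
    rw [Set.mem_iUnion]
    constructor
    · intro hx
      obtain ⟨t, a, o, rfl⟩ := el_surj C F (hSE hx)
      exact ⟨⟨_, (h t a o).1 hx⟩, (el_mem_K C F).2 rfl⟩
    · rintro ⟨⟨k, hk⟩, t, a, o, rfl, h2⟩
      rw [h, h2]
      exact hk
  have hfin : ∀ k, (K C F k).Finite := by
    intro k
    have hE : Finite (H.E hex0) :=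
      Nat.finite_of_card_ne_zero (by rw [H.E_card hex0 hex0_isHex]; norm_num)
    exact Set.Finite.subset (Set.toFinite (H.E hex0 : Set G)) fun x hx => (mem_E_iff C F).2 ⟨k, hx⟩
  have h2 : S.ncard = ∑ k : {k : Fin 7 // χ k}, (K C F k).ncard := by
    rw [h1]
    rw [Set.ncard_eq_toFinset_card _ (Set.finite_iUnion fun k => hfin _)]
    have h3 : (Set.finite_iUnion fun k : {k : Fin 7 // χ k} => hfin k).toFinset =
        Finset.univ.biUnion fun k : {k : Fin 7 // χ k} => (hfin k).toFinset := by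
      ext x
      simp
    rw [h3, Finset.card_biUnion]
    · apply Finset.sum_congr rfl
      intro k _
      rw [Set.ncard_eq_toFinset_card _ (hfin k)]
    · intro k _ l _ hkl
      rw [Function.onFun, Finset.disjoint_left]
      intro x hx hx'
      rw [Set.Finite.mem_toFinset] at hx hx'
      exact hkl (Subtype.ext (K_unique C F hx hx'))
  rw [h2]
  simp only [K_ncard]
  rw [← Finset.sum_filter]
  exact (Finset.sum_subtype (Finset.univ.filter χ) (by simp) sizes).symm

/-- `E` minus `1` and the conjugates of `z` -/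
def DD (H : Hex G) : Set G := {a | a ∈ H.E hex0 ∧ a ≠ 1 ∧ a ∉ Om H}

theorem Om_sub {a : G} (ha : a ∈ Om H) : a ∈ H.E hex0 ∧ a ≠ 1 := by
  obtain ⟨n, hn, rfl⟩ := ha
  refine ⟨(Subgroup.mem_normalizer_iff.1 hn _).1 (z_mem H), ?_⟩
  intro h
  apply z_ne H
  calc H.z = n⁻¹ * (n * H.z * n⁻¹) * n := by group
    _ = 1 := by rw [h]; group

theorem DD_inv (n : G) (hn : ∀ a, a ∈ H.E hex0 ↔ n * a * n⁻¹ ∈ H.E hex0) (a : G)
    (ha : a ∈ H.E hex0) : a ∈ DD H ↔ n * a * n⁻¹ ∈ DD H := by
  have hnN : n ∈ Subgroup.normalizer (H.E hex0 : Set G) := Subgroup.mem_normalizer_iff.2 hn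
  have h1 : a ∈ Om H ↔ n * a * n⁻¹ ∈ Om H := by
    constructor
    · rintro ⟨m, hm, rfl⟩
      exact ⟨n * m, mul_mem hnN hm, by group⟩
    · rintro ⟨m, hm, h⟩
      refine ⟨n⁻¹ * m, mul_mem (inv_mem hnN) hm, ?_⟩
      calc n⁻¹ * m * H.z * (n⁻¹ * m)⁻¹ = n⁻¹ * (m * H.z * m⁻¹) * n := by group
        _ = a := by rw [h]; group
  have h2 : a ≠ 1 ↔ n * a * n⁻¹ ≠ 1 := by
    rw [not_iff_not]
    constructor
    · rintro rfl; group
    · intro h
      calc a = n⁻¹ * (n * a * n⁻¹) * n := by group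
        _ = 1 := by rw [h]; group
  show (a ∈ H.E hex0 ∧ a ≠ 1 ∧ a ∉ Om H) ↔ _
  rw [h1, h2, hn]
  exact Iff.rfl

theorem DD_ncard [Finite G] (hcard : (Om H).ncard = 1771) : (DD H).ncard = 276 := by
  have h1 : (H.E hex0 : Set G) = {1} ∪ Om H ∪ DD H := by
    ext x
    constructor
    · intro hx
      by_cases h1 : x = 1
      · left; left; exact h1
      · by_cases h2 : x ∈ Om H
        · left; right; exact h2
        · right; exact ⟨hx, h1, h2⟩
    · rintro ((h | h) | h)
      · rw [Set.mem_singleton_iff.1 h]; exact one_mem _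
      · exact (Om_sub h).1
      · exact h.1
  have h2 : (H.E hex0 : Set G).ncard = 2048 := by
    rw [← Nat.card_coe_set_eq]
    have := H.E_card hex0 hex0_isHex
    norm_num at this
    exact this
  have d1 : Disjoint ({1} : Set G) (Om H) := by
    rw [Set.disjoint_singleton_left]
    exact fun h => (Om_sub h).2 rfl
  have d2 : Disjoint ({1} ∪ Om H) (DD H) := by
    rw [Set.disjoint_left]
    rintro x (h | h) h'
    · exact h'.2.1 h
    · exact h'.2.2 h
  rw [h1, Set.ncard_union_eq d2, Set.ncard_union_eq d1, Set.ncard_singleton, hcard] at h2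
  omega

/-- the shape of `DD` : classes 2 and 4 -/
theorem exists_F [Finite G] (hcard : (Om H).ncard = 1771) :
    ∃ F : FSys H, ∀ t a o, el C F t a o ∈ DD H ↔ (kap t a o = 2 ∨ kap t a o = 4) := by
  classical
  obtain ⟨F, χ, h⟩ := exists_signs C (DD H) (fun n _ hn a ha => DD_inv n hn a ha)
  have hn := ncard_eq C F (DD H) (fun x hx => hx.1) χ h
  rw [DD_ncard hcard] at hn
  have hk0 : kap 0 0 0 = 0 := by decide +kernel
  have hk1 : kap 1 0 0 = 1 := by decide +kernel
  have h0 : ¬ χ 0 := by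
    rw [← hk0, ← h, el_one]
    exact fun h' => h'.2.1 rfl
  have h1 : ¬ χ 1 := by
    rw [← hk1, ← h, el_z]
    exact fun h' => h'.2.2 ⟨1, one_mem _, by group⟩
  simp only [Fin.sum_univ_succ, Fin.sum_univ_zero] at hn
  change 276 = (if χ 0 then 1 else 0) + ((if χ 1 then 1 else 0) + ((if χ 2 then 36 else 0) +
    ((if χ 3 then 90 else 0) + ((if χ 4 then 240 else 0) + ((if χ 5 then 240 else 0) +
    ((if χ 6 then 1440 else 0) + 0)))))) at hn
  rw [if_neg h0, if_neg h1] at hn
  have h3 : ¬ χ 3 := by intro h3; rw [if_pos h3] at hn; split_ifs at hn <;> omega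
  have h6 : ¬ χ 6 := by intro h6; rw [if_pos h6] at hn; split_ifs at hn <;> omega
  have h2 : χ 2 := by by_contra h2; rw [if_neg h2, if_neg h3, if_neg h6] at hn; split_ifs at hn <;> omega
  rw [if_pos h2, if_neg h3, if_neg h6] at hn
  by_cases h4 : χ 4
  · have h5 : ¬ χ 5 := by intro h5; rw [if_pos h4, if_pos h5] at hn; omega
    refine ⟨F, fun t a o => ?_⟩
    rw [h]
    generalize kap t a o = k
    fin_cases k
    · exact ⟨fun h' => absurd h' h0, fun h' => absurd h' (by decide)⟩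
    · exact ⟨fun h' => absurd h' h1, fun h' => absurd h' (by decide)⟩
    · exact ⟨fun _ => Or.inl rfl, fun _ => h2⟩
    · exact ⟨fun h' => absurd h' h3, fun h' => absurd h' (by decide)⟩
    · exact ⟨fun _ => Or.inr rfl, fun _ => h4⟩
    · exact ⟨fun h' => absurd h' h5, fun h' => absurd h' (by decide)⟩
    · exact ⟨fun h' => absurd h' h6, fun h' => absurd h' (by decide)⟩
  · have h5 : χ 5 := by by_contra h5; rw [if_neg h4, if_neg h5] at hn; omega
    let ζ : Fin 16 → ZMod 2 := fun o => if o = 0 then 0 else 1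
    refine ⟨F.twist ζ (if_pos rfl), fun t a o => ?_⟩
    rw [el_twist, h]
    by_cases ho : o = 0
    · subst ho
      rw [show ζ 0 = 0 from if_pos rfl, add_zero]
      have hq : kap t a 0 = 0 ∨ kap t a 0 = 1 ∨ kap t a 0 = 2 ∨ kap t a 0 = 3 := by
        have h7 : kap t a 0 ≤ 3 := by
          rw [kap_eq, ← kap_o _ (encX_lt t a 0), oX_encX]
        revert h7
        generalize kap t a 0 = k
        revert k
        decide
      rcases hq with h7 | h7 | h7 | h7 <;> rw [h7]
      · exact ⟨fun h' => absurd h' h0, fun h' => absurd h' (by decide)⟩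
      · exact ⟨fun h' => absurd h' h1, fun h' => absurd h' (by decide)⟩
      · exact ⟨fun _ => Or.inl rfl, fun _ => h2⟩
      · exact ⟨fun h' => absurd h' h3, fun h' => absurd h' (by decide)⟩
    · rw [show ζ o = 1 from if_neg ho, kap_sw _ _ _ ho]
      have hq : kap t a o = 4 ∨ kap t a o = 5 ∨ kap t a o = 6 := by
        have h7 : ¬ kap t a o ≤ 3 := by
          rw [kap_eq, ← kap_o _ (encX_lt t a o), oX_encX]
          exact ho
        revert h7
        generalize kap t a o = k
        revert k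
        decide
      rcases hq with h7 | h7 | h7 <;> rw [h7]
      · exact ⟨fun _ => Or.inr rfl, fun _ => h5⟩
      · exact ⟨fun h' => absurd h' h4, fun h' => absurd h' (by decide)⟩
      · exact ⟨fun h' => absurd h' h6, fun h' => absurd h' (by decide)⟩

/-- the `f o` are permuted by `A₆` -/
theorem piC_f (hF : ∀ t a o, el C F t a o ∈ DD H ↔ (kap t a o = 2 ∨ kap t a o = 4)) (b : Bool) :
    ∃ g : G, g * H.z = H.z * g ∧ ∀ o, g * F.f o * g⁻¹ = F.f (oG b o) := by
  obtain ⟨g, h1, h2, h3, h4, h5⟩ := exists_piC C F b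
  refine ⟨g, h1, fun o => ?_⟩
  obtain ⟨t, ht⟩ := h5 o
  have hel : ∀ u o, el C F u 0 o = zp H.z u * F.f o := by
    intro u o; unfold el; rw [s_zero C, mul_one]
  by_cases ho : o = 0
  · subst ho
    rw [show oG b 0 = 0 by cases b <;> rfl, F.f_zero]; group
  · have ho' : oG b o ≠ 0 := by
      have : ∀ b o, o ≠ 0 → oG b o ≠ 0 := by decide
      exact this b o ho
    have h6 : F.f o ∈ DD H := by
      have h7 := (hF 0 0 o).2 (Or.inr ((kap_f 0 o ho).1.2 rfl))
      rw [hel, zp_zero, one_mul] at h7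
      exact h7
    have h7 := (DD_inv g h3 _ (F.f_E o)).1 h6
    rw [ht, ← hel, hF] at h7
    have h8 : t = 0 := by
      rcases h7 with h7 | h7
      · exact absurd h7 (kap_f t _ ho').2
      · exact (kap_f t _ ho').1.1 h7
    rw [ht, h8, zp_zero, one_mul]

theorem act_cons (b : Bool) (w : List Bool) (i : Fin 6) : act (b :: w) i = act w (piG b i) := rfl

/-- words in the generators of `A₆` -/
theorem word_f (hF : ∀ t a o, el C F t a o ∈ DD H ↔ (kap t a o = 2 ∨ kap t a o = 4))
    (w : List Bool) : ∃ g : G, g * H.z = H.z * g ∧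
      ∀ i j, g * F.f (mo i j) * g⁻¹ = F.f (mo (act w i) (act w j)) := by
  induction w with
  | nil => exact ⟨1, by group, fun i j => by show 1 * F.f (mo i j) * 1⁻¹ = _; group; rfl⟩
  | cons b w ih =>
    obtain ⟨g, h1, h2⟩ := ih
    obtain ⟨g', h1', h2'⟩ := piC_f C F hF b
    refine ⟨g * g', by rw [mul_assoc, h1', ← mul_assoc, h1, mul_assoc], fun i j => ?_⟩
    rw [act_cons, act_cons, ← h2, ← oG_mo, ← h2']
    group

include C in
theorem exists_ddata [Finite G] (hcard : (Om H).ncard = 1771) : Nonempty (DData H) := by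
  obtain ⟨F, hF⟩ := exists_F C hcard
  have hff : ∀ o, F.f o * F.f o = 1 := fun o => E_sq H (F.f_E o)
  have hxor : ∀ i j k : Fin 6, mo i j ^^^ mo j k = mo i k := by decide
  -- signs of triples
  have h3 : ∀ i j k, ∃ t, F.f (mo i j) * F.f (mo j k) * F.f (mo i k) = zp H.z t := by
    intro i j k
    obtain ⟨t, ht⟩ := f_mul F (mo i j) (mo j k)
    refine ⟨t, ?_⟩
    rw [ht, hxor, mul_assoc, hff, mul_one]
  obtain ⟨al, hal⟩ := h3 0 1 2
  obtain ⟨be, hbe⟩ : ∃ t, F.f (mo 0 1) * F.f (mo 2 3) * F.f (mo 4 5) = zp H.z t := by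
    obtain ⟨t, ht⟩ := f_mul F (mo 0 1) (mo 2 3)
    refine ⟨t, ?_⟩
    rw [ht, show mo 0 1 ^^^ mo 2 3 = mo 4 5 by decide, mul_assoc, hff, mul_one]
  refine ⟨⟨C, F, al, be, ?_, hbe, ?_⟩⟩
  · intro i j k hij hik hjk
    obtain ⟨w, -, hi, hj, hk⟩ := trans3 i j k hij hik hjk
    obtain ⟨g, h1, h2⟩ := word_f C F hF w
    rw [← hi, ← hj, ← hk, ← h2, ← h2, ← h2]
    calc g * F.f (mo 0 1) * g⁻¹ * (g * F.f (mo 1 2) * g⁻¹) * (g * F.f (mo 0 2) * g⁻¹)
        = g * (F.f (mo 0 1) * F.f (mo 1 2) * F.f (mo 0 2)) * g⁻¹ := by group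
      _ = _ := by rw [hal, zp_comm h1]; group
  · intro a ha ha1
    obtain ⟨t, v, o, rfl⟩ := el_surj C F ha
    have h4 : (∃ n ∈ Subgroup.normalizer (H.E hex0 : Set G), n * H.z * n⁻¹ = el C F t v o) ↔
        el C F t v o ∉ DD H := by
      constructor
      · intro h h'
        exact h'.2.2 h
      · intro h
        by_contra h'
        exact h ⟨ha, ha1, h'⟩
    rw [h4, not_iff_not, hF]
    constructor
    · rintro (h | h)
      · left
        rw [kap_eq] at h
        obtain ⟨h5, i, y, hy, h6⟩ := kap_two_iff _ (encX_lt t v o) h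
        rw [oX_encX] at h5
        rw [aX_encX] at h6
        exact ⟨t, i, y, hy, by rw [h5, h6]⟩
      · right
        rw [kap_eq] at h
        obtain ⟨i, j, hij, h5, y, y', h6, h7⟩ := kap_four_iff _ (encX_lt t v o) h
        rw [oX_encX] at h5
        rw [tX_encX] at h6
        rw [aX_encX] at h7
        exact ⟨i, j, y, y', hij, by rw [h5, h6, h7]⟩
    · rintro (⟨t', i, y, hy, h⟩ | ⟨i, j, y, y', hij, h⟩)
      · obtain ⟨rfl, rfl, rfl⟩ := el_inj C F h
        left
        exact kap_two_of _ _ _ hy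
      · obtain ⟨rfl, rfl, rfl⟩ := el_inj C F h
        right
        exact kap_four_of _ _ _ _ hij

end Cfsg.Agent.J4Type.DDataMain
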