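import Cfsg.Agent.J4Type.FusionCent

/-!
# Conjugates of `z` in `Q` for a group of type `J4` (R07, helper180)

`exists_conj`: `Hex` + (`Z*`-hypothesis) gives a conjugate `t ≠ z` of `z` in `Q`.  The finite facts on
`M22:2` are taken as hypotheses (structure `Facts`).
-/

set_option autoImplicit false

open scoped Pointwise

namespace Cfsg.Agent.J4Type.FusionHex

open Cfsg Cfsg.Agent.J4Type Cfsg.Agent.Co2Type.Quad Cfsg.Agent.J4Type.FusionOne
  Cfsg.Agent.J4Type.FusionCent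

/-- involutions of `M22` fix a hexad pointwise -/
def FactInv : Prop := ∀ g ∈ M24, g * g = 1 → g none = none → g (some 0) = some 0 →
  ∃ O, IsHex O ∧ ∀ p ∈ O, g p = p

/-- 2-subgroups of `M22:2` whose commutators take at most one nontrivial value are small -/
def FactComm : Prop := ∀ (B : Subgroup (Equiv.Perm GolayPt)), B ≤ M22d → IsPGroup 2 B →
  (∃ c, ∀ a ∈ B, ∀ b ∈ B, a * b * a⁻¹ * b⁻¹ = 1 ∨ a * b * a⁻¹ * b⁻¹ * c = 1) → Nat.card B < 2 ^ 7

variable {G : Type*} [Group G] (H : Hex G)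

/-- the elements commuting with `a` modulo `z` -/
theorem card_eq_of_set [Finite G] (t : Subgroup.centralizer ({H.z} : Set G)) :
    Nat.card {q : G // q ∈ H.Q ∧ ((t : G) * q = q * t ∨ (t : G) * q = H.z * (q * t))} =
      2 * Nat.card (LinearMap.ker (Nil (large H.toCent) t)) := by
  rw [← card_pre]
  apply Nat.card_congr
  apply Equiv.subtypeEquivRight
  intro q
  have hz : ∀ q ∈ H.Q, q * H.z = H.z * q := fun q hq => (large H.toCent).comm_z q hq
  have htz : (t : G) * H.z = H.z * t := (mem_cent H.toCent).1 t.2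
  have key : ∀ hq : q ∈ H.Q, ((large H.toCent).act t ((large H.toCent).pr ⟨q, hq⟩) =
      (large H.toCent).pr ⟨q, hq⟩ ↔ ((t : G) * q = q * t ∨ (t : G) * q = H.z * (q * t))) := by
    intro hq
    rw [(large H.toCent).act_pr, (large H.toCent).pr_eq_pr]
    have e : (((large H.toCent).conjQ t ⟨q, hq⟩ : H.Q) : G) = (t : G) * q * (t : G)⁻¹ := rfl
    rw [e]
    show (t : G) * q * (t : G)⁻¹ = q ∨ (t : G) * q * (t : G)⁻¹ = q * H.z ↔ _
    rw [mul_inv_eq_iff_eq_mul, mul_inv_eq_iff_eq_mul, hz q hq, mul_assoc]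
  constructor
  · rintro ⟨hq, h1⟩
    exact ⟨hq, (mem_ker_Nil _ _ _).2 ((key hq).2 h1)⟩
  · rintro ⟨hq, h1⟩
    exact ⟨hq, (key hq).1 ((mem_ker_Nil _ _ _).1 h1)⟩

theorem Nil_congr (t a : Subgroup.centralizer ({H.z} : Set G)) (hta : (t : G) * (a : G)⁻¹ ∈ H.Q) :
    Nil (large H.toCent) t = Nil (large H.toCent) a := by
  have h1 : (large H.toCent).act t = (large H.toCent).act a := by
    have e : t = (t * a⁻¹) * a := by group
    rw [e, map_mul, (large H.toCent).act_mem (t * a⁻¹) hta, one_mul]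
  ext v
  rw [Nil_apply, Nil_apply, h1]

/-- every inner involution of `C` outside `Q` agrees modulo `Q` with an element of some `E O` -/
theorem exists_mem_E (hinv : FactInv) (t : Subgroup.centralizer ({H.z} : Set G))
    (ht2 : (t : G) * t ∈ H.Q) (ht : H.P t none = none) :
    ∃ O, IsHex O ∧ ∃ a : Subgroup.centralizer ({H.z} : Set G), (a : G) ∈ H.E O ∧
      H.P a = H.P t ∧ (t : G) * (a : G)⁻¹ ∈ H.Q := by
  have h1 : H.P t * H.P t = 1 := by
    rw [← map_mul]
    exact P_of_mem_Q H.toCent _ ht2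
  obtain ⟨hM24, hc⟩ := mem_M22d (P_mem H.toCent t)
  have h0 : H.P t (some 0) = some 0 := by
    rcases hc with h2 | h2
    · exact h2.2
    · rw [ht] at h2; simp at h2
  obtain ⟨O, hO, hfix⟩ := hinv (H.P t) hM24 h1 ht h0
  obtain ⟨a, ha, hPa⟩ := (H.E_map O hO (H.P t)).2 ⟨hM24, hfix⟩
  refine ⟨O, hO, a, ha, hPa, ?_⟩
  apply div_mem_Q H.toCent t a hPa.symm (by rw [hPa]; exact ht) ht2
  rw [(H.E_elem O hO).1 a ha]
  exact H.Q.one_mem

theorem card_ker_inner [Finite G] (hinv : FactInv) (t : Subgroup.centralizer ({H.z} : Set G))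
    (ht2 : (t : G) * t ∈ H.Q) (ht : H.P t none = none) (htQ : (t : G) ∉ H.Q) :
    Nat.card (LinearMap.ker (Nil (large H.toCent) t)) = 2 ^ 8 := by
  obtain ⟨O, hO, a, ha, hPa, hta⟩ := exists_mem_E H hinv t ht2 ht
  have haQ : (a : G) ∉ H.Q := by
    intro h1
    apply htQ
    have := H.Q.mul_mem hta h1
    rwa [inv_mul_cancel_right] at this
  have h1 := H.V_dim O hO a ha haQ
  rw [card_eq_of_set H a] at h1
  rw [Nil_congr H t a hta]
  omega

/-- `F2` of `FusionOne` -/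
theorem fact_comm [Finite G] (hcomm : FactComm) (P : Subgroup G)
    (hP : P ≤ Subgroup.centralizer {H.z}) (hP2 : IsPGroup 2 P)
    (hc : ∃ c, ∀ a ∈ P, ∀ b ∈ P, a * b * a⁻¹ * b⁻¹ ∈ H.Q ∨ a * b * a⁻¹ * b⁻¹ * c ∈ H.Q) :
    Nat.card P < 2 ^ 7 * Nat.card (P ⊓ H.Q : Subgroup G) := by
  set f : P →* Equiv.Perm GolayPt := H.P.comp (Subgroup.inclusion hP) with hf
  have hfx : ∀ x : P, f x = H.P ⟨x, hP x.2⟩ := fun x => rfl
  -- kernel
  have hker : Nat.card f.ker ≤ Nat.card (P ⊓ H.Q : Subgroup G) := by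
    let F : f.ker → (P ⊓ H.Q : Subgroup G) := fun x => ⟨((x : P) : G), (x : P).2, by
      obtain ⟨k, hk⟩ := hP2 (x : P)
      have h1 : H.P ⟨((x : P) : G), hP (x : P).2⟩ = 1 := x.2
      refine mem_Q_of_pow H.toCent ⟨((x : P) : G), hP (x : P).2⟩ h1 (n := 2 ^ k)
        (Nat.Coprime.pow_left k (by norm_num)) ?_
      have : ((x : P) : G) ^ (2 ^ k) = 1 := by
        have := congrArg (fun y : P => (y : G)) hk
        simpa using this
      show ((x : P) : G) ^ (2 ^ k) ∈ H.Q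
      rw [this]; exact H.Q.one_mem⟩
    apply Nat.card_le_card_of_injective F
    intro x y hxy
    apply Subtype.ext
    apply Subtype.ext
    exact congrArg (fun w : (P ⊓ H.Q : Subgroup G) => (w : G)) hxy
  have hran : Nat.card f.range < 2 ^ 7 := by
    apply hcomm
    · rintro _ ⟨x, rfl⟩
      exact P_mem H.toCent _
    · exact hP2.of_surjective f.rangeRestrict f.rangeRestrict_surjective
    · obtain ⟨c, hc⟩ := hc
      by_cases hcC : c ∈ Subgroup.centralizer ({H.z} : Set G)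
      · refine ⟨H.P ⟨c, hcC⟩, ?_⟩
        rintro _ ⟨a, rfl⟩ _ ⟨b, rfl⟩
        have e : f a * f b * (f a)⁻¹ * (f b)⁻¹ = f (a * b * a⁻¹ * b⁻¹) := by simp
        rcases hc a a.2 b b.2 with h1 | h1
        · left
          rw [e, hfx]
          exact P_of_mem_Q H.toCent _ h1
        · right
          rw [e, hfx, ← map_mul]
          exact P_of_mem_Q H.toCent _ h1
      · refine ⟨1, ?_⟩
        rintro _ ⟨a, rfl⟩ _ ⟨b, rfl⟩
        have e : f a * f b * (f a)⁻¹ * (f b)⁻¹ = f (a * b * a⁻¹ * b⁻¹) := by simp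
        rcases hc a a.2 b b.2 with h1 | h1
        · left
          rw [e, hfx]
          exact P_of_mem_Q H.toCent _ h1
        · exfalso
          apply hcC
          have h2 : (a : G) * b * (a : G)⁻¹ * (b : G)⁻¹ ∈ Subgroup.centralizer ({H.z} : Set G) :=
            hP (P.mul_mem (P.mul_mem (P.mul_mem a.2 b.2) (P.inv_mem a.2)) (P.inv_mem b.2))
          have h3 := Subgroup.mul_mem _ (Subgroup.inv_mem _ h2) (H.Q_le h1)
          rwa [inv_mul_cancel_left] at h3
  have h1 := Subgroup.card_mul_index f.ker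
  rw [Subgroup.index_ker] at h1
  have hpos : 0 < Nat.card (P ⊓ H.Q : Subgroup G) := Nat.card_pos
  calc Nat.card P = Nat.card f.ker * Nat.card f.range := h1.symm
    _ ≤ Nat.card (P ⊓ H.Q : Subgroup G) * Nat.card f.range := Nat.mul_le_mul_right _ hker
    _ < Nat.card (P ⊓ H.Q : Subgroup G) * 2 ^ 7 := Nat.mul_lt_mul_of_pos_left hran hpos
    _ = _ := mul_comm _ _

/-- some conjugate `t ≠ z` of `z` lies in `Q` -/
theorem exists_conj [Finite G] (hinv : FactInv) (hcomm : FactComm)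
    (hZ : ∃ t, IsConj H.z t ∧ t * H.z = H.z * t ∧ t ≠ H.z) :
    ∃ t ∈ H.Q, IsConj H.z t ∧ t ≠ H.z := by
  refine exists_conj_mem (large H.toCent) (M H.toCent)
    (fun a b ha hb => M_index H.toCent ha hb) (z_mem_M H.toCent) (card_V H.toCent).ge ?_ ?_
    (fun P hP hP2 hc => fact_comm H hcomm P hP hP2 hc) hZ
  · intro t ht h2 hM hQ
    obtain ⟨_, h3⟩ := (mem_M H.toCent).1 hM
    exact (card_ker_inner H hinv ⟨t, ht⟩ (by show t * t ∈ H.Q; rw [h2]; exact H.Q.one_mem) h3 hQ).ge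
  · intro t ht h2 hM
    have h3 : H.P ⟨t, ht⟩ none ≠ none := fun h4 => hM ((mem_M H.toCent).2 ⟨ht, h4⟩)
    exact card_ker_outer H.toCent ⟨t, ht⟩ (H.P_outer ⟨t, ht⟩ h3)

end Cfsg.Agent.J4Type.FusionHex
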