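import Cfsg.Agent.J4Type.FusionMain
import Cfsg.Agent.J4Type.FusionFact
import Cfsg.Agent.J4Type.FusionConj

/-!
# `|z^{N_G(E)}| = 1771` (R07 J4 type, helper180)
-/

set_option autoImplicit false
set_option linter.unusedSectionVars false

open scoped Pointwise

namespace Cfsg.Agent.J4Type.FusionCount

open Cfsg Cfsg.Agent.J4Type Cfsg.Agent.Co2Type.Quad Cfsg.Agent.J4Type.FusionOne
  Cfsg.Agent.J4Type.FusionCent Cfsg.Agent.J4Type.FusionHex Cfsg.Agent.LargeExtra.Base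
  Cfsg.Agent.J4Type.FusionMain

/-! ### conjugation orbits of a subgroup -/

section orbit

variable {G : Type*} [Group G]

/-- the conjugates of `t` under `N` -/
def cls (N : Subgroup G) (t : G) : Set G := {a | ∃ n ∈ N, n * t * n⁻¹ = a}

theorem card_cls_mul [Finite G] (N : Subgroup G) (t : G) :
    (cls N t).ncard * Nat.card (N ⊓ Subgroup.centralizer {t} : Subgroup G) = Nat.card N := by
  let _ : MulAction N G := MulAction.compHom G ((MulAut.conj : G →* MulAut G).comp N.subtype)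
  have hs : ∀ (n : N) (x : G), n • x = (n : G) * x * (n : G)⁻¹ := fun _ _ => rfl
  have h1 := Nat.card_congr (MulAction.orbitProdStabilizerEquivGroup N t)
  rw [Nat.card_prod] at h1
  have h2 : MulAction.orbit N t = cls N t := by
    ext a
    constructor
    · rintro ⟨n, rfl⟩
      exact ⟨n, n.2, rfl⟩
    · rintro ⟨n, hn, rfl⟩
      exact ⟨⟨n, hn⟩, rfl⟩
  have h3 : Nat.card (MulAction.stabilizer N t) =
      Nat.card (N ⊓ Subgroup.centralizer {t} : Subgroup G) := by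
    apply Nat.card_congr
    refine ⟨fun x => ⟨x, Subgroup.mem_inf.2 ⟨(x : N).2, ?_⟩⟩,
      fun x => ⟨⟨x, (Subgroup.mem_inf.1 x.2).1⟩, ?_⟩, fun x => rfl, fun x => rfl⟩
    · rw [Subgroup.mem_centralizer_singleton_iff]
      have := MulAction.mem_stabilizer_iff.1 x.2
      rw [hs] at this
      exact mul_inv_eq_iff_eq_mul.1 this
    · rw [MulAction.mem_stabilizer_iff, hs]
      have := Subgroup.mem_centralizer_singleton_iff.1 (Subgroup.mem_inf.1 x.2).2
      exact mul_inv_eq_iff_eq_mul.2 this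
  rw [h2, h3] at h1
  exact h1

theorem prime_not_dvd [Finite G] {p : ℕ} [hp : Fact p.Prime] (hp2 : p ≠ 2)
    (hpn : ∀ i, 1 ≤ i → i ≤ 11 → ¬ p ∣ 2 ^ i - 1) (N E : Subgroup G)
    (hE : Nat.card E = 2 ^ 11) (hN : ∀ n ∈ N, ∀ a ∈ E, n * a * n⁻¹ ∈ E) {z : G} (hz : z ∈ E) :
    ¬ p ∣ (cls N z).ncard := by
  classical
  obtain ⟨S⟩ : Nonempty (Sylow p N) := inferInstance
  -- `S` acts on `E`
  let _ : MulAction S E :=
    { smul := fun s a => ⟨((s : N) : G) * a * ((s : N) : G)⁻¹, hN _ (s : N).2 a a.2⟩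
      one_smul := fun a => Subtype.ext (by
        show (1 : G) * a * (1 : G)⁻¹ = a
        simp)
      mul_smul := fun s s' a => Subtype.ext (by
        show ((s : N) : G) * ((s' : N) : G) * a * (((s : N) : G) * ((s' : N) : G))⁻¹ =
          ((s : N) : G) * (((s' : N) : G) * a * ((s' : N) : G)⁻¹) * ((s : N) : G)⁻¹
        group) }
  have hsm : ∀ (s : S) (a : E), ((s • a : E) : G) = ((s : N) : G) * a * ((s : N) : G)⁻¹ :=
    fun _ _ => rfl
  have hmod := S.isPGroup'.card_modEq_card_fixedPoints E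
  -- the fixed points form a subgroup
  let F : Subgroup E :=
    { carrier := MulAction.fixedPoints S E
      one_mem' := fun s => Subtype.ext (by
        show ((s : N) : G) * (1 : G) * ((s : N) : G)⁻¹ = 1
        simp)
      mul_mem' := fun {a b} ha hb s => Subtype.ext (by
        have h1 : ((s : N) : G) * a * ((s : N) : G)⁻¹ = a := congrArg Subtype.val (ha s)
        have h2 : ((s : N) : G) * b * ((s : N) : G)⁻¹ = b := congrArg Subtype.val (hb s)
        show ((s : N) : G) * ((a : G) * b) * ((s : N) : G)⁻¹ = a * b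
        calc ((s : N) : G) * ((a : G) * b) * ((s : N) : G)⁻¹ =
            (((s : N) : G) * a * ((s : N) : G)⁻¹) * (((s : N) : G) * b * ((s : N) : G)⁻¹) := by group
          _ = a * b := by rw [h1, h2])
      inv_mem' := fun {a} ha s => Subtype.ext (by
        have h1 : ((s : N) : G) * a * ((s : N) : G)⁻¹ = a := congrArg Subtype.val (ha s)
        show ((s : N) : G) * (a : G)⁻¹ * ((s : N) : G)⁻¹ = (a : G)⁻¹
        calc ((s : N) : G) * (a : G)⁻¹ * ((s : N) : G)⁻¹ = (((s : N) : G) * a * ((s : N) : G)⁻¹)⁻¹ := by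
              group
          _ = _ := by rw [h1]) }
  have hF : Nat.card (MulAction.fixedPoints S E) = Nat.card F := rfl
  have hdvd : Nat.card F ∣ 2 ^ 11 := by rw [← hE]; exact Subgroup.card_subgroup_dvd_card F
  obtain ⟨j, hj, hFj⟩ := (Nat.dvd_prime_pow Nat.prime_two).1 hdvd
  rw [hE, hF, hFj] at hmod
  have hj11 : j = 11 := by
    by_contra hne
    have hlt : j < 11 := lt_of_le_of_ne hj hne
    have h1 : p ∣ 2 ^ 11 - 2 ^ j := (Nat.modEq_iff_dvd' (Nat.pow_le_pow_right (by norm_num) hj)).1 hmod.symm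
    have h2 : 2 ^ 11 - 2 ^ j = 2 ^ j * (2 ^ (11 - j) - 1) := by
      rw [Nat.mul_sub, ← pow_add, mul_one]
      congr 2
      omega
    rw [h2] at h1
    rcases (Nat.Prime.dvd_mul hp.out).1 h1 with h3 | h3
    · have h4 := hp.out.dvd_of_dvd_pow h3
      exact hp2 ((Nat.prime_dvd_prime_iff_eq hp.out Nat.prime_two).1 h4)
    · exact hpn (11 - j) (by omega) (by omega) h3
  have hFtop : F = ⊤ := by
    apply Subgroup.eq_top_of_card_eq
    rw [hFj, hj11, hE]
  -- so `S` centralises `z`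
  have hSz : ∀ s : S, ((s : N) : G) * z * ((s : N) : G)⁻¹ = z := by
    intro s
    have : (⟨z, hz⟩ : E) ∈ F := by rw [hFtop]; exact Subgroup.mem_top _
    exact congrArg Subtype.val (this s)
  -- order comparison
  intro hdiv
  have h1 := card_cls_mul N z
  have hSle : (S : Subgroup N).map N.subtype ≤ N ⊓ Subgroup.centralizer {z} := by
    rintro _ ⟨s, hs, rfl⟩
    refine Subgroup.mem_inf.2 ⟨s.2, Subgroup.mem_centralizer_singleton_iff.2 ?_⟩
    exact mul_inv_eq_iff_eq_mul.1 (hSz ⟨s, hs⟩)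
  have h2 := Subgroup.card_dvd_of_le hSle
  rw [Subgroup.card_map_of_injective N.subtype_injective] at h2
  have h3 := (S : Subgroup N).card_mul_index
  have h4 : ¬ p ∣ (S : Subgroup N).index := S.not_dvd_index
  obtain ⟨k, hk⟩ := h2
  obtain ⟨m, hm⟩ := hdiv
  apply h4
  refine ⟨m * k, ?_⟩
  have h5 : Nat.card (S : Subgroup N) * (S : Subgroup N).index =
      Nat.card (S : Subgroup N) * (p * (m * k)) := by
    rw [h3, ← h1, hk, hm]; ring
  exact Nat.eq_of_mul_eq_mul_left Nat.card_pos h5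

end orbit

variable {G : Type*} [Group G]

/-- the five nontrivial orbits of `N_C(E)` on `E = E hex0` -/
structure OrbData (H : Hex G) where
  S : Fin 5 → Set G
  card : ∀ i, (S i).ncard = (![36, 90, 240, 240, 1440] : Fin 5 → ℕ) i
  disj : ∀ i j, i ≠ j → Disjoint (S i) (S j)
  sub : ∀ i, S i ⊆ H.E hex0
  one_notMem : ∀ i, (1 : G) ∉ S i
  z_notMem : ∀ i, H.z ∉ S i
  cover : ∀ a ∈ H.E hex0, a = 1 ∨ a = H.z ∨ ∃ i, a ∈ S i
  trans : ∀ i, ∀ a ∈ S i, ∀ b ∈ S i, ∃ c ∈ Subgroup.centralizer ({H.z} : Set G),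
    c ∈ Subgroup.normalizer (H.E hex0 : Set G) ∧ c * a * c⁻¹ = b
  inv : ∀ i, ∀ c ∈ Subgroup.centralizer ({H.z} : Set G),
    c ∈ Subgroup.normalizer (H.E hex0 : Set G) → ∀ a ∈ S i, c * a * c⁻¹ ∈ S i
  Q0 : ∀ a ∈ S 0, a ∈ H.Q
  Q1 : ∀ a ∈ S 1, a ∈ H.Q
  Q2 : ∀ i, i ≠ 0 → i ≠ 1 → ∀ a ∈ S i, a ∉ H.Q

variable (H : Hex G)

theorem isHex0 : IsHex hex0 := HexMax.hex0_isHex

/-- `N_C(E)` -/
def N0 : Subgroup G :=
  Subgroup.centralizer ({H.z} : Set G) ⊓ Subgroup.normalizer (H.E hex0 : Set G)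

theorem mem_N0_of (c : Subgroup.centralizer ({H.z} : Set G)) (hc : H.P c • hex0 = hex0) :
    (c : G) ∈ N0 H := by
  refine Subgroup.mem_inf.2 ⟨c.2, ?_⟩
  rw [Subgroup.mem_normalizer_iff]
  intro a
  have h1 := H.E_conj hex0 isHex0 c a
  rw [hc] at h1
  exact h1

theorem five_dvd [Finite G] : 5 ∣ Nat.card (N0 H) := by
  have : Fact (Nat.Prime 5) := ⟨by norm_num⟩
  obtain ⟨g, hg, hg0, hg5, hg1⟩ := FusionM24.exists_order_five
  rw [← H.P_range] at hg
  obtain ⟨c, hc⟩ := hg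
  have hcN : (c : G) ∈ N0 H := mem_N0_of H c (by rw [hc]; exact hg0)
  let f : N0 H →* Equiv.Perm GolayPt := H.P.comp (Subgroup.inclusion inf_le_left)
  have h1 : orderOf (f ⟨c, hcN⟩) = 5 := by
    have hf : f ⟨c, hcN⟩ = g := hc
    rw [hf]
    exact orderOf_eq_prime hg5 hg1
  calc 5 = orderOf (f ⟨c, hcN⟩) := h1.symm
    _ ∣ orderOf (⟨c, hcN⟩ : N0 H) := orderOf_map_dvd f _
    _ ∣ Nat.card (N0 H) := orderOf_dvd_natCard _

theorem factElem : FactElem := by
  intro B hB hB2 hc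
  obtain ⟨O, hO, -, b, hb, b', hb', h1, h2, h3, h4, h5⟩ := FusionFact.fix_hex B hB hB2.1 hc
  exact ⟨O, hO, b, hb, b', hb', h1, h2, h3, fun p hp => ⟨h4 p hp, h5 p hp⟩⟩

theorem factEA [Finite G] : FactEA G := fun H _ hF hz hc => FusionEA.ea_unique H hF hz hc

variable [Finite G]

/-- **Step 1 + 2**: a conjugate of `z` in `E ∩ Q` -/
theorem exists_conj_in (hZ : ∃ t, IsConj H.z t ∧ t * H.z = H.z * t ∧ t ≠ H.z) :
    ∃ g : G, g * H.z * g⁻¹ ∈ H.Q ∧ g * H.z * g⁻¹ ≠ H.z ∧ g * H.z * g⁻¹ ∈ H.E hex0 := by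
  obtain ⟨t, htQ, ht, htne⟩ := FusionHex.exists_conj H FusionFact.fact_inv FusionFact.fact_comm hZ
  obtain ⟨g, rfl⟩ := isConj_iff.1 ht
  have p := pair_of_conj (large H.toCent) htQ htne
  obtain ⟨O, hO, htO⟩ := FusionMain.exists_hex H factElem p
  obtain ⟨c, -, hc⟩ := FusionConj.exists_C_smul H hO isHex0
  have hcz : (c : G) * H.z = H.z * c := Subgroup.mem_centralizer_singleton_iff.1 c.2
  have e : (c : G) * g * H.z * ((c : G) * g)⁻¹ = (c : G) * (g * H.z * g⁻¹) * (c : G)⁻¹ := by group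
  refine ⟨c * g, ?_, ?_, ?_⟩
  · rw [e]; exact H.Q_conj _ hcz _ htQ
  · rw [e]
    intro h1
    apply htne
    calc g * H.z * g⁻¹ = (c : G)⁻¹ * ((c : G) * (g * H.z * g⁻¹) * (c : G)⁻¹) * c := by group
      _ = (c : G)⁻¹ * (H.z * c) := by rw [h1]; group
      _ = H.z := by rw [← hcz]; group
  · rw [e, ← hc]
    exact (H.E_conj O hO c _).1 htO

variable (D : OrbData H)

/-- elements of the 36-orbit are not conjugate to `z` -/
theorem not_isConj {a : G} (ha : a ∈ D.S 0) : ¬ IsConj H.z a := by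
  intro hc
  obtain ⟨g, rfl⟩ := isConj_iff.1 hc
  have hne : g * H.z * g⁻¹ ≠ H.z := fun h => D.z_notMem 0 (h ▸ ha)
  have p := pair_of_conj (large H.toCent) (D.Q0 _ ha) hne
  have hcls : cls (N0 H) (g * H.z * g⁻¹) = D.S 0 := by
    ext b
    constructor
    · rintro ⟨n, hn, rfl⟩
      exact D.inv 0 n (Subgroup.mem_inf.1 hn).1 (Subgroup.mem_inf.1 hn).2 _ ha
    · intro hb
      obtain ⟨c, h1, h2, h3⟩ := D.trans 0 _ ha b hb
      exact ⟨c, Subgroup.mem_inf.2 ⟨h1, h2⟩, h3⟩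
  have h1 := card_cls_mul (N0 H) (g * H.z * g⁻¹)
  rw [hcls, D.card 0] at h1
  have h1' : 36 * Nat.card (N0 H ⊓ Subgroup.centralizer {g * H.z * g⁻¹} : Subgroup G) =
      Nat.card (N0 H) := h1
  have h2 := five_dvd H
  rw [← h1'] at h2
  have h3 : 5 ∣ Nat.card (N0 H ⊓ Subgroup.centralizer {g * H.z * g⁻¹} : Subgroup G) :=
    (Nat.Coprime.dvd_mul_left (by norm_num)).1 h2
  have : Fact (Nat.Prime 5) := ⟨by norm_num⟩
  obtain ⟨x, hx⟩ := exists_prime_orderOf_dvd_card' 5 h3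
  have hx0 := Subgroup.mem_inf.1 x.2
  have hxN := Subgroup.mem_inf.1 hx0.1
  have hx5 : (x : G) ^ 5 = 1 := by
    have := pow_orderOf_eq_one x
    rw [hx] at this
    exact congrArg Subtype.val this
  have hx1 := no_five H factEA p isHex0 (D.sub 0 ha) ⟨x, hxN.1⟩
    (Subgroup.mem_centralizer_singleton_iff.1 hx0.2)
    (fun a ha => (Subgroup.mem_normalizer_iff.1 hxN.2 a).1 ha) hx5
  have : x = 1 := Subtype.ext hx1
  rw [this, orderOf_one] at hx
  exact absurd hx (by norm_num)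

/-- the conjugates of `z` under `N_G(E)` -/
abbrev Om : Set G := cls (Subgroup.normalizer (H.E hex0 : Set G)) H.z

theorem Om_sub {a : G} (ha : a ∈ Om H) : a ∈ H.E hex0 ∧ a ≠ 1 := by
  obtain ⟨n, hn, rfl⟩ := ha
  refine ⟨(Subgroup.mem_normalizer_iff.1 hn _).1 (H.z_mem_E _ isHex0), ?_⟩
  intro h
  apply (large H.toCent).z_ne
  calc H.z = n⁻¹ * (n * H.z * n⁻¹) * n := by group
    _ = 1 := by rw [h]; group

theorem z_mem_Om : H.z ∈ Om H := ⟨1, one_mem _, by group⟩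

theorem isConj_of_Om {a : G} (ha : a ∈ Om H) : IsConj H.z a := by
  obtain ⟨n, -, rfl⟩ := ha
  exact isConj_iff.2 ⟨n, rfl⟩

theorem Om_trans {i : Fin 5} {a : G} (ha : a ∈ Om H) (hai : a ∈ D.S i) : D.S i ⊆ Om H := by
  intro b hb
  obtain ⟨c, hc1, hc2, hc3⟩ := D.trans i a hai b hb
  obtain ⟨n, hn, rfl⟩ := ha
  refine ⟨c * n, Subgroup.mul_mem _ hc2 hn, ?_⟩
  rw [← hc3]; group

theorem Om_inter (i : Fin 5) : (Om H ∩ D.S i).ncard = 0 ∨
    (D.S i ⊆ Om H ∧ (Om H ∩ D.S i).ncard = (![36, 90, 240, 240, 1440] : Fin 5 → ℕ) i) := by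
  by_cases h : ∃ a, a ∈ Om H ∩ D.S i
  · right
    obtain ⟨a, ha, hai⟩ := h
    have h1 := Om_trans H D ha hai
    refine ⟨h1, ?_⟩
    rw [Set.inter_eq_right.2 h1, D.card]
  · left
    have : Om H ∩ D.S i = ∅ := Set.eq_empty_of_forall_notMem fun a ha => h ⟨a, ha⟩
    rw [this, Set.ncard_empty]

theorem Om_one (hZ : ∃ t, IsConj H.z t ∧ t * H.z = H.z * t ∧ t ≠ H.z) : D.S 1 ⊆ Om H := by
  obtain ⟨g, hQ, hne, hE⟩ := exists_conj_in H hZ
  have p := pair_of_conj (large H.toCent) hQ hne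
  obtain ⟨n, hn, hn'⟩ := exists_norm_conj H factEA p isHex0 hE
  have hmem : g * H.z * g⁻¹ ∈ Om H := ⟨n, Subgroup.mem_normalizer_iff.2 hn, hn'⟩
  rcases D.cover _ hE with h1 | h1 | ⟨i, hi⟩
  · exact absurd h1 (Om_sub H hmem).2
  · exact absurd h1 hne
  · have hi1 : i = 1 := by
      by_contra h2
      have h0 : i ≠ 0 := by
        rintro rfl
        exact not_isConj H D hi (isConj_iff.2 ⟨g, rfl⟩)
      exact D.Q2 i h0 h2 _ hi hQ
    subst hi1
    exact Om_trans H D hmem hi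

theorem ncard_Om : (Om H).ncard = 1 + (Om H ∩ D.S 0).ncard + (Om H ∩ D.S 1).ncard +
    (Om H ∩ D.S 2).ncard + (Om H ∩ D.S 3).ncard + (Om H ∩ D.S 4).ncard := by
  have hdis : ∀ i j, i ≠ j → Disjoint (Om H ∩ D.S i) (Om H ∩ D.S j) := fun i j hij =>
    (D.disj i j hij).mono Set.inter_subset_right Set.inter_subset_right
  have hz : ∀ i, Disjoint ({H.z} : Set G) (Om H ∩ D.S i) := fun i => by
    rw [Set.disjoint_singleton_left]
    exact fun h => D.z_notMem i h.2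
  have hcov : Om H = ((((({H.z} ∪ (Om H ∩ D.S 0)) ∪ (Om H ∩ D.S 1)) ∪ (Om H ∩ D.S 2)) ∪
      (Om H ∩ D.S 3)) ∪ (Om H ∩ D.S 4)) := by
    ext a
    constructor
    · intro ha
      obtain ⟨h1, h2⟩ := Om_sub H ha
      rcases D.cover a h1 with h3 | h3 | ⟨i, hi⟩
      · exact absurd h3 h2
      · simp [h3]
      · fin_cases i
        · exact Or.inl (Or.inl (Or.inl (Or.inl (Or.inr ⟨ha, hi⟩))))
        · exact Or.inl (Or.inl (Or.inl (Or.inr ⟨ha, hi⟩)))
        · exact Or.inl (Or.inl (Or.inr ⟨ha, hi⟩))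
        · exact Or.inl (Or.inr ⟨ha, hi⟩)
        · exact Or.inr ⟨ha, hi⟩
    · rintro (((((h | h) | h) | h) | h) | h)
      · rw [Set.mem_singleton_iff.1 h]; exact z_mem_Om H
      · exact h.1
      · exact h.1
      · exact h.1
      · exact h.1
      · exact h.1
  conv_lhs => rw [hcov]
  rw [Set.ncard_union_eq, Set.ncard_union_eq, Set.ncard_union_eq, Set.ncard_union_eq,
    Set.ncard_union_eq, Set.ncard_singleton]
  · exact hz 0
  · exact Set.disjoint_union_left.2 ⟨hz 1, hdis 0 1 (by decide)⟩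
  · exact Set.disjoint_union_left.2 ⟨Set.disjoint_union_left.2 ⟨hz 2, hdis 0 2 (by decide)⟩,
      hdis 1 2 (by decide)⟩
  · exact Set.disjoint_union_left.2 ⟨Set.disjoint_union_left.2 ⟨Set.disjoint_union_left.2
      ⟨hz 3, hdis 0 3 (by decide)⟩, hdis 1 3 (by decide)⟩, hdis 2 3 (by decide)⟩
  · exact Set.disjoint_union_left.2 ⟨Set.disjoint_union_left.2 ⟨Set.disjoint_union_left.2
      ⟨Set.disjoint_union_left.2 ⟨hz 4, hdis 0 4 (by decide)⟩, hdis 1 4 (by decide)⟩,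
      hdis 2 4 (by decide)⟩, hdis 3 4 (by decide)⟩

theorem Om_prime {p : ℕ} (hp : p.Prime) (hp2 : p ≠ 2)
    (hpn : ∀ i, 1 ≤ i → i ≤ 11 → ¬ p ∣ 2 ^ i - 1) : ¬ p ∣ (Om H).ncard := by
  have : Fact p.Prime := ⟨hp⟩
  exact prime_not_dvd hp2 hpn _ (H.E hex0) (H.E_card _ isHex0)
    (fun n hn a ha => (Subgroup.mem_normalizer_iff.1 hn a).1 ha) (H.z_mem_E _ isHex0)

/-- **`z` has exactly 1771 conjugates under `N_G(E)`**: the 90-orbit, one of the two 240-orbits and the 1440-orbit. -/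
theorem main (hZ : ∃ t, IsConj H.z t ∧ t * H.z = H.z * t ∧ t ≠ H.z) :
    (Om H).ncard = 1771 ∧ D.S 1 ⊆ Om H ∧ D.S 4 ⊆ Om H ∧ Disjoint (Om H) (D.S 0) ∧
      ((D.S 2 ⊆ Om H ∧ Disjoint (Om H) (D.S 3)) ∨ (D.S 3 ⊆ Om H ∧ Disjoint (Om H) (D.S 2))) := by
  have h0 : (Om H ∩ D.S 0).ncard = 0 := by
    have : Om H ∩ D.S 0 = ∅ := Set.eq_empty_of_forall_notMem fun a ha =>
      not_isConj H D ha.2 (isConj_of_Om H ha.1)
    rw [this, Set.ncard_empty]
  have h1 := Om_one H D hZ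
  have h1' : (Om H ∩ D.S 1).ncard = 90 := by
    rw [Set.inter_eq_right.2 h1, D.card]; rfl
  have hc := ncard_Om H D
  rw [h0, h1'] at hc
  have dis : ∀ i, (Om H ∩ D.S i).ncard = 0 → Disjoint (Om H) (D.S i) := by
    intro i h
    rw [Set.disjoint_iff_inter_eq_empty]
    exact (Set.ncard_eq_zero (Set.toFinite _)).1 h
  have P13 := Om_prime H (p := 13) (by norm_num) (by norm_num)
    (by intro i h1 h2; interval_cases i <;> norm_num)
  have P331 := Om_prime H (p := 331) (by norm_num) (by norm_num)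
    (by intro i h1 h2; interval_cases i <;> norm_num)
  have P571 := Om_prime H (p := 571) (by norm_num) (by norm_num)
    (by intro i h1 h2; interval_cases i <;> norm_num)
  have P1531 := Om_prime H (p := 1531) (by norm_num) (by norm_num)
    (by intro i h1 h2; interval_cases i <;> norm_num)
  have P2011 := Om_prime H (p := 2011) (by norm_num) (by norm_num)
    (by intro i h1 h2; interval_cases i <;> norm_num)
  have k2 : (Om H ∩ D.S 2).ncard = 0 ∨ (D.S 2 ⊆ Om H ∧ (Om H ∩ D.S 2).ncard = 240) :=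
    Om_inter H D 2
  have k3 : (Om H ∩ D.S 3).ncard = 0 ∨ (D.S 3 ⊆ Om H ∧ (Om H ∩ D.S 3).ncard = 240) :=
    Om_inter H D 3
  have k4 : (Om H ∩ D.S 4).ncard = 0 ∨ (D.S 4 ⊆ Om H ∧ (Om H ∩ D.S 4).ncard = 1440) :=
    Om_inter H D 4
  rcases k2 with e2 | ⟨s2, e2⟩ <;> rcases k3 with e3 | ⟨s3, e3⟩ <;>
    rcases k4 with e4 | ⟨s4, e4⟩ <;> rw [e2, e3, e4] at hc
  · exact absurd (hc ▸ (by norm_num : 13 ∣ 1 + 0 + 90 + 0 + 0 + 0)) P13
  · exact absurd (hc ▸ (by norm_num : 1531 ∣ 1 + 0 + 90 + 0 + 0 + 1440)) P1531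
  · exact absurd (hc ▸ (by norm_num : 331 ∣ 1 + 0 + 90 + 0 + 240 + 0)) P331
  · exact ⟨hc, h1, s4, dis 0 h0, Or.inr ⟨s3, dis 2 e2⟩⟩
  · exact absurd (hc ▸ (by norm_num : 331 ∣ 1 + 0 + 90 + 240 + 0 + 0)) P331
  · exact ⟨hc, h1, s4, dis 0 h0, Or.inl ⟨s2, dis 3 e3⟩⟩
  · exact absurd (hc ▸ (by norm_num : 571 ∣ 1 + 0 + 90 + 240 + 240 + 0)) P571
  · exact absurd (hc ▸ (by norm_num : 2011 ∣ 1 + 0 + 90 + 240 + 240 + 1440)) P2011

/-- the elements of `E` not conjugate to `z` under `N_G(E)` are the 36-orbit and one 240-orbit -/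
theorem compl_eq (hZ : ∃ t, IsConj H.z t ∧ t * H.z = H.z * t ∧ t ≠ H.z) :
    (∀ a ∈ H.E hex0, a ≠ 1 → (a ∉ Om H ↔ a ∈ D.S 0 ∨ a ∈ D.S 2)) ∨
      (∀ a ∈ H.E hex0, a ≠ 1 → (a ∉ Om H ↔ a ∈ D.S 0 ∨ a ∈ D.S 3)) := by
  obtain ⟨-, h1, h4, h0, h23⟩ := main H D hZ
  have dis : ∀ {i : Fin 5}, Disjoint (Om H) (D.S i) → ∀ a ∈ D.S i, a ∉ Om H :=
    fun h a ha ha' => Set.disjoint_left.1 h ha' ha
  rcases h23 with ⟨h2, h3⟩ | ⟨h3, h2⟩
  · right
    intro a ha ha1
    constructor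
    · intro hna
      rcases D.cover a ha with h5 | h5 | ⟨i, hi⟩
      · exact absurd h5 ha1
      · exact absurd (h5 ▸ z_mem_Om H) hna
      · fin_cases i
        · exact Or.inl hi
        · exact absurd (h1 hi) hna
        · exact absurd (h2 hi) hna
        · exact Or.inr hi
        · exact absurd (h4 hi) hna
    · rintro (h5 | h5)
      · exact dis h0 a h5
      · exact dis h3 a h5
  · left
    intro a ha ha1
    constructor
    · intro hna
      rcases D.cover a ha with h5 | h5 | ⟨i, hi⟩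
      · exact absurd h5 ha1
      · exact absurd (h5 ▸ z_mem_Om H) hna
      · fin_cases i
        · exact Or.inl hi
        · exact absurd (h1 hi) hna
        · exact Or.inr hi
        · exact absurd (h3 hi) hna
        · exact absurd (h4 hi) hna
    · rintro (h5 | h5)
      · exact dis h0 a h5
      · exact dis h2 a h5

end Cfsg.Agent.J4Type.FusionCount
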