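import Cfsg.Agent.J4Type.DuadUniq
import Cfsg.Agent.J4Type.CentLe
import Cfsg.Agent.J4Type.CocodeFacts

/-!
# J₄ type: the centraliser of a duad normalises `E` (R07, helper607)

`duad_cent` : for a `Frame`, `C_G(ε {p, q}) ≤ N_G(E)`.  (So hypothesis `F3` of `CloseInst.eq_top` holds for every
`H ≥ N_G(E)`.)
-/

set_option autoImplicit false

namespace Cfsg.Agent.J4Type.DuadCent

open Cfsg Cfsg.Agent.J4Type Cfsg.Agent.J4Type.CloseInst Cfsg.Agent.J4Type.DuadUniq
open Cfsg.Agent.J4Type.ClosingCocode Cfsg.Agent.J4Type.DuadStab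
open Cfsg.Agent.J4Type.FusionConj (mem_map_conj)
open scoped Pointwise

/-- an involutory automorphism of an elementary abelian 2-group fixes at least the square root of its order -/
theorem card_le_sq {G : Type*} [Group G] [Finite G] (F : Subgroup G) (hF : IsElem2 F) {t : G}
    (htt : t * t = 1) (ht : ∀ f ∈ F, t * f * t⁻¹ ∈ F) :
    Nat.card F ≤ Nat.card (F ⊓ Subgroup.centralizer ({t} : Set G) : Subgroup G) ^ 2 := by
  have hti : t⁻¹ = t := inv_eq_of_mul_eq_one_left htt
  let φ : F →* G :=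
    { toFun := fun f => f * (t * f * t⁻¹)
      map_one' := by simp
      map_mul' := by
        intro a b
        push_cast
        have h1 := hF.2 _ (ht a a.2) b b.2
        calc (a : G) * b * (t * (a * b) * t⁻¹) = a * b * (t * a * t⁻¹) * (t * b * t⁻¹) := by group
          _ = a * (t * a * t⁻¹) * (b * (t * b * t⁻¹)) := by
            rw [mul_assoc (a : G) b, ← h1]; group }
  have hφ : ∀ f : F, φ f = f * (t * f * t⁻¹) := fun f => rfl
  have hker : Nat.card φ.ker ≤ Nat.card (F ⊓ Subgroup.centralizer ({t} : Set G) : Subgroup G) := by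
    apply Nat.card_le_card_of_injective
      (fun f : φ.ker => (⟨(f : F), (f : F).2, Subgroup.mem_centralizer_singleton_iff.2 <| by
        have h1 : ((f : F) : G) * (t * (f : F) * t⁻¹) = 1 := f.2
        have h2 := hF.1 _ (f : F).2
        have h3 : ((f : F) : G) = t * (f : F) * t⁻¹ := by
          rw [← h2] at h1
          exact (mul_left_cancel h1).symm
        calc ((f : F) : G) * t = t * (f : F) * t⁻¹ * t := by rw [← h3]
          _ = t * (f : F) := by group⟩ : (F ⊓ Subgroup.centralizer ({t} : Set G) : Subgroup G)))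
    intro a b h
    have h' : ((a : F) : G) = ((b : F) : G) :=
      congrArg (fun t : (F ⊓ Subgroup.centralizer ({t} : Set G) : Subgroup G) => (t : G)) h
    exact Subtype.ext (Subtype.ext h')
  have hrange : φ.range ≤ F ⊓ Subgroup.centralizer ({t} : Set G) := by
    rintro _ ⟨f, rfl⟩
    refine ⟨F.mul_mem f.2 (ht f f.2), Subgroup.mem_centralizer_singleton_iff.2 ?_⟩
    rw [hφ]
    have h1 := hF.2 _ f.2 _ (ht f f.2)
    calc (f : G) * (t * f * t⁻¹) * t = t * f * t⁻¹ * f * t := by rw [h1]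
      _ = t * (f * (t * f * t⁻¹)) := by
        rw [hti]
        group
  have hr : Nat.card φ.range ≤ Nat.card (F ⊓ Subgroup.centralizer ({t} : Set G) : Subgroup G) :=
    Nat.card_mono (Set.toFinite _) hrange
  rw [← Subgroup.card_mul_index φ.ker, Subgroup.index_ker, pow_two]
  exact Nat.mul_le_mul hker hr

variable {G : Type*} [Group G] (K : Frame G)

attribute [local instance] CloseInst.instComm

/-- products over 4-sets are conjugate to `z` -/
theorem isConj_four {S : Finset GolayPt} (hS : S.card = 4) : IsConj K.z (K.ε S) := by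
  obtain ⟨n, -, hn⟩ := conj_sextet K S hS
  exact isConj_iff.2 ⟨n, hn⟩

/-- a subgroup of `E` without conjugates of `z` has order at most 4 -/
theorem card_le_four [Finite G] (D : Subgroup G) (hDE : D ≤ K.E hex0) (hD : ∀ s ∈ D, ¬ IsConj K.z s) :
    Nat.card D ≤ 4 := by
  classical
  have hduad : ∀ s ∈ D, s ≠ 1 → ∃ i j : GolayPt, i ≠ j ∧ s = K.ε {i, j} := by
    intro s hs hs1
    rcases E_cases K (hDE hs) with h | h | ⟨S, hS, h⟩
    · exact absurd h hs1
    · exact h
    · exact absurd (h ▸ isConj_four K hS) (hD s hs)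
  have hpar : ∀ {i j : GolayPt}, i ≠ j → Even ({i, j} : Finset GolayPt).card := by
    intro i j hij
    rw [Finset.card_pair hij]; decide
  -- two duads of `D` meet
  have hmeet : ∀ {i j k l : GolayPt}, i ≠ j → k ≠ l → K.ε {i, j} ∈ D → K.ε {k, l} ∈ D →
      ¬ (i ≠ k ∧ i ≠ l ∧ j ≠ k ∧ j ≠ l) := by
    rintro i j k l hij hkl hij' hkl' ⟨h1, h2, h3, h4⟩
    have h5 := D.mul_mem hij' hkl'
    rw [← K.ε_mul _ _ (hpar hij) (hpar hkl)] at h5
    exact hD _ h5 (isConj_four K (DuadM24.card_four hij h1 h2 h3 h4 hkl))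
  by_cases hall : ∀ s ∈ D, s = 1
  · have : D = ⊥ := (Subgroup.eq_bot_iff_forall D).2 hall
    rw [this, Subgroup.card_bot]
    omega
  push Not at hall
  obtain ⟨u, huD, hu1⟩ := hall
  obtain ⟨a, b, hab, rfl⟩ := hduad u huD hu1
  by_cases hcase : ∀ s ∈ D, s = 1 ∨ s = K.ε {a, b}
  · have hsub : (D : Set G) ⊆ ({1, K.ε {a, b}} : Finset G) := by
      intro s hs
      rw [Finset.coe_insert, Finset.coe_singleton]
      exact hcase s hs
    have h1 := Set.ncard_le_ncard hsub (Finset.finite_toSet _)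
    rw [Set.ncard_coe_finset] at h1
    have h2 := Finset.card_le_two (a := (1 : G)) (b := K.ε {a, b})
    have h3 : Nat.card D = (D : Set G).ncard := rfl
    omega
  push Not at hcase
  obtain ⟨v, hvD, hv1, hvu⟩ := hcase
  obtain ⟨c, d, hcd, rfl⟩ := hduad v hvD hv1
  -- normalise: `D ∋ xy, xw`
  obtain ⟨x, y, w, hxy, hxw, hyw, hxyD, hxwD⟩ : ∃ x y w : GolayPt, x ≠ y ∧ x ≠ w ∧ y ≠ w ∧
      K.ε {x, y} ∈ D ∧ K.ε {x, w} ∈ D := by
    by_cases h1 : a = c
    · subst h1
      refine ⟨a, b, d, hab, hcd, ?_, huD, hvD⟩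
      rintro rfl
      exact hvu rfl
    by_cases h2 : a = d
    · subst h2
      refine ⟨a, b, c, hab, h1, ?_, huD, by rw [Finset.pair_comm]; exact hvD⟩
      rintro rfl
      exact hvu (by rw [Finset.pair_comm])
    by_cases h3 : b = c
    · subst h3
      exact ⟨b, a, d, hab.symm, hcd, h2, by rw [Finset.pair_comm]; exact huD, hvD⟩
    by_cases h4 : b = d
    · subst h4
      exact ⟨b, a, c, hab.symm, h3, h1, by rw [Finset.pair_comm]; exact huD,
        by rw [Finset.pair_comm]; exact hvD⟩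
    exact absurd ⟨h1, h2, h3, h4⟩ (hmeet hab hcd huD hvD)
  have hywD : K.ε {y, w} ∈ D := by
    have h1 := D.mul_mem hxyD hxwD
    rw [← K.ε_mul _ _ (hpar hxy) (hpar hxw)] at h1
    have h2 : symmDiff ({x, y} : Finset GolayPt) {x, w} = {y, w} := by
      ext t
      simp only [Finset.mem_symmDiff, Finset.mem_insert, Finset.mem_singleton, not_or]
      constructor
      · rintro (⟨rfl | rfl, h3, h4⟩ | ⟨rfl | rfl, h3, h4⟩)
        · exact absurd rfl h3
        · exact Or.inl rfl
        · exact absurd rfl h3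
        · exact Or.inr rfl
      · rintro (rfl | rfl)
        · exact Or.inl ⟨Or.inr rfl, hxy.symm, hyw⟩
        · exact Or.inr ⟨Or.inr rfl, hxw.symm, hyw.symm⟩
    rwa [h2] at h1
  have hsub : (D : Set G) ⊆ ({1, K.ε {x, y}, K.ε {x, w}, K.ε {y, w}} : Finset G) := by
    intro s hs
    by_cases hs1 : s = 1
    · rw [hs1]; simp
    obtain ⟨p, q, hpq, rfl⟩ := hduad s hs hs1
    have m1 := hmeet hxy hpq hxyD hs
    have m2 := hmeet hxw hpq hxwD hs
    have m3 := hmeet hyw hpq hywD hs
    have key : ({p, q} : Finset GolayPt) = {x, y} ∨ ({p, q} : Finset GolayPt) = {x, w} ∨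
        ({p, q} : Finset GolayPt) = {y, w} := by
      by_cases e1 : x = p
      · by_cases e2 : y = q
        · left; rw [← e1, ← e2]
        · by_cases e3 : w = q
          · right; left; rw [← e1, ← e3]
          · exfalso
            exact m3 ⟨fun h => hxy (e1.trans h.symm), e2, fun h => hxw (e1.trans h.symm), e3⟩
      by_cases e2 : x = q
      · by_cases e3 : y = p
        · left; rw [← e2, ← e3, Finset.pair_comm]
        · by_cases e4 : w = p
          · right; left; rw [← e2, ← e4, Finset.pair_comm]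
          · exfalso
            exact m3 ⟨e3, fun h => hxy (e2.trans h.symm), e4, fun h => hxw (e2.trans h.symm)⟩
      · by_cases e3 : y = p
        · by_cases e4 : w = q
          · right; right; rw [← e3, ← e4]
          · exfalso
            exact m2 ⟨e1, e2, fun h => hyw (e3.trans h.symm), e4⟩
        · by_cases e4 : y = q
          · by_cases e5 : w = p
            · right; right; rw [← e4, ← e5, Finset.pair_comm]
            · exfalso
              exact m2 ⟨e1, e2, e5, fun h => hyw (e4.trans h.symm)⟩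
          · exfalso
            exact m1 ⟨e1, e2, e3, e4⟩
    rw [Finset.coe_insert, Finset.coe_insert, Finset.coe_insert, Finset.coe_singleton]
    rcases key with h | h | h
    · rw [h]; exact Or.inr (Or.inl rfl)
    · rw [h]; exact Or.inr (Or.inr (Or.inl rfl))
    · rw [h]; exact Or.inr (Or.inr (Or.inr rfl))
  have h1 := Set.ncard_le_ncard hsub (Finset.finite_toSet _)
  rw [Set.ncard_coe_finset] at h1
  have h2 := Finset.card_le_four (a := (1 : G)) (b := K.ε {x, y}) (c := K.ε {x, w}) (d := K.ε {y, w})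
  have h3 : Nat.card D = (D : Set G).ncard := rfl
  omega

theorem free [Finite G] (t : G) (htt : t * t = 1) (ht : ∀ v ∈ K.E hex0, t * v * t⁻¹ ∈ K.E hex0) :
    ∃ y ∈ K.E hex0, IsConj K.z y ∧ t * y = y * t := by
  have h := CocodeFacts.free_of_cocode (isCocode K) (hgen K) (EE K).subtype (Subgroup.subtype_injective _)
    {g | IsConj K.z g} (isConj_iff_sextet K)
    (fun y hy g => IsConj.trans hy (isConj_iff.2 ⟨g, rfl⟩)) t htt
    (by rw [Subgroup.range_subtype]; exact ht)
  rw [Subgroup.range_subtype] at h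
  exact h

/-- the key step: an element centralising a duad of `E` and moving a conjugate of `z` in `E` into `N_G(E)`
normalises `E` -/
theorem fuse [Finite G] {p q : GolayPt} (hpq : p ≠ q) {x y : G} (hxu : x * K.ε {p, q} = K.ε {p, q} * x)
    (hy : y ∈ K.E hex0) (hzy : IsConj K.z y)
    (hxy : x * y * x⁻¹ ∈ Subgroup.normalizer (K.E hex0 : Set G)) :
    x ∈ Subgroup.normalizer (K.E hex0 : Set G) := by
  by_contra hx
  have hex0' := FusionConj.isHex_hex0
  have hE := K.E_elem hex0 hex0'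
  set u := K.ε {p, q} with hu
  have huE : u ∈ K.E hex0 := K.ε_mem _ (by rw [Finset.card_pair hpq]; decide)
  have hxu' : x⁻¹ * u * x = u := by
    rw [mul_assoc, ← hxu, inv_mul_cancel_left]
  set F : Subgroup G := (K.E hex0).map (MulAut.conj x).toMonoidHom with hFdef
  have hF : IsElem2 F := FusionConj.isElem2_conj hE x
  have hmemF : ∀ a, a ∈ F ↔ x⁻¹ * a * x ∈ K.E hex0 := fun a => mem_map_conj
  have huF : u ∈ F := by rw [hmemF, hxu']; exact huE
  set w := x * y * x⁻¹ with hw
  have hwF : w ∈ F := by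
    rw [hmemF, hw]
    have : x⁻¹ * (x * y * x⁻¹) * x = y := by group
    rw [this]; exact hy
  have hzw : IsConj K.z w := hzy.trans (isConj_iff.2 ⟨x, rfl⟩)
  have hww : w * w = 1 := hF.1 w hwF
  -- `E ∩ F` contains no conjugate of `z`
  have hfree : ∀ s ∈ K.E hex0 ⊓ F, ¬ IsConj K.z s := by
    rintro s ⟨hsE, hsF⟩ hzs
    apply hx
    exact uniq K hsE hzs hpq ((hmemF s).1 hsF) (by rw [← hu, hxu']; exact huE)
  have hD := card_le_four K (K.E hex0 ⊓ F) inf_le_left hfree
  -- elements of `E` commuting with `w` normalise `F`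
  have hA : ∀ a ∈ K.E hex0, a * w = w * a → ∀ f ∈ F, a * f * a⁻¹ ∈ F := by
    intro a haE haw f hf
    have h1 : x⁻¹ * a * x ∈ Subgroup.normalizer (K.E hex0 : Set G) := by
      apply uniq K hy hzy hpq
      · have h2 : (x⁻¹ * a * x)⁻¹ * y * (x⁻¹ * a * x) = y := by
          have h3 : y = x⁻¹ * w * x := by rw [hw]; group
          calc (x⁻¹ * a * x)⁻¹ * y * (x⁻¹ * a * x) = x⁻¹ * a⁻¹ * (x * y * x⁻¹) * a * x := by group
            _ = x⁻¹ * a⁻¹ * (w * a) * x := by rw [← hw]; group
            _ = x⁻¹ * w * x := by rw [← haw]; group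
            _ = y := h3.symm
        rw [h2]; exact hy
      · have h2 : (x⁻¹ * a * x)⁻¹ * u * (x⁻¹ * a * x) = u := by
          calc (x⁻¹ * a * x)⁻¹ * u * (x⁻¹ * a * x) = x⁻¹ * a⁻¹ * (x * u) * x⁻¹ * a * x := by group
            _ = x⁻¹ * (a⁻¹ * u * a) * x := by rw [hxu]; group
            _ = x⁻¹ * u * x := by
              rw [mul_assoc a⁻¹, hE.2 u huE a haE, inv_mul_cancel_left]
            _ = u := hxu'
        rw [← hu, h2]; exact huE
    rw [hmemF]
    have h2 := ((Subgroup.mem_normalizer_iff).1 h1 (x⁻¹ * f * x)).1 ((hmemF f).1 hf)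
    have h3 : x⁻¹ * a * x * (x⁻¹ * f * x) * (x⁻¹ * a * x)⁻¹ = x⁻¹ * (a * f * a⁻¹) * x := by group
    rwa [h3] at h2
  -- a conjugate of `z` in `C_E(w)`
  have hwN : ∀ v ∈ K.E hex0, w * v * w⁻¹ ∈ K.E hex0 := fun v hv =>
    ((Subgroup.mem_normalizer_iff).1 hxy v).1 hv
  obtain ⟨y2, hy2E, hzy2, hy2w⟩ := free K w hww hwN
  -- its centraliser in `F` normalises `E`
  have hB : F ⊓ Subgroup.centralizer ({y2} : Set G) ≤
      F ⊓ Subgroup.normalizer (K.E hex0 : Set G) := by
    rintro f ⟨hfF, hf⟩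
    refine ⟨hfF, ?_⟩
    replace hf := Subgroup.mem_centralizer_singleton_iff.1 hf
    apply uniq K hy2E hzy2 hpq
    · rw [mul_assoc, ← hf, inv_mul_cancel_left]
      exact hy2E
    · rw [← hu, mul_assoc, hF.2 u huF f hfF, inv_mul_cancel_left]
      exact huE
  have hcardF : Nat.card F = 2 ^ 11 := by
    rw [hFdef, Subgroup.card_map_of_injective (MulAut.conj x).injective, K.E_card hex0 hex0']
  have hBcard : 45 ≤ Nat.card (F ⊓ Subgroup.normalizer (K.E hex0 : Set G) : Subgroup G) := by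
    have h1 := card_le_sq F hF (hE.1 y2 hy2E) (hA y2 hy2E hy2w.symm)
    rw [hcardF] at h1
    have h2 : Nat.card (F ⊓ Subgroup.centralizer ({y2} : Set G) : Subgroup G) ≤
        Nat.card (F ⊓ Subgroup.normalizer (K.E hex0 : Set G) : Subgroup G) :=
      Nat.card_mono (Set.toFinite _) hB
    by_contra hcon
    have h3 : Nat.card (F ⊓ Subgroup.centralizer ({y2} : Set G) : Subgroup G) ≤ 44 := by omega
    have h4 := Nat.pow_le_pow_left h3 2
    omega
  -- an element of `F ∩ N` acting on `E` neither trivially nor as `w`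
  set mN : Subgroup.normalizer (K.E hex0 : Set G) := ⟨w, hxy⟩ with hmN
  obtain ⟨b, hbF, hbN, hb1, hbw⟩ : ∃ b ∈ F, ∃ hbN : b ∈ Subgroup.normalizer (K.E hex0 : Set G),
      K.π ⟨b, hbN⟩ ≠ 1 ∧ K.π ⟨b, hbN⟩ ≠ K.π mN := by
    by_contra hno
    push Not at hno
    have h1 : ∀ b ∈ F ⊓ Subgroup.normalizer (K.E hex0 : Set G),
        b ∈ K.E hex0 ⊓ F ∨ w⁻¹ * b ∈ K.E hex0 ⊓ F := by
      rintro b ⟨hbF, hbN⟩
      by_cases h2 : K.π ⟨b, hbN⟩ = 1
      · exact Or.inl ⟨(K.π_ker ⟨b, hbN⟩).1 h2, hbF⟩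
      · right
        have h3 := hno b hbF hbN h2
        have h4 : K.π (mN⁻¹ * ⟨b, hbN⟩) = 1 := by
          rw [map_mul, map_inv, h3, inv_mul_cancel]
        exact ⟨(K.π_ker _).1 h4, F.mul_mem (F.inv_mem hwF) hbF⟩
    classical
    have h2 : Nat.card (F ⊓ Subgroup.normalizer (K.E hex0 : Set G) : Subgroup G) ≤
        Nat.card ((K.E hex0 ⊓ F : Subgroup G) × Bool) := by
      apply Nat.card_le_card_of_injective
        (fun b : (F ⊓ Subgroup.normalizer (K.E hex0 : Set G) : Subgroup G) =>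
          if h : (b : G) ∈ K.E hex0 ⊓ F then ((⟨b, h⟩ : (K.E hex0 ⊓ F : Subgroup G)), true)
          else ((⟨w⁻¹ * b, (h1 b b.2).resolve_left h⟩ : (K.E hex0 ⊓ F : Subgroup G)), false))
      intro a b hab
      dsimp only at hab
      split_ifs at hab with ha hb hb
      · exact Subtype.ext (congrArg (fun t : (K.E hex0 ⊓ F : Subgroup G) × Bool => (t.1 : G)) hab)
      · exact absurd (congrArg Prod.snd hab) (show ¬ (true = false) by decide)
      · exact absurd (congrArg Prod.snd hab) (show ¬ (false = true) by decide)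
      · have h3 := congrArg (fun t : (K.E hex0 ⊓ F : Subgroup G) × Bool => (t.1 : G)) hab
        exact Subtype.ext (mul_left_cancel h3)
    rw [Nat.card_prod, Nat.card_eq_fintype_card (α := Bool), Fintype.card_bool] at h2
    omega
  set m : Equiv.Perm GolayPt := (K.π mN : Equiv.Perm GolayPt) with hm
  set r : Equiv.Perm GolayPt := (K.π ⟨b, hbN⟩ : Equiv.Perm GolayPt) with hr
  have hbb : b * b = 1 := hF.1 b hbF
  have hmm : m * m = 1 := by
    have h1 : mN * mN = 1 := Subtype.ext hww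
    have h2 := congrArg (fun g : M24 => (g : Equiv.Perm GolayPt)) (congrArg K.π h1)
    rw [map_mul, map_one] at h2
    exact h2
  have hrr : r * r = 1 := by
    have h1 : (⟨b, hbN⟩ : Subgroup.normalizer (K.E hex0 : Set G)) * ⟨b, hbN⟩ = 1 := Subtype.ext hbb
    have h2 := congrArg (fun g : M24 => (g : Equiv.Perm GolayPt)) (congrArg K.π h1)
    rw [map_mul, map_one] at h2
    exact h2
  have hm1 : m ≠ 1 := by
    intro h
    have h1 := (K.π_ker mN).1 (Subtype.ext h)
    exact hfree w ⟨h1, hwF⟩ hzw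
  have hr1 : r ≠ 1 := fun h => hb1 (Subtype.ext h)
  have hrm : r ≠ m := fun h => hbw (Subtype.ext h)
  have hcomm : m * r = r * m := by
    have h1 : mN * ⟨b, hbN⟩ = ⟨b, hbN⟩ * mN := Subtype.ext (hF.2 w hwF b hbF)
    have h2 := congrArg (fun g : M24 => (g : Equiv.Perm GolayPt)) (congrArg K.π h1)
    rw [map_mul, map_mul] at h2
    exact h2
  obtain ⟨S, hSeven, hmS, hS4⟩ := DuadM24.exists_four_set (K.π mN).2 (K.π ⟨b, hbN⟩).2 hmm hm1 hrr hr1 hrm hcomm
  have hrS : Even (r • S).card := by rw [Finset.card_smul_finset]; exact hSeven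
  have haE := K.ε_mem S hSeven
  have haw : K.ε S * w = w * K.ε S := by
    have h1 := K.π_smul mN S hSeven
    have h2 : (K.π mN : Equiv.Perm GolayPt) • S = S := hmS
    rw [h2] at h1
    have h3 : w * K.ε S * w⁻¹ = K.ε S := h1
    exact (mul_inv_eq_iff_eq_mul.1 h3).symm
  have h1 : b * K.ε S * b⁻¹ = K.ε (r • S) := K.π_smul ⟨b, hbN⟩ S hSeven
  have h2 : K.ε (symmDiff S (r • S)) = K.ε S * (b * K.ε S * b⁻¹) := by
    rw [K.ε_mul _ _ hSeven hrS, h1]
  apply hfree (K.ε (symmDiff S (r • S))) _ (isConj_four K hS4)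
  refine ⟨K.ε_mem _ (by rw [hS4]; decide), ?_⟩
  have h3 : (K.ε S)⁻¹ = K.ε S := inv_eq_of_mul_eq_one_left (hE.1 _ haE)
  have h4 : K.ε S * (b * K.ε S * b⁻¹) = (K.ε S * b * (K.ε S)⁻¹) * b⁻¹ := by
    rw [h3]; group
  rw [h2, h4]
  exact F.mul_mem (hA _ haE haw b hbF) (F.inv_mem hbF)

/-- **The centraliser of a duad normalises `E`.** -/
theorem duad_cent [Finite G] {p q : GolayPt} (hpq : p ≠ q) {g : G}
    (hg : g * K.ε {p, q} = K.ε {p, q} * g) : g ∈ Subgroup.normalizer (K.E hex0 : Set G) := by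
  have hex0' := FusionConj.isHex_hex0
  have hE := K.E_elem hex0 hex0'
  have huE : K.ε {p, q} ∈ K.E hex0 := K.ε_mem _ (by rw [Finset.card_pair hpq]; decide)
  have huu := hE.1 _ huE
  have hmem : ∀ s ∈ Subgroup.zpowers (K.ε {p, q}), s = 1 ∨ s = K.ε {p, q} := by
    intro s hs
    rw [Subgroup.mem_zpowers_iff] at hs
    obtain ⟨k, rfl⟩ := hs
    have h2 : K.ε {p, q} ^ (2 : ℤ) = 1 := by
      rw [zpow_ofNat, pow_two]; exact huu
    rcases Int.even_or_odd' k with ⟨j, hj | hj⟩
    · left; rw [hj, zpow_mul, h2, one_zpow]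
    · right; rw [hj, zpow_add, zpow_mul, h2, one_zpow, one_mul, zpow_one]
  have hcos := CocodeFacts.cos_of_cocode (isCocode K) (hgen K) (EE K).subtype
    (Subgroup.subtype_injective _) {g | IsConj K.z g} (isConj_iff_sextet K)
  rw [Subgroup.range_subtype] at hcos
  have h := CentLe.cent_le (Subgroup.normalizer (K.E hex0 : Set G)) (K.E hex0) {g | IsConj K.z g}
    (fun y hy g => IsConj.trans hy (isConj_iff.2 ⟨g, rfl⟩))
    (by
      intro u hu hu1 huZ x hxu y hy hzy hxy
      rcases E_cases K hu with h1 | ⟨i, j, hij, rfl⟩ | ⟨S, hS, rfl⟩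
      · exact absurd h1 hu1
      · exact fuse K hij hxu hy hzy hxy
      · exact absurd (isConj_four K hS) huZ)
    Subgroup.le_normalizer hE.1
    (fun h hh v hv => ((Subgroup.mem_normalizer_iff).1 hh v).1 hv)
    ⟨K.z, K.z_mem_E hex0 hex0', IsConj.refl _⟩ (free K) hcos
    (Subgroup.zpowers (K.ε {p, q})) (by rw [Subgroup.zpowers_le]; exact huE)
    (by rw [Ne, Subgroup.zpowers_eq_bot]; exact duad_ne_one K hpq)
    (by
      intro s hs
      rcases hmem s hs with rfl | rfl
      · exact fun h => z_ne_one K (isConj_one_left.1 h)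
      · exact K.duad_not_conj p q hpq)
  apply h
  rw [Subgroup.mem_centralizer_iff]
  intro s hs
  rcases hmem s hs with rfl | rfl
  · rw [one_mul, mul_one]
  · exact hg.symm

end Cfsg.Agent.J4Type.DuadCent
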