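import Cfsg.Agent.J4Type.DuadMask

/-!
# The even cocode from masks

`em i` is the mask of the point of index `i`; a map `Φ` from masks to an abelian group, additive
and injective on masks `< 2048`, gives a presentation of the even cocode.
-/

set_option autoImplicit false

namespace Cfsg.Agent.J4Type.DuadCode

open Cfsg Cfsg.Agent.SporadicA.GolayBase Cfsg.Agent.J4Type.CocodeMask
  Cfsg.Agent.J4Type.CocodeExt Cfsg.Agent.J4Type.DuadStab Cfsg.Agent.J4Type.DuadMask

/-- the masks of the points -/
def emList : List ℕ :=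
  [1025, 1026, 1027, 64, 128, 1092, 1593, 512, 1322, 1014, 1984, 1343, 256, 1168, 1096, 1005,
    1184, 1100, 1301, 1575, 987, 1566, 1200, 0]

/-- the mask of `e p`, for the point `p` of index `i` -/
def em (i : ℕ) : ℕ := emList.getD i 0

/-- the linear map on masks of 24 bits with values `em` -/
def linE (m : ℕ) : ℕ := lin em m ^^^ lin (fun i => em (12 + i)) (m >>> 12)

theorem linE_xor (a b : ℕ) : linE (a ^^^ b) = linE a ^^^ linE b := by
  unfold linE
  rw [lin_xor, Nat.shiftRight_xor_distrib, lin_xor]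
  ac_rfl

theorem linE_enc_aux : allR 12 0 (fun i => Nat.beq (linE (enc i)) 0) = true := by
  decide +kernel

theorem linE_enc (m : ℕ) : linE (enc m) = 0 := by
  rw [← enc_mod]
  exact Nat.eq_of_beq_eq_true (allR_zero_spec linE_enc_aux (m % 4096) (Nat.mod_lt _ (by norm_num)))

theorem linE_high_aux : allR 12 0 (fun s => bif ev s then
    (bif Nat.beq (linE (s <<< 12)) 0 then Nat.beq s 0 else true) else true) = true := by
  decide +kernel

theorem linE_high {s : ℕ} (hs : ev s = true) (h : linE (s <<< 12) = 0) : s = 0 := by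
  have h1 := allR_zero_spec linE_high_aux s ((ev_iff s).1 hs).1
  rw [hs, h] at h1
  exact Nat.eq_of_beq_eq_true h1

theorem em_lt : ∀ i, i < 24 → em i < 2048 := by decide +kernel

theorem em_lt' (i : ℕ) : em i < 2048 := by
  by_cases h : i < 24
  · exact em_lt i h
  · unfold em
    rw [List.getD_eq_getElem?_getD, List.getElem?_eq_none (by
      show emList.length ≤ i
      have : emList.length = 24 := rfl
      omega)]
    norm_num

theorem lin_lt' {v : ℕ → ℕ} (hv : ∀ i, v i < 2048) (s : ℕ) : lin v s < 2048 := by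
  have hb : ∀ i j, j % 2 * v i < 2 ^ 11 := by
    intro i j
    have hj : j % 2 < 2 := Nat.mod_lt _ (by norm_num)
    have := hv i
    interval_cases j % 2
    · norm_num
    · omega
  unfold lin
  exact Nat.xor_lt_two_pow (n := 11) (Nat.xor_lt_two_pow (Nat.xor_lt_two_pow (Nat.xor_lt_two_pow
    (Nat.xor_lt_two_pow (Nat.xor_lt_two_pow (Nat.xor_lt_two_pow (Nat.xor_lt_two_pow
    (Nat.xor_lt_two_pow (Nat.xor_lt_two_pow (Nat.xor_lt_two_pow (hb _ _) (hb _ _)) (hb _ _))
    (hb _ _)) (hb _ _)) (hb _ _)) (hb _ _)) (hb _ _)) (hb _ _)) (hb _ _)) (hb _ _)) (hb _ _)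

theorem linE_lt (m : ℕ) : linE m < 2048 :=
  Nat.xor_lt_two_pow (n := 11) (lin_lt' em_lt' _) (lin_lt' (fun _ => em_lt' _) _)

/-- even masks of 24 bits with `linE` a power of two -/
def gk : ℕ → ℕ := fun i =>
  [6, 5, 147456, 131104, 4259840, 4202496, 8388616, 8388624, 8392704, 8388736, 8388615].getD i 0

theorem gk_aux : allR 11 0 (fun a => bif Nat.beq (linE (lin gk a)) a then
    (bif Nat.beq (popcount (lin gk a) % 2) 0 then Nat.blt (lin gk a) 16777216 else false)
      else false) = true := by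
  decide +kernel

theorem gk_spec {a : ℕ} (ha : a < 2048) : linE (lin gk a) = a ∧ Even (fin (lin gk a)).card := by
  have h1 := allR_zero_spec gk_aux a ha
  rw [card_fin, Nat.even_iff]
  rcases h2 : Nat.beq (linE (lin gk a)) a with _ | _
  · rw [h2] at h1
    exact absurd h1 Bool.false_ne_true
  · rcases h3 : Nat.beq (popcount (lin gk a) % 2) 0 with _ | _
    · rw [h2, h3] at h1
      exact absurd h1 Bool.false_ne_true
    · exact ⟨Nat.eq_of_beq_eq_true h2, Nat.eq_of_beq_eq_true h3⟩

section

variable {A : Type*} [CommGroup A] {Φ : ℕ → A} (hx : ∀ a b, Φ (a ^^^ b) = Φ a * Φ b)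

include hx

theorem map_zero' : Φ 0 = 1 := by
  have := hx 0 0
  rw [Nat.xor_self] at this
  exact (mul_eq_left.1 this.symm)

theorem map_sq (a : ℕ) : Φ a * Φ a = 1 := by
  rw [← hx, Nat.xor_self, map_zero' hx]

theorem prod_fin_em (m : ℕ) : ∏ p ∈ fin m, Φ (em (idx p)) = Φ (linE m) := by
  rw [prod_fin, linE, hx, map_lin Φ hx, map_lin Φ hx]
  have h : ∀ i, i < 24 → Φ (em (idx (pt i))) = Φ (em i) := fun i hi => by rw [idx_pt hi]
  simp only [Finset.prod_range_succ, Finset.prod_range_zero, one_mul]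
  rw [h 0 (by norm_num), h 1 (by norm_num), h 2 (by norm_num), h 3 (by norm_num),
    h 4 (by norm_num), h 5 (by norm_num), h 6 (by norm_num), h 7 (by norm_num),
    h 8 (by norm_num), h 9 (by norm_num), h 10 (by norm_num), h 11 (by norm_num),
    h 12 (by norm_num), h 13 (by norm_num), h 14 (by norm_num), h 15 (by norm_num),
    h 16 (by norm_num), h 17 (by norm_num), h 18 (by norm_num), h 19 (by norm_num),
    h 20 (by norm_num), h 21 (by norm_num), h 22 (by norm_num), h 23 (by norm_num)]
  simp only [← Nat.shiftRight_add, Nat.shiftRight_zero, Nat.reduceAdd, mul_assoc]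

/-- The masks `em` present the even cocode. -/
theorem isCocode (hi : ∀ a, a < 2048 → Φ a = 1 → a = 0) : IsCocode fun p => Φ (em (idx p)) := by
  refine ⟨fun p => map_sq hx _, fun S hS => ?_⟩
  have h1 : ∏ p ∈ S, Φ (em (idx p)) = Φ (linE (maskOf S)) := by
    rw [← prod_fin_em hx, fin_maskOf]
  have h2 : linE (maskOf S) = linE ((maskOf S ^^^ enc (maskOf S)) >>> 12 <<< 12) := by
    rw [← xor_enc, linE_xor, linE_enc, Nat.xor_zero]
  rw [h1]
  constructor
  · intro h
    have h3 := hi _ (linE_lt _) h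
    rw [h2] at h3
    have h4 : ev ((maskOf S ^^^ enc (maskOf S)) >>> 12) = true := by
      have h5 : (maskOf S ^^^ enc (maskOf S)) >>> 12 < 4096 := by
        rw [Nat.shiftRight_eq_div_pow, Nat.div_lt_iff_lt_mul (by norm_num)]
        exact Nat.xor_lt_two_pow (n := 24) (maskOf_lt _) (enc_lt _)
      rw [ev_iff_card h5, ← xor_enc, fin_xor, Nat.even_iff, card_symmDiff_parity, fin_maskOf]
      have h6 : Even (fin (enc (maskOf S))).card := by
        apply even_card_of_mem
        rw [fin_mem_supports_iff (enc_lt _)]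
        exact isCode_enc _
      rw [Nat.even_iff] at h6 hS
      omega
    have h5 := linE_high h4 h3
    have h6 := xor_enc (maskOf S)
    rw [h5, Nat.zero_shiftLeft, Nat.xor_eq_zero_iff] at h6
    rw [mem_supports_iff, isCode_iff]
    exact h6.symm
  · intro h
    rw [mem_supports_iff, isCode_iff] at h
    rw [h2, h, Nat.xor_self, Nat.zero_shiftRight, Nat.zero_shiftLeft]
    have h7 : linE 0 = 0 := by decide +kernel
    rw [h7, map_zero' hx]

/-- The masks `em` generate. -/
theorem exists_prod {a : ℕ} (ha : a < 2048) :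
    ∃ S : Finset GolayPt, Even S.card ∧ Φ a = ∏ p ∈ S, Φ (em (idx p)) := by
  obtain ⟨h1, h2⟩ := gk_spec ha
  exact ⟨fin (lin gk a), h2, by rw [prod_fin_em hx, h1]⟩

end

end Cfsg.Agent.J4Type.DuadCode
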