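import Cfsg.Agent.J4Type.DuadMask

/-!
# Counting in the sets of 276 masks
-/

set_option autoImplicit false

namespace Cfsg.Agent.J4Type.DuadCount

open Cfsg Cfsg.Agent.SporadicA.GolayBase Cfsg.Agent.J4Type.DuadMask

/-- the masks of `Dl al be` in increasing order -/
def SL : ℕ → ℕ → List ℕ
  | 0, 0 => [1, 2, 3, 4, 8, 12, 16, 21, 27, 30, 32, 39, 42, 45, 48, 54, 57, 63, 64, 69, 70, 71, 73, 74, 75, 77, 78, 79, 128, 145, 146, 147, 161, 162, 163, 177, 178, 179, 192, 212, 216, 220, 228, 232, 236, 244, 248, 252, 256, 276, 278, 279, 296, 297, 299, 316, 317, 318, 320, 337, 345, 349, 354, 358, 366, 371, 375, 379, 384, 389, 394, 399, 410, 415, 421, 431, 437, 442, 448, 453, 458, 463, 465, 468, 482, 488, 499, 508, 512, 540, 541, 543, 548, 549, 550, 568, 570, 571, 576, 594, 598, 602, 611, 619, 623, 625, 629, 637, 640, 647, 649, 654, 663, 665, 681, 686, 695, 702, 704, 711, 713, 718, 722, 732, 739, 740, 753, 760, 768, 774, 779, 781, 787, 792, 801, 812, 818, 820,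 832, 838, 843, 845, 854, 861, 870, 875, 891, 893, 896, 915, 919, 927, 929, 933, 937, 946, 954, 958, 960, 984, 985, 986, 1004, 1006, 1007, 1012, 1013, 1015, 1025, 1026, 1027, 1028, 1032, 1036, 1040, 1045, 1051, 1054, 1056, 1063, 1066, 1069, 1072, 1078, 1081, 1087, 1089, 1090, 1091, 1092, 1096, 1100, 1153, 1154, 1155, 1168, 1184, 1200, 1220, 1224, 1228, 1232, 1248, 1264, 1281, 1282, 1283, 1301, 1322, 1343, 1348, 1352, 1356, 1365, 1386, 1407, 1424, 1429, 1440, 1450, 1456, 1471, 1499, 1502, 1511, 1517, 1526, 1529, 1537, 1538, 1539, 1566, 1575, 1593, 1604, 1608, 1612, 1630, 1639, 1657, 1680, 1694, 1696, 1703, 1712, 1721, 1749, 1755, 1770, 1773, 1782, 1791, 1813, 1822, 1831, 1834, 1849, 1855, 1872, 1883, 1888, 1901, 1904, 1910, 1924, 1928, 1932, 1947, 1965, 1974, 1985, 1986, 1987, 2011, 2029, 2038]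
  | 0, _ => [1, 2, 3, 4, 8, 12, 16, 21, 27, 30, 32, 39, 42, 45, 48, 54, 57, 63, 64, 69, 70, 71, 73, 74, 75, 77, 78, 79, 128, 145, 146, 147, 161, 162, 163, 177, 178, 179, 192, 212, 216, 220, 228, 232, 236, 244, 248, 252, 256, 276, 278, 279, 296, 297, 299, 316, 317, 318, 320, 337, 345, 349, 354, 358, 366, 371, 375, 379, 384, 389, 394, 399, 410, 415, 421, 431, 437, 442, 475, 478, 487, 493, 502, 505, 512, 540, 541, 543, 548, 549, 550, 568, 570, 571, 576, 594, 598, 602, 611, 619, 623, 625, 629, 637, 640, 647, 649, 654, 663, 665, 681, 686, 695, 702, 725, 731, 746, 749, 758, 767, 768, 774, 779, 781, 787, 792, 801, 812, 818, 820, 848, 859, 864, 877, 880, 886, 900, 904, 908, 923, 941, 950, 961, 962, 963, 987, 1005, 1014, 1025, 1026, 1027, 1028, 1032, 1036, 1040, 1045, 1051, 1054, 1056, 1063, 1066, 1069, 1072, 1078, 1081, 1087, 1089, 1090, 1091, 1092, 1096, 1100, 1153, 1154, 1155, 1168, 1184, 1200, 1220, 1224, 1228, 1232, 1248, 1264, 1281, 1282, 1283, 1301,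 1322, 1343, 1348, 1352, 1356, 1365, 1386, 1407, 1424, 1429, 1440, 1450, 1456, 1471, 1472, 1477, 1482, 1487, 1489, 1492, 1506, 1512, 1523, 1532, 1537, 1538, 1539, 1566, 1575, 1593, 1604, 1608, 1612, 1630, 1639, 1657, 1680, 1694, 1696, 1703, 1712, 1721, 1728, 1735, 1737, 1742, 1746, 1756, 1763, 1764, 1777, 1784, 1813, 1822, 1831, 1834, 1849, 1855, 1856, 1862, 1867, 1869, 1878, 1885, 1894, 1899, 1915, 1917, 1920, 1939, 1943, 1951, 1953, 1957, 1961, 1970, 1978, 1982, 1984, 2008, 2009, 2010, 2028, 2030, 2031, 2036, 2037, 2039]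
  | _, 0 => [1, 2, 3, 4, 8, 12, 16, 21, 27, 30, 32, 39, 42, 45, 48, 54, 57, 63, 64, 69, 70, 71, 73, 74, 75, 77, 78, 79, 128, 145, 146, 147, 161, 162, 163, 177, 178, 179, 196, 200, 204, 208, 224, 240, 256, 276, 278, 279, 296, 297, 299, 316, 317, 318, 324, 328, 332, 341, 362, 383, 400, 405, 416, 426, 432, 447, 475, 478, 487, 493, 502, 505, 512, 540, 541, 543, 548, 549, 550, 568, 570, 571, 580, 584, 588, 606, 615, 633, 656, 670, 672, 679, 688, 697, 725, 731, 746, 749, 758, 767, 789, 798, 807, 810, 825, 831, 848, 859, 864, 877, 880, 886, 900, 904, 908, 923, 941, 950, 960, 984, 985, 986, 1004, 1006, 1007, 1012, 1013, 1015, 1025, 1026, 1027, 1028, 1032, 1036, 1040, 1045, 1051, 1054, 1056, 1063, 1066, 1069, 1072, 1078, 1081, 1087, 1089, 1090, 1091, 1092, 1096, 1100, 1153, 1154, 1155, 1168, 1184, 1200, 1216, 1236, 1240, 1244, 1252, 1256, 1260, 1268, 1272, 1276, 1281, 1282, 1283, 1301, 1322, 1343, 1344, 1361, 1369, 1373, 1378, 1382, 1390, 1395, 1399, 1403,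 1408, 1413, 1418, 1423, 1434, 1439, 1445, 1455, 1461, 1466, 1472, 1477, 1482, 1487, 1489, 1492, 1506, 1512, 1523, 1532, 1537, 1538, 1539, 1566, 1575, 1593, 1600, 1618, 1622, 1626, 1635, 1643, 1647, 1649, 1653, 1661, 1664, 1671, 1673, 1678, 1687, 1689, 1705, 1710, 1719, 1726, 1728, 1735, 1737, 1742, 1746, 1756, 1763, 1764, 1777, 1784, 1792, 1798, 1803, 1805, 1811, 1816, 1825, 1836, 1842, 1844, 1856, 1862, 1867, 1869, 1878, 1885, 1894, 1899, 1915, 1917, 1920, 1939, 1943, 1951, 1953, 1957, 1961, 1970, 1978, 1982, 1985, 1986, 1987, 2011, 2029, 2038]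
  | _, _ => [1, 2, 3, 4, 8, 12, 16, 21, 27, 30, 32, 39, 42, 45, 48, 54, 57, 63, 64, 69, 70, 71, 73, 74, 75, 77, 78, 79, 128, 145, 146, 147, 161, 162, 163, 177, 178, 179, 196, 200, 204, 208, 224, 240, 256, 276, 278, 279, 296, 297, 299, 316, 317, 318, 324, 328, 332, 341, 362, 383, 400, 405, 416, 426, 432, 447, 448, 453, 458, 463, 465, 468, 482, 488, 499, 508, 512, 540, 541, 543, 548, 549, 550, 568, 570, 571, 580, 584, 588, 606, 615, 633, 656, 670, 672, 679, 688, 697, 704, 711, 713, 718, 722, 732, 739, 740, 753, 760, 789, 798, 807, 810, 825, 831, 832, 838, 843, 845, 854, 861, 870, 875, 891, 893, 896, 915, 919, 927, 929, 933, 937, 946, 954, 958, 961, 962, 963, 987, 1005, 1014, 1025, 1026, 1027, 1028, 1032, 1036, 1040, 1045, 1051, 1054, 1056, 1063, 1066, 1069, 1072, 1078, 1081, 1087, 1089, 1090, 1091, 1092, 1096, 1100, 1153, 1154, 1155, 1168, 1184, 1200, 1216, 1236, 1240, 1244, 1252, 1256, 1260, 1268, 1272, 1276, 1281, 1282, 1283, 1301, 1322, 1343, 1344,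 1361, 1369, 1373, 1378, 1382, 1390, 1395, 1399, 1403, 1408, 1413, 1418, 1423, 1434, 1439, 1445, 1455, 1461, 1466, 1499, 1502, 1511, 1517, 1526, 1529, 1537, 1538, 1539, 1566, 1575, 1593, 1600, 1618, 1622, 1626, 1635, 1643, 1647, 1649, 1653, 1661, 1664, 1671, 1673, 1678, 1687, 1689, 1705, 1710, 1719, 1726, 1749, 1755, 1770, 1773, 1782, 1791, 1792, 1798, 1803, 1805, 1811, 1816, 1825, 1836, 1842, 1844, 1872, 1883, 1888, 1901, 1904, 1910, 1924, 1928, 1932, 1947, 1965, 1974, 1984, 2008, 2009, 2010, 2028, 2030, 2031, 2036, 2037, 2039]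

/-- increasing lists -/
def inc : List ℕ → Bool
  | [] => true
  | [_] => true
  | a :: b :: l => bif Nat.blt a b then inc (b :: l) else false

theorem pairwise_of_inc : ∀ l : List ℕ, inc l = true → l.Pairwise (· < ·)
  | [], _ => List.Pairwise.nil
  | [a], _ => List.pairwise_singleton _ _
  | a :: b :: l, h => by
    unfold inc at h
    rcases h1 : Nat.blt a b with _ | _
    · rw [h1] at h
      exact absurd h Bool.false_ne_true
    · rw [h1] at h
      have h2 := pairwise_of_inc (b :: l) h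
      have h3 : a < b := by rwa [Nat.blt_eq] at h1
      rw [List.pairwise_cons]
      refine ⟨fun x hx => ?_, h2⟩
      rcases List.mem_cons.1 hx with rfl | hx
      · exact h3
      · exact h3.trans (List.rel_of_pairwise_cons h2 hx)

theorem inc_SL : ∀ al < 2, ∀ be < 2, inc (SL al be) = true := by decide +kernel

/-- bit `m` of `B` as a number -/
def bt (B m : ℕ) : ℕ := Nat.mod (Nat.shiftRight B m) 2

theorem bt_eq (B m : ℕ) : bt B m = if B.testBit m = true then 1 else 0 :=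
  (ite_testBit B m).symm

/-- the number of `m ∈ L` with `m ^^^ d` in the set `B` -/
def cntA (B d : ℕ) (L : List ℕ) : ℕ :=
  List.rec 0 (fun m _ r => Nat.add (bt B (Nat.xor m d)) r) L

theorem cntA_eq (B d : ℕ) (L : List ℕ) :
    cntA B d L = L.countP fun m => B.testBit (m ^^^ d) := by
  induction L with
  | nil => rfl
  | cons m L ih =>
    rw [List.countP_cons, ← ih]
    show bt B (m ^^^ d) + cntA B d L = _
    rw [bt_eq, add_comm]

theorem SL_testBit : ∀ al < 2, ∀ be < 2,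
    Nat.beq (cntA (DB al be) 0 (SL al be)) 276 = true := by decide +kernel

theorem SL_lt : ∀ al < 2, ∀ be < 2, (SL al be).all (fun m => Nat.blt m 2048) = true := by
  decide +kernel

theorem SL_length : ∀ al < 2, ∀ be < 2, (SL al be).length = 276 := by decide +kernel

theorem DB_card : ∀ al < 2, ∀ be < 2,
    countR 11 0 (fun m => (DB al be).testBit m) = 276 := by decide +kernel

theorem SL_toFinset {al be : ℕ} (hal : al < 2) (hbe : be < 2) :
    (SL al be).toFinset = (Finset.Ico 0 2048).filter fun m => (DB al be).testBit m = true := by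
  apply Finset.eq_of_subset_of_card_le
  · intro m hm
    rw [List.mem_toFinset] at hm
    rw [Finset.mem_filter, Finset.mem_Ico]
    have h1 := List.all_eq_true.1 (SL_lt al hal be hbe) m hm
    rw [Nat.blt_eq] at h1
    refine ⟨⟨Nat.zero_le _, h1⟩, ?_⟩
    have h2 := Nat.eq_of_beq_eq_true (SL_testBit al hal be hbe)
    rw [cntA_eq, ← SL_length al hal be hbe, List.countP_eq_length] at h2
    have h3 := h2 m hm
    rw [Nat.xor_zero] at h3
    exact h3
  · rw [List.toFinset_card_of_nodup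
      ((pairwise_of_inc _ (inc_SL al hal be hbe)).imp (fun h => ne_of_lt h)),
      SL_length al hal be hbe, ← DB_card al hal be hbe, countR_spec]
    exact le_rfl

theorem mem_SL_iff {al be : ℕ} (hal : al < 2) (hbe : be < 2) {m : ℕ} :
    m ∈ SL al be ↔ m < 2048 ∧ (DB al be).testBit m = true := by
  rw [← List.mem_toFinset, SL_toFinset hal hbe, Finset.mem_filter, Finset.mem_Ico]
  simp

theorem nodup_SL {al be : ℕ} (hal : al < 2) (hbe : be < 2) : (SL al be).Nodup :=
  (pairwise_of_inc _ (inc_SL al hal be hbe)).imp (fun h => ne_of_lt h)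

/-- the value on `D240` -/
def kk : ℕ → ℕ → ℕ
  | 0, 0 => 68
  | 0, _ => 44
  | _, 0 => 36
  | _, _ => 12

/-- all counts on a list -/
def chkA (B : ℕ) (L : List ℕ) (k : ℕ) (M : List ℕ) : Bool :=
  List.rec true (fun d _ r => bif Nat.beq (cntA B d L) k then r else false) M

theorem chkA_spec {B : ℕ} {L : List ℕ} {k : ℕ} {M : List ℕ} (h : chkA B L k M = true) :
    ∀ d ∈ M, cntA B d L = k := by
  induction M with
  | nil => intro d hd; exact absurd hd List.not_mem_nil
  | cons a M ih =>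
    have h' : (bif Nat.beq (cntA B a L) k then chkA B L k M else false) = true := h
    rcases h1 : Nat.beq (cntA B a L) k with _ | _
    · rw [h1] at h'
      exact absurd h' Bool.false_ne_true
    · rw [h1] at h'
      intro d hd
      rcases List.mem_cons.1 hd with rfl | hd
      · exact Nat.eq_of_beq_eq_true h1
      · exact ih h' d hd

theorem cnt_36 : ∀ al < 2, ∀ be < 2, chkA (DB al be) (SL al be) 44 [1, 1025] = true := by
  decide +kernel

theorem cnt_240 : ∀ al < 2, ∀ be < 2,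
    chkA (DB al be) (SL al be) (kk al be) (D240 al be) = true := by
  decide +kernel

section group

variable {A : Type*} [CommGroup A] {Φ : ℕ → A}

/-- the number of `y ∈ D` with `x y ∈ D` -/
noncomputable def cD (D : Set A) (x : A) : ℕ := {y | y ∈ D ∧ x * y ∈ D}.ncard

theorem cD_map {D : Set A} {g : A ≃* A} (hg : ∀ x, x ∈ D ↔ g x ∈ D) (x : A) :
    cD D (g x) = cD D x := by
  unfold cD
  rw [← Set.ncard_image_of_injective {y | y ∈ D ∧ x * y ∈ D} g.injective]
  congr 1
  ext y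
  constructor
  · rintro ⟨h1, h2⟩
    refine ⟨g.symm y, ⟨?_, ?_⟩, g.apply_symm_apply y⟩
    · rw [hg, g.apply_symm_apply]; exact h1
    · rw [hg, map_mul, g.apply_symm_apply]; exact h2
  · rintro ⟨y, ⟨h1, h2⟩, rfl⟩
    exact ⟨(hg y).1 h1, by rw [← map_mul]; exact (hg _).1 h2⟩

theorem injOn_of (hx : ∀ a b, Φ (a ^^^ b) = Φ a * Φ b) (hi : ∀ a, a < 2048 → Φ a = 1 → a = 0)
    {a b : ℕ} (ha : a < 2048) (hb : b < 2048) (h : Φ a = Φ b) : a = b := by
  have h0 : Φ b * Φ b = 1 := by
    rw [← hx, Nat.xor_self]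
    have := hx 0 0
    rw [Nat.xor_self] at this
    exact (mul_eq_left.1 this.symm)
  exact Nat.xor_eq_zero_iff.1 (hi _ (Nat.xor_lt_two_pow (n := 11) ha hb) (by rw [hx, h, h0]))

theorem cD_eq (hx : ∀ a b, Φ (a ^^^ b) = Φ a * Φ b) (hi : ∀ a, a < 2048 → Φ a = 1 → a = 0)
    {al be : ℕ} (hal : al < 2) (hbe : be < 2) {d : ℕ} (hd : d < 2048) :
    cD (Φ '' {m | m ∈ Dl al be}) (Φ d) = cntA (DB al be) d (SL al be) := by
  classical
  have hlt : ∀ m, m ∈ Dl al be → m < 2048 := by
    intro m hm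
    have h1 := DB_of_mem al hal be hbe m hm
    by_contra h2
    have h3 : DB al be < 2 ^ m := by
      have h4 : ∀ al < 2, ∀ be < 2, DB al be < 2 ^ 2048 := by decide +kernel
      exact (h4 al hal be hbe).trans_le (Nat.pow_le_pow_right (by norm_num) (by omega))
    rw [Nat.testBit_lt_two_pow h3] at h1
    exact absurd h1 Bool.false_ne_true
  have hmem : ∀ m, m < 2048 → (Φ m ∈ Φ '' {m | m ∈ Dl al be} ↔ (DB al be).testBit m = true) := by
    intro m hm
    rw [DB_iff hal hbe hm]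
    constructor
    · rintro ⟨k, hk, h⟩
      rw [← injOn_of hx hi (hlt k hk) hm h]
      exact hk
    · intro h
      exact ⟨m, h, rfl⟩
  have h1 : {y | y ∈ Φ '' {m | m ∈ Dl al be} ∧ Φ d * y ∈ Φ '' {m | m ∈ Dl al be}} =
      Φ '' (((SL al be).filter fun m => (DB al be).testBit (m ^^^ d)).toFinset : Finset ℕ) := by
    ext y
    constructor
    · rintro ⟨⟨m, hm, rfl⟩, h2⟩
      refine ⟨m, ?_, rfl⟩
      rw [Finset.mem_coe, List.mem_toFinset, List.mem_filter, mem_SL_iff hal hbe]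
      refine ⟨⟨hlt m hm, DB_of_mem al hal be hbe m hm⟩, ?_⟩
      rw [← hx, hmem _ (Nat.xor_lt_two_pow (n := 11) hd (hlt m hm))] at h2
      rw [Nat.xor_comm]
      exact h2
    · rintro ⟨m, hm, rfl⟩
      rw [Finset.mem_coe, List.mem_toFinset, List.mem_filter, mem_SL_iff hal hbe] at hm
      refine ⟨(hmem m hm.1.1).2 hm.1.2, ?_⟩
      rw [← hx, hmem _ (Nat.xor_lt_two_pow (n := 11) hd hm.1.1), Nat.xor_comm]
      exact hm.2
  have h2 : Set.InjOn Φ
      (((SL al be).filter fun m => (DB al be).testBit (m ^^^ d)).toFinset : Finset ℕ) := by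
    intro a ha b hb h
    rw [Finset.mem_coe, List.mem_toFinset, List.mem_filter, mem_SL_iff hal hbe] at ha hb
    exact injOn_of hx hi ha.1.1 hb.1.1 h
  unfold cD
  rw [h1, h2.ncard_image, Set.ncard_coe_finset, List.toFinset_card_of_nodup
    ((nodup_SL hal hbe).filter _), cntA_eq, List.countP_eq_length_filter]

/-- **Homogeneity**: an automorphism preserving the set of the 276 elements and mapping one of
the 36 to one of the 240 forces `al = 0`, `be = 1`. -/
theorem al_be_of_map (hx : ∀ a b, Φ (a ^^^ b) = Φ a * Φ b)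
    (hi : ∀ a, a < 2048 → Φ a = 1 → a = 0) {al be : ℕ} (hal : al < 2) (hbe : be < 2)
    {g : A ≃* A} (hg : ∀ x, x ∈ Φ '' {m | m ∈ Dl al be} ↔ g x ∈ Φ '' {m | m ∈ Dl al be})
    {m m' : ℕ} (hm : m = 1 ∨ m = 1025) (hm' : m' ∈ D240 al be) (h : g (Φ m) = Φ m') :
    al = 0 ∧ be = 1 := by
  have h36 := chkA_spec (cnt_36 al hal be hbe)
  have h240 := chkA_spec (cnt_240 al hal be hbe) m' hm'
  have hlt : m < 2048 := by omega
  have hlt' : m' < 2048 := by
    have h4 : ∀ al < 2, ∀ be < 2, ∀ m ∈ D240 al be, m < 2048 := by decide +kernel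
    exact h4 al hal be hbe m' hm'
  have h1 := cD_map hg (Φ m)
  rw [h, cD_eq hx hi hal hbe hlt, cD_eq hx hi hal hbe hlt', h240,
    h36 m (by rcases hm with rfl | rfl <;> simp)] at h1
  interval_cases al <;> interval_cases be <;> simp_all [kk]

end group

end Cfsg.Agent.J4Type.DuadCount
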