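import Cfsg.Agent.J4Type.DuadSet

/-!
# From the orbits of `N_C(E)` to a presentation of `E` as the even cocode: conclusion

Homogeneity of the set of the 276 elements under `N_G(E)` gives `al = 0`, `be = 1`; then the
elements `e (mog i c) = f_0i w(i,c) z^(N c)` present `E` as the even cocode.
-/

set_option autoImplicit false

namespace Cfsg.Agent.J4Type.DuadEnd

open Cfsg VCoord HexPerms ECoord EElems DuadInv DuadSet
open SporadicA.FieldFour (F4)
open SporadicA.GolayBase (idx pt maskOf fin)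
open DuadMask (wm mn nz fm D36 D240 Dl DB)
open scoped Pointwise IsMulCommutative

variable {G : Type*} [Group G]

attribute [local instance] FrameOf.instCommE

variable {H : Hex G} (K : DData H)

/-! ### `al = 0`, `be = 1` -/

theorem conj_mem_DD (n : Subgroup.normalizer (H.E hex0 : Set G)) (x : H.E hex0) :
    x ∈ DD K ↔ (H.E hex0).normalizerMonoidHom n x ∈ DD K := by
  by_cases hx : x = 1
  · rw [hx, map_one]
  have hx' : (H.E hex0).normalizerMonoidHom n x ≠ 1 := by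
    intro h
    apply hx
    apply ((H.E hex0).normalizerMonoidHom n).injective
    rw [h, map_one]
  rw [mem_DD_iff K x hx, mem_DD_iff K _ hx', not_iff_not]
  have e : (((H.E hex0).normalizerMonoidHom n x : H.E hex0) : G) = (n : G) * x * (n : G)⁻¹ := rfl
  rw [e]
  constructor
  · rintro ⟨m, hm, h⟩
    refine ⟨n * m, Subgroup.mul_mem _ n.2 hm, ?_⟩
    rw [← h]; group
  · rintro ⟨m, hm, h⟩
    refine ⟨(n : G)⁻¹ * m, Subgroup.mul_mem _ (Subgroup.inv_mem _ n.2) hm, ?_⟩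
    calc (n : G)⁻¹ * m * H.z * ((n : G)⁻¹ * m)⁻¹ = (n : G)⁻¹ * (m * H.z * m⁻¹) * n := by group
      _ = x := by rw [h]; group

theorem notMem_1088 : ∀ al < 2, ∀ be < 2, 1088 ∉ Dl al be := by decide +kernel

theorem xor_1088 : ∀ m1 ∈ D36, ∀ m2 ∈ D36, m1 ^^^ m2 ≠ 1088 := by decide +kernel

theorem lt_of_mem : ∀ al < 2, ∀ be < 2, ∀ m ∈ Dl al be, m < 2048 := by decide +kernel

theorem al_be : K.al.val = 0 ∧ K.be.val = 1 := by
  have hal := val_lt K.al
  have hbe := val_lt K.be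
  have hinj : ∀ a b : ℕ, a < 2048 → b < 2048 → Phi K a = Phi K b → a = b := fun a b ha hb h =>
    DuadCount.injOn_of (Phi_xor K) (Phi_inj K) ha hb h
  have hx0 : Phi K 1088 ≠ 1 := fun h => absurd (Phi_inj K 1088 (by norm_num) h) (by norm_num)
  have hx1 : Phi K 1088 ∉ DD K := by
    rintro ⟨m, hm, h⟩
    have := hinj m 1088 (lt_of_mem _ hal _ hbe m hm) (by norm_num) h
    subst this
    exact notMem_1088 _ hal _ hbe hm
  rw [mem_DD_iff K _ hx0, not_not] at hx1
  obtain ⟨n, hn, h⟩ := hx1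
  set g := (H.E hex0).normalizerMonoidHom ⟨n, hn⟩ with hg
  have hgz : g (Phi K 1024) = Phi K 1088 := by
    apply Subtype.ext
    rw [← h, Phi_1024]
    show n * zp H.z 1 * n⁻¹ = _
    rw [zp_one]
  have hgD : ∀ x, x ∈ Phi K '' {m | m ∈ Dl K.al.val K.be.val} ↔
      g x ∈ Phi K '' {m | m ∈ Dl K.al.val K.be.val} := fun x => conj_mem_DD K ⟨n, hn⟩ x
  have hm1 : 1 ∈ Dl K.al.val K.be.val := List.mem_append_left _ (by decide +kernel)
  have hm2 : 1025 ∈ Dl K.al.val K.be.val := List.mem_append_left _ (by decide +kernel)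
  obtain ⟨m1, hd1, e1⟩ := (hgD _).1 ⟨1, hm1, rfl⟩
  obtain ⟨m2, hd2, e2⟩ := (hgD _).1 ⟨1025, hm2, rfl⟩
  have e3 : m1 ^^^ m2 = 1088 := by
    apply hinj _ _ (Nat.xor_lt_two_pow (n := 11) (lt_of_mem _ hal _ hbe m1 hd1)
      (lt_of_mem _ hal _ hbe m2 hd2)) (by norm_num)
    rw [Phi_xor, e1, e2, ← map_mul, ← Phi_xor, ← hgz]
    rfl
  rcases List.mem_append.1 hd1 with h1 | h1
  · rcases List.mem_append.1 hd2 with h2 | h2
    · exact absurd e3 (xor_1088 m1 h1 m2 h2)
    · exact DuadCount.al_be_of_map (Phi_xor K) (Phi_inj K) hal hbe hgD (Or.inr rfl) h2 e2.symm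
  · exact DuadCount.al_be_of_map (Phi_xor K) (Phi_inj K) hal hbe hgD (Or.inl rfl) h1 e1.symm

/-! ### the elements `e p` -/

/-- the presentation of the cocode -/
noncomputable def eP (p : GolayPt) : H.E hex0 := Phi K (DuadCode.em (idx p))

theorem cocode : DuadStab.IsCocode (eP K) := DuadCode.isCocode (Phi_xor K) (Phi_inj K)

theorem exists_mask (a : H.E hex0) : ∃ m < 2048, a = Phi K m := by
  have hfin : Finite (H.E hex0) :=
    Nat.finite_of_card_ne_zero (by rw [H.E_card hex0 hex0_isHex]; norm_num)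
  let φ : Fin 2048 → H.E hex0 := fun m => Phi K m
  have hinj : Function.Injective φ := fun a b h =>
    Fin.ext (DuadCount.injOn_of (Phi_xor K) (Phi_inj K) a.2 b.2 h)
  have hbij := (Nat.bijective_iff_injective_and_card φ).2 ⟨hinj, by
    rw [H.E_card hex0 hex0_isHex, Nat.card_fin]; norm_num⟩
  obtain ⟨m, hm⟩ := hbij.2 a
  exact ⟨m, m.2, hm.symm⟩

theorem gen (a : H.E hex0) : ∃ S : Finset GolayPt, Even S.card ∧ a = ∏ p ∈ S, eP K p := by
  obtain ⟨m, hm, rfl⟩ := exists_mask K a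
  exact DuadCode.exists_prod (Phi_xor K) hm

/-- the masks of the duads -/
def duadMasks : List ℕ :=
  (List.range 24).flatMap fun i => (List.range i).map fun j => DuadCode.em i ^^^ DuadCode.em j

theorem duad_mem : ∀ i < 24, ∀ j < i, (DB 0 1).testBit (DuadCode.em i ^^^ DuadCode.em j) = true := by
  decide +kernel

theorem mem_duad : (Dl 0 1).all (fun m => DuadMask.memb m duadMasks) = true := by
  decide +kernel

theorem duad_iff (a : H.E hex0) : a ∈ DD K ↔ ∃ p q, p ≠ q ∧ a = eP K p * eP K q := by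
  obtain ⟨hal, hbe⟩ := al_be K
  have hD : DD K = Phi K '' {m | m ∈ Dl 0 1} := by
    unfold DD
    rw [hal, hbe]
  rw [hD]
  constructor
  · rintro ⟨m, hm, rfl⟩
    have h1 := (DuadMask.memb_iff _ _).1 (List.all_eq_true.1 mem_duad m hm)
    obtain ⟨i, hi, h1⟩ := List.mem_flatMap.1 h1
    obtain ⟨j, hj, rfl⟩ := List.mem_map.1 h1
    rw [List.mem_range] at hi hj
    refine ⟨pt i, pt j, ?_, ?_⟩
    · intro h
      have h2 := congrArg idx h
      rw [SporadicA.GolayBase.idx_pt hi, SporadicA.GolayBase.idx_pt (hj.trans hi)] at h2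
      omega
    · unfold eP
      rw [Phi_xor, SporadicA.GolayBase.idx_pt hi, SporadicA.GolayBase.idx_pt (hj.trans hi)]
  · rintro ⟨p, q, hpq, rfl⟩
    have key : ∀ i j, i < 24 → j < i → Phi K (DuadCode.em i) * Phi K (DuadCode.em j) ∈ Phi K '' {m | m ∈ Dl 0 1} := by
      intro i j hi hj
      refine ⟨DuadCode.em i ^^^ DuadCode.em j, ?_, Phi_xor K _ _⟩
      exact (DuadMask.DB_iff (by norm_num) (by norm_num) (Nat.xor_lt_two_pow (n := 11)
        (DuadCode.em_lt' i) (DuadCode.em_lt' j))).1 (duad_mem i hi j hj)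
    have hne : idx p ≠ idx q := fun h => hpq (SporadicA.GolayBase.idx_injective h)
    rcases lt_or_gt_of_ne hne with h | h
    · have := key (idx q) (idx p) (SporadicA.GolayBase.idx_lt q) h
      rw [mul_comm] at this
      exact this
    · exact key (idx p) (idx q) (SporadicA.GolayBase.idx_lt p) h

/-! ### the remaining fields -/

theorem linE_tet : ∀ i, DuadCode.linE (maskOf (tet i)) = 1024 := by decide +kernel

theorem prod_tet (i : Fin 6) : ((∏ p ∈ tet i, eP K p : H.E hex0) : G) = H.z := by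
  have h1 : ∏ p ∈ tet i, eP K p = Phi K (DuadCode.linE (maskOf (tet i))) := by
    rw [← DuadCode.prod_fin_em (Phi_xor K), SporadicA.GolayBase.fin_maskOf]
    rfl
  rw [h1, linE_tet, Phi_1024]
  show zp H.z 1 = H.z
  exact zp_one _

theorem PE_eP (p q : GolayPt) : PE H (eP K p * eP K q) =
    gO (oo (DuadCode.em (idx p) ^^^ DuadCode.em (idx q))) := by
  unfold eP
  rw [← Phi_xor, PE_Phi]

theorem oo_em : ∀ i j : Fin 6, ∀ c d : Fin 4,
    oo (DuadCode.em (idx (mog i c)) ^^^ DuadCode.em (idx (mog j d))) = mo i j := by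
  decide +kernel

theorem mem_tet {i : Fin 6} {p : GolayPt} (hp : p ∈ tet i) : ∃ c, p = mog i c := by
  obtain ⟨c, -, h⟩ := Finset.mem_image.1 hp
  exact ⟨c, h.symm⟩

theorem PE_pair {i j : Fin 6} {p q : GolayPt} (hp : p ∈ tet i) (hq : q ∈ tet j) :
    PE H (eP K p * eP K q) = gO (mo i j) := by
  obtain ⟨c, rfl⟩ := mem_tet hp
  obtain ⟨d, rfl⟩ := mem_tet hq
  rw [PE_eP, oo_em]

theorem PE_eq_one_iff (a : H.E hex0) : PE H a = 1 ↔ (a : G) ∈ H.Q := by
  constructor
  · intro h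
    exact mem_Q_of_P H (toC H a a.2) (E_sq H a.2) h
  · intro h
    exact P_of_Q H _ h

theorem mo_eq_zero : ∀ i j, mo i j = 0 ↔ i = j := by decide +kernel

theorem mem_Q (i j : Fin 6) (p : GolayPt) (hp : p ∈ tet i) (q : GolayPt) (hq : q ∈ tet j) :
    ((eP K p : G) * (eP K q : G) ∈ H.Q ↔ i = j) := by
  have h1 : (eP K p : G) * (eP K q : G) = ((eP K p * eP K q : H.E hex0) : G) := rfl
  rw [h1, ← PE_eq_one_iff, PE_pair K hp hq, ← mo_eq_zero, ← gO_zero]
  exact gO_injective.eq_iff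

theorem P_duad (a : Subgroup.centralizer ({H.z} : Set G)) (i j : Fin 6) (_ : i ≠ j)
    (p : GolayPt) (h1 : p ∈ tet i) (q : GolayPt) (h2 : q ∈ tet j)
    (ha : (a : G) = (eP K p : G) * (eP K q : G)) : H.P a (hp i) = hp j := by
  have e : a = toC H ((eP K p * eP K q : H.E hex0) : G) (eP K p * eP K q).2 := Subtype.ext ha
  have e2 : H.P a = PE H (eP K p * eP K q) := by
    rw [e]
    rfl
  rw [e2, PE_pair K h1 h2, gO_hp]

theorem em_mog : ∀ (i : Fin 6) (c : Fin 4),
    DuadCode.em (idx (mog i c)) = g0 1 i ^^^ wm i c ^^^ nz c := by decide +kernel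

theorem eP_mog (i : Fin 6) (c : Fin 4) : eP K (mog i c) =
    fE K (mo 0 i) * sE K (sc (F4.ofNat c) (hv i)) * zE H (nm (F4.ofNat c)) := by
  have h := Phi_g0 K i
  rw [(al_be K).2] at h
  unfold eP
  rw [em_mog, Phi_xor, Phi_xor, h, Phi_wm, Phi_nz]

theorem om_code : ∀ c : Fin 4, F4.ofNat (FrameOf.om c) = .w * F4.ofNat c ∧
    nm (.w * F4.ofNat c) = nm (F4.ofNat c) := by decide +kernel

theorem ρ_eP (i : Fin 6) (c : Fin 4) :
    H.ρ * (eP K (mog i c) : G) * H.ρ⁻¹ = (eP K (mog i (FrameOf.om c)) : G) := by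
  rw [eP_mog, eP_mog, (om_code c).1, (om_code c).2]
  have h1 : H.ρ * K.F.f (mo 0 i) * H.ρ⁻¹ = K.F.f (mo 0 i) := by
    rw [← K.F.f_rho, mul_inv_cancel_right]
  have h2 := K.C.s_rho (sc (F4.ofNat c) (hv i))
  have h3 : H.ρ * zp H.z (nm (F4.ofNat c)) * H.ρ⁻¹ = zp H.z (nm (F4.ofNat c)) := by
    rw [zp_comm H.ρ_comm, mul_inv_cancel_right]
  have h4 : sc .w (sc (F4.ofNat c) (hv i)) = sc (.w * F4.ofNat c) (hv i) := by
    funext k
    exact (mul_assoc _ _ _).symm
  rw [h4] at h2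
  show H.ρ * (K.F.f (mo 0 i) * K.C.s (sc (F4.ofNat c) (hv i)) * zp H.z (nm (F4.ofNat c))) *
    H.ρ⁻¹ = K.F.f (mo 0 i) * K.C.s (sc (.w * F4.ofNat c) (hv i)) * zp H.z (nm (F4.ofNat c))
  rw [← h2]
  conv_rhs => rw [← h1, ← h3]
  group

/-- **The presentation of `E` as the even cocode.** -/
noncomputable def toCoco : FrameOf.Coco H where
  e := eP K
  cocode := cocode K
  gen := gen K
  conj_iff := fun a ha => by
    rw [← duad_iff, mem_DD_iff K a ha, not_not]
  prod_tet := prod_tet K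
  mem_Q := fun i j p h1 q h2 => mem_Q K i j p h1 q h2
  P_duad := fun a i j hij p h1 q h2 h => P_duad K a i j hij p h1 q h2 h
  ρ_duad := fun i j c d => by
    rw [← ρ_eP, ← ρ_eP]
    group

include K in
/-- `DData` gives `Frame`. -/
theorem exists_frame [Finite G]
    (hE : ∀ g : G, g⁻¹ * H.z * g ∈ H.E hex0 →
      ∃ O, IsHex O ∧ ∀ a : G, g⁻¹ * a * g ∈ H.E hex0 ↔ a ∈ H.E O) :
    ∃ F : Frame G, F.toHex = H := FrameOf2.exists_frame (toCoco K) hE

end Cfsg.Agent.J4Type.DuadEnd
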