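import Cfsg.Agent.J4Type.FrameOf2
import Cfsg.Agent.J4Type.DData
import Cfsg.Agent.J4Type.DuadCode
import Cfsg.Agent.J4Type.DuadCount

/-!
# From the orbits of `N_C(E)` to a presentation of `E` as the even cocode: masks

`DData H` : coordinates of `E = E hex0` in which the elements not conjugate to `z` under `N_G(E)`
are the 36 elements `z^t w(i,x)` and the 240 elements `z^(N x + N y) w(i,x) w(j,y) f_ij`.
Here: the map `Φ` from masks to `E`.
-/

set_option autoImplicit false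

namespace Cfsg.Agent.J4Type.DuadInv

open Cfsg VCoord HexPerms ECoord EElems
open SporadicA.FieldFour (F4)
open DuadMask (wm mn nz fm D36 D240 Dl DB)
open scoped Pointwise IsMulCommutative

variable {G : Type*} [Group G]

attribute [local instance] FrameOf.instCommE

variable {H : Hex G} (K : DData H)

/-- the elements `s a` -/
def sE (a : F43) : H.E hex0 := ⟨K.C.s a, K.C.s_E a⟩

/-- the elements `f o` -/
def fE (o : Fin 16) : H.E hex0 := ⟨K.F.f o, K.F.f_E o⟩

/-- the powers of `z` -/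
def zE (H : Hex G) (t : ZMod 2) : H.E hex0 := ⟨zp H.z t, zp_mem H t⟩

theorem sE_add (a b : F43) : sE K (a + b) = sE K a * sE K b := Subtype.ext (K.C.s_add a b)

theorem sE_zero : sE K 0 = 1 := Subtype.ext (s_zero K.C)

theorem zE_add (s t : ZMod 2) : zE H (s + t) = zE H s * zE H t := Subtype.ext (zp_add (zz H) s t)

theorem zE_zero : zE H 0 = 1 := Subtype.ext (zp_zero _)

theorem sqE (a : H.E hex0) : a * a = 1 := Subtype.ext (E_sq H a.2)

theorem fE_zero : fE K 0 = 1 := Subtype.ext K.F.f_zero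

/-! ### masks -/

/-- the vector of a mask -/
def vec (m : ℕ) : F43 := fun k => F4.ofNat ((m >>> (2 * (k : ℕ))) % 4)

theorem ofNat_xor {u v : ℕ} (hu : u < 4) (hv : v < 4) :
    F4.ofNat (u ^^^ v) = F4.ofNat u + F4.ofNat v := by
  interval_cases u <;> interval_cases v <;> rfl

theorem vec_xor (a b : ℕ) : vec (a ^^^ b) = vec a + vec b := by
  funext k
  show F4.ofNat (((a ^^^ b) >>> (2 * (k : ℕ))) % 4) =
    F4.ofNat ((a >>> (2 * (k : ℕ))) % 4) + F4.ofNat ((b >>> (2 * (k : ℕ))) % 4)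
  rw [← ofNat_xor (Nat.mod_lt _ (by norm_num)) (Nat.mod_lt _ (by norm_num)),
    Nat.shiftRight_xor_distrib]
  congr 1
  exact Nat.xor_mod_two_pow (n := 2)

/-- the element of `E` with a given mask -/
noncomputable def Phi (m : ℕ) : H.E hex0 :=
  sE K (vec m) * (fE K 1 ^ ((m >>> 6) % 2) * fE K 2 ^ ((m >>> 7) % 2) *
    fE K 4 ^ ((m >>> 8) % 2) * fE K 8 ^ ((m >>> 9) % 2)) * zE H 1 ^ ((m >>> 10) % 2)

theorem powE_xor (x : H.E hex0) (a b : ℕ) :
    x ^ ((a ^^^ b) % 2) = x ^ (a % 2) * x ^ (b % 2) :=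
  CocodeExt.pow_xor (A := H.E hex0) (x := x) (sqE x) a b

theorem Phi_xor (a b : ℕ) : Phi K (a ^^^ b) = Phi K a * Phi K b := by
  unfold Phi
  simp only [Nat.shiftRight_xor_distrib, powE_xor, vec_xor, sE_add]
  ac_rfl

/-- the part of a mask in `E/(E ∩ Q)` -/
def oo (m : ℕ) : Fin 16 := ⟨(m >>> 6) % 16, Nat.mod_lt _ (by norm_num)⟩

/-- `P` on `E` -/
noncomputable def PE (H : Hex G) : H.E hex0 →* Equiv.Perm GolayPt :=
  H.P.comp
    { toFun := fun a => toC H a a.2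
      map_one' := rfl
      map_mul' := fun _ _ => rfl }

theorem gO_bits : ∀ b0 < 2, ∀ b1 < 2, ∀ b2 < 2, ∀ b3 < 2, ∀ h,
    gO 1 ^ b0 * gO 2 ^ b1 * gO 4 ^ b2 * gO 8 ^ b3 = gO ⟨b0 + 2 * b1 + 4 * b2 + 8 * b3, h⟩ := by
  intro b0 h0 b1 h1 b2 h2 b3 h3 h
  have h1' : gO 0 = 1 := gO_zero
  interval_cases b0 <;> interval_cases b1 <;> interval_cases b2 <;> interval_cases b3 <;>
    simp only [pow_zero, pow_one, mul_one, one_mul, gO_mul] <;>
    first
      | rfl
      | (rw [← h1']; rfl)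

theorem PE_Phi (m : ℕ) : PE H (Phi K m) = gO (oo m) := by
  have hs : ∀ a, PE H (sE K a) = 1 := fun a => P_of_Q H _ (K.C.s_Q a)
  have hz : ∀ t, PE H (zE H t) = 1 := fun t => P_of_Q H _ (Subgroup.pow_mem _ H.z_mem_Q _)
  have hf : ∀ o, PE H (fE K o) = gO o := fun o => K.F.f_P o
  have hb : ∀ x, x % 2 < 2 := fun x => Nat.mod_lt _ (by norm_num)
  unfold Phi
  simp only [map_mul, map_pow, hs, hz, hf, one_mul, one_pow, mul_one]
  have e : (m >>> 6) % 16 = (m >>> 6) % 2 + 2 * ((m >>> 7) % 2) + 4 * ((m >>> 8) % 2) +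
      8 * ((m >>> 9) % 2) := by
    simp only [Nat.shiftRight_eq_div_pow]
    omega
  rw [gO_bits _ (hb _) _ (hb _) _ (hb _) _ (hb _) (by omega)]
  congr 1
  exact Fin.ext e.symm

theorem Phi_inj (m : ℕ) (hm : m < 2048) (h : Phi K m = 1) : m = 0 := by
  have h1 := PE_Phi K m
  rw [h, map_one, ← gO_zero] at h1
  have h2 : (m >>> 6) % 16 = 0 := congrArg Fin.val (gO_injective h1).symm
  rw [Nat.shiftRight_eq_div_pow] at h2
  have e6 : (m >>> 6) % 2 = 0 := by rw [Nat.shiftRight_eq_div_pow]; omega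
  have e7 : (m >>> 7) % 2 = 0 := by rw [Nat.shiftRight_eq_div_pow]; omega
  have e8 : (m >>> 8) % 2 = 0 := by rw [Nat.shiftRight_eq_div_pow]; omega
  have e9 : (m >>> 9) % 2 = 0 := by rw [Nat.shiftRight_eq_div_pow]; omega
  unfold Phi at h
  rw [e6, e7, e8, e9, pow_zero, pow_zero, pow_zero, pow_zero, one_mul, one_mul, one_mul,
    mul_one] at h
  have h3 : ∃ t, zE H 1 ^ ((m >>> 10) % 2) = zE H t ∧ (t = 0 → (m >>> 10) % 2 = 0) := by
    have h4 : (m >>> 10) % 2 = 0 ∨ (m >>> 10) % 2 = 1 := by omega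
    rcases h4 with h4 | h4
    · exact ⟨0, by rw [h4, pow_zero, zE_zero], fun _ => h4⟩
    · exact ⟨1, by rw [h4, pow_one], fun h5 => absurd h5 (by decide)⟩
  obtain ⟨t, ht, ht0⟩ := h3
  rw [ht, mul_comm] at h
  have h5 : zp H.z t * K.C.s (vec m) = zp H.z 0 * K.C.s 0 := by
    rw [zp_zero, s_zero K.C, mul_one]
    exact congrArg Subtype.val h
  obtain ⟨h6, h7⟩ := s_inj K.C h5
  have h8 := ht0 h6
  have h9 : ∀ u : ℕ, u < 4 → F4.ofNat u = 0 → u = 0 := by
    intro u hu h10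
    interval_cases u
    · rfl
    · exact absurd h10 (by decide)
    · exact absurd h10 (by decide)
    · exact absurd h10 (by decide)
  have k0 : (m >>> 0) % 4 = 0 := h9 _ (Nat.mod_lt _ (by norm_num)) (congrFun h7 0)
  have k1 : (m >>> 2) % 4 = 0 := h9 _ (Nat.mod_lt _ (by norm_num)) (congrFun h7 1)
  have k2 : (m >>> 4) % 4 = 0 := h9 _ (Nat.mod_lt _ (by norm_num)) (congrFun h7 2)
  rw [Nat.shiftRight_eq_div_pow] at k0 k1 k2 h8
  omega

end Cfsg.Agent.J4Type.DuadInv
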