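import Cfsg.Agent.J4Type.CocodeExt

/-!
# Masks for the elements of `E hex0`

An elementary abelian group of order `2 ^ 11` with a fixed basis: elements are masks `m < 2048`.
Bits `0–5`: the vector `(a; 0)`, `a ∈ F₄³` (code `a₀ + 4 a₁ + 16 a₂`, `0, 1, ω, ω² = 0, 1, 2, 3`);
bits `6–9`: the part `f o`, `o < 16`; bit `10`: `z`.
`Dl al be` lists the masks of the 36 elements `w(i,c) z^s` and of the 240 elements
`f_ij w(i,c) w(j,d) z^(N c + N d)`, where `f_ij f_jk f_ik = z^al`, `f_01 f_23 f_45 = z^be`.
-/

set_option autoImplicit false

namespace Cfsg.Agent.J4Type.DuadMask

open Cfsg Cfsg.Agent.SporadicA.GolayBase Cfsg.Agent.J4Type.CocodeMask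
  Cfsg.Agent.J4Type.CocodeExt Cfsg.Agent.J4Type.DuadStab

/-- the mask of `w(i,c)` -/
def wm (i c : ℕ) : ℕ :=
  [0, 1, 2, 3, 0, 4, 8, 12, 0, 16, 32, 48, 0, 21, 42, 63, 0, 57, 30, 39, 0, 45, 54, 27].getD
    (4 * i + c) 0

/-- the vectors `m₀, …, m₅` of `F₂⁴` -/
def mn (i : ℕ) : ℕ := [0, 1, 2, 4, 8, 15].getD i 0

/-- the norm, as a mask -/
def nz (c : ℕ) : ℕ := bif Nat.beq c 0 then 0 else 1024

/-- the mask of `f_ij`, `i < j` -/
def fm (al be i j : ℕ) : ℕ :=
  (64 * (mn i ^^^ mn j)) ^^^ (bif Nat.beq i 0 then 0 else 1024 * al) ^^^
    (bif Nat.beq j 5 then 1024 * be else 0)

def D36 : List ℕ :=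
  (List.range 6).flatMap fun i => [1, 2, 3].flatMap fun c => [wm i c, wm i c ^^^ 1024]

def pairs : List (ℕ × ℕ) :=
  [(0, 1), (0, 2), (0, 3), (0, 4), (0, 5), (1, 2), (1, 3), (1, 4), (1, 5), (2, 3), (2, 4), (2, 5),
    (3, 4), (3, 5), (4, 5)]

def D240 (al be : ℕ) : List ℕ :=
  pairs.flatMap fun p => (List.range 4).flatMap fun c => (List.range 4).map fun d =>
    fm al be p.1 p.2 ^^^ wm p.1 c ^^^ wm p.2 d ^^^ nz c ^^^ nz d

def Dl (al be : ℕ) : List ℕ := D36 ++ D240 al be

/-- `Dl` as bit sets -/
def DB : ℕ → ℕ → ℕ
  | 0, 0 => 31621216273998554799358122144156599361546869907172580669419172535210466550799239079427187750006377737808354779061072919316358779659109903331418191261410615035777876397806211338159211943319559030515505323200249865081659663664581087918730517214069317403896825677418954778877826807774167789972464970799459095671177075779985545250975664645598424821488448227493438796019407599531062514109087178137969653380546912947253815397113542439563879131524810656264144155602234455595063343224279900889138335662827221838988081113078811055680699559658919951375455698212175441132310225854199259117406870208580105442255810774131872030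
  | 0, _ => 87189493552663929645803919560507665926905500137023204776941311289658283055125910161039807798587262141844892970816129568256146787892542069279405003210395784673720721065612402197767100541771428019614261961994121384316138917959348533785123802583365746648610530748431716749133926052483960722127498529342444461457033575816707318150901387363829287237293845572649591181604296357213308045505243355752608229235707660393019363988407103391103796290653756664750414674539459832705680013278371773402187007222512935068363674969485064775532058903960640537346092074093305422904650229534603867250507093576957814980533892294190895390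
  | _, 0 => 31621216273998555263101754779006414430835541853303003861835995827066730727855619788337000421719150176333010125448921602408729869409823103875193179870842106626743099026980969338524661120701542280086267861213925748527859986739135902746962012035501180836181910944330343993943716619044904245562248139284638615104549587388818849082947596686841549843478045891135834588238140252375551673655605601122569982483100500258374153100726164223113724410801632821669506140333864201004892326323446991082944305535069134242789874694535428315879617907013681239176608382456311149655665254476461817987092589421966173194814469906987290910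
  | _, _ => 87189493552663929182060286925657850857616828190892781579298797606150176991165487044181474892897890199908263565335358355090160693996862198035806052936124399576911879354255397022333581937330182210791361483258858818026754446776613212402739675484794588579499270618996557244021214916786361133162511629497815797685311772906611758428134607726463049730570691903455580129724774798878325134700835865873978669342815621663281129233849428226911459071202002842421597447394820459376590782129003723817753152151347182775841341904785212219164464882008360188743357290049073036797701255826898056727910943778843331224501134310141661470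

theorem DB_of_mem : ∀ al < 2, ∀ be < 2, ∀ m ∈ Dl al be, (DB al be).testBit m = true := by
  decide +kernel

/-- Boolean membership -/
def memb (a : ℕ) : List ℕ → Bool
  | [] => false
  | b :: l => bif Nat.beq a b then true else memb a l

theorem memb_iff (a : ℕ) (l : List ℕ) : memb a l = true ↔ a ∈ l := by
  induction l with
  | nil => simp [memb]
  | cons b l ih =>
    unfold memb
    rw [List.mem_cons, ← ih]
    rcases h : Nat.beq a b with _ | _
    · have : a ≠ b := Nat.ne_of_beq_eq_false h
      simp [this]
    · simp [Nat.eq_of_beq_eq_true h]

theorem DB_aux : ∀ al < 2, ∀ be < 2,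
    allR 11 0 (fun m => bif (DB al be).testBit m then memb m (Dl al be) else true) = true := by
  decide +kernel

theorem DB_iff {al be : ℕ} (hal : al < 2) (hbe : be < 2) {m : ℕ} (hm : m < 2048) :
    (DB al be).testBit m = true ↔ m ∈ Dl al be := by
  refine ⟨fun h => ?_, DB_of_mem al hal be hbe m⟩
  have h1 := allR_zero_spec (DB_aux al hal be hbe) m hm
  rw [h] at h1
  exact (memb_iff _ _).1 h1

/-- number of `m` in `[s, s + 2 ^ k)` with `p m` -/
def countR : ℕ → ℕ → (ℕ → Bool) → ℕ
  | 0, s, p => bif p s then 1 else 0
  | k + 1, s, p => countR k s p + countR k (s + 2 ^ k) p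

theorem countR_spec (k : ℕ) : ∀ (s : ℕ) (p : ℕ → Bool),
    countR k s p = ((Finset.Ico s (s + 2 ^ k)).filter (fun m => p m = true)).card := by
  induction k with
  | zero =>
    intro s p
    rw [pow_zero, Nat.Ico_succ_singleton, countR, Finset.filter_singleton]
    rcases h : p s with _ | _ <;> simp
  | succ k ih =>
    intro s p
    rw [countR, ih, ih, pow_succ, mul_two, ← add_assoc, ← Finset.card_union_of_disjoint,
      ← Finset.filter_union, Finset.Ico_union_Ico_eq_Ico (Nat.le_add_right _ _) (Nat.le_add_right _ _)]
    rw [Finset.disjoint_left]
    intro a ha hb
    rw [Finset.mem_filter, Finset.mem_Ico] at ha hb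
    omega

/-- the number of `m` with `m` and `m ^^^ d` in the set -/
def cnt (al be d : ℕ) : ℕ :=
  countR 11 0 fun m => bif (DB al be).testBit m then (DB al be).testBit (m ^^^ d) else false

theorem cnt_one : ∀ al < 2, ∀ be < 2, cnt al be 1 = 44 := by decide +kernel

theorem cnt_f : cnt 0 0 64 = 68 ∧ cnt 0 1 64 = 44 ∧ cnt 1 0 64 = 36 ∧ cnt 1 1 64 = 12 := by
  decide +kernel

theorem eq_of_cnt {al be : ℕ} (hal : al < 2) (hbe : be < 2) (h : cnt al be 1 = cnt al be 64) :
    al = 0 ∧ be = 1 := by
  rw [cnt_one al hal be hbe] at h
  obtain ⟨h1, h2, h3, h4⟩ := cnt_f
  interval_cases al <;> interval_cases be <;> omega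

end Cfsg.Agent.J4Type.DuadMask
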