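import Cfsg.Agent.J4Type.DuadInv

/-!
# From the orbits of `N_C(E)` to a presentation of `E` as the even cocode: the set of duads
-/

set_option autoImplicit false

namespace Cfsg.Agent.J4Type.DuadSet

open Cfsg VCoord HexPerms ECoord EElems DuadInv
open SporadicA.FieldFour (F4)
open DuadMask (wm mn nz fm D36 D240 Dl DB)
open scoped Pointwise IsMulCommutative

variable {G : Type*} [Group G]

attribute [local instance] FrameOf.instCommE

variable {H : Hex G} (K : DData H)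

/-! ### explicit masks -/

/-- the mask of `f_0j` -/
def g0 (be j : ℕ) : ℕ := (64 * mn j) ^^^ (bif Nat.beq j 5 then 1024 * be else 0)

theorem fm_eq : ∀ al < 2, ∀ be < 2, ∀ j < 6, ∀ i < j,
    fm al be i j = g0 be i ^^^ g0 be j ^^^ (bif Nat.beq i 0 then 0 else 1024 * al) := by
  decide +kernel

theorem Phi_of_vec (m : ℕ) (h : m < 64) : Phi K m = sE K (vec m) := by
  have e : ∀ k, 6 ≤ k → (m >>> k) % 2 = 0 := by
    intro k hk
    have : m >>> k = 0 := by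
      rw [Nat.shiftRight_eq_div_pow]
      apply Nat.div_eq_of_lt
      calc m < 2 ^ 6 := h
        _ ≤ 2 ^ k := Nat.pow_le_pow_right (by norm_num) hk
    rw [this]
  unfold Phi
  rw [e 6 (by norm_num), e 7 (by norm_num), e 8 (by norm_num), e 9 (by norm_num),
    e 10 (by norm_num)]
  simp only [pow_zero, mul_one]

theorem wm_lt : ∀ i < 6, ∀ c < 4, wm i c < 64 := by decide +kernel

theorem vec_wm : ∀ (i : Fin 6) (c : Fin 4), vec (wm i c) = sc (F4.ofNat c) (hv i) := by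
  decide +kernel

theorem Phi_wm (i : Fin 6) (c : Fin 4) : Phi K (wm i c) = sE K (sc (F4.ofNat c) (hv i)) := by
  rw [Phi_of_vec K _ (wm_lt i i.2 c c.2), vec_wm]

theorem vec_high : ∀ m ∈ [64, 128, 256, 512, 1024], vec m = 0 := by decide +kernel

theorem Phi_64 : Phi K 64 = fE K 1 := by
  unfold Phi
  rw [vec_high 64 (by simp), sE_zero]
  simp

theorem Phi_128 : Phi K 128 = fE K 2 := by
  unfold Phi
  rw [vec_high 128 (by simp), sE_zero]
  simp

theorem Phi_256 : Phi K 256 = fE K 4 := by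
  unfold Phi
  rw [vec_high 256 (by simp), sE_zero]
  simp

theorem Phi_512 : Phi K 512 = fE K 8 := by
  unfold Phi
  rw [vec_high 512 (by simp), sE_zero]
  simp

theorem Phi_1024 : Phi K 1024 = zE H 1 := by
  unfold Phi
  rw [vec_high 1024 (by simp), sE_zero]
  simp

theorem Phi_zero : Phi K 0 = 1 := by
  have := Phi_xor K 0 0
  rw [Nat.xor_self] at this
  exact mul_eq_left.1 this.symm

theorem Phi_z (t : ZMod 2) : Phi K (1024 * t.val) = zE H t := by
  rcases zmod2_cases t with rfl | rfl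
  · rw [zE_zero]; exact Phi_zero K
  · exact Phi_1024 K

theorem Phi_nz (c : Fin 4) : Phi K (nz c) = zE H (nm (F4.ofNat c)) := by
  have h : ∀ c : Fin 4, nz c = 1024 * (nm (F4.ofNat c)).val := by decide +kernel
  rw [h, Phi_z]

/-! ### the elements `f (mo i j)` -/

theorem val_lt (t : ZMod 2) : t.val < 2 := ZMod.val_lt t

theorem tri' (i j k : Fin 6) (h1 : i ≠ j) (h2 : i ≠ k) (h3 : j ≠ k) :
    fE K (mo j k) = fE K (mo i j) * fE K (mo i k) * zE H K.al := by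
  have h : fE K (mo i j) * fE K (mo j k) * fE K (mo i k) = zE H K.al :=
    Subtype.ext (K.tri i j k h1 h2 h3)
  rw [← h]
  calc fE K (mo j k) = (fE K (mo i j) * fE K (mo i j)) * (fE K (mo i k) * fE K (mo i k)) *
        fE K (mo j k) := by rw [sqE, sqE, one_mul, one_mul]
    _ = _ := by ac_rfl

theorem fE_five : fE K (mo 0 5) =
    fE K (mo 0 1) * fE K (mo 0 2) * fE K (mo 0 3) * fE K (mo 0 4) * zE H K.be := by
  have h : fE K (mo 0 1) * fE K (mo 2 3) * fE K (mo 4 5) = zE H K.be := Subtype.ext K.hex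
  have e1 := tri' K 0 2 3 (by decide) (by decide) (by decide)
  have e2 := tri' K 0 4 5 (by decide) (by decide) (by decide)
  have hz : zE H K.al * zE H K.al = 1 := sqE _
  rw [← h, e1, e2]
  calc fE K (mo 0 5) = (fE K (mo 0 1) * fE K (mo 0 1)) * (fE K (mo 0 2) * fE K (mo 0 2)) *
        (fE K (mo 0 3) * fE K (mo 0 3)) * (fE K (mo 0 4) * fE K (mo 0 4)) *
        (zE H K.al * zE H K.al) * fE K (mo 0 5) := by
          simp only [sqE, hz, one_mul]
    _ = _ := by ac_rfl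

theorem g0_val : ∀ be < 2, g0 be 0 = 0 ∧ g0 be 1 = 64 ∧ g0 be 2 = 128 ∧ g0 be 3 = 256 ∧
    g0 be 4 = 512 ∧ g0 be 5 = 64 ^^^ 128 ^^^ 256 ^^^ 512 ^^^ 1024 * be := by decide +kernel

theorem mo_val : mo 0 0 = 0 ∧ mo 0 1 = 1 ∧ mo 0 2 = 2 ∧ mo 0 3 = 4 ∧ mo 0 4 = 8 := by
  decide +kernel

theorem Phi_g0 (j : Fin 6) : Phi K (g0 K.be.val j) = fE K (mo 0 j) := by
  obtain ⟨g0', g1', g2', g3', g4', g5'⟩ := g0_val _ (val_lt K.be)
  obtain ⟨m0, m1, m2, m3, m4⟩ := mo_val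
  have h5 : Phi K (g0 K.be.val 5) = fE K (mo 0 5) := by
    rw [g5', fE_five, m1, m2, m3, m4, Phi_xor, Phi_xor, Phi_xor, Phi_xor, Phi_64, Phi_128,
      Phi_256, Phi_512, Phi_z]
  have h0 : Phi K (g0 K.be.val 0) = fE K (mo 0 0) := by rw [g0', m0, fE_zero, Phi_zero]
  have h1 : Phi K (g0 K.be.val 1) = fE K (mo 0 1) := by rw [g1', m1, Phi_64]
  have h2 : Phi K (g0 K.be.val 2) = fE K (mo 0 2) := by rw [g2', m2, Phi_128]
  have h3 : Phi K (g0 K.be.val 3) = fE K (mo 0 3) := by rw [g3', m3, Phi_256]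
  have h4 : Phi K (g0 K.be.val 4) = fE K (mo 0 4) := by rw [g4', m4, Phi_512]
  fin_cases j
  · exact h0
  · exact h1
  · exact h2
  · exact h3
  · exact h4
  · exact h5

theorem Phi_fm (i j : Fin 6) (hij : i < j) : Phi K (fm K.al.val K.be.val i j) = fE K (mo i j) := by
  rw [fm_eq _ (val_lt _) _ (val_lt _) j j.2 i hij, Phi_xor, Phi_xor, Phi_g0, Phi_g0]
  by_cases hi : i = 0
  · subst hi
    show fE K (mo 0 0) * fE K (mo 0 j) * Phi K 0 = _
    rw [mo_val.1, fE_zero, Phi_zero, one_mul, mul_one]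
  · have h0 : Nat.beq (i : ℕ) 0 = false := by
      rcases h : Nat.beq (i : ℕ) 0 with _ | _
      · rfl
      · exact absurd (Fin.ext (Nat.eq_of_beq_eq_true h)) hi
    rw [h0, cond_false, Phi_z, ← tri' K 0 i j (Ne.symm hi) ?_ (ne_of_lt hij)]
    rintro rfl
    exact absurd hij (Nat.not_lt_zero _)

/-! ### the two sets -/

/-- the element `z^t s(a) f(o)` of `E` -/
def elE (t : ZMod 2) (a : F43) (o : Fin 16) : H.E hex0 := zE H t * sE K a * fE K o

theorem elE_coe (t : ZMod 2) (a : F43) (o : Fin 16) :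
    ((elE K t a o : H.E hex0) : G) = el K.C K.F t a o := rfl

theorem exists_code (x : F4) : ∃ c : Fin 4, F4.ofNat c = x := by
  cases x
  · exact ⟨0, rfl⟩
  · exact ⟨1, rfl⟩
  · exact ⟨2, rfl⟩
  · exact ⟨3, rfl⟩

theorem mem36 : ∀ (i : Fin 6) (c : Fin 4), F4.ofNat c ≠ 0 → ∀ t < 2,
    wm i c ^^^ 1024 * t ∈ D36 := by decide +kernel

theorem of_mem36 : ∀ m ∈ D36, ∃ (i : Fin 6) (c : Fin 4), F4.ofNat c ≠ 0 ∧ ∃ t < 2,
    m = wm i c ^^^ 1024 * t := by decide +kernel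

theorem image36 (a : H.E hex0) : a ∈ Phi K '' {m | m ∈ D36} ↔
    ∃ t i x, x ≠ 0 ∧ a = elE K t (sc x (hv i)) 0 := by
  have key : ∀ (t : ZMod 2) (i : Fin 6) (c : Fin 4),
      Phi K (wm i c ^^^ 1024 * t.val) = elE K t (sc (F4.ofNat c) (hv i)) 0 := by
    intro t i c
    rw [Phi_xor, Phi_wm, Phi_z, elE, fE_zero, mul_one, mul_comm]
  constructor
  · rintro ⟨m, hm, rfl⟩
    obtain ⟨i, c, hc, t, ht, rfl⟩ := of_mem36 m hm
    refine ⟨(t : ZMod 2), i, F4.ofNat c, hc, ?_⟩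
    rw [← key, ZMod.val_natCast, Nat.mod_eq_of_lt ht]
  · rintro ⟨t, i, x, hx, rfl⟩
    obtain ⟨c, rfl⟩ := exists_code x
    exact ⟨_, mem36 i c hx t.val (val_lt t), key t i c⟩

theorem pairs_lt : ∀ p ∈ DuadMask.pairs, p.1 < p.2 ∧ p.2 < 6 := by decide +kernel

theorem mem_pairs : ∀ j : Fin 6, ∀ i : Fin 6, i < j → ((i : ℕ), (j : ℕ)) ∈ DuadMask.pairs := by
  decide +kernel

theorem key240 (i j : Fin 6) (hij : i < j) (c d : Fin 4) :
    Phi K (fm K.al.val K.be.val i j ^^^ wm i c ^^^ wm j d ^^^ nz c ^^^ nz d) =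
      elE K (nm (F4.ofNat c) + nm (F4.ofNat d))
        (sc (F4.ofNat c) (hv i) + sc (F4.ofNat d) (hv j)) (mo i j) := by
  rw [Phi_xor, Phi_xor, Phi_xor, Phi_xor, Phi_wm, Phi_wm, Phi_nz, Phi_nz, Phi_fm K i j hij, elE,
    zE_add, sE_add]
  ac_rfl

theorem mo_comm : ∀ i j, mo i j = mo j i := by decide +kernel

theorem image240 (a : H.E hex0) : a ∈ Phi K '' {m | m ∈ D240 K.al.val K.be.val} ↔
    ∃ i j x y, i ≠ j ∧ a = elE K (nm x + nm y) (sc x (hv i) + sc y (hv j)) (mo i j) := by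
  constructor
  · rintro ⟨m, hm, rfl⟩
    obtain ⟨p, hp, hm⟩ := List.mem_flatMap.1 hm
    obtain ⟨c, hc, hm⟩ := List.mem_flatMap.1 hm
    obtain ⟨d, hd, rfl⟩ := List.mem_map.1 hm
    obtain ⟨h1, h2⟩ := pairs_lt p hp
    rw [List.mem_range] at hc hd
    refine ⟨⟨p.1, h1.trans h2⟩, ⟨p.2, h2⟩, F4.ofNat c, F4.ofNat d, ?_, ?_⟩
    · intro h
      exact absurd (Fin.mk.inj_iff.1 h) (ne_of_lt h1)
    · exact key240 K ⟨p.1, h1.trans h2⟩ ⟨p.2, h2⟩ h1 ⟨c, hc⟩ ⟨d, hd⟩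
  · rintro ⟨i, j, x, y, hij, rfl⟩
    have main : ∀ (i j : Fin 6) (x y : F4), i < j →
        elE K (nm x + nm y) (sc x (hv i) + sc y (hv j)) (mo i j) ∈
          Phi K '' {m | m ∈ D240 K.al.val K.be.val} := by
      intro i j x y hij
      obtain ⟨c, rfl⟩ := exists_code x
      obtain ⟨d, rfl⟩ := exists_code y
      refine ⟨_, ?_, key240 K i j hij c d⟩
      exact List.mem_flatMap.2 ⟨((i : ℕ), (j : ℕ)), mem_pairs j i hij,
        List.mem_flatMap.2 ⟨c, List.mem_range.2 c.2, List.mem_map.2 ⟨d, List.mem_range.2 d.2, rfl⟩⟩⟩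
    rcases lt_or_gt_of_ne hij with h | h
    · exact main i j x y h
    · have h1 := main j i y x h
      rw [mo_comm, add_comm (nm y), add_comm (sc y _)] at h1
      exact h1

/-- the set of the 276 elements -/
def DD : Set (H.E hex0) := Phi K '' {m | m ∈ Dl K.al.val K.be.val}

theorem mem_DD_iff (a : H.E hex0) (ha : a ≠ 1) :
    a ∈ DD K ↔ ¬ ∃ n ∈ Subgroup.normalizer (H.E hex0 : Set G), n * H.z * n⁻¹ = a := by
  rw [K.hD a a.2 (fun h => ha (Subtype.ext h)), not_not]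
  have h1 : a ∈ DD K ↔ a ∈ Phi K '' {m | m ∈ D36} ∨
      a ∈ Phi K '' {m | m ∈ D240 K.al.val K.be.val} := by
    rw [← Set.mem_union, ← Set.image_union]
    have : {m | m ∈ Dl K.al.val K.be.val} = {m | m ∈ D36} ∪ {m | m ∈ D240 K.al.val K.be.val} := by
      ext m
      exact List.mem_append
    rw [DD, this]
  rw [h1, image36, image240]
  have e1 : ∀ b : H.E hex0, a = b ↔ (a : G) = b := fun b => Subtype.ext_iff
  simp only [e1, elE_coe]

theorem one_notMem_DD : (1 : H.E hex0) ∉ DD K := by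
  rintro ⟨m, hm, h⟩
  have h0 : ∀ al < 2, ∀ be < 2, ∀ m ∈ Dl al be, m < 2048 ∧ m ≠ 0 := by decide +kernel
  obtain ⟨h1, h2⟩ := h0 _ (val_lt _) _ (val_lt _) m hm
  exact h2 (Phi_inj K m h1 h)

end Cfsg.Agent.J4Type.DuadSet
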