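import Cfsg.Agent.J4Type.CloseInst
import Cfsg.Agent.J4Type.FusionConj
import Cfsg.Agent.J4Type.DuadM24

/-!
# J₄ type: a sextet and a duad lie together in at most one conjugate of `E` (R07, helper607)

* `duad_not_mem` : for a hexad `O ≠ hex0` the group `E O` contains no duad of `E = E hex0`;
* `uniq` : if `y ∈ E` is conjugate to `z`, `u ∈ E` is a duad and `y`, `u` lie in `g E g⁻¹`, then `g ∈ N_G(E)`.
-/

set_option autoImplicit false

namespace Cfsg.Agent.J4Type.DuadUniq

open Cfsg Cfsg.Agent.J4Type Cfsg.Agent.J4Type.CloseInst Cfsg.Agent.J4Type.FusionV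
open Cfsg.Agent.J4Type.ClosingCocode Cfsg.Agent.J4Type.DuadStab
open scoped Pointwise

variable {G : Type*} [Group G] (K : Frame G)

attribute [local instance] CloseInst.instComm

theorem ε_inj {S T : Finset GolayPt} (hS : Even S.card) (hT : Even T.card)
    (h6 : (symmDiff S T).card ≤ 6) (h : K.ε S = K.ε T) : S = T := by
  have hev : Even (symmDiff S T).card := by
    rw [Nat.even_iff, card_symmDiff_parity]
    rw [Nat.even_iff] at hS hT
    omega
  have h1 : K.ε (symmDiff S T) = 1 := by
    rw [K.ε_mul S T hS hT, h]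
    exact (K.E_elem hex0 FusionConj.isHex_hex0).1 _ (K.ε_mem T hT)
  have h2 := (isCocode K).eq_empty _ hev h6 (Subtype.ext (by rw [prod_e K _ hev, h1]; rfl))
  exact symmDiff_eq_bot.1 h2

theorem duad_inj {p q p' q' : GolayPt} (hpq : p ≠ q) (hpq' : p' ≠ q') (h : K.ε {p, q} = K.ε {p', q'}) :
    ({p, q} : Finset GolayPt) = {p', q'} := by
  apply ε_inj K _ _ _ h
  · rw [Finset.card_pair hpq]; decide
  · rw [Finset.card_pair hpq']; decide
  · have h1 := Finset.card_le_card (Finset.symmDiff_subset_union (s := ({p, q} : Finset GolayPt)) (t := {p', q'}))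
    have h2 := Finset.card_union_le ({p, q} : Finset GolayPt) {p', q'}
    rw [Finset.card_pair hpq, Finset.card_pair hpq'] at h2
    omega

theorem duad_ne_one {p q : GolayPt} (hpq : p ≠ q) : K.ε {p, q} ≠ 1 := by
  intro h
  rw [← ε_empty K] at h
  have := ε_inj K (by rw [Finset.card_pair hpq]; decide) (by simp) (by
    have h1 : symmDiff ({p, q} : Finset GolayPt) ∅ = {p, q} := symmDiff_bot _
    rw [h1, Finset.card_pair hpq]; omega) h
  have h2 := congrArg Finset.card this
  rw [Finset.card_pair hpq] at h2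
  simp at h2

theorem duad_ne_z {p q : GolayPt} (hpq : p ≠ q) : K.ε {p, q} ≠ K.z := by
  intro h
  have := K.duad_not_conj p q hpq
  rw [h] at this
  exact this (IsConj.refl _)

/-- the points of a duad in `Q` lie in one column -/
theorem exists_column {p q : GolayPt} (hpq : p ≠ q) (hQ : K.ε {p, q} ∈ K.Q) :
    ∃ i, p ∈ tet i ∧ q ∈ tet i := by
  have hpar : Even ({p, q} : Finset GolayPt).card := by rw [Finset.card_pair hpq]; decide
  have hcov : ∀ x : GolayPt, ∃ i, x ∈ tet i := by decide +kernel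
  have hdis : ∀ i j : Fin 6, i ≠ j → Disjoint (tet i) (tet j) := by decide +kernel
  rcases (K.A_iff _ hpar).1 hQ with h | h
  · obtain ⟨i, hi⟩ := hcov p
    refine ⟨i, hi, ?_⟩
    by_contra hq
    have h1 : ({p, q} : Finset GolayPt) ∩ tet i = {p} := by
      ext x
      simp only [Finset.mem_inter, Finset.mem_insert, Finset.mem_singleton]
      constructor
      · rintro ⟨rfl | rfl, hx⟩
        · rfl
        · exact absurd hx hq
      · rintro rfl
        exact ⟨Or.inl rfl, hi⟩
    have h2 := h i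
    rw [h1, Finset.card_singleton] at h2
    exact absurd h2 (by decide)
  · exfalso
    -- three columns would each contain one of the two points
    have hex : ∀ i, ∃ x ∈ ({p, q} : Finset GolayPt), x ∈ tet i := by
      intro i
      have h1 : (({p, q} : Finset GolayPt) ∩ tet i).Nonempty := by
        rw [← Finset.card_pos]
        exact (h i).pos
      obtain ⟨x, hx⟩ := h1
      rw [Finset.mem_inter] at hx
      exact ⟨x, hx.1, hx.2⟩
    choose f hf hft using hex
    have hinj : Function.Injective f := by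
      intro i j hij
      by_contra hne
      exact Finset.disjoint_left.1 (hdis i j hne) (hft i) (hij ▸ hft j)
    have h1 : (Finset.univ.image f).card = 6 := by
      rw [Finset.card_image_of_injective _ hinj, Finset.card_univ, Fintype.card_fin]
    have h2 : Finset.univ.image f ⊆ ({p, q} : Finset GolayPt) := by
      intro x hx
      obtain ⟨i, -, rfl⟩ := Finset.mem_image.1 hx
      exact hf i
    have h3 := Finset.card_le_card h2
    rw [h1, Finset.card_pair hpq] at h3
    omega

theorem P_rC : K.P (rC K.toCent) = 1 := (P_eq_one_iff K.toCent).2 ⟨1, by rw [pow_one]⟩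

theorem rho_mem_N : K.ρ ∈ Subgroup.normalizer (K.E hex0 : Set G) :=
  mem_normalizer_of_P K (rC K.toCent) (by rw [P_rC, one_smul])

theorem Q_le_N : K.Q ≤ Subgroup.normalizer (K.E hex0 : Set G) := by
  intro q hq
  exact mem_normalizer_of_P K ⟨q, K.Q_le hq⟩ (by
    rw [(P_eq_one_iff K.toCent).2 ⟨0, by rw [pow_zero]; exact (bar_eq_one K.toCent).2 hq⟩, one_smul])

/-- `ρ u ρ⁻¹` for a duad `u ∈ Q`: a duad of the same column meeting `u` in one point -/
theorem exists_point {p q : GolayPt} (hpq : p ≠ q) (hQ : K.ε {p, q} ∈ K.Q) :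
    ∃ p' q' : GolayPt, p' ≠ q' ∧ K.ρ * K.ε {p, q} * K.ρ⁻¹ = K.ε {p', q'} ∧
      ∃ x, x ∈ ({p, q} : Finset GolayPt) ∧ x ∈ ({p', q'} : Finset GolayPt) ∧
        ∀ y, y ∈ ({p, q} : Finset GolayPt) → y ∈ ({p', q'} : Finset GolayPt) → y = x := by
  classical
  set n : Subgroup.normalizer (K.E hex0 : Set G) := ⟨K.ρ, rho_mem_N K⟩ with hn
  set g : Equiv.Perm GolayPt := (K.π n : Equiv.Perm GolayPt) with hg
  have hpar : Even ({p, q} : Finset GolayPt).card := by rw [Finset.card_pair hpq]; decide
  obtain ⟨i, hpi, hqi⟩ := exists_column K hpq hQ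
  have hv : K.ρ * K.ε {p, q} * K.ρ⁻¹ = K.ε {g p, g q} := by
    have h1 := K.π_smul n {p, q} hpar
    rw [DuadM24.smul_pair] at h1
    exact h1
  have hgpq : g p ≠ g q := fun h => hpq (g.injective h)
  have htet : g • tet i = tet i := (K.ρ_tet n rfl i).2
  have hgp : g p ∈ tet i := by rw [← htet]; exact Finset.smul_mem_smul_finset hpi
  have hgq : g q ∈ tet i := by rw [← htet]; exact Finset.smul_mem_smul_finset hqi
  refine ⟨g p, g q, hgpq, hv, ?_⟩
  have hu1 := duad_ne_one K hpq
  have huz := duad_ne_z K hpq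
  -- the two duads are different
  have hneq : ({g p, g q} : Finset GolayPt) ≠ {p, q} := by
    intro h
    rw [h, mul_inv_eq_iff_eq_mul] at hv
    rcases K.ρ_fix _ hQ hv with h1 | h1
    · exact hu1 h1
    · exact huz h1
  have hsq : K.ε {p, q} * K.ε {p, q} = 1 :=
    (K.E_elem hex0 FusionConj.isHex_hex0).1 _ (K.ε_mem _ hpar)
  -- and not disjoint
  have hnd : ¬ Disjoint ({p, q} : Finset GolayPt) {g p, g q} := by
    intro hd
    have h1 : ({p, q} : Finset GolayPt) ∪ {g p, g q} = tet i := by
      apply Finset.eq_of_subset_of_card_le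
      · intro x hx
        simp only [Finset.mem_union, Finset.mem_insert, Finset.mem_singleton] at hx
        rcases hx with (rfl | rfl) | (rfl | rfl)
        · exact hpi
        · exact hqi
        · exact hgp
        · exact hgq
      · rw [Finset.card_union_of_disjoint hd, Finset.card_pair hpq, Finset.card_pair hgpq, tet_card]
    have h2 : K.ε {p, q} * K.ε {g p, g q} = K.z := by
      rw [← K.ε_mul _ _ hpar (by rw [Finset.card_pair hgpq]; decide), hd.symmDiff_eq_sup, Finset.sup_eq_union,
        h1, K.ε_tet]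
    have h3 : K.ε {g p, g q} = K.ε {p, q} * K.z := by
      rw [← h2, ← mul_assoc, hsq, one_mul]
    have h4 := rho_free K.toCent (v := (large K.toCent).pr ⟨_, hQ⟩) (by
      rw [(large K.toCent).act_pr, (large K.toCent).pr_eq_pr, Co2Type.Quad.Large.conjQ_coe]
      right
      show K.ρ * K.ε {p, q} * K.ρ⁻¹ = K.ε {p, q} * K.z
      rw [hv, h3])
    rcases (large K.toCent).pr_eq_zero.1 h4 with h5 | h5
    · exact hu1 h5
    · exact huz h5
  rw [Finset.not_disjoint_iff] at hnd
  obtain ⟨x, hx, hx'⟩ := hnd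
  refine ⟨x, hx, hx', fun y hy hy' => ?_⟩
  by_contra hyx
  apply hneq
  have h1 : ({x, y} : Finset GolayPt) = {p, q} := by
    apply Finset.eq_of_subset_of_card_le
    · intro w hw
      rw [Finset.mem_insert, Finset.mem_singleton] at hw
      rcases hw with rfl | rfl
      · exact hx
      · exact hy
    · rw [Finset.card_pair hpq, Finset.card_pair (Ne.symm hyx)]
  have h2 : ({x, y} : Finset GolayPt) = {g p, g q} := by
    apply Finset.eq_of_subset_of_card_le
    · intro w hw
      rw [Finset.mem_insert, Finset.mem_singleton] at hw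
      rcases hw with rfl | rfl
      · exact hx'
      · exact hy'
    · rw [Finset.card_pair hgpq, Finset.card_pair (Ne.symm hyx)]
  rw [← h1, ← h2]

/-- an element of `N_G(E)` commuting with a duad fixes it as a set -/
theorem smul_eq_of_comm {p q : GolayPt} (hpq : p ≠ q) (n : Subgroup.normalizer (K.E hex0 : Set G))
    (h : (n : G) * K.ε {p, q} = K.ε {p, q} * n) :
    (K.π n : Equiv.Perm GolayPt) • ({p, q} : Finset GolayPt) = {p, q} := by
  have h1 := K.π_smul n {p, q} (by rw [Finset.card_pair hpq]; decide)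
  rw [h, mul_inv_cancel_right, DuadM24.smul_pair] at h1
  rw [DuadM24.smul_pair]
  exact (duad_inj K hpq (fun h => hpq ((K.π n : Equiv.Perm GolayPt).injective h)) h1).symm

/-- For a hexad `O ≠ hex0` the group `E O` contains no duad of `E = E hex0`. -/
theorem duad_not_mem [Finite G] {O : Finset GolayPt} (hO : IsHex O) (hne : O ≠ hex0) {p q : GolayPt}
    (hpq : p ≠ q) (huO : K.ε {p, q} ∈ K.E O) : False := by
  classical
  have hex0' := FusionConj.isHex_hex0
  have hpar : Even ({p, q} : Finset GolayPt).card := by rw [Finset.card_pair hpq]; decide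
  have huE := K.ε_mem _ hpar
  have huQ : K.ε {p, q} ∈ K.Q := K.E_inf hex0 O hex0' hO (Ne.symm hne) ⟨huE, huO⟩
  have hu1 := duad_ne_one K hpq
  have huz := duad_ne_z K hpq
  have hbase : base ⊆ O ∩ hex0 := Finset.subset_inter hO.2 hex0'.2
  have h2 : 2 ≤ (O ∩ hex0).card := by
    have := Finset.card_le_card hbase
    have hb : base.card = 2 := by decide
    omega
  rcases DuadM24.inter_card hO.1 hex0'.1 hne h2 with h | h
  · -- disjoint hexads
    have h3 := K.E_inf_two O hex0 hO hex0' h
    have h4 : Nat.card (K.E O ⊓ K.E hex0 : Subgroup G) ≠ 2 := by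
      intro h5
      obtain ⟨a, b, hab, huniv⟩ := Nat.card_eq_two_iff.1 h5
      have key : ∀ w : (K.E O ⊓ K.E hex0 : Subgroup G), w = a ∨ w = b := by
        intro w
        have : w ∈ ({a, b} : Set (K.E O ⊓ K.E hex0 : Subgroup G)) := by rw [huniv]; trivial
        simpa using this
      have k1 := key 1
      have k2 := key ⟨K.z, K.z_mem_E O hO, K.z_mem_E hex0 hex0'⟩
      have k3 := key ⟨_, huO, huE⟩
      have n1 : (⟨K.z, K.z_mem_E O hO, K.z_mem_E hex0 hex0'⟩ : (K.E O ⊓ K.E hex0 : Subgroup G)) ≠ 1 :=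
        fun h => z_ne_one K (congrArg Subtype.val h)
      have n2 : (⟨_, huO, huE⟩ : (K.E O ⊓ K.E hex0 : Subgroup G)) ≠ 1 := fun h => hu1 (congrArg Subtype.val h)
      have n3 : (⟨_, huO, huE⟩ : (K.E O ⊓ K.E hex0 : Subgroup G)) ≠
          ⟨K.z, K.z_mem_E O hO, K.z_mem_E hex0 hex0'⟩ := fun h => huz (congrArg Subtype.val h)
      rcases k1 with k1 | k1 <;> rcases k2 with k2 | k2 <;> rcases k3 with k3 | k3
      · exact n1 (k2.trans k1.symm)
      · exact n1 (k2.trans k1.symm)
      · exact n2 (k3.trans k1.symm)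
      · exact n3 (k3.trans k2.symm)
      · exact n3 (k3.trans k2.symm)
      · exact n2 (k3.trans k1.symm)
      · exact n1 (k2.trans k1.symm)
      · exact n1 (k2.trans k1.symm)
    exact h4 h3
  · -- hexads meeting in two points
    have h8 := K.E_inf_eight O hex0 hO hex0' h
    obtain ⟨p', q', hpq', hv, x, hx, hx', hxu⟩ := exists_point K hpq huQ
    have hvO : K.ε {p', q'} ∈ K.E O := by
      have h3 := (K.E_conj O hO (rC K.toCent) (K.ε {p, q})).1 huO
      rw [P_rC, one_smul] at h3
      rw [← hv]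
      exact h3
    set N := Subgroup.normalizer (K.E hex0 : Set G) with hN
    set B : Subgroup G := K.E O ⊓ N with hB
    let f : B →* Equiv.Perm GolayPt := (M24.subtype.comp K.π).comp (Subgroup.inclusion inf_le_right)
    have hf : ∀ b : B, f b = (K.π ⟨b, b.2.2⟩ : Equiv.Perm GolayPt) := fun b => rfl
    have hfM : f.range ≤ M24 := by
      rintro _ ⟨b, rfl⟩
      exact (K.π ⟨b, b.2.2⟩).2
    have hfsq : ∀ g ∈ f.range, g * g = 1 := by
      rintro _ ⟨b, rfl⟩
      rw [← map_mul]
      have : b * b = 1 := Subtype.ext ((K.E_elem O hO).1 _ b.2.1)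
      rw [this, map_one]
    have hfx : ∀ g ∈ f.range, g x = x := by
      rintro _ ⟨b, rfl⟩
      rw [hf]
      set c : Equiv.Perm GolayPt := (K.π ⟨b, b.2.2⟩ : Equiv.Perm GolayPt) with hc
      have h3 := smul_eq_of_comm K hpq ⟨b, b.2.2⟩ ((K.E_elem O hO).2 _ b.2.1 _ huO)
      have h4 := smul_eq_of_comm K hpq' ⟨b, b.2.2⟩ ((K.E_elem O hO).2 _ b.2.1 _ hvO)
      apply hxu
      · rw [← h3]; exact Finset.smul_mem_smul_finset hx
      · rw [← h4]; exact Finset.smul_mem_smul_finset hx'
    have hcard := FusionM22.card_le f.range hfM hfsq hfx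
    have hker : Nat.card f.ker = 8 := by
      rw [← h8]
      refine Nat.card_congr
        { toFun := fun b => ⟨(b : B), (b : B).2.1, ?_⟩
          invFun := fun b => ⟨⟨b.1, b.2.1, ?_⟩, ?_⟩
          left_inv := fun b => rfl
          right_inv := fun b => rfl }
      · have h3 : f b = 1 := b.2
        rw [hf] at h3
        exact (K.π_ker _).1 (Subtype.ext h3)
      · exact Subgroup.le_normalizer b.2.2
      · rw [MonoidHom.mem_ker, hf]
        exact congrArg Subtype.val ((K.π_ker ⟨b.1, Subgroup.le_normalizer b.2.2⟩).2 b.2.2)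
    have hB128 : Nat.card B ≤ 128 := by
      rw [← Subgroup.card_mul_index f.ker, Subgroup.index_ker, hker]
      omega
    -- a translation of `O` fixing `hex0`
    obtain ⟨t, htM, htO, ht1, ht0⟩ := DuadM24.exists_translation hO.1 hex0'.1 h
    obtain ⟨b, hbE, hb⟩ := (K.E_map O hO t).2 ⟨htM, htO⟩
    have hbN : (b : G) ∈ N := mem_normalizer_of_P K b (by rw [hb, ht0])
    have hbQ : (b : G) ∉ K.Q := by
      intro h3
      apply ht1
      rw [← hb]
      exact (P_eq_one_iff K.toCent).2 ⟨0, by rw [pow_zero]; exact (bar_eq_one K.toCent).2 h3⟩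
    have hlt : (K.E O ⊓ K.Q : Subgroup G) < B := by
      refine lt_of_le_of_ne (le_inf inf_le_left (inf_le_right.trans (Q_le_N K))) ?_
      intro h3
      have : (b : G) ∈ (K.E O ⊓ K.Q : Subgroup G) := by
        rw [h3]; exact ⟨hbE, hbN⟩
      exact hbQ this.2
    have h128 := K.A_card O hO
    have hle : Nat.card (K.E O ⊓ K.Q : Subgroup G) < Nat.card B := by
      apply lt_of_not_ge
      intro h3
      exact hlt.ne (Subgroup.eq_of_le_of_card_ge hlt.le h3)
    omega

/-- A conjugate of `z` in `E` and a duad of `E` lie together in no other conjugate of `E`. -/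
theorem uniq [Finite G] {y : G} (hy : y ∈ K.E hex0) (hzy : IsConj K.z y) {p q : GolayPt} (hpq : p ≠ q)
    {g : G} (hyg : g⁻¹ * y * g ∈ K.E hex0) (hug : g⁻¹ * K.ε {p, q} * g ∈ K.E hex0) :
    g ∈ Subgroup.normalizer (K.E hex0 : Set G) := by
  have hex0' := FusionConj.isHex_hex0
  obtain ⟨c, hc⟩ := isConj_iff.1 hzy
  obtain ⟨n, hn, hnz⟩ := FusionConj.exists_normalizer_conj K.toHex hex0' c⁻¹ (by
    rw [inv_inv, hc]; exact hy)
  rw [inv_inv, hc] at hnz
  have h1 : (n * g)⁻¹ * K.z * (n * g) ∈ K.E hex0 := by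
    have : (n * g)⁻¹ * K.z * (n * g) = g⁻¹ * (n⁻¹ * K.z * n) * g := by group
    rw [this, hnz]
    exact hyg
  obtain ⟨O, hO, hOa⟩ := FusionConj.E_unique K.toHex (n * g) h1
  -- the duad `n u n⁻¹` lies in `E O`
  set π := (K.π ⟨n, hn⟩ : Equiv.Perm GolayPt) with hπ
  have h2 : n * K.ε {p, q} * n⁻¹ = K.ε {π p, π q} := by
    have := K.π_smul ⟨n, hn⟩ {p, q} (by rw [Finset.card_pair hpq]; decide)
    rw [DuadM24.smul_pair] at this
    exact this
  have h3 : K.ε {π p, π q} ∈ K.E O := by
    rw [← hOa, ← h2]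
    have : (n * g)⁻¹ * (n * K.ε {p, q} * n⁻¹) * (n * g) = g⁻¹ * K.ε {p, q} * g := by group
    rw [this]
    exact hug
  have hOh : O = hex0 := by
    by_contra hne
    exact duad_not_mem K hO hne (fun h => hpq (π.injective h)) h3
  subst hOh
  have h4 : (n * g)⁻¹ ∈ Subgroup.normalizer (K.E hex0 : Set G) := by
    rw [Subgroup.mem_normalizer_iff]
    intro a
    rw [inv_inv]
    exact (hOa a).symm
  have h5 := (Subgroup.normalizer (K.E hex0 : Set G)).mul_mem
    ((Subgroup.normalizer (K.E hex0 : Set G)).inv_mem hn)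
    ((Subgroup.normalizer (K.E hex0 : Set G)).inv_mem h4)
  rw [inv_inv, inv_mul_cancel_left] at h5
  exact h5

end Cfsg.Agent.J4Type.DuadUniq
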