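import Cfsg.Agent.J4Type.EOrbits

/-!
# The seven classes of `N_C(E)` on `E = E hex0` (part (c), helper233)

`exists_signs`, `K`, `K_ncard`, `exists_classes` (for the count `|z^{N_G(E)}| = 1771`).
-/

set_option autoImplicit false

open scoped Pointwise

namespace Cfsg.Agent.J4Type.EClasses

open Cfsg VCoord HexPerms ECoord EElems EPi EOrbCheck EOrbits
open SporadicA.FieldFour (F4)

/-! ### counting -/

/-- number of `s ≤ i < s + 2 ^ k` with `p i` -/
def cntR : ℕ → ℕ → (ℕ → Bool) → ℕ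
  | 0, s, p => (p s).toNat
  | k + 1, s, p => cntR k s p + cntR k (s + 2 ^ k) p

theorem cntR_spec (k : ℕ) : ∀ (s : ℕ) (p : ℕ → Bool),
    cntR k s p = ((Finset.Ico s (s + 2 ^ k)).filter fun i => p i = true).card := by
  induction k with
  | zero =>
    intro s p
    rw [pow_zero, Nat.Ico_succ_singleton]
    show (p s).toNat = _
    cases h : p s with
    | false => rw [Finset.filter_singleton, if_neg (by rw [h]; exact Bool.false_ne_true)]; rfl
    | true => rw [Finset.filter_singleton, if_pos h]; rfl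
  | succ k ih =>
    intro s p
    show cntR k s p + cntR k (s + 2 ^ k) p = _
    rw [ih, ih]
    have h1 : Finset.Ico s (s + 2 ^ (k + 1)) =
        Finset.Ico s (s + 2 ^ k) ∪ Finset.Ico (s + 2 ^ k) (s + 2 ^ k + 2 ^ k) := by
      rw [Finset.Ico_union_Ico_eq_Ico (Nat.le_add_right _ _) (Nat.le_add_right _ _)]
      congr 1
      rw [pow_succ, mul_two, add_assoc]
    rw [h1, Finset.filter_union, Finset.card_union_of_disjoint]
    rw [Finset.disjoint_left]
    intro x hx hx'
    have := Finset.mem_Ico.1 (Finset.mem_filter.1 hx).1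
    have := Finset.mem_Ico.1 (Finset.mem_filter.1 hx').1
    omega

/-! ### coding of the index set -/

def tX (x : ℕ) : ZMod 2 := if x / 1024 = 0 then 0 else 1
def aX (x : ℕ) : F43 := decA (x / 16 % 64)
def oX (x : ℕ) : Fin 16 := ⟨x % 16, Nat.mod_lt _ (by norm_num)⟩
def encX (t : ZMod 2) (a : F43) (o : Fin 16) : ℕ := encY a o + (if t = 0 then 0 else 1024)

theorem encX_lt (t : ZMod 2) (a : F43) (o : Fin 16) : encX t a o < 2048 := by
  have := encY_lt a o
  unfold encX
  split_ifs <;> omega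

theorem tX_encX (t : ZMod 2) (a : F43) (o : Fin 16) : tX (encX t a o) = t := by
  have := encY_lt a o
  unfold tX encX
  by_cases h : t = 0
  · rw [if_pos h, if_pos (by omega), h]
  · rw [if_neg h, if_neg (by omega)]
    exact ((zmod2_cases t).resolve_left h).symm

theorem aX_encX (t : ZMod 2) (a : F43) (o : Fin 16) : aX (encX t a o) = a := by
  have h1 := encA_lt a
  have h2 := o.2
  have h3 : encX t a o / 16 % 64 = encA a := by
    unfold encX encY
    split_ifs <;> omega
  unfold aX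
  rw [h3, decA_encA]

theorem oX_encX (t : ZMod 2) (a : F43) (o : Fin 16) : oX (encX t a o) = o := by
  have h2 := o.2
  apply Fin.ext
  show encX t a o % 16 = o.val
  unfold encX encY
  split_ifs <;> omega

theorem encX_dec : ∀ x < 2048, encX (tX x) (aX x) (oX x) = x := by
  have h : SporadicA.GolayBase.allR 11 0 (fun x => Nat.beq (encX (tX x) (aX x) (oX x)) x) = true := by
    decide +kernel
  intro x hx
  exact Nat.eq_of_beq_eq_true (SporadicA.GolayBase.allR_zero_spec h x hx)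

/-- the class of an index -/
def kapX (x : ℕ) : Fin 7 := kap (tX x) (aX x) (oX x)

def sizes : Fin 7 → ℕ := ![1, 1, 36, 90, 240, 240, 1440]

theorem cnt_kap : ∀ k : Fin 7, cntR 11 0 (fun x => decide (kapX x = k)) = sizes k := by
  decide +kernel

/-- classes `≤ 3` are the classes inside `Q` -/
theorem kap_o : ∀ x < 2048, (oX x = 0 ↔ kapX x ≤ 3) := by
  have h : SporadicA.GolayBase.allR 11 0 (fun x => decide (oX x = 0 ↔ kapX x ≤ 3)) = true := by
    decide +kernel
  intro x hx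
  exact of_decide_eq_true (SporadicA.GolayBase.allR_zero_spec h x hx)

theorem kap_zero : ∀ x < 2048, (kapX x = 0 ↔ x = 0) := by
  have h : SporadicA.GolayBase.allR 11 0 (fun x => decide (kapX x = 0 ↔ x = 0)) = true := by
    decide +kernel
  intro x hx
  exact of_decide_eq_true (SporadicA.GolayBase.allR_zero_spec h x hx)

theorem kap_one : ∀ x < 2048, (kapX x = 1 ↔ x = 1024) := by
  have h : SporadicA.GolayBase.allR 11 0 (fun x => decide (kapX x = 1 ↔ x = 1024)) = true := by
    decide +kernel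
  intro x hx
  exact of_decide_eq_true (SporadicA.GolayBase.allR_zero_spec h x hx)

theorem kap_eq (t : ZMod 2) (a : F43) (o : Fin 16) : kap t a o = kapX (encX t a o) := by
  unfold kapX; rw [tX_encX, aX_encX, oX_encX]

variable {G : Type*} [Group G] {H : Hex G} (C : ECoord H) (F : FSys H)

/-- the seven classes -/
def K (k : Fin 7) : Set G := {x | ∃ t a o, x = el C F t a o ∧ kap t a o = k}

theorem el_mem_K {t : ZMod 2} {a : F43} {o : Fin 16} {k : Fin 7} :
    el C F t a o ∈ K C F k ↔ kap t a o = k := by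
  constructor
  · rintro ⟨t', a', o', h, hk⟩
    obtain ⟨rfl, rfl, rfl⟩ := el_inj C F h
    exact hk
  · intro h
    exact ⟨t, a, o, rfl, h⟩

theorem mem_E_iff {x : G} : x ∈ H.E hex0 ↔ ∃ k, x ∈ K C F k := by
  constructor
  · intro hx
    obtain ⟨t, a, o, rfl⟩ := el_surj C F hx
    exact ⟨_, (el_mem_K C F).2 rfl⟩
  · rintro ⟨k, t, a, o, rfl, -⟩
    exact el_mem C F _ _ _

theorem K_unique {x : G} {k l : Fin 7} (hk : x ∈ K C F k) (hl : x ∈ K C F l) : k = l := by
  obtain ⟨t, a, o, rfl, h⟩ := hk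
  rw [← h]
  exact (el_mem_K C F).1 hl

theorem mem_Q_iff {x : G} {k : Fin 7} (hk : x ∈ K C F k) : x ∈ H.Q ↔ k ≤ 3 := by
  obtain ⟨t, a, o, rfl, h⟩ := hk
  rw [el_mem_Q_iff, ← h, kap_eq, ← kap_o _ (encX_lt t a o), oX_encX]

theorem K_zero : K C F 0 = {1} := by
  ext x
  constructor
  · rintro ⟨t, a, o, rfl, h⟩
    rw [kap_eq, kap_zero _ (encX_lt _ _ _)] at h
    have e1 := tX_encX t a o
    have e2 := aX_encX t a o
    have e3 := oX_encX t a o
    rw [h] at e1 e2 e3
    rw [← e1, ← e2, ← e3]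
    show el C F 0 (decA 0) 0 = 1
    rw [show decA 0 = 0 by decide +kernel, el_one]
  · rintro rfl
    rw [← el_one C F]
    exact (el_mem_K C F).2 (by decide +kernel)

theorem K_one : K C F 1 = {H.z} := by
  ext x
  constructor
  · rintro ⟨t, a, o, rfl, h⟩
    rw [kap_eq, kap_one _ (encX_lt _ _ _)] at h
    have e1 := tX_encX t a o
    have e2 := aX_encX t a o
    have e3 := oX_encX t a o
    rw [h] at e1 e2 e3
    rw [← e1, ← e2, ← e3]
    show el C F (tX 1024) (aX 1024) (oX 1024) = H.z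
    rw [show tX 1024 = 1 by decide +kernel, show aX 1024 = 0 by decide +kernel,
      show oX 1024 = 0 by decide +kernel, el_z]
  · intro h
    rw [Set.mem_singleton_iff.1 h, ← el_z C F]
    exact (el_mem_K C F).2 (by decide +kernel)

theorem K_ncard (k : Fin 7) : (K C F k).ncard = sizes k := by
  classical
  let e : ℕ → G := fun x => el C F (tX x) (aX x) (oX x)
  let S : Finset ℕ := (Finset.Ico 0 (0 + 2 ^ 11)).filter fun x => decide (kapX x = k) = true
  have h1 : K C F k = e '' (S : Set ℕ) := by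
    ext x
    constructor
    · rintro ⟨t, a, o, rfl, h⟩
      refine ⟨encX t a o, ?_, ?_⟩
      · rw [Finset.mem_coe, Finset.mem_filter, Finset.mem_Ico]
        refine ⟨⟨Nat.zero_le _, ?_⟩, ?_⟩
        · have := encX_lt t a o
          norm_num
          omega
        · rw [decide_eq_true_eq, ← kap_eq]; exact h
      · show el C F (tX (encX t a o)) (aX (encX t a o)) (oX (encX t a o)) = _
        rw [tX_encX, aX_encX, oX_encX]
    · rintro ⟨y, hy, rfl⟩
      rw [Finset.mem_coe, Finset.mem_filter] at hy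
      exact (el_mem_K C F).2 (of_decide_eq_true hy.2)
  have hinj : Set.InjOn e (S : Set ℕ) := by
    intro x hx y hy h
    rw [Finset.mem_coe, Finset.mem_filter, Finset.mem_Ico] at hx hy
    obtain ⟨h1, h2, h3⟩ := el_inj C F h
    have hx' : x < 2048 := by have := hx.1.2; norm_num at this; exact this
    have hy' : y < 2048 := by have := hy.1.2; norm_num at this; exact this
    rw [← encX_dec x hx', ← encX_dec y hy', h1, h2, h3]
  rw [h1, hinj.ncard_image, Set.ncard_coe_finset, ← cntR_spec, cnt_kap]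

/-- the invariance of the index predicate -/
theorem inv_of (S : Set G) (hS : ∀ n : G, n * H.z = H.z * n →
    (∀ a, a ∈ H.E hex0 ↔ n * a * n⁻¹ ∈ H.E hex0) → ∀ a ∈ H.E hex0, (a ∈ S ↔ n * a * n⁻¹ ∈ S)) :
    Inv fun t a o => el C F t a o ∈ S where
  q c t a o := by
    have hE : ∀ x, x ∈ H.E hex0 ↔ C.s' c * x * (C.s' c)⁻¹ ∈ H.E hex0 :=
      conj_mem_E H ⟨C.s' c, H.Q_le (C.s'_Q c)⟩ (by rw [P_of_Q H _ (C.s'_Q c), one_smul])
    rw [hS (C.s' c) (comm_z H (C.s'_Q c)) hE _ (el_mem C F t a o), conj_el]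
  r t a o := by
    have hE : ∀ x, x ∈ H.E hex0 ↔ H.ρ * x * H.ρ⁻¹ ∈ H.E hex0 :=
      conj_mem_E H (rC H) (by rw [P_rC, one_smul])
    rw [hS H.ρ H.ρ_comm hE _ (el_mem C F t a o), rho_el]
  p b o := by
    obtain ⟨g, h1, h2, h3, h4, h5⟩ := exists_piC C F b
    obtain ⟨τ, hτ⟩ := h5 o
    refine ⟨τ, fun t a => ?_⟩
    rw [hS g h1 h3 _ (el_mem C F t a o)]
    have h6 : g * el C F t a o * g⁻¹ = el C F (t + τ) (Mb b a) (oG b o) := by
      have hz : g * zp H.z t * g⁻¹ = zp H.z t := by rw [zp_comm h1]; group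
      calc g * el C F t a o * g⁻¹
          = (g * zp H.z t * g⁻¹) * (g * C.s a * g⁻¹) * (g * F.f o * g⁻¹) := by unfold el; group
        _ = zp H.z t * (C.s (Mb b a) * zp H.z τ) * F.f (oG b o) := by rw [hz, h4, hτ]; group
        _ = _ := by
            rw [zp_comm (comm_z H (C.s_Q _))]
            unfold el
            rw [zp_add (zz H)]; group
    rw [h6]

/-- **Signs.** -/
theorem exists_signs (S : Set G) (hS : ∀ n : G, n * H.z = H.z * n →
    (∀ a, a ∈ H.E hex0 ↔ n * a * n⁻¹ ∈ H.E hex0) → ∀ a ∈ H.E hex0, (a ∈ S ↔ n * a * n⁻¹ ∈ S)) :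
    ∃ (F : FSys H) (χ : Fin 7 → Prop), ∀ t a o, el C F t a o ∈ S ↔ χ (kap t a o) := by
  obtain ⟨F⟩ := exists_FSys H
  obtain ⟨ζ, hζ, χ, h⟩ := (inv_of C F S hS).main
  refine ⟨F.twist ζ hζ, χ, fun t a o => ?_⟩
  rw [el_twist]
  refine (h (t + ζ o) a o).trans ?_
  rw [add_assoc, show ζ o + ζ o = 0 by generalize ζ o = x; revert x; decide, add_zero]

include C in
/-- **Classes.** -/
theorem exists_classes (S : Set G) (hS : ∀ n : G, n * H.z = H.z * n →
    (∀ a, a ∈ H.E hex0 ↔ n * a * n⁻¹ ∈ H.E hex0) → ∀ a ∈ H.E hex0, (a ∈ S ↔ n * a * n⁻¹ ∈ S)) :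
    ∃ K : Fin 7 → Set G, (∀ x, x ∈ H.E hex0 ↔ ∃ k, x ∈ K k) ∧
      (∀ x k l, x ∈ K k → x ∈ K l → k = l) ∧ K 0 = {1} ∧ K 1 = {H.z} ∧
      (∀ k, (K k).ncard = sizes k) ∧ (∀ x k, x ∈ K k → (x ∈ H.Q ↔ k ≤ 3)) ∧
      ∀ k, K k ⊆ S ∨ Disjoint (K k) S := by
  obtain ⟨F, χ, h⟩ := exists_signs C S hS
  refine ⟨K C F, fun x => mem_E_iff C F, fun x k l => K_unique C F, K_zero C F, K_one C F,
    K_ncard C F, fun x k => mem_Q_iff C F, fun k => ?_⟩
  by_cases hk : χ k
  · left
    rintro x ⟨t, a, o, rfl, h1⟩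
    rw [h, h1]
    exact hk
  · right
    rw [Set.disjoint_left]
    rintro x ⟨t, a, o, rfl, h1⟩ hx
    rw [h, h1] at hx
    exact hk hx

end Cfsg.Agent.J4Type.EClasses
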