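import Cfsg.Agent.J4Type.Setup
import Cfsg.Agent.SporadicA.GolayPerm

/-!
# Explicit permutations for the hexads `hex0`, `hex1` (helper233)

* `hex0_isHex`, `hex1_isHex`;
* `gO o`, `o : Fin 16` : the pointwise stabiliser of `hex0` in `M24`; `gO (mo i j)` exchanges
  `hp i` and `hp j`, and `gO (o ^^^ o') = gO o * gO o'`;
* `gA`, `gB` : elements of `M24` fixing `none`, `some 0`, `hex0`, `hex1` and inducing the 5-cycles
  `(0 1 2 3 4)`, `(1 2 3 4 5)` on the points `hp i` (they generate the group `A₆`).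
-/

set_option autoImplicit false

open scoped Pointwise

namespace Cfsg.Agent.J4Type.HexPerms

open Cfsg
open SporadicA.GolayBase (idx fin maskOf isCode popcount basisMask)

theorem isHex_of_mask {m : ℕ} (hm : m < 2 ^ 24) (h1 : isCode m = true) (h2 : popcount m = 8)
    (h3 : base ⊆ fin m) : IsHex (fin m) :=
  ⟨(SporadicA.GolayBase.fin_mem_octads_iff hm).2 ⟨h1, h2⟩, h3⟩

theorem hex0_eq : hex0 = fin (2 ^ 0 + 2 ^ 2 + 2 ^ 4 + 2 ^ 5 + 2 ^ 6 + 2 ^ 10 + 2 ^ 11 + 2 ^ 23) := by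
  decide +kernel

theorem hex1_eq : hex1 = fin (2 ^ 0 + 2 ^ 3 + 2 ^ 8 + 2 ^ 14 + 2 ^ 15 + 2 ^ 18 + 2 ^ 20 + 2 ^ 23) := by
  decide +kernel

theorem hex0_isHex : IsHex hex0 := by
  rw [hex0_eq]
  exact isHex_of_mask (by decide +kernel) (by decide +kernel) (by decide +kernel) (by decide +kernel)

theorem hex1_isHex : IsHex hex1 := by
  rw [hex1_eq]
  exact isHex_of_mask (by decide +kernel) (by decide +kernel) (by decide +kernel) (by decide +kernel)

theorem hex0_inf_hex1 : (hex0 ∩ hex1).card = 2 := by decide +kernel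

theorem hex0_ne_hex1 : hex0 ≠ hex1 := by decide +kernel

theorem hp_injective : Function.Injective hp := by decide +kernel

/-- function of the 24 points from a list -/
def tabFun (l : List ℕ) (p : GolayPt) : GolayPt := gp (l.getD (idx p) 0)

def tabO : List (List ℕ) :=
  [[0, 1, 2, 3, 4, 5, 6, 7, 8, 9, 10, 11, 12, 13, 14, 15, 16, 17, 18, 19, 20, 21, 22, 23],
   [0, 13, 2, 8, 4, 5, 6, 18, 3, 21, 10, 11, 15, 1, 19, 12, 22, 20, 7, 14, 17, 9, 16, 23],
   [0, 17, 2, 14, 4, 5, 6, 22, 19, 12, 10, 11, 9, 20, 3, 21, 18, 1, 16, 8, 13, 15, 7, 23],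
   [0, 20, 2, 19, 4, 5, 6, 16, 14, 15, 10, 11, 21, 17, 8, 9, 7, 13, 22, 3, 1, 12, 18, 23],
   [0, 18, 2, 15, 4, 5, 6, 13, 12, 19, 10, 11, 8, 7, 21, 3, 17, 16, 1, 9, 22, 14, 20, 23],
   [0, 7, 2, 12, 4, 5, 6, 1, 15, 14, 10, 11, 3, 18, 9, 8, 20, 22, 13, 21, 16, 19, 17, 23],
   [0, 16, 2, 21, 4, 5, 6, 20, 9, 8, 10, 11, 19, 22, 15, 14, 1, 18, 17, 12, 7, 3, 13, 23],
   [0, 22, 2, 9, 4, 5, 6, 17, 21, 3, 10, 11, 14, 16, 12, 19, 13, 7, 20, 15, 18, 8, 1, 23],
   [0, 15, 2, 18, 4, 5, 6, 8, 7, 20, 10, 11, 13, 12, 16, 1, 14, 21, 3, 22, 9, 17, 19, 23],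
   [0, 12, 2, 7, 4, 5, 6, 3, 18, 17, 10, 11, 1, 15, 22, 13, 19, 9, 8, 16, 21, 20, 14, 23],
   [0, 21, 2, 16, 4, 5, 6, 19, 22, 13, 10, 11, 20, 9, 18, 17, 3, 15, 14, 7, 12, 1, 8, 23],
   [0, 9, 2, 22, 4, 5, 6, 14, 16, 1, 10, 11, 17, 21, 7, 20, 8, 12, 19, 18, 15, 13, 3, 23],
   [0, 3, 2, 1, 4, 5, 6, 12, 13, 22, 10, 11, 7, 8, 17, 18, 21, 14, 15, 20, 19, 16, 9, 23],
   [0, 8, 2, 13, 4, 5, 6, 15, 1, 16, 10, 11, 18, 3, 20, 7, 9, 19, 12, 17, 14, 22, 21, 23],
   [0, 14, 2, 17, 4, 5, 6, 9, 20, 7, 10, 11, 22, 19, 1, 16, 15, 3, 21, 13, 8, 18, 12, 23],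
   [0, 19, 2, 20, 4, 5, 6, 21, 17, 18, 10, 11, 16, 14, 13, 22, 12, 8, 9, 1, 3, 7, 15, 23]]

theorem tabO_inv : ∀ (o : Fin 16) (p : GolayPt),
    tabFun (tabO.getD o []) (tabFun (tabO.getD o []) p) = p := by decide +kernel

/-- the pointwise stabiliser of `hex0` -/
def gO (o : Fin 16) : Equiv.Perm GolayPt where
  toFun := tabFun (tabO.getD o [])
  invFun := tabFun (tabO.getD o [])
  left_inv := tabO_inv o
  right_inv := tabO_inv o

theorem gO_mem (o : Fin 16) : gO o ∈ M24 := by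
  apply SporadicA.GolayPerm.mem_M24_of_basis
  have : ∀ o : Fin 16, ∀ k < 12, isCode (maskOf (gO o • fin (basisMask k))) = true := by
    decide +kernel
  exact this o

theorem gO_fix : ∀ (o : Fin 16) (p : GolayPt), p ∈ hex0 → gO o p = p := by decide +kernel

theorem gO_mul (o o' : Fin 16) : gO o * gO o' = gO (o ^^^ o') := by
  have : ∀ (o o' : Fin 16) (p : GolayPt), gO o (gO o' p) = gO (o ^^^ o') p := by decide +kernel
  exact Equiv.ext (this o o')

theorem gO_zero : gO 0 = 1 := by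
  have : ∀ p : GolayPt, gO 0 p = p := by decide +kernel
  exact Equiv.ext this

theorem gO_hp_ne : ∀ (o : Fin 16) (i : Fin 6), gO o (hp i) = hp i → o = 0 := by decide +kernel

theorem gO_injective : Function.Injective gO := by
  intro a b h
  have h1 : ∀ a b : Fin 16, gO a (hp 0) = gO b (hp 0) → a = b := by decide +kernel
  exact h1 a b (by rw [h])

/-- the vectors `m₀ = 0, m₁, …, m₄, m₅ = m₁ + m₂ + m₃ + m₄` of `F₂⁴` -/
def mi : Fin 6 → Fin 16 := ![0, 1, 2, 4, 8, 15]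

/-- number of the involution exchanging `hp i`, `hp j` -/
def mo (i j : Fin 6) : Fin 16 := mi i ^^^ mi j

theorem gO_hp : ∀ i j : Fin 6, gO (mo i j) (hp i) = hp j := by decide +kernel

/-! ### the group `A₆` -/

def tabA : List ℕ := [0, 7, 4, 8, 11, 5, 10, 19, 14, 17, 2, 6, 22, 16, 15, 18, 12, 1, 3, 9, 20, 13, 21, 23]
def tabB : List ℕ := [0, 9, 5, 3, 2, 6, 11, 13, 14, 17, 10, 4, 16, 12, 15, 18, 22, 19, 20, 21, 8, 1, 7, 23]
def tabA' : List ℕ := [0, 17, 10, 18, 2, 5, 11, 1, 3, 19, 6, 4, 16, 21, 8, 14, 13, 9, 15, 7, 20, 22, 12, 23]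
def tabB' : List ℕ := [0, 21, 4, 3, 11, 2, 5, 22, 20, 1, 10, 6, 13, 7, 8, 14, 12, 9, 15, 17, 18, 19, 16, 23]

/-- induces `(0 1 2 3 4)` on the `hp i` -/
def gA : Equiv.Perm GolayPt where
  toFun := tabFun tabA
  invFun := tabFun tabA'
  left_inv := by
    have : ∀ p : GolayPt, tabFun tabA' (tabFun tabA p) = p := by decide +kernel
    exact this
  right_inv := by
    have : ∀ p : GolayPt, tabFun tabA (tabFun tabA' p) = p := by decide +kernel
    exact this

/-- induces `(1 2 3 4 5)` on the `hp i` -/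
def gB : Equiv.Perm GolayPt where
  toFun := tabFun tabB
  invFun := tabFun tabB'
  left_inv := by
    have : ∀ p : GolayPt, tabFun tabB' (tabFun tabB p) = p := by decide +kernel
    exact this
  right_inv := by
    have : ∀ p : GolayPt, tabFun tabB (tabFun tabB' p) = p := by decide +kernel
    exact this

/-- `gG false = gA`, `gG true = gB` -/
def gG : Bool → Equiv.Perm GolayPt
  | false => gA
  | true => gB

/-- the permutations of the six points -/
def piG : Bool → Fin 6 → Fin 6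
  | false => ![1, 2, 3, 4, 0, 5]
  | true => ![0, 2, 3, 4, 5, 1]

/-- the induced linear maps of `F₂⁴` -/
def oG : Bool → Fin 16 → Fin 16
  | false => ![0, 3, 5, 6, 9, 10, 12, 15, 1, 2, 4, 7, 8, 11, 13, 14]
  | true => ![0, 2, 4, 6, 8, 10, 12, 14, 15, 13, 11, 9, 7, 5, 3, 1]

theorem gG_mem (b : Bool) : gG b ∈ M24 := by
  apply SporadicA.GolayPerm.mem_M24_of_basis
  have : ∀ b : Bool, ∀ k < 12, isCode (maskOf (gG b • fin (basisMask k))) = true := by
    decide +kernel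
  exact this b

theorem gG_none : ∀ b, gG b none = none := by decide +kernel

theorem gG_zero : ∀ b, gG b (some 0) = some 0 := by decide +kernel

theorem gG_base : ∀ b, gG b • base = base := by decide +kernel

theorem gG_mem' (b : Bool) : gG b ∈ M22d :=
  Subgroup.mem_inf.2 ⟨gG_mem b, MulAction.mem_stabilizer_iff.2 (gG_base b)⟩

theorem gG_hex0 : ∀ b, gG b • hex0 = hex0 := by decide +kernel

theorem gG_hex1 : ∀ b, gG b • hex1 = hex1 := by decide +kernel

theorem gG_hp : ∀ b i, gG b (hp i) = hp (piG b i) := by decide +kernel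

theorem gG_conj (b : Bool) (o : Fin 16) : gG b * gO o * (gG b)⁻¹ = gO (oG b o) := by
  have : ∀ (b : Bool) (o : Fin 16) (p : GolayPt), gG b (gO o p) = gO (oG b o) (gG b p) := by
    decide +kernel
  rw [mul_inv_eq_iff_eq_mul]
  exact Equiv.ext (this b o)

theorem oG_xor : ∀ b o o', oG b (o ^^^ o') = oG b o ^^^ oG b o' := by decide +kernel

theorem oG_mo : ∀ b i j, oG b (mo i j) = mo (piG b i) (piG b j) := by decide +kernel

end Cfsg.Agent.J4Type.HexPerms
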