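import Cfsg.Agent.J4Type.Setup

/-!
# Frattini argument for `⟨ρ⟩` in `Q⟨ρ⟩` (helper233)

* `Cent.exists_kappa` : if `q ∈ Q` and `(qρ)³ = 1` then `x⁻¹ q ρ x = ρ`... for some `x ∈ Q`;
* `Cent.exists_comm` : every `c ∈ C` with `P c none = none` has a translate `q c`, `q ∈ Q`,
  commuting with `ρ`;
* `Hex.exists_inv` : every other `c ∈ C` has a translate inverting `ρ`.
-/

set_option autoImplicit false

namespace Cfsg.Agent.J4Type.NormRho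

variable {G : Type*} [Group G]

theorem z_sq' (H : Cent G) : H.z * H.z = 1 := by
  rw [← pow_two, ← H.z_order]; exact pow_orderOf_eq_one _

theorem z_ne' (H : Cent G) : H.z ≠ 1 := by
  intro h
  have := H.z_order
  rw [h, orderOf_one] at this
  exact absurd this (by norm_num)

theorem rho_cube (H : Cent G) : H.ρ * (H.ρ * H.ρ) = 1 := by
  have h : H.ρ ^ 3 = 1 := by rw [← H.ρ_order]; exact pow_orderOf_eq_one _
  rw [pow_succ, pow_succ, pow_one] at h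
  rw [← mul_assoc]; exact h

theorem Q_comm_z (H : Cent G) {q : G} (hq : q ∈ H.Q) : q * H.z = H.z * q :=
  Subgroup.mem_centralizer_singleton_iff.1 (H.Q_le hq)

theorem rho_mem (H : Cent G) {q : G} (hq : q ∈ H.Q) : H.ρ * q * H.ρ⁻¹ ∈ H.Q :=
  H.Q_conj _ H.ρ_comm q hq

/-- `T q = q · q^ρ · q^(ρ²)` is `1` or `z` -/
theorem T_mem (H : Cent G) {q : G} (hq : q ∈ H.Q) :
    q * (H.ρ * q * H.ρ⁻¹) * (H.ρ * (H.ρ * q * H.ρ⁻¹) * H.ρ⁻¹) = 1 ∨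
      q * (H.ρ * q * H.ρ⁻¹) * (H.ρ * (H.ρ * q * H.ρ⁻¹) * H.ρ⁻¹) = H.z := by
  set y := q * (H.ρ * q * H.ρ⁻¹) * (H.ρ * (H.ρ * q * H.ρ⁻¹) * H.ρ⁻¹) with hy
  have h1 := (rho_mem H) hq
  have h2 := (rho_mem H) h1
  have hyQ : y ∈ H.Q := mul_mem (mul_mem hq h1) h2
  have h3 : H.ρ * (H.ρ * (H.ρ * q * H.ρ⁻¹) * H.ρ⁻¹) * H.ρ⁻¹ = q := by
    calc H.ρ * (H.ρ * (H.ρ * q * H.ρ⁻¹) * H.ρ⁻¹) * H.ρ⁻¹
        = (H.ρ * (H.ρ * H.ρ)) * q * (H.ρ * (H.ρ * H.ρ))⁻¹ := by group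
      _ = q := by rw [(rho_cube H)]; group
  have h4 : H.ρ * y * H.ρ⁻¹ = q⁻¹ * y * q := by
    rw [hy]
    calc H.ρ * (q * (H.ρ * q * H.ρ⁻¹) * (H.ρ * (H.ρ * q * H.ρ⁻¹) * H.ρ⁻¹)) * H.ρ⁻¹
        = (H.ρ * q * H.ρ⁻¹) * (H.ρ * (H.ρ * q * H.ρ⁻¹) * H.ρ⁻¹) *
          (H.ρ * (H.ρ * (H.ρ * q * H.ρ⁻¹) * H.ρ⁻¹) * H.ρ⁻¹) := by group
      _ = _ := by rw [h3]; group
  have hzρ : H.ρ * H.z * H.ρ⁻¹ = H.z := by rw [H.ρ_comm]; group
  have h5 : H.ρ * y * H.ρ⁻¹ = y := by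
    rcases H.Q_comm y hyQ q hq with h | h
    · rw [h4, mul_assoc, h]; group
    · exfalso
      have h6 : H.ρ * y * H.ρ⁻¹ = H.z * y := by
        have hz' : q⁻¹ * H.z = H.z * q⁻¹ := (Commute.inv_left (show Commute q H.z from (Q_comm_z H) hq))
        rw [h4, mul_assoc, h, ← mul_assoc, hz']; group
      have h7 : y = H.z * y := by
        calc y = (H.ρ * (H.ρ * H.ρ)) * y * (H.ρ * (H.ρ * H.ρ))⁻¹ := by rw [(rho_cube H)]; group
          _ = H.ρ * (H.ρ * (H.ρ * y * H.ρ⁻¹) * H.ρ⁻¹) * H.ρ⁻¹ := by group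
          _ = H.ρ * (H.ρ * (H.z * y) * H.ρ⁻¹) * H.ρ⁻¹ := by rw [h6]
          _ = H.ρ * ((H.ρ * H.z * H.ρ⁻¹) * (H.ρ * y * H.ρ⁻¹)) * H.ρ⁻¹ := by group
          _ = H.ρ * (H.z * (H.z * y)) * H.ρ⁻¹ := by rw [hzρ, h6]
          _ = (H.ρ * (H.z * H.z) * H.ρ⁻¹) * (H.ρ * y * H.ρ⁻¹) := by group
          _ = H.z * y := by rw [(z_sq' H), h6]; group
      exact (z_ne' H) (mul_eq_right.1 h7.symm)
  apply H.ρ_fix y hyQ
  calc H.ρ * y = (H.ρ * y * H.ρ⁻¹) * H.ρ := by group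
    _ = y * H.ρ := by rw [h5]

/-- the elements `q` of `Q` with `(qρ)³ = 1` are the commutators `x⁻¹ x^ρ` -/
theorem exists_kappa (H : Cent G) {q : G} (hq : q ∈ H.Q)
    (h3 : q * (H.ρ * q * H.ρ⁻¹) * (H.ρ * (H.ρ * q * H.ρ⁻¹) * H.ρ⁻¹) = 1) :
    ∃ x ∈ H.Q, x⁻¹ * (H.ρ * x * H.ρ⁻¹) = q := by
  classical
  have hfin : Finite H.Q := Nat.finite_of_card_ne_zero (by rw [H.Q_card]; norm_num)
  have := Fintype.ofFinite H.Q
  let κ : H.Q → H.Q := fun x => ⟨(x : G)⁻¹ * (H.ρ * x * H.ρ⁻¹), mul_mem (inv_mem x.2) ((rho_mem H) x.2)⟩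
  let T : H.Q → G := fun q => (q : G) * (H.ρ * q * H.ρ⁻¹) * (H.ρ * (H.ρ * q * H.ρ⁻¹) * H.ρ⁻¹)
  let Zq : H.Q := ⟨H.z, H.z_mem_Q⟩
  let T1 : Finset H.Q := Finset.univ.filter fun q => T q = 1
  have himage : Finset.univ.image κ ⊆ T1 := by
    intro y hy
    obtain ⟨x, -, rfl⟩ := Finset.mem_image.1 hy
    refine Finset.mem_filter.2 ⟨Finset.mem_univ _, ?_⟩
    show ((x : G)⁻¹ * (H.ρ * x * H.ρ⁻¹)) * (H.ρ * ((x : G)⁻¹ * (H.ρ * x * H.ρ⁻¹)) * H.ρ⁻¹) *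
      (H.ρ * (H.ρ * ((x : G)⁻¹ * (H.ρ * x * H.ρ⁻¹)) * H.ρ⁻¹) * H.ρ⁻¹) = 1
    calc _ = (x : G)⁻¹ * ((H.ρ * (H.ρ * H.ρ)) * x * (H.ρ * (H.ρ * H.ρ))⁻¹) := by group
      _ = 1 := by rw [(rho_cube H)]; group
  have hcard1 : Fintype.card H.Q ≤ 2 * (Finset.univ.image κ).card := by
    have h := Finset.card_le_mul_card_image (f := κ) Finset.univ 2 (by
      intro y _
      by_cases hy : ∃ x, κ x = y
      · obtain ⟨x, rfl⟩ := hy
        have hsub : (Finset.univ.filter fun a => κ a = κ x) ⊆ {x, Zq * x} := by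
          intro a ha
          have ha' : (a : G)⁻¹ * (H.ρ * a * H.ρ⁻¹) = (x : G)⁻¹ * (H.ρ * x * H.ρ⁻¹) :=
            congrArg Subtype.val (Finset.mem_filter.1 ha).2
          -- a x⁻¹ commutes with ρ
          have h4 : H.ρ * ((a : G) * (x : G)⁻¹) = ((a : G) * (x : G)⁻¹) * H.ρ := by
            have e1 : H.ρ * (a : G) * H.ρ⁻¹ = (a : G) * (x : G)⁻¹ * (H.ρ * x * H.ρ⁻¹) := by
              rw [mul_assoc (a : G), ← ha']; group
            calc H.ρ * ((a : G) * (x : G)⁻¹) = (H.ρ * a * H.ρ⁻¹) * (H.ρ * (x : G)⁻¹ * H.ρ⁻¹) * H.ρ := by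
                  group
              _ = _ := by rw [e1]; group
          rcases H.ρ_fix _ (mul_mem a.2 (inv_mem x.2)) h4 with h5 | h5
          · rw [mul_inv_eq_one] at h5
            rw [Finset.mem_insert]; left; exact Subtype.ext h5
          · rw [mul_inv_eq_iff_eq_mul] at h5
            rw [Finset.mem_insert, Finset.mem_singleton]; right; exact Subtype.ext h5
        exact (Finset.card_le_card hsub).trans Finset.card_le_two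
      · rw [Finset.card_eq_zero.2]
        · omega
        · rw [Finset.filter_eq_empty_iff]
          intro a _ h
          exact hy ⟨a, h⟩)
    exact h
  have hcard2 : 2 * T1.card ≤ Fintype.card H.Q := by
    have hdisj : Disjoint T1 (T1.image fun a => Zq * a) := by
      rw [Finset.disjoint_left]
      intro a ha hb
      obtain ⟨b, hb1, rfl⟩ := Finset.mem_image.1 hb
      have h4 : T b = 1 := (Finset.mem_filter.1 hb1).2
      have h5 : T (Zq * b) = 1 := (Finset.mem_filter.1 ha).2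
      have h6 : T (Zq * b) = H.z * T b := by
        show (H.z * b) * (H.ρ * (H.z * b) * H.ρ⁻¹) * (H.ρ * (H.ρ * (H.z * b) * H.ρ⁻¹) * H.ρ⁻¹) =
          H.z * ((b : G) * (H.ρ * b * H.ρ⁻¹) * (H.ρ * (H.ρ * b * H.ρ⁻¹) * H.ρ⁻¹))
        have e1 : ∀ y : G, H.ρ * (H.z * y) * H.ρ⁻¹ = H.z * (H.ρ * y * H.ρ⁻¹) := by
          intro y; rw [← mul_assoc, H.ρ_comm]; group
        rw [e1, e1]
        have hb1 := (Q_comm_z H) b.2
        have hb2 := (Q_comm_z H) ((rho_mem H) b.2)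
        calc (H.z * b) * (H.z * (H.ρ * b * H.ρ⁻¹)) * (H.z * (H.ρ * (H.ρ * b * H.ρ⁻¹) * H.ρ⁻¹))
            = H.z * (b * H.z) * ((H.ρ * b * H.ρ⁻¹) * H.z) * (H.ρ * (H.ρ * b * H.ρ⁻¹) * H.ρ⁻¹) := by group
          _ = H.z * (b * H.z) * (H.z * (H.ρ * b * H.ρ⁻¹)) * (H.ρ * (H.ρ * b * H.ρ⁻¹) * H.ρ⁻¹) := by
              rw [hb2]
          _ = H.z * b * (H.z * H.z) * (H.ρ * b * H.ρ⁻¹) * (H.ρ * (H.ρ * b * H.ρ⁻¹) * H.ρ⁻¹) := by group
          _ = _ := by rw [(z_sq' H)]; group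
      rw [h6, h4, mul_one] at h5
      exact (z_ne' H) h5
    have hinj : Function.Injective fun a : H.Q => Zq * a := fun a b h => mul_left_cancel h
    have h4 : (T1 ∪ T1.image fun a => Zq * a).card = T1.card + T1.card := by
      rw [Finset.card_union_of_disjoint hdisj, Finset.card_image_of_injective _ hinj]
    have h5 := Finset.card_le_univ (T1 ∪ T1.image fun a => Zq * a)
    omega
  have heq : Finset.univ.image κ = T1 := Finset.eq_of_subset_of_card_le himage (by omega)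
  have hmem : (⟨q, hq⟩ : H.Q) ∈ T1 := Finset.mem_filter.2 ⟨Finset.mem_univ _, h3⟩
  rw [← heq] at hmem
  obtain ⟨x, -, hx⟩ := Finset.mem_image.1 hmem
  exact ⟨x, x.2, congrArg Subtype.val hx⟩

/-- Frattini: an element of order 3 of the coset `Qρ` is conjugate to `ρ` under `Q` -/
theorem exists_conj_rho (H : Cent G) {q : G} (hq : q ∈ H.Q) (h3 : (q * H.ρ) ^ 3 = 1) :
    ∃ x ∈ H.Q, x * (q * H.ρ) * x⁻¹ = H.ρ := by
  obtain ⟨x, hx, h⟩ := (exists_kappa H) hq (by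
    calc q * (H.ρ * q * H.ρ⁻¹) * (H.ρ * (H.ρ * q * H.ρ⁻¹) * H.ρ⁻¹)
        = (q * H.ρ) * (q * H.ρ) * (q * H.ρ) * (H.ρ * (H.ρ * H.ρ))⁻¹ := by group
      _ = (q * H.ρ) ^ 3 * (H.ρ * (H.ρ * H.ρ))⁻¹ := by rw [pow_succ, pow_succ, pow_one]
      _ = 1 := by rw [h3, (rho_cube H)]; group)
  refine ⟨x, hx, ?_⟩
  rw [← h]
  group

/-- inner elements have a translate commuting with `ρ` -/
theorem exists_comm (H : Cent G) (c : Subgroup.centralizer ({H.z} : Set G))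
    (hc : H.P c none = none) : ∃ x ∈ H.Q, (x * c) * H.ρ = H.ρ * (x * c) := by
  obtain ⟨q, hq, h⟩ := H.P_inner c hc
  obtain ⟨x, hx, h2⟩ := (exists_conj_rho H) hq (by
    rw [← h, conj_pow, ← H.ρ_order, pow_orderOf_eq_one]; group)
  refine ⟨x, hx, ?_⟩
  rw [← h] at h2
  calc (x * c) * H.ρ = (x * ((c : G) * H.ρ * (c : G)⁻¹) * x⁻¹) * (x * c) := by group
    _ = _ := by rw [h2]

/-- outer elements have a translate inverting `ρ` -/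
theorem exists_inv (H : Hex G) (c : Subgroup.centralizer ({H.z} : Set G))
    (hc : H.P c none ≠ none) : ∃ x ∈ H.Q, (x * c) * H.ρ * (x * c)⁻¹ = H.ρ⁻¹ := by
  obtain ⟨q, hq, h⟩ := H.P_outer c hc
  -- `ρ = c⁻¹ … c`; invert: `c ρ⁻¹ c⁻¹ = ρ q⁻¹ = q' ρ`
  have h1 : (c : G) * H.ρ⁻¹ * (c : G)⁻¹ = (H.ρ * q⁻¹ * H.ρ⁻¹) * H.ρ := by
    calc (c : G) * H.ρ⁻¹ * (c : G)⁻¹ = ((c : G) * H.ρ * (c : G)⁻¹)⁻¹ := by group
      _ = _ := by rw [h]; group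
  obtain ⟨x, hx, h2⟩ := exists_conj_rho H.toCent (rho_mem H.toCent (inv_mem hq)) (by
    rw [← h1, conj_pow, inv_pow, ← H.ρ_order, pow_orderOf_eq_one]; group)
  refine ⟨x, hx, ?_⟩
  rw [← h1] at h2
  calc (x * c) * H.ρ * (x * c)⁻¹ = (x * ((c : G) * H.ρ⁻¹ * (c : G)⁻¹) * x⁻¹)⁻¹ := by group
    _ = _ := by rw [h2]

end Cfsg.Agent.J4Type.NormRho
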