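import Cfsg.Agent.J4Type.VCoord
import Cfsg.Agent.J4Type.HexPerms
import Cfsg.Agent.J4Type.NormRho

/-!
# Canonical lifts (part (c), helper233)

From the coordinates `VCoord H` of `V = Q/⟨z⟩` we pass to exact formulas in `Q`: the lifts
`s a`, `s' c` of `(a; 0)` and `(0; c)` with `x · x^ρ · x^(ρ²) = 1`.
-/

set_option autoImplicit false

namespace Cfsg.Agent.J4Type

open SporadicA.FieldFour (F4)
open VCoord HexPerms

namespace ECoord

section zp

variable {G : Type*} [Group G]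

/-- `z ^ t`, `t ∈ F₂` -/
def zp (z : G) (t : ZMod 2) : G := z ^ t.val

theorem zp_zero (z : G) : zp z 0 = 1 := by simp [zp]

theorem zp_one (z : G) : zp z 1 = z := by
  show z ^ (1 : ZMod 2).val = z
  rw [show (1 : ZMod 2).val = 1 from rfl, pow_one]

theorem zmod2_cases (t : ZMod 2) : t = 0 ∨ t = 1 := by
  revert t; decide

theorem zp_add {z : G} (hz : z * z = 1) (s t : ZMod 2) : zp z (s + t) = zp z s * zp z t := by
  rcases zmod2_cases s with rfl | rfl <;> rcases zmod2_cases t with rfl | rfl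
  · simp [zp_zero]
  · simp [zp_zero]
  · simp [zp_zero]
  · rw [show (1 : ZMod 2) + 1 = 0 from rfl, zp_zero, zp_one, hz]

theorem zp_sq {z : G} (hz : z * z = 1) (s : ZMod 2) : zp z s * zp z s = 1 := by
  rw [← zp_add hz, show s + s = 0 by revert s; decide, zp_zero]

theorem zp_inv {z : G} (hz : z * z = 1) (s : ZMod 2) : (zp z s)⁻¹ = zp z s :=
  inv_eq_of_mul_eq_one_left (zp_sq hz s)

theorem zp_comm {z x : G} (h : x * z = z * x) (t : ZMod 2) : x * zp z t = zp z t * x :=
  (Commute.pow_right (show Commute x z from h) _)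

theorem zp_inj {z : G} (h1 : z ≠ 1) {s t : ZMod 2} (h : zp z s = zp z t) : s = t := by
  rcases zmod2_cases s with rfl | rfl <;> rcases zmod2_cases t with rfl | rfl
  · rfl
  · rw [zp_zero, zp_one] at h; exact absurd h.symm h1
  · rw [zp_zero, zp_one] at h; exact absurd h h1
  · rfl

theorem exists_zp {z x y : G} (h : x = y ∨ x = z * y) : ∃ t, x = zp z t * y := by
  rcases h with h | h
  · exact ⟨0, by rw [zp_zero, one_mul]; exact h⟩
  · exact ⟨1, by rw [zp_one]; exact h⟩

theorem zp_cases (z : G) (t : ZMod 2) : zp z t = 1 ∨ zp z t = z := by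
  rcases zmod2_cases t with rfl | rfl
  · left; exact zp_zero z
  · right; exact zp_one z

end zp

/-! ### The canonical lift `can x = x^ρ · x^(ρ²)` of the vector of an involution `x` of `Q` -/

section can

variable {G : Type*} [Group G]

/-- conjugation by `r`, twice, multiplied -/
def can (r x : G) : G := (r * x * r⁻¹) * (r * (r * x * r⁻¹) * r⁻¹)

theorem can_conj {r f : G} (hf : f * r = r * f) (x : G) : can r (f * x * f⁻¹) = f * can r x * f⁻¹ := by
  have h1 : ∀ y : G, r * (f * y * f⁻¹) * r⁻¹ = f * (r * y * r⁻¹) * f⁻¹ := by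
    intro y
    have h2 : f⁻¹ * r⁻¹ = r⁻¹ * f⁻¹ := by
      rw [← mul_inv_rev, ← mul_inv_rev, hf]
    calc r * (f * y * f⁻¹) * r⁻¹ = (r * f) * y * (f⁻¹ * r⁻¹) := by group
      _ = (f * r) * y * (r⁻¹ * f⁻¹) := by rw [← hf, h2]
      _ = f * (r * y * r⁻¹) * f⁻¹ := by group
  unfold can
  rw [h1, h1]
  group

theorem can_mul_of {z r x y : G} (hz : ∀ g : G, g = r * y * r⁻¹ ∨ g = r * x * r⁻¹ → g * z = z * g)
    {t : ZMod 2}
    (h : (r * y * r⁻¹) * (r * (r * x * r⁻¹) * r⁻¹) =
      zp z t * ((r * (r * x * r⁻¹) * r⁻¹) * (r * y * r⁻¹))) :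
    can r (x * y) = zp z t * (can r x * can r y) := by
  have h1 : can r (x * y) = (r * x * r⁻¹) * ((r * y * r⁻¹) * (r * (r * x * r⁻¹) * r⁻¹)) *
      (r * (r * y * r⁻¹) * r⁻¹) := by
    unfold can; group
  rw [h1, h, ← mul_assoc (r * x * r⁻¹) (zp z t), zp_comm (hz _ (Or.inr rfl))]
  unfold can
  group

theorem can_zp_mul {z r : G} (hz : z * z = 1) (hr : r * z = z * r) {x : G} (hx : x * z = z * x)
    (t : ZMod 2) : can r (zp z t * x) = can r x := by
  have h1 : ∀ y : G, r * (zp z t * y) * r⁻¹ = zp z t * (r * y * r⁻¹) := by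
    intro y
    rw [← mul_assoc, zp_comm hr]
    group
  have h2 : (r * x * r⁻¹) * z = z * (r * x * r⁻¹) := by
    have hr' : r⁻¹ * z = z * r⁻¹ := (Commute.inv_left (show Commute r z from hr))
    calc (r * x * r⁻¹) * z = r * x * (r⁻¹ * z) := by group
      _ = r * (x * z) * r⁻¹ := by rw [hr']; group
      _ = (r * z) * x * r⁻¹ := by rw [hx]; group
      _ = z * (r * x * r⁻¹) := by rw [hr]; group
  unfold can
  rw [h1, h1]
  calc zp z t * (r * x * r⁻¹) * (zp z t * (r * (r * x * r⁻¹) * r⁻¹))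
      = zp z t * ((r * x * r⁻¹) * zp z t) * (r * (r * x * r⁻¹) * r⁻¹) := by group
    _ = (zp z t * zp z t) * ((r * x * r⁻¹) * (r * (r * x * r⁻¹) * r⁻¹)) := by
        rw [zp_comm h2]; group
    _ = _ := by rw [zp_sq hz, one_mul]

end can

/-! ### Arithmetic of `F₄` -/

theorem f4_add_self (x : F4) : x + x = 0 := by cases x <;> rfl

theorem f43_add_self (a : F43) : a + a = 0 := by
  funext k; exact f4_add_self (a k)

theorem w_add_v (a : F43) : sc .w a + sc .w (sc .w a) = a := by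
  funext k
  show F4.w * a k + F4.w * (F4.w * a k) = a k
  generalize a k = x
  cases x <;> rfl

theorem sc_add (x : F4) (a b : F43) : sc x (a + b) = sc x a + sc x b := by
  funext k; exact mul_add x (a k) (b k)

theorem sc_zero (x : F4) : sc x 0 = 0 := by
  funext k; exact mul_zero x

theorem hp3_zero_left (c : F43) : hp3 0 c = 0 := by
  show (0 : F4) * _ + 0 * _ + 0 * _ = 0
  rw [zero_mul, zero_mul, zero_mul]; rfl

theorem hp3_zero_right (a : F43) : hp3 a 0 = 0 := by
  show a 0 * cj 0 + a 1 * cj 0 + a 2 * cj 0 = 0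
  rw [show cj 0 = 0 from rfl, mul_zero, mul_zero, mul_zero]; rfl

theorem cj_add (x y : F4) : cj (x + y) = cj x + cj y := by cases x <;> cases y <;> rfl

theorem cj_mul (x y : F4) : cj (x * y) = cj x * cj y := by cases x <;> cases y <;> rfl

theorem tr_add (x y : F4) : tr (x + y) = tr x + tr y := by cases x <;> cases y <;> rfl

theorem hp3_add_left (a b c : F43) : hp3 (a + b) c = hp3 a c + hp3 b c := by
  simp only [hp3, Pi.add_apply]; ring

theorem hp3_add_right (a c d : F43) : hp3 a (c + d) = hp3 a c + hp3 a d := by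
  simp only [hp3, Pi.add_apply, cj_add]; ring

theorem hp3_sc_left (x : F4) (a c : F43) : hp3 (sc x a) c = x * hp3 a c := by
  simp only [hp3, sc]; ring

theorem hp3_sc_right (x : F4) (a c : F43) : hp3 a (sc x c) = cj x * hp3 a c := by
  simp only [hp3, sc, cj_mul]; ring

theorem hp3_swap (a c : F43) : hp3 c a = cj (hp3 a c) := by
  have h : ∀ x : F4, cj (cj x) = x := by intro x; cases x <;> rfl
  simp only [hp3, cj_add, cj_mul, h]; ring

/-- `h((f-1)c, c) = N(γᵢ) + N(γⱼ)` -/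
theorem hp3_act (c : F43) (i j : Fin 6) :
    tr (F4.v * hp3 (sc (gam c i) (hv i) + sc (gam c j) (hv j)) c) = nm (gam c i) + nm (gam c j) := by
  rw [hp3_add_left, hp3_sc_left, hp3_sc_left, hp3_swap c, hp3_swap c]
  show tr (F4.v * (gam c i * cj (gam c i) + gam c j * cj (gam c j))) = _
  generalize gam c i = x
  generalize gam c j = y
  cases x <;> cases y <;> rfl

theorem tr_hp3_act (c : F43) (i j : Fin 6) :
    tr (hp3 (sc (gam c i) (hv i) + sc (gam c j) (hv j)) c) = 0 := by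
  rw [hp3_add_left, hp3_sc_left, hp3_sc_left, hp3_swap c, hp3_swap c]
  show tr (gam c i * cj (gam c i) + gam c j * cj (gam c j)) = _
  generalize gam c i = x
  generalize gam c j = y
  cases x <;> cases y <;> rfl

end ECoord

/-! ### The structure `ECoord` -/

open ECoord

/-- Exact coordinates on `Q` (and on `E hex0`). -/
structure ECoord {G : Type*} [Group G] (H : Hex G) where
  s : F43 → G
  s' : F43 → G
  s_Q : ∀ a, s a ∈ H.Q
  s'_Q : ∀ a, s' a ∈ H.Q
  s_E : ∀ a, s a ∈ H.E hex0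
  s'_E : ∀ a, s' a ∈ H.E hex1
  s_add : ∀ a b, s (a + b) = s a * s b
  s'_add : ∀ a b, s' (a + b) = s' a * s' b
  s_rho : ∀ a, H.ρ * s a * H.ρ⁻¹ = s (sc .w a)
  s'_rho : ∀ a, H.ρ * s' a * H.ρ⁻¹ = s' (sc .w a)
  inj : ∀ a c t, s a * s' c = zp H.z t → a = 0 ∧ c = 0
  comm : ∀ a c, s' c * s a = zp H.z (tr (hp3 a c)) * (s a * s' c)
  act : ∀ f : Subgroup.centralizer ({H.z} : Set G), (f : G) ∈ H.E hex0 →
    (f : G) * H.ρ = H.ρ * f → ∀ i j, i ≠ j → H.P f (hp i) = hp j → ∀ c,
      (f : G) * s' c * (f : G)⁻¹ = zp H.z (nm (gam c i) + nm (gam c j)) *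
        (s' c * s (sc (gam c i) (hv i) + sc (gam c j) (hv j)))

section

variable {G : Type*} [Group G]

theorem ECoord.zz (H : Hex G) : H.z * H.z = 1 := NormRho.z_sq' H.toCent

theorem ECoord.z_ne (H : Hex G) : H.z ≠ 1 := NormRho.z_ne' H.toCent

theorem ECoord.comm_z (H : Hex G) {q : G} (hq : q ∈ H.Q) : q * H.z = H.z * q :=
  NormRho.Q_comm_z H.toCent hq

theorem ECoord.rho_conj_mem (H : Hex G) {q : G} (hq : q ∈ H.Q) : H.ρ * q * H.ρ⁻¹ ∈ H.Q :=
  NormRho.rho_mem H.toCent hq

variable {H : Hex G} (C : VCoord H)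

namespace VCoord

include C

theorem cz (a c : F43) : C.v a c * H.z = H.z * C.v a c := comm_z H (C.v_mem a c)

theorem add (a c a' c' : F43) : ∃ t, C.v (a + a') (c + c') = zp H.z t * (C.v a c * C.v a' c') :=
  exists_zp (C.v_add a c a' c')

theorem comm (a c a' c' : F43) :
    C.v a c * C.v a' c' = zp H.z (tr (hp3 a c' + hp3 a' c)) * (C.v a' c' * C.v a c) := by
  obtain ⟨t, ht⟩ := C.add a c a' c'
  have h1 := C.v_sq (a + a') (c + c')
  have hx := C.v_sq a c
  have hy := C.v_sq a' c'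
  have hcx := C.cz a c
  have hcy := C.cz a' c'
  set x := C.v a c with hxdef
  set y := C.v a' c' with hydef
  have hxy : x * y * H.z = H.z * (x * y) := by
    rw [mul_assoc, hcy, ← mul_assoc, hcx, mul_assoc]
  have h2 : x * y * (x * y) = H.z ^ (tr (hp3 (a + a') (c + c'))).val := by
    rw [← h1, ht]
    calc x * y * (x * y) = (zp H.z t * zp H.z t) * (x * y * (x * y)) := by rw [zp_sq (zz H), one_mul]
      _ = zp H.z t * (zp H.z t * (x * y)) * (x * y) := by group
      _ = zp H.z t * ((x * y) * zp H.z t) * (x * y) := by rw [zp_comm hxy]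
      _ = _ := by group
  have h3 : tr (hp3 (a + a') (c + c')) = tr (hp3 a c) + tr (hp3 a c' + hp3 a' c) + tr (hp3 a' c') := by
    rw [hp3_add_left, hp3_add_right, hp3_add_right, tr_add, tr_add, tr_add, tr_add]
    ring
  change x * y * (x * y) = zp H.z _ at h2
  change x * x = zp H.z _ at hx
  change y * y = zp H.z _ at hy
  rw [h3, zp_add (zz H), zp_add (zz H), ← hx, ← hy] at h2
  -- x y x y = x x z^s y y
  have h4 : y * x * y = x * zp H.z (tr (hp3 a c' + hp3 a' c)) * y * y := by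
    apply mul_left_cancel (a := x)
    calc x * (y * x * y) = x * y * (x * y) := by group
      _ = _ := by rw [h2]; group
  have h5 : y * x = x * zp H.z (tr (hp3 a c' + hp3 a' c)) * y := mul_right_cancel h4
  rw [h5, zp_comm hcx]
  calc x * y = (zp H.z (tr (hp3 a c' + hp3 a' c)) * zp H.z (tr (hp3 a c' + hp3 a' c))) * (x * y) := by
        rw [zp_sq (zz H), one_mul]
    _ = _ := by group

theorem rho (a c : F43) : ∃ t, H.ρ * C.v a c * H.ρ⁻¹ = zp H.z t * C.v (sc .w a) (sc .w c) :=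
  exists_zp (C.v_rho a c)

theorem rho2 (a c : F43) : ∃ t, H.ρ * (H.ρ * C.v a c * H.ρ⁻¹) * H.ρ⁻¹ =
    zp H.z t * C.v (sc .w (sc .w a)) (sc .w (sc .w c)) := by
  obtain ⟨t, ht⟩ := C.rho a c
  obtain ⟨u, hu⟩ := C.rho (sc .w a) (sc .w c)
  refine ⟨t + u, ?_⟩
  rw [ht, zp_add (zz H), mul_assoc (zp H.z t), ← hu, ← mul_assoc, zp_comm H.ρ_comm]
  group

/-- the canonical lift is a lift -/
theorem can_eq (a c : F43) : ∃ t, can H.ρ (C.v a c) = zp H.z t * C.v a c := by
  obtain ⟨t, ht⟩ := C.rho a c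
  obtain ⟨u, hu⟩ := C.rho2 a c
  obtain ⟨r, hr⟩ := C.add (sc .w a) (sc .w c) (sc .w (sc .w a)) (sc .w (sc .w c))
  rw [w_add_v, w_add_v] at hr
  refine ⟨t + u + r, ?_⟩
  unfold can
  have hc := C.cz (sc .w a) (sc .w c)
  rw [hu, ht, hr, zp_add (zz H), zp_add (zz H)]
  set x := C.v (sc .w a) (sc .w c)
  set y := C.v (sc .w (sc .w a)) (sc .w (sc .w c))
  calc zp H.z t * x * (zp H.z u * y) = zp H.z t * (x * zp H.z u) * y := by group
    _ = zp H.z t * zp H.z u * (x * y) := by rw [zp_comm hc]; group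
    _ = zp H.z t * zp H.z u * (zp H.z r * zp H.z r) * (x * y) := by rw [zp_sq (zz H), mul_one]
    _ = _ := by group

/-- general multiplication rule for the canonical lifts -/
theorem can_mul (a c a' c' : F43) :
    can H.ρ (C.v a c * C.v a' c') =
      zp H.z (tr (hp3 (sc .w a') (sc .w (sc .w c)) + hp3 (sc .w (sc .w a)) (sc .w c'))) *
        (can H.ρ (C.v a c) * can H.ρ (C.v a' c')) := by
  apply can_mul_of (z := H.z)
  · rintro g (rfl | rfl)
    · exact comm_z H (rho_conj_mem H (C.v_mem _ _))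
    · exact comm_z H (rho_conj_mem H (C.v_mem _ _))
  · obtain ⟨t, ht⟩ := C.rho a' c'
    obtain ⟨u, hu⟩ := C.rho2 a c
    have hcm := C.comm (sc .w a') (sc .w c') (sc .w (sc .w a)) (sc .w (sc .w c))
    have hcx := C.cz (sc .w a') (sc .w c')
    have hcy := C.cz (sc .w (sc .w a)) (sc .w (sc .w c))
    rw [ht, hu]
    set x := C.v (sc .w a') (sc .w c')
    set y := C.v (sc .w (sc .w a)) (sc .w (sc .w c))
    have e1 : zp H.z t * x * (zp H.z u * y) = zp H.z t * zp H.z u * (x * y) := by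
      rw [mul_assoc, ← mul_assoc x, zp_comm hcx]; group
    have e2 : zp H.z u * y * (zp H.z t * x) = zp H.z t * zp H.z u * (y * x) := by
      have : zp H.z u * zp H.z t = zp H.z t * zp H.z u := by
        rw [← zp_add (zz H), ← zp_add (zz H), add_comm]
      rw [← this, mul_assoc, ← mul_assoc y, zp_comm hcy]; group
    rw [e1, e2, hcm]
    generalize tr (hp3 (sc .w a') (sc .w (sc .w c)) + hp3 (sc .w (sc .w a)) (sc .w c')) = k
    have : zp H.z t * zp H.z u * zp H.z k = zp H.z k * (zp H.z t * zp H.z u) := by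
      rw [← zp_add (zz H), ← zp_add (zz H), ← zp_add (zz H), add_comm]
    rw [← mul_assoc, this]; group

theorem can_add (a c a' c' : F43) :
    can H.ρ (C.v (a + a') (c + c')) =
      zp H.z (tr (hp3 (sc .w a') (sc .w (sc .w c)) + hp3 (sc .w (sc .w a)) (sc .w c'))) *
        (can H.ρ (C.v a c) * can H.ρ (C.v a' c')) := by
  obtain ⟨t, ht⟩ := C.add a c a' c'
  rw [ht, can_zp_mul (zz H) H.ρ_comm, C.can_mul]
  rw [mul_assoc, C.cz, ← mul_assoc, C.cz, mul_assoc]

theorem rho_can (a c : F43) : H.ρ * can H.ρ (C.v a c) * H.ρ⁻¹ = can H.ρ (C.v (sc .w a) (sc .w c)) := by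
  obtain ⟨t, ht⟩ := C.rho a c
  rw [← can_conj rfl, ht, can_zp_mul (zz H) H.ρ_comm (C.cz _ _)]

/-- the exact coordinates -/
def toECoord : ECoord H where
  s a := can H.ρ (C.v a 0)
  s' c := can H.ρ (C.v 0 c)
  s_Q a := H.Q.mul_mem (rho_conj_mem H (C.v_mem _ _)) (rho_conj_mem H (rho_conj_mem H (C.v_mem _ _)))
  s'_Q a := H.Q.mul_mem (rho_conj_mem H (C.v_mem _ _)) (rho_conj_mem H (rho_conj_mem H (C.v_mem _ _)))
  s_E a := by
    obtain ⟨t, ht⟩ := C.can_eq a 0
    rw [ht]
    refine (H.E hex0).mul_mem ?_ (C.v_E0 a)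
    rcases zp_cases H.z t with h | h
    · rw [h]; exact one_mem _
    · rw [h]; exact H.z_mem_E _ hex0_isHex
  s'_E a := by
    obtain ⟨t, ht⟩ := C.can_eq 0 a
    rw [ht]
    refine (H.E hex1).mul_mem ?_ (C.v_E1 a)
    rcases zp_cases H.z t with h | h
    · rw [h]; exact one_mem _
    · rw [h]; exact H.z_mem_E _ hex1_isHex
  s_add a b := by
    have h := C.can_add a 0 b 0
    rw [add_zero, sc_zero, sc_zero, hp3_zero_right, hp3_zero_right, add_zero,
      show tr 0 = 0 from rfl, zp_zero, one_mul] at h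
    exact h
  s'_add a b := by
    have h := C.can_add 0 a 0 b
    rw [add_zero, sc_zero, sc_zero, hp3_zero_left, hp3_zero_left, add_zero,
      show tr 0 = 0 from rfl, zp_zero, one_mul] at h
    exact h
  s_rho a := by
    have h := C.rho_can a 0
    rw [sc_zero] at h
    exact h
  s'_rho a := by
    have h := C.rho_can 0 a
    rw [sc_zero] at h
    exact h
  inj a c t h := by
    obtain ⟨t1, h1⟩ := C.can_eq a 0
    obtain ⟨t2, h2⟩ := C.can_eq 0 c
    obtain ⟨t3, h3⟩ := C.add a 0 0 c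
    rw [add_zero, zero_add] at h3
    have h4 : C.v a c = zp H.z (t3 + (t1 + t2 + t)) := by
      have e1 : zp H.z t1 * C.v a 0 * (zp H.z t2 * C.v 0 c) =
          zp H.z (t1 + t2) * (C.v a 0 * C.v 0 c) := by
        rw [zp_add (zz H), mul_assoc, ← mul_assoc (C.v a 0), zp_comm (C.cz a 0)]; group
      rw [h1, h2, e1] at h
      have h5 : C.v a 0 * C.v 0 c = zp H.z (t1 + t2) * zp H.z t := by
        rw [← h, ← mul_assoc, zp_sq (zz H), one_mul]
      rw [h3, h5, ← zp_add (zz H), ← zp_add (zz H)]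
    apply C.v_inj
    rw [h4]
    exact zp_cases _ _
  comm a c := by
    obtain ⟨t1, h1⟩ := C.can_eq a 0
    obtain ⟨t2, h2⟩ := C.can_eq 0 c
    have h3 := C.comm 0 c a 0
    rw [hp3_zero_left, zero_add] at h3
    have e1 : zp H.z t2 * C.v 0 c * (zp H.z t1 * C.v a 0) =
        zp H.z (t1 + t2) * (C.v 0 c * C.v a 0) := by
      rw [zp_add (zz H), mul_assoc, ← mul_assoc (C.v 0 c), zp_comm (C.cz 0 c),
        show zp H.z t1 * zp H.z t2 = zp H.z t2 * zp H.z t1 by
          rw [← zp_add (zz H), ← zp_add (zz H), add_comm]]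
      group
    have e2 : zp H.z t1 * C.v a 0 * (zp H.z t2 * C.v 0 c) =
        zp H.z (t1 + t2) * (C.v a 0 * C.v 0 c) := by
      rw [zp_add (zz H), mul_assoc, ← mul_assoc (C.v a 0), zp_comm (C.cz a 0)]; group
    rw [h1, h2, e1, e2, h3, ← mul_assoc (zp H.z (t1 + t2)), ← zp_add (zz H),
      ← mul_assoc (zp H.z (tr (hp3 a c))), ← zp_add (zz H), add_comm]
  act f hf hfr i j hij hP c := by
    obtain ⟨t, ht⟩ := exists_zp (C.act f hf hfr i j hij hP c)
    have h1 := C.can_add 0 c (sc (gam c i) (hv i) + sc (gam c j) (hv j)) 0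
    rw [zero_add, add_zero, sc_zero, sc_zero, hp3_zero_left, add_zero, hp3_sc_left, hp3_sc_right,
      hp3_sc_right] at h1
    rw [← can_conj hfr, ht, can_zp_mul (zz H) H.ρ_comm (C.cz _ _), h1]
    congr 1
    rw [← hp3_act c i j]
    congr 2
    generalize hp3 (sc (gam c i) (hv i) + sc (gam c j) (hv j)) c = x
    cases x <;> rfl

end VCoord

end

end Cfsg.Agent.J4Type
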