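import Cfsg.Agent.J4Type.ECoord

/-!
# The elements of `E = E hex0` (part (c), helper233)

`FSys H` : representatives `f o` (`o : Fin 16`) of `E / (E ∩ Q)` centralised by `ρ`;
`el C F t a o = z^t · s a · f o` : all elements of `E`, each exactly once; formulas for the
conjugation by `s' c` and `ρ`.
-/

set_option autoImplicit false

open scoped Pointwise

namespace Cfsg.Agent.J4Type.EElems

open Cfsg VCoord HexPerms ECoord
open SporadicA.FieldFour (F4)

variable {G : Type*} [Group G]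

/-! ### general facts -/

/-- `ρ` as an element of the centraliser -/
def rC (H : Hex G) : Subgroup.centralizer ({H.z} : Set G) :=
  ⟨H.ρ, Subgroup.mem_centralizer_singleton_iff.2 H.ρ_comm⟩

theorem P_rC (H : Hex G) : H.P (rC H) = 1 :=
  (H.P_ker _).2 ⟨1, one_mem _, 1, by rw [one_mul, pow_one]; rfl⟩

theorem P_of_Q (H : Hex G) (c : Subgroup.centralizer ({H.z} : Set G)) (hc : (c : G) ∈ H.Q) :
    H.P c = 1 :=
  (H.P_ker _).2 ⟨c, hc, 0, by rw [pow_zero, mul_one]⟩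

theorem E_comm (H : Hex G) {a b : G} (ha : a ∈ H.E hex0) (hb : b ∈ H.E hex0) : a * b = b * a :=
  (H.E_elem hex0 hex0_isHex).2 a ha b hb

theorem E_sq (H : Hex G) {a : G} (ha : a ∈ H.E hex0) : a * a = 1 :=
  (H.E_elem hex0 hex0_isHex).1 a ha

theorem z_mem (H : Hex G) : H.z ∈ H.E hex0 := H.z_mem_E hex0 hex0_isHex

theorem zp_mem (H : Hex G) (t : ZMod 2) : zp H.z t ∈ H.E hex0 := Subgroup.pow_mem _ (z_mem H) _

theorem E_cz (H : Hex G) {a : G} (ha : a ∈ H.E hex0) : a * H.z = H.z * a := E_comm H ha (z_mem H)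

/-- an element of `E` as an element of the centraliser -/
def toC (H : Hex G) (a : G) (ha : a ∈ H.E hex0) : Subgroup.centralizer ({H.z} : Set G) :=
  ⟨a, Subgroup.mem_centralizer_singleton_iff.2 (E_cz H ha)⟩

theorem conj_mem_E (H : Hex G) (c : Subgroup.centralizer ({H.z} : Set G))
    (hc : H.P c • hex0 = hex0) (a : G) : a ∈ H.E hex0 ↔ (c : G) * a * (c : G)⁻¹ ∈ H.E hex0 := by
  have h := H.E_conj hex0 hex0_isHex c a
  rw [hc] at h
  exact h

theorem rho_conj_E (H : Hex G) {a : G} (ha : a ∈ H.E hex0) : H.ρ * a * H.ρ⁻¹ ∈ H.E hex0 :=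
  (conj_mem_E H (rC H) (by rw [P_rC, one_smul]) a).1 ha

/-- an involution in the kernel of `P` lies in `Q` -/
theorem mem_Q_of_P (H : Hex G) (c : Subgroup.centralizer ({H.z} : Set G))
    (h1 : (c : G) * c = 1) (h2 : H.P c = 1) : (c : G) ∈ H.Q := by
  obtain ⟨q, hq, i, hi⟩ := (H.P_ker c).1 h2
  have hr3 : H.ρ ^ 3 = 1 := by rw [← H.ρ_order]; exact pow_orderOf_eq_one _
  have hconj : ∀ k : ℕ, ∀ x ∈ H.Q, H.ρ ^ k * x * (H.ρ ^ k)⁻¹ ∈ H.Q := by
    intro k
    induction k with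
    | zero => intro x hx; rw [pow_zero, one_mul, inv_one, mul_one]; exact hx
    | succ n ih =>
      intro x hx
      have := ih _ (NormRho.rho_mem H.toCent hx)
      rw [show H.ρ ^ (n + 1) * x * (H.ρ ^ (n + 1))⁻¹ =
        H.ρ ^ n * (H.ρ * x * H.ρ⁻¹) * (H.ρ ^ n)⁻¹ by rw [pow_succ]; group]
      exact this
  have h3 : q * (H.ρ ^ i * q * (H.ρ ^ i)⁻¹) * H.ρ ^ (2 * i) = 1 := by
    rw [hi] at h1
    rw [← h1, two_mul, pow_add]; group
  have h4 : H.ρ ^ (2 * i) ∈ H.Q := by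
    have h5 : H.ρ ^ (2 * i) = (q * (H.ρ ^ i * q * (H.ρ ^ i)⁻¹))⁻¹ := (inv_eq_of_mul_eq_one_right h3).symm
    rw [h5]
    exact inv_mem (mul_mem hq (hconj i q hq))
  have h6 : H.ρ ^ i ∈ H.Q := by
    have h7 : H.ρ ^ i = H.ρ ^ (2 * i) * H.ρ ^ (2 * i) := by
      rw [← pow_add, show 2 * i + 2 * i = 3 * i + i by ring, pow_add, pow_mul, hr3, one_pow, one_mul]
    rw [h7]
    exact mul_mem h4 h4
  rw [hi]
  exact mul_mem hq h6

/-- elements of `E` centralised by `ρ` with the same image under `P` are equal up to `z` -/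
theorem eq_zp_mul (H : Hex G) (c d : Subgroup.centralizer ({H.z} : Set G)) (hc : (c : G) ∈ H.E hex0)
    (hd : (d : G) ∈ H.E hex0) (hcr : (c : G) * H.ρ = H.ρ * c) (hdr : (d : G) * H.ρ = H.ρ * d)
    (h : H.P c = H.P d) : ∃ t, (c : G) = zp H.z t * d := by
  have h1 : ((c * d : Subgroup.centralizer ({H.z} : Set G)) : G) ∈ H.E hex0 := mul_mem hc hd
  have hPd : H.P d * H.P d = 1 := by
    rw [← map_mul, show d * d = 1 from Subtype.ext (E_sq H hd), map_one]
  have h2 : ((c * d : Subgroup.centralizer ({H.z} : Set G)) : G) ∈ H.Q :=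
    mem_Q_of_P H _ (E_sq H h1) (by rw [map_mul, h, hPd])
  have h3 := H.ρ_fix _ h2 (by
    show H.ρ * ((c : G) * d) = ((c : G) * d) * H.ρ
    rw [← mul_assoc, ← hcr, mul_assoc, ← hdr, mul_assoc])
  have h4 : (c : G) = ((c : G) * d) * d := by rw [mul_assoc, E_sq H hd, mul_one]
  rcases h3 with h3 | h3
  · exact ⟨0, by rw [zp_zero, h4]; exact congrArg (· * (d : G)) h3⟩
  · exact ⟨1, by rw [zp_one]; rw [h4]; exact congrArg (· * (d : G)) h3⟩

theorem exists_f (H : Hex G) (o : Fin 16) : ∃ f : Subgroup.centralizer ({H.z} : Set G),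
    (f : G) ∈ H.E hex0 ∧ (f : G) * H.ρ = H.ρ * f ∧ H.P f = gO o := by
  obtain ⟨a, ha, hP⟩ := (H.E_map hex0 hex0_isHex (gO o)).2 ⟨gO_mem o, gO_fix o⟩
  set r := rC H with hr
  have h1 : H.ρ * (a : G) * H.ρ⁻¹ ∈ H.E hex0 := rho_conj_E H ha
  have h2 := rho_conj_E H h1
  refine ⟨a * (r * a * r⁻¹) * (r * (r * a * r⁻¹) * r⁻¹), mul_mem (mul_mem ha h1) h2, ?_, ?_⟩
  · have h3 : H.ρ * (H.ρ * (H.ρ * (a : G) * H.ρ⁻¹) * H.ρ⁻¹) * H.ρ⁻¹ = a := by
      calc H.ρ * (H.ρ * (H.ρ * (a : G) * H.ρ⁻¹) * H.ρ⁻¹) * H.ρ⁻¹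
          = (H.ρ * (H.ρ * H.ρ)) * a * (H.ρ * (H.ρ * H.ρ))⁻¹ := by group
        _ = a := by rw [NormRho.rho_cube H.toCent]; group
    show (a : G) * (H.ρ * a * H.ρ⁻¹) * (H.ρ * (H.ρ * a * H.ρ⁻¹) * H.ρ⁻¹) * H.ρ =
      H.ρ * ((a : G) * (H.ρ * a * H.ρ⁻¹) * (H.ρ * (H.ρ * a * H.ρ⁻¹) * H.ρ⁻¹))
    have h5 := E_comm H ha (mul_mem h1 h2)
    generalize hx : H.ρ * (a : G) * H.ρ⁻¹ = x at h3 h5 ⊢
    generalize hy : H.ρ * x * H.ρ⁻¹ = y at h3 h5 ⊢
    calc (a : G) * x * y * H.ρ = (a : G) * (x * y) * H.ρ := by group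
      _ = x * y * a * H.ρ := by rw [h5]
      _ = (H.ρ * (a : G) * H.ρ⁻¹) * (H.ρ * x * H.ρ⁻¹) * (H.ρ * y * H.ρ⁻¹) * H.ρ := by
          rw [hx, hy, h3]
      _ = H.ρ * ((a : G) * x * y) := by group
  · have e : ∀ o : Fin 16, o ^^^ o ^^^ o = o := by decide +kernel
    simp only [map_mul, map_inv, hr, P_rC, hP, one_mul, inv_one, mul_one, gO_mul, e]

/-! ### systems of representatives -/

/-- representatives of `E/(E ∩ Q)` centralised by `ρ` -/
structure FSys (H : Hex G) where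
  f : Fin 16 → G
  f_E : ∀ o, f o ∈ H.E hex0
  f_rho : ∀ o, f o * H.ρ = H.ρ * f o
  f_P : ∀ o, H.P (toC H (f o) (f_E o)) = gO o
  f_zero : f 0 = 1

theorem exists_FSys (H : Hex G) : Nonempty (FSys H) := by
  choose f hE hr hP using exists_f H
  refine ⟨⟨fun o => if o = 0 then 1 else f o, ?_, ?_, ?_, ?_⟩⟩
  · intro o
    split_ifs
    · exact one_mem _
    · exact hE o
  · intro o
    split_ifs
    · rw [one_mul, mul_one]
    · exact hr o
  · intro o
    by_cases ho : o = 0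
    · subst ho
      have : toC H (if (0 : Fin 16) = 0 then 1 else ((f 0 : Subgroup.centralizer ({H.z} : Set G)) : G))
          (by rw [if_pos rfl]; exact one_mem _) = 1 :=
        Subtype.ext (show (if (0 : Fin 16) = 0 then (1 : G) else (f 0 : G)) = 1 from if_pos rfl)
      rw [this, map_one, gO_zero]
    · rw [← hP o]
      congr 1
      exact Subtype.ext (if_neg ho)
  · exact if_pos rfl

/-- change of signs -/
def FSys.twist {H : Hex G} (F : FSys H) (ζ : Fin 16 → ZMod 2) (hζ : ζ 0 = 0) : FSys H where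
  f o := zp H.z (ζ o) * F.f o
  f_E o := mul_mem (zp_mem H _) (F.f_E o)
  f_rho o := by
    rw [mul_assoc, F.f_rho, ← mul_assoc, ← mul_assoc, zp_comm (H.ρ_comm)]
  f_P o := by
    have : toC H (zp H.z (ζ o) * F.f o) (mul_mem (zp_mem H _) (F.f_E o)) =
        toC H (zp H.z (ζ o)) (zp_mem H _) * toC H (F.f o) (F.f_E o) := rfl
    rw [this, map_mul, F.f_P, P_of_Q, one_mul]
    exact Subgroup.pow_mem _ H.z_mem_Q _
  f_zero := by rw [hζ, zp_zero, F.f_zero, one_mul]

/-! ### the pair of points attached to `o : Fin 16` -/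

/-- the pair `i < j` with `mo i j = o` -/
def pr : Fin 16 → Fin 6 × Fin 6 :=
  ![(0, 0), (0, 1), (0, 2), (1, 2), (0, 3), (1, 3), (2, 3), (4, 5), (0, 4), (1, 4), (2, 4), (3, 5),
    (3, 4), (2, 5), (1, 5), (0, 5)]

theorem pr_ne : ∀ o : Fin 16, o ≠ 0 → (pr o).1 ≠ (pr o).2 := by decide

theorem mo_pr : ∀ o : Fin 16, mo (pr o).1 (pr o).2 = o := by decide

/-- the vector `[f o, s' c]` -/
def dd (o : Fin 16) (c : F43) : F43 :=
  if o = 0 then 0 else sc (gam c (pr o).1) (hv (pr o).1) + sc (gam c (pr o).2) (hv (pr o).2)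

/-- the sign of `[f o, s' c]` -/
def nn (o : Fin 16) (c : F43) : ZMod 2 := if o = 0 then 0 else nm (gam c (pr o).1) + nm (gam c (pr o).2)

section

variable {H : Hex G} (C : ECoord H) (F : FSys H)

include C

theorem s_zero : C.s 0 = 1 := by
  have h := C.s_add 0 0
  rw [add_zero] at h
  exact mul_eq_left.1 h.symm

theorem s'_zero : C.s' 0 = 1 := by
  have h := C.s'_add 0 0
  rw [add_zero] at h
  exact mul_eq_left.1 h.symm

theorem s_sq (a : F43) : C.s a * C.s a = 1 := by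
  rw [← C.s_add, f43_add_self, s_zero C]

theorem s'_sq (a : F43) : C.s' a * C.s' a = 1 := by
  rw [← C.s'_add, f43_add_self, s'_zero C]

theorem s_inj {a b : F43} {t u : ZMod 2} (h : zp H.z t * C.s a = zp H.z u * C.s b) :
    t = u ∧ a = b := by
  have h1 : C.s (a + b) * C.s' 0 = zp H.z (t + u) := by
    rw [s'_zero C, mul_one, C.s_add, zp_add (zz H)]
    have h2 : C.s a = zp H.z t * (zp H.z u * C.s b) := by
      rw [← h, ← mul_assoc, zp_sq (zz H), one_mul]
    rw [h2, ← mul_assoc, mul_assoc, s_sq C, mul_one]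
  have h3 := (C.inj _ _ _ h1).1
  have h4 : a = b := by
    calc a = a + b + b := by rw [add_assoc, f43_add_self, add_zero]
      _ = b := by rw [h3, zero_add]
  subst h4
  exact ⟨zp_inj (z_ne H) (mul_right_cancel h), rfl⟩

theorem conj_s (a c : F43) : C.s' c * C.s a * (C.s' c)⁻¹ = zp H.z (tr (hp3 a c)) * C.s a := by
  rw [C.comm]; group

/-- the key formula for `f o` -/
theorem conj_f (o : Fin 16) (c : F43) :
    C.s' c * F.f o * (C.s' c)⁻¹ = zp H.z (nn o c) * C.s (dd o c) * F.f o := by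
  by_cases ho : o = 0
  · subst ho
    rw [F.f_zero, show dd 0 c = 0 from if_pos rfl, show nn 0 c = 0 from if_pos rfl, s_zero C, zp_zero]
    group
  · have hP : H.P (toC H (F.f o) (F.f_E o)) (hp (pr o).1) = hp (pr o).2 := by
      rw [F.f_P]
      have h9 := gO_hp (pr o).1 (pr o).2
      rw [mo_pr] at h9
      exact h9
    have h := C.act (toC H (F.f o) (F.f_E o)) (F.f_E o) (F.f_rho o) _ _ (pr_ne o ho) hP c
    have hff := E_sq H (F.f_E o)
    have hinv : (F.f o)⁻¹ = F.f o := inv_eq_of_mul_eq_one_left hff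
    change F.f o * C.s' c * (F.f o)⁻¹ = _ at h
    have hd : dd o c = sc (gam c (pr o).1) (hv (pr o).1) + sc (gam c (pr o).2) (hv (pr o).2) :=
      if_neg ho
    have hn : nn o c = nm (gam c (pr o).1) + nm (gam c (pr o).2) := if_neg ho
    rw [← hd, ← hn] at h
    have h0 : tr (hp3 (dd o c) c) = 0 := by rw [hd]; exact tr_hp3_act _ _ _
    have h1 := conj_s C (dd o c) c
    rw [h0, zp_zero, one_mul] at h1
    calc C.s' c * F.f o * (C.s' c)⁻¹ = F.f o * ((F.f o)⁻¹ * C.s' c * F.f o) * (C.s' c)⁻¹ := by group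
      _ = F.f o * (F.f o * C.s' c * (F.f o)⁻¹) * (C.s' c)⁻¹ := by rw [hinv]
      _ = F.f o * zp H.z (nn o c) * (C.s' c * C.s (dd o c) * (C.s' c)⁻¹) := by rw [h]; group
      _ = F.f o * (zp H.z (nn o c) * C.s (dd o c)) := by rw [h1]; group
      _ = _ := E_comm H (F.f_E o) (mul_mem (zp_mem H _) (C.s_E _))

/-! ### the elements of `E` -/

/-- `z^t · s a · f o` -/
def el (t : ZMod 2) (a : F43) (o : Fin 16) : G := zp H.z t * C.s a * F.f o

theorem el_mem (t : ZMod 2) (a : F43) (o : Fin 16) : el C F t a o ∈ H.E hex0 :=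
  mul_mem (mul_mem (zp_mem H _) (C.s_E _)) (F.f_E _)

theorem el_mul_zp (t u : ZMod 2) (a : F43) (o : Fin 16) :
    zp H.z u * el C F t a o = el C F (u + t) a o := by
  unfold el; rw [zp_add (zz H)]; group

theorem el_twist (ζ : Fin 16 → ZMod 2) (hζ : ζ 0 = 0) (t : ZMod 2) (a : F43) (o : Fin 16) :
    el C (F.twist ζ hζ) t a o = el C F (t + ζ o) a o := by
  show zp H.z t * C.s a * (zp H.z (ζ o) * F.f o) = zp H.z (t + ζ o) * C.s a * F.f o
  rw [zp_add (zz H), ← mul_assoc, mul_assoc (zp H.z t), zp_comm (comm_z H (C.s_Q a))]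
  group

theorem P_el (t : ZMod 2) (a : F43) (o : Fin 16) : H.P (toC H _ (el_mem C F t a o)) = gO o := by
  have h1 : toC H _ (el_mem C F t a o) = toC H _ (mul_mem (zp_mem H t) (C.s_E a)) *
      toC H _ (F.f_E o) := rfl
  rw [h1, map_mul, F.f_P, P_of_Q, one_mul]
  exact mul_mem (Subgroup.pow_mem _ H.z_mem_Q _) (C.s_Q a)

theorem el_mem_Q_iff (t : ZMod 2) (a : F43) (o : Fin 16) : el C F t a o ∈ H.Q ↔ o = 0 := by
  constructor
  · intro h
    have h1 := P_of_Q H (toC H _ (el_mem C F t a o)) h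
    rw [P_el, ← gO_zero] at h1
    exact gO_injective h1
  · rintro rfl
    unfold el
    rw [F.f_zero, mul_one]
    exact mul_mem (Subgroup.pow_mem _ H.z_mem_Q _) (C.s_Q a)

theorem el_inj {t t' : ZMod 2} {a a' : F43} {o o' : Fin 16} (h : el C F t a o = el C F t' a' o') :
    t = t' ∧ a = a' ∧ o = o' := by
  have h1 : toC H _ (el_mem C F t a o) = toC H _ (el_mem C F t' a' o') := Subtype.ext h
  have h2 := congrArg H.P h1
  rw [P_el, P_el] at h2
  have h3 := gO_injective h2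
  subst h3
  obtain ⟨h4, h5⟩ := s_inj C (mul_right_cancel h)
  exact ⟨h4, h5, rfl⟩

theorem el_surj {x : G} (hx : x ∈ H.E hex0) : ∃ t a o, x = el C F t a o := by
  have hfin : Finite (H.E hex0) :=
    Nat.finite_of_card_ne_zero (by rw [H.E_card hex0 hex0_isHex]; norm_num)
  let φ : ZMod 2 × F43 × Fin 16 → H.E hex0 := fun p => ⟨el C F p.1 p.2.1 p.2.2, el_mem C F _ _ _⟩
  have hinj : Function.Injective φ := by
    rintro ⟨t, a, o⟩ ⟨t', a', o'⟩ h
    obtain ⟨h1, h2, h3⟩ := el_inj C F (congrArg Subtype.val h)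
    exact Prod.ext h1 (Prod.ext h2 h3)
  have hcard : Nat.card (ZMod 2 × F43 × Fin 16) = Nat.card (H.E hex0) := by
    rw [H.E_card hex0 hex0_isHex, Nat.card_prod, Nat.card_prod, Nat.card_eq_fintype_card,
      Nat.card_eq_fintype_card, Nat.card_eq_fintype_card, Fintype.card_fin, ZMod.card,
      Fintype.card_fun, Fintype.card_fin, SporadicA.FieldFour.F4.card_eq]
    norm_num
  have hbij := (Nat.bijective_iff_injective_and_card φ).2 ⟨hinj, hcard⟩
  obtain ⟨⟨t, a, o⟩, h⟩ := hbij.2 ⟨x, hx⟩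
  exact ⟨t, a, o, (congrArg Subtype.val h).symm⟩

theorem el_one : el C F 0 0 0 = 1 := by
  unfold el; rw [zp_zero, s_zero C, F.f_zero, mul_one, mul_one]

theorem el_z : el C F 1 0 0 = H.z := by
  unfold el; rw [zp_one, s_zero C, F.f_zero, mul_one, mul_one]

/-- conjugation by `s' c` -/
theorem conj_el (c : F43) (t : ZMod 2) (a : F43) (o : Fin 16) :
    C.s' c * el C F t a o * (C.s' c)⁻¹ = el C F (t + tr (hp3 a c) + nn o c) (a + dd o c) o := by
  have hz : C.s' c * zp H.z t * (C.s' c)⁻¹ = zp H.z t := by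
    rw [zp_comm (comm_z H (C.s'_Q c))]; group
  calc C.s' c * el C F t a o * (C.s' c)⁻¹
      = (C.s' c * zp H.z t * (C.s' c)⁻¹) * (C.s' c * C.s a * (C.s' c)⁻¹) *
        (C.s' c * F.f o * (C.s' c)⁻¹) := by unfold el; group
    _ = zp H.z t * (zp H.z (tr (hp3 a c)) * C.s a) * (zp H.z (nn o c) * C.s (dd o c) * F.f o) := by
        rw [hz, conj_s C, conj_f C F]
    _ = zp H.z t * zp H.z (tr (hp3 a c)) * (C.s a * zp H.z (nn o c)) * (C.s (dd o c) * F.f o) := by
        group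
    _ = zp H.z t * zp H.z (tr (hp3 a c)) * zp H.z (nn o c) * (C.s a * C.s (dd o c)) * F.f o := by
        rw [zp_comm (comm_z H (C.s_Q a))]; group
    _ = _ := by rw [← C.s_add, ← zp_add (zz H), ← zp_add (zz H)]; rfl

/-- conjugation by `ρ` -/
theorem rho_el (t : ZMod 2) (a : F43) (o : Fin 16) :
    H.ρ * el C F t a o * H.ρ⁻¹ = el C F t (sc .w a) o := by
  have hz : H.ρ * zp H.z t * H.ρ⁻¹ = zp H.z t := by
    rw [zp_comm H.ρ_comm]; group
  have hf : H.ρ * F.f o * H.ρ⁻¹ = F.f o := by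
    rw [← F.f_rho]; group
  calc H.ρ * el C F t a o * H.ρ⁻¹
      = (H.ρ * zp H.z t * H.ρ⁻¹) * (H.ρ * C.s a * H.ρ⁻¹) * (H.ρ * F.f o * H.ρ⁻¹) := by
        unfold el; group
    _ = _ := by rw [hz, C.s_rho, hf]; rfl

/-- the elements of `Q` -/
theorem Q_surj {x : G} (hx : x ∈ H.Q) : ∃ t a c, x = zp H.z t * C.s a * C.s' c := by
  have hfin : Finite H.Q := Nat.finite_of_card_ne_zero (by rw [H.Q_card]; norm_num)
  let φ : ZMod 2 × F43 × F43 → H.Q := fun p =>
    ⟨zp H.z p.1 * C.s p.2.1 * C.s' p.2.2,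
      mul_mem (mul_mem (Subgroup.pow_mem _ H.z_mem_Q _) (C.s_Q _)) (C.s'_Q _)⟩
  have hinj : Function.Injective φ := by
    rintro ⟨t, a, c⟩ ⟨t', a', c'⟩ h
    have h1 : zp H.z t * C.s a * C.s' c = zp H.z t' * C.s a' * C.s' c' := congrArg Subtype.val h
    have h2 : zp H.z t * C.s a * C.s' (c + c') = zp H.z t' * C.s a' := by
      rw [C.s'_add, ← mul_assoc, h1, mul_assoc, s'_sq C, mul_one]
    have h3 : C.s (a + a') * C.s' (c + c') = zp H.z (t + t') := by
      have h4 : C.s a * C.s' (c + c') = zp H.z t * (zp H.z t' * C.s a') := by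
        rw [← h2]
        calc C.s a * C.s' (c + c') = (zp H.z t * zp H.z t) * C.s a * C.s' (c + c') := by
              rw [zp_sq (zz H), one_mul]
          _ = _ := by group
      rw [add_comm a a', C.s_add, mul_assoc, h4, zp_add (zz H)]
      calc C.s a' * (zp H.z t * (zp H.z t' * C.s a'))
          = (C.s a' * (zp H.z t * zp H.z t')) * C.s a' := by group
        _ = (zp H.z t * zp H.z t') * (C.s a' * C.s a') := by
            rw [← zp_add (zz H), zp_comm (comm_z H (C.s_Q a'))]; group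
        _ = _ := by rw [s_sq C, mul_one]
    obtain ⟨h5, h6⟩ := C.inj _ _ _ h3
    have hcc : c = c' := by
      calc c = c + c' + c' := by rw [add_assoc, f43_add_self, add_zero]
        _ = c' := by rw [h6, zero_add]
    subst hcc
    obtain ⟨h7, h8⟩ := s_inj C (mul_right_cancel h1)
    rw [h7, h8]
  have hcard : Nat.card (ZMod 2 × F43 × F43) = Nat.card H.Q := by
    rw [H.Q_card, Nat.card_prod, Nat.card_prod, Nat.card_eq_fintype_card,
      Nat.card_eq_fintype_card, ZMod.card,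
      Fintype.card_fun, Fintype.card_fin, SporadicA.FieldFour.F4.card_eq]
    norm_num
  have hbij := (Nat.bijective_iff_injective_and_card φ).2 ⟨hinj, hcard⟩
  obtain ⟨⟨t, a, c⟩, h⟩ := hbij.2 ⟨x, hx⟩
  exact ⟨t, a, c, (congrArg Subtype.val h).symm⟩

omit C in
/-- `f o f o' = z^? f (o + o')` -/
theorem f_mul (o o' : Fin 16) : ∃ t, F.f o * F.f o' = zp H.z t * F.f (o ^^^ o') := by
  have h1 : F.f o * F.f o' ∈ H.E hex0 := mul_mem (F.f_E o) (F.f_E o')
  obtain ⟨t, ht⟩ := eq_zp_mul H (toC H _ h1) (toC H _ (F.f_E (o ^^^ o'))) h1 (F.f_E _) (by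
    show F.f o * F.f o' * H.ρ = H.ρ * (F.f o * F.f o')
    rw [mul_assoc, F.f_rho, ← mul_assoc, F.f_rho, mul_assoc]) (F.f_rho _) (by
    have : toC H _ h1 = toC H _ (F.f_E o) * toC H _ (F.f_E o') := rfl
    rw [this, map_mul, F.f_P, F.f_P, F.f_P, gO_mul])
  exact ⟨t, ht⟩

end

end Cfsg.Agent.J4Type.EElems
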