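import Cfsg.Agent.J4Type.EOrbCheck

/-!
# Orbits of `N_C(E)` on `E = E hex0` (part (c), helper233)

`exists_signs` : for a subset `S` of `E` invariant under `N_C(E)` there are signs for the `f o`
such that `z^t · s a · f o ∈ S` depends only on the class `kap t a o ∈ Fin 7`.
`exists_classes` : the same in terms of seven subsets of `E` of sizes `1, 1, 36, 90, 240, 240, 1440`.
-/

set_option autoImplicit false

namespace Cfsg.Agent.J4Type.EOrbits

open Cfsg VCoord HexPerms ECoord EElems EPi EOrbCheck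
open SporadicA.FieldFour (F4)

/-- a predicate invariant under the maps induced by `Q`, `ρ` and `A₆` -/
structure Inv (F : ZMod 2 → F43 → Fin 16 → Prop) : Prop where
  q : ∀ c t a o, F t a o ↔ F (t + tr (hp3 a c) + nn o c) (a + dd o c) o
  r : ∀ t a o, F t a o ↔ F t (sc .w a) o
  p : ∀ b o, ∃ τ, ∀ t a, F t a o ↔ F (t + τ) (Mb b a) (oG b o)

/-- the same modulo `z` -/
structure Inv1 (g : F43 → Fin 16 → Prop) : Prop where
  q : ∀ c a o, g a o ↔ g (a + dd o c) o
  r : ∀ a o, g a o ↔ g (sc .w a) o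
  p : ∀ b a o, g a o ↔ g (Mb b a) (oG b o)

theorem Inv1.gen {g : F43 → Fin 16 → Prop} (hg : Inv1 g) (k y : ℕ) :
    g (aY y) (oY y) ↔ g (aY (gen k y)) (oY (gen k y)) := by
  unfold EOrbCheck.gen
  split_ifs
  · rw [aY_encY, oY_encY]; exact hg.q _ _ _
  · rw [aY_encY, oY_encY]; exact hg.r _ _
  · rw [aY_encY, oY_encY]; exact hg.p _ _ _
  · rw [aY_encY, oY_encY]; exact hg.p _ _ _

theorem Inv1.walk {g : F43 → Fin 16 → Prop} (hg : Inv1 g) : ∀ (n y : ℕ), y < 1024 → fdep y = n →
    (g (aY y) (oY y) ↔ g (aY (root (fcls y))) (oY (root (fcls y)))) := by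
  intro n
  induction n using Nat.strong_induction_on with
  | _ n ih =>
    intro y hy hn
    have h := chk1_spec hy
    unfold chk1 at h
    split_ifs at h with h0
    · rw [← Nat.eq_of_beq_eq_true h]
    · rw [Bool.and_eq_true, Bool.and_eq_true] at h
      obtain ⟨⟨h1, h2⟩, h3⟩ := h
      have h1' := Nat.eq_of_beq_eq_true h1
      have h3' := Nat.eq_of_beq_eq_true h3
      have h2' : fdep (fpar y) < fdep y := by
        have := Nat.le_of_ble_eq_true h2
        omega
      have hp : fpar y < 1024 := Nat.mod_lt _ (by norm_num)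
      rw [hg.gen (fk y) y, h1', ih _ (hn ▸ h2') (fpar y) hp rfl, h3']

theorem Inv1.root {g : F43 → Fin 16 → Prop} (hg : Inv1 g) (a : F43) (o : Fin 16) :
    g a o ↔ g (aY (root (fcls (encY a o)))) (oY (root (fcls (encY a o)))) := by
  have h := hg.walk _ (encY a o) (encY_lt a o) rfl
  rw [aY_encY, oY_encY] at h
  exact h

theorem and_shift (P : ZMod 2 → Prop) (s : ZMod 2) : (P (0 + s) ∧ P (1 + s)) ↔ (P 0 ∧ P 1) := by
  rcases zmod2_cases s with rfl | rfl
  · rw [add_zero, add_zero]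
  · rw [zero_add, show (1 : ZMod 2) + 1 = 0 from rfl]; exact And.comm

theorem or_shift (P : ZMod 2 → Prop) (s : ZMod 2) : (P (0 + s) ∨ P (1 + s)) ↔ (P 0 ∨ P 1) := by
  rcases zmod2_cases s with rfl | rfl
  · rw [add_zero, add_zero]
  · rw [zero_add, show (1 : ZMod 2) + 1 = 0 from rfl]; exact Or.comm

variable {F : ZMod 2 → F43 → Fin 16 → Prop}

theorem Inv.and (hF : Inv F) : Inv1 fun a o => F 0 a o ∧ F 1 a o where
  q c a o := by
    rw [hF.q c 0 a o, hF.q c 1 a o, add_assoc, add_assoc]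
    exact and_shift (fun t => F t (a + dd o c) o) _
  r a o := by rw [← hF.r, ← hF.r]
  p b a o := by
    obtain ⟨τ, hτ⟩ := hF.p b o
    rw [hτ, hτ]
    exact and_shift (fun t => F t (Mb b a) (oG b o)) _

theorem Inv.or (hF : Inv F) : Inv1 fun a o => F 0 a o ∨ F 1 a o where
  q c a o := by
    rw [hF.q c 0 a o, hF.q c 1 a o, add_assoc, add_assoc]
    exact or_shift (fun t => F t (a + dd o c) o) _
  r a o := by rw [← hF.r, ← hF.r]
  p b a o := by
    obtain ⟨τ, hτ⟩ := hF.p b o
    rw [hτ, hτ]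
    exact or_shift (fun t => F t (Mb b a) (oG b o)) _

theorem fcls_zero : ∀ o : Fin 16, o ≠ 0 → fcls (encY 0 o) = 3 := by decide +kernel

theorem root3 : aY (root 3) = 0 ∧ oY (root 3) = 1 := by decide +kernel

theorem fcls_encY_zero {a : F43} {o : Fin 16} (h : fcls (encY a o) = 0) : a = 0 ∧ o = 0 := by
  have h2 := chk2_spec (encY_lt a o)
  unfold chk2 at h2
  rw [if_pos h] at h2
  have h3 := Nat.eq_of_beq_eq_true h2
  have e1 := aY_encY a o
  have e2 := oY_encY a o
  rw [h3] at e1 e2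
  exact ⟨by rw [← e1]; decide +kernel, by rw [← e2]; rfl⟩

theorem fcls_three {a : F43} {o : Fin 16} (h : fcls (encY a o) = 3) :
    a + dd o (cY (encY a o)) = 0 ∧ o ≠ 0 := by
  have h2 := chk2_spec (encY_lt a o)
  unfold chk2 at h2
  rw [if_neg (by rw [h]; norm_num), if_pos h, aY_encY, oY_encY, Bool.and_eq_true,
    decide_eq_true_eq, decide_eq_true_eq] at h2
  exact h2

theorem fcls_other {a : F43} {o : Fin 16} (h0 : fcls (encY a o) ≠ 0) (h3 : fcls (encY a o) ≠ 3) :
    dd o (cY (encY a o)) = 0 ∧ sY (encY a o) = 1 := by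
  have h2 := chk2_spec (encY_lt a o)
  unfold chk2 at h2
  rw [if_neg h0, if_neg h3, oY_encY, Bool.and_eq_true,
    decide_eq_true_eq, decide_eq_true_eq] at h2
  exact h2

/-- Outside the class of the `f o` and away from `1, z`, membership does not depend on `t`. -/
theorem Inv.shift (hF : Inv F) {a : F43} {o : Fin 16} (h0 : fcls (encY a o) ≠ 0)
    (h3 : fcls (encY a o) ≠ 3) (t : ZMod 2) : F t a o ↔ (F 0 a o ∧ F 1 a o) := by
  obtain ⟨h1, h2⟩ := fcls_other h0 h3
  have h4 : ∀ t, F t a o ↔ F (t + 1) a o := by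
    intro t
    have h5 := hF.q (cY (encY a o)) t a o
    rw [h1, add_zero, add_assoc] at h5
    rw [h5]
    have h6 : tr (hp3 a (cY (encY a o))) + nn o (cY (encY a o)) = 1 := by
      have := h2
      unfold sY at this
      rw [aY_encY, oY_encY] at this
      exact this
    rw [h6]
  have h5 := h4 0
  rw [zero_add] at h5
  rcases zmod2_cases t with rfl | rfl
  · exact ⟨fun h => ⟨h, h5.1 h⟩, fun h => h.1⟩
  · exact ⟨fun h => ⟨h5.2 h, h⟩, fun h => h.2⟩

open Classical in
/-- **Main lemma.** -/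
theorem Inv.main (hF : Inv F) : ∃ ζ : Fin 16 → ZMod 2, ζ 0 = 0 ∧ ∃ χ : Fin 7 → Prop,
    ∀ t a o, F t a o ↔ χ (kap (t + ζ o) a o) := by
  let ζ : Fin 16 → ZMod 2 := fun o => if o = 0 then 0 else if F 0 0 o then 0 else 1
  have hζ : ζ 0 = 0 := if_pos rfl
  let R : ℕ → Prop := fun k => F 0 (aY (root k)) (oY (root k)) ∧ F 1 (aY (root k)) (oY (root k))
  let χ : Fin 7 → Prop := ![F 0 0 0, F 1 0 0, R 1, R 2, F 0 0 1 ∨ F 1 0 1, F 0 0 1 ∧ F 1 0 1, R 4]
  refine ⟨ζ, hζ, χ, fun t a o => ?_⟩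
  have hroot4 : ∀ k, k ≠ 0 → k ≠ 1 → k ≠ 2 → k ≠ 3 → root k = root 4 := by
    intro k h0 h1 h2 h3
    unfold root
    rw [if_neg h0, if_neg h1, if_neg h2, if_neg h3]
    rfl
  unfold kap
  split_ifs with h0 ht h1 h2 h3 hs
  · obtain ⟨rfl, rfl⟩ := fcls_encY_zero h0
    rw [hζ, add_zero] at ht
    rw [ht]; exact Iff.rfl
  · obtain ⟨rfl, rfl⟩ := fcls_encY_zero h0
    rw [hζ, add_zero] at ht
    rw [(zmod2_cases t).resolve_left ht]; exact Iff.rfl
  · rw [hF.shift h0 (by rw [h1]; norm_num) t]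
    have h := hF.and.root a o
    rw [h1] at h
    exact h
  · rw [hF.shift h0 (by rw [h2]; norm_num) t]
    have h := hF.and.root a o
    rw [h2] at h
    exact h
  all_goals first
    | (obtain ⟨h4, ho⟩ := fcls_three h3
       have h5 := hF.q (cY (encY a o)) t a o
       rw [h4, add_assoc] at h5
       have h6 : tr (hp3 a (cY (encY a o))) + nn o (cY (encY a o)) = sY (encY a o) := by
         unfold sY
         rw [aY_encY, oY_encY]
       rw [h6] at h5
       have ha := hF.and.root 0 o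
       have hb := hF.or.root 0 o
       rw [fcls_zero o ho, root3.1, root3.2] at ha hb
       have hz : ζ o = if F 0 0 o then 0 else 1 := if_neg ho
       generalize sY (encY a o) = s at h5 hs
       rw [h5]
       have e1 : ∀ x y w : ZMod 2, x + y + w = 0 → x + w = y := by decide
       have e2 : ∀ x y w : ZMod 2, x + y + w ≠ 0 → x + w = y + 1 := by decide
       first
        | (rw [e1 _ _ _ hs]
           show _ ↔ (F 0 0 1 ∨ F 1 0 1)
           rw [← hb, hz]
           by_cases h : F 0 0 o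
           · rw [if_pos h]; exact ⟨fun _ => Or.inl h, fun _ => h⟩
           · rw [if_neg h]; exact ⟨fun h' => Or.inr h', fun h' => h'.resolve_left h⟩)
        | (rw [e2 _ _ _ hs]
           show _ ↔ (F 0 0 1 ∧ F 1 0 1)
           rw [← ha, hz]
           by_cases h : F 0 0 o
           · rw [if_pos h, zero_add]; exact ⟨fun h' => ⟨h, h'⟩, fun h' => h'.2⟩
           · rw [if_neg h, show (1 : ZMod 2) + 1 = 0 from rfl]
             exact ⟨fun h' => absurd h' h, fun h' => absurd h'.1 h⟩))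
    | (rw [hF.shift h0 h3 t]
       have h := hF.and.root a o
       rw [hroot4 _ h0 h1 h2 h3] at h
       exact h)

end Cfsg.Agent.J4Type.EOrbits
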