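import Cfsg.Agent.J4Type.EElems

/-!
# The action of `A₆` on `E = E hex0` (part (c), helper233)

`exists_piC` : for `b : Bool` there is an element of `C` commuting with `ρ`, normalising `E`, and
acting by `s a ↦ s (Mb b a)`, `f o ↦ z^? f (oG b o)`, where `Mb b` is the explicit linear map with
`Mb b wᵢ ∈ F₄ w_{π i}`, `π = piG b`.
-/

set_option autoImplicit false

open scoped Pointwise

namespace Cfsg.Agent.J4Type.EPi

open Cfsg VCoord HexPerms ECoord EElems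
open SporadicA.FieldFour (F4)

/-- the scalars of the explicit linear maps -/
def lam : Bool → F4 × F4 × F4
  | false => (.o, .v, .w)
  | true => (.o, .w, .v)

/-- linear map with `eₖ ↦ lₖ w_{π k}` -/
def Ml (l : F4 × F4 × F4) (b : Bool) (a : F43) : F43 :=
  sc (a 0 * l.1) (hv (piG b 0)) + sc (a 1 * l.2.1) (hv (piG b 1)) + sc (a 2 * l.2.2) (hv (piG b 2))

/-- the explicit linear maps -/
def Mb (b : Bool) (a : F43) : F43 := Ml (lam b) b a

/-! ### finite facts -/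

theorem dec_l : ∀ (b : Bool) (l0 l1 l2 : F4), l0 ≠ 0 → l1 ≠ 0 → l2 ≠ 0 →
    (∃ μ, Ml (l0, l1, l2) b (hv 3) = sc μ (hv (piG b 3))) →
    (∃ μ, Ml (l0, l1, l2) b (hv 4) = sc μ (hv (piG b 4))) →
    (l0, l1, l2) = (l0 * (lam b).1, l0 * (lam b).2.1, l0 * (lam b).2.2) := by decide +kernel

/-- next index modulo 6 -/
def nx : Fin 6 → Fin 6 := ![1, 2, 3, 4, 5, 0]

theorem dec_three : ∀ (b : Bool) (i : Fin 6) (x x' y y' : F4),
    sc x (hv (piG b i)) + sc x' (hv (piG b (nx i))) =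
      sc y (hv (piG b i)) + sc y' (hv (piG b (nx (nx i)))) → x' = 0 := by decide +kernel

theorem dec_gam : ∀ (o : Fin 16), o ≠ 0 → ∀ x y : F4, ∃ c : F43,
    gam c (pr o).1 = x ∧ gam c (pr o).2 = y := by decide +kernel

theorem pr_mo : ∀ i j : Fin 6, i ≠ j → pr (mo i j) = (i, j) ∨ pr (mo i j) = (j, i) := by decide

theorem mo_ne : ∀ i j : Fin 6, i ≠ j → mo i j ≠ 0 := by decide

theorem piG_inj : ∀ b i j, piG b i = piG b j → i = j := by decide

theorem hv_ne : ∀ i : Fin 6, hv i ≠ 0 := by decide +kernel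

theorem dd_mo (i j : Fin 6) (h : i ≠ j) (c : F43) :
    dd (mo i j) c = sc (gam c i) (hv i) + sc (gam c j) (hv j) := by
  unfold dd
  rw [if_neg (mo_ne i j h)]
  rcases pr_mo i j h with h1 | h1
  · rw [h1]
  · rw [h1, add_comm]

theorem exists_dd (i j : Fin 6) (h : i ≠ j) (x y : F4) :
    ∃ c : F43, dd (mo i j) c = sc x (hv i) + sc y (hv j) := by
  rcases pr_mo i j h with h1 | h1
  · obtain ⟨c, hc1, hc2⟩ := dec_gam (mo i j) (mo_ne i j h) x y
    rw [h1] at hc1 hc2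
    exact ⟨c, by rw [dd_mo i j h]; dsimp only at hc1 hc2; rw [hc1, hc2]⟩
  · obtain ⟨c, hc1, hc2⟩ := dec_gam (mo i j) (mo_ne i j h) y x
    rw [h1] at hc1 hc2
    exact ⟨c, by rw [dd_mo i j h]; dsimp only at hc1 hc2; rw [hc1, hc2]⟩

theorem sc_sc (x y : F4) (a : F43) : sc x (sc y a) = sc (x * y) a := by
  funext k; exact (mul_assoc x y (a k)).symm

theorem sc_one (a : F43) : sc .o a = a := by
  funext k; exact one_mul (a k)

theorem sc_zero' (a : F43) : sc .z a = 0 := by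
  funext k; exact zero_mul (a k)

theorem basis (a : F43) : a = sc (a 0) (hv 0) + sc (a 1) (hv 1) + sc (a 2) (hv 2) := by
  funext k
  have h : ∀ k : Fin 3, k = 0 ∨ k = 1 ∨ k = 2 := by decide
  rcases h k with rfl | rfl | rfl
  · show a 0 = a 0 * F4.o + a 1 * F4.z + a 2 * F4.z
    generalize a 0 = x; generalize a 1 = y; generalize a 2 = u
    cases x <;> cases y <;> cases u <;> rfl
  · show a 1 = a 0 * F4.z + a 1 * F4.o + a 2 * F4.z
    generalize a 0 = x; generalize a 1 = y; generalize a 2 = u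
    cases x <;> cases y <;> cases u <;> rfl
  · show a 2 = a 0 * F4.z + a 1 * F4.z + a 2 * F4.o
    generalize a 0 = x; generalize a 1 = y; generalize a 2 = u
    cases x <;> cases y <;> cases u <;> rfl

theorem Ml_scale (b : Bool) (x l0 l1 l2 : F4) (a : F43) :
    Ml (x * l0, x * l1, x * l2) b a = sc x (Ml (l0, l1, l2) b a) := by
  unfold Ml
  rw [sc_add, sc_add, sc_sc, sc_sc, sc_sc]
  have h : ∀ u l : F4, u * (x * l) = x * (u * l) := by intro u l; ring
  dsimp only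
  rw [h, h, h]

theorem Ml_sc (l : F4 × F4 × F4) (b : Bool) (x : F4) (a : F43) : Ml l b (sc x a) = sc x (Ml l b a) := by
  unfold Ml
  rw [sc_add, sc_add, sc_sc, sc_sc, sc_sc]
  simp only [sc, mul_assoc]

variable {G : Type*} [Group G] {H : Hex G} (C : ECoord H) (F : FSys H)

/-- the canonical lifts are preserved -/
theorem exists_M (g : G) (hgr : g * H.ρ = H.ρ * g) (hgz : g * H.z = H.z * g)
    (hgE : ∀ a, a ∈ H.E hex0 ↔ g * a * g⁻¹ ∈ H.E hex0) (a : F43) :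
    ∃ a', g * C.s a * g⁻¹ = C.s a' := by
  obtain ⟨F⟩ := exists_FSys H
  obtain ⟨t, a', o, h⟩ := el_surj C F ((hgE _).1 (C.s_E a))
  have h1 : g * C.s a * g⁻¹ ∈ H.Q := H.Q_conj g hgz _ (C.s_Q a)
  rw [h, el_mem_Q_iff] at h1
  subst h1
  have h2 : g * C.s a * g⁻¹ = zp H.z t * C.s a' := by
    rw [h]; unfold el; rw [F.f_zero, mul_one]
  have hg' : H.ρ * g⁻¹ = g⁻¹ * H.ρ := (Commute.inv_right (show Commute H.ρ g from hgr.symm))
  have h3 : H.ρ * (g * C.s a * g⁻¹) * H.ρ⁻¹ = g * C.s (sc .w a) * g⁻¹ := by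
    rw [← C.s_rho a]
    calc H.ρ * (g * C.s a * g⁻¹) * H.ρ⁻¹ = (H.ρ * g) * C.s a * (H.ρ * g)⁻¹ := by group
      _ = _ := by rw [← hgr]; group
  have h4 : H.ρ * (g * C.s (sc .w a) * g⁻¹) * H.ρ⁻¹ = g * C.s (sc .w (sc .w a)) * g⁻¹ := by
    rw [← C.s_rho (sc .w a)]
    calc H.ρ * (g * C.s (sc .w a) * g⁻¹) * H.ρ⁻¹ = (H.ρ * g) * C.s (sc .w a) * (H.ρ * g)⁻¹ := by group
      _ = _ := by rw [← hgr]; group
  have e1 : ∀ y, H.ρ * (zp H.z t * C.s y) * H.ρ⁻¹ = zp H.z t * C.s (sc .w y) := by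
    intro y
    rw [← C.s_rho, ← mul_assoc, zp_comm H.ρ_comm]; group
  have h5 : g * C.s (sc .w a) * g⁻¹ = zp H.z t * C.s (sc .w a') := by
    rw [← h3, h2, e1]
  have h6 : g * C.s (sc .w (sc .w a)) * g⁻¹ = zp H.z t * C.s (sc .w (sc .w a')) := by
    rw [← h4, h5, e1]
  have hsum : ∀ y : F43, C.s y * (C.s (sc .w y) * C.s (sc .w (sc .w y))) = 1 := by
    intro y
    rw [← C.s_add, w_add_v, ← C.s_add, f43_add_self, s_zero C]
  have h7 : (g * C.s a * g⁻¹) * ((g * C.s (sc .w a) * g⁻¹) * (g * C.s (sc .w (sc .w a)) * g⁻¹)) = 1 := by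
    calc _ = g * (C.s a * (C.s (sc .w a) * C.s (sc .w (sc .w a)))) * g⁻¹ := by group
      _ = 1 := by rw [hsum]; group
  rw [h2, h5, h6] at h7
  have h8 : zp H.z t * (C.s a' * (C.s (sc .w a') * C.s (sc .w (sc .w a')))) = 1 := by
    rw [← h7]
    have hc1 := zp_comm (comm_z H (C.s_Q (sc .w a'))) t
    have hc2 := zp_comm (comm_z H (C.s_Q a')) t
    calc zp H.z t * (C.s a' * (C.s (sc .w a') * C.s (sc .w (sc .w a'))))
        = (zp H.z t * zp H.z t) * zp H.z t * (C.s a' * (C.s (sc .w a') * C.s (sc .w (sc .w a')))) := by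
          rw [zp_sq (zz H), one_mul]
      _ = zp H.z t * (zp H.z t * (zp H.z t * C.s a')) * C.s (sc .w a') * C.s (sc .w (sc .w a')) := by
          group
      _ = zp H.z t * (zp H.z t * (C.s a' * zp H.z t)) * C.s (sc .w a') * C.s (sc .w (sc .w a')) := by
          rw [hc2]
      _ = zp H.z t * ((zp H.z t * C.s a') * (zp H.z t * C.s (sc .w a'))) * C.s (sc .w (sc .w a')) := by
          group
      _ = zp H.z t * ((C.s a' * zp H.z t) * (C.s (sc .w a') * zp H.z t)) * C.s (sc .w (sc .w a')) := by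
          rw [hc1, hc2]
      _ = _ := by group
  rw [hsum, mul_one] at h8
  refine ⟨a', ?_⟩
  rw [h2, h8, one_mul]

/-- conjugation of `f o` by an element of the coset of `Q` -/
theorem conj_f_Q (o : Fin 16) {q : G} (hq : q ∈ H.Q) :
    ∃ (c : F43) (t : ZMod 2), q * F.f o * q⁻¹ = zp H.z t * C.s (dd o c) * F.f o := by
  obtain ⟨t, a, c, rfl⟩ := Q_surj C hq
  refine ⟨c, nn o c, ?_⟩
  have h1 := conj_f C F o c
  have hza : zp H.z t * C.s a ∈ H.E hex0 := mul_mem (zp_mem H _) (C.s_E a)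
  have h2 : zp H.z (nn o c) * C.s (dd o c) * F.f o ∈ H.E hex0 := el_mem C F _ _ _
  calc zp H.z t * C.s a * C.s' c * F.f o * (zp H.z t * C.s a * C.s' c)⁻¹
      = (zp H.z t * C.s a) * (C.s' c * F.f o * (C.s' c)⁻¹) * (zp H.z t * C.s a)⁻¹ := by group
    _ = _ := by rw [h1, E_comm H hza h2]; group

include C in
theorem exists_piC (b : Bool) : ∃ g : G, g * H.z = H.z * g ∧ g * H.ρ = H.ρ * g ∧
    (∀ a, a ∈ H.E hex0 ↔ g * a * g⁻¹ ∈ H.E hex0) ∧ (∀ a, g * C.s a * g⁻¹ = C.s (Mb b a)) ∧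
    ∀ o, ∃ t, g * F.f o * g⁻¹ = zp H.z t * F.f (oG b o) := by
  obtain ⟨c0, hc0⟩ : gG b ∈ H.P.range := by rw [H.P_range]; exact gG_mem' b
  obtain ⟨x, hx, hxr⟩ := NormRho.exists_comm H.toCent c0 (by rw [hc0]; exact gG_none b)
  have hxz : x ∈ Subgroup.centralizer ({H.z} : Set G) := H.Q_le hx
  set c : Subgroup.centralizer ({H.z} : Set G) := ⟨x, hxz⟩ * c0 with hcdef
  have hc : (c : G) = x * c0 := rfl
  have hPc : H.P c = gG b := by
    rw [hcdef, map_mul, P_of_Q H ⟨x, hxz⟩ hx, one_mul, hc0]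
  have hcz : (c : G) * H.z = H.z * c := Subgroup.mem_centralizer_singleton_iff.1 c.2
  have hcr : (c : G) * H.ρ = H.ρ * c := hxr
  have hcE := conj_mem_E H c (by rw [hPc]; exact gG_hex0 b)
  have hcr' : H.ρ * (c : G)⁻¹ = (c : G)⁻¹ * H.ρ :=
    (Commute.inv_right (show Commute H.ρ (c : G) from hcr.symm))
  -- the action on the `f o`
  have hf : ∀ o, ∃ t, (c : G) * F.f o * (c : G)⁻¹ = zp H.z t * F.f (oG b o) := by
    intro o
    have hE1 : (c : G) * F.f o * (c : G)⁻¹ ∈ H.E hex0 := (hcE _).1 (F.f_E o)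
    obtain ⟨t, ht⟩ := eq_zp_mul H (toC H _ hE1) (toC H _ (F.f_E (oG b o))) hE1 (F.f_E _) (by
      show (c : G) * F.f o * (c : G)⁻¹ * H.ρ = H.ρ * ((c : G) * F.f o * (c : G)⁻¹)
      calc (c : G) * F.f o * (c : G)⁻¹ * H.ρ = (c : G) * F.f o * ((c : G)⁻¹ * H.ρ) := by group
        _ = (c : G) * (F.f o * H.ρ) * (c : G)⁻¹ := by rw [← hcr']; group
        _ = ((c : G) * H.ρ) * F.f o * (c : G)⁻¹ := by rw [F.f_rho]; group
        _ = _ := by rw [hcr]; group) (F.f_rho _) (by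
      have h1 : toC H _ hE1 = c * toC H _ (F.f_E o) * c⁻¹ := rfl
      rw [h1, map_mul, map_mul, map_inv, hPc, F.f_P, F.f_P, gG_conj])
    exact ⟨t, ht⟩
  -- the action on the `s a`
  have hM := exists_M C (c : G) hcr hcz hcE
  choose M hM using hM
  have hMadd : ∀ a a', M (a + a') = M a + M a' := by
    intro a a'
    have h1 : C.s (M (a + a')) = C.s (M a + M a') := by
      rw [← hM, C.s_add, C.s_add, ← hM, ← hM]; group
    exact (s_inj C (a := M (a + a')) (b := M a + M a') (t := 0) (u := 0) (by rw [h1])).2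
  have hMw : ∀ a, M (sc .w a) = sc .w (M a) := by
    intro a
    have h1 : C.s (M (sc .w a)) = C.s (sc .w (M a)) := by
      rw [← hM, ← C.s_rho, ← C.s_rho, ← hM]
      calc (c : G) * (H.ρ * C.s a * H.ρ⁻¹) * (c : G)⁻¹
          = ((c : G) * H.ρ) * C.s a * ((c : G) * H.ρ)⁻¹ := by group
        _ = _ := by rw [hcr]; group
    exact (s_inj C (a := M (sc .w a)) (b := sc .w (M a)) (t := 0) (u := 0) (by rw [h1])).2
  have hM0 : M 0 = 0 := by
    have h := hMadd 0 0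
    rw [add_zero] at h
    have h2 := f43_add_self (M 0)
    rw [← h] at h2
    exact h2
  have hMsc : ∀ (x : F4) a, M (sc x a) = sc x (M a) := by
    intro x a
    cases x with
    | z => rw [sc_zero', sc_zero', hM0]
    | o => rw [sc_one, sc_one]
    | w => exact hMw a
    | v =>
      have e : ∀ y : F43, sc .v y = sc .w (sc .w y) := by
        intro y; rw [sc_sc]; rfl
      rw [e, e, hMw, hMw]
  have hMinj : ∀ a, M a = 0 → a = 0 := by
    intro a ha
    have h1 : (c : G) * C.s a * (c : G)⁻¹ = 1 := by rw [hM, ha, s_zero C]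
    have h2 : C.s a = C.s 0 := by
      rw [s_zero C]
      calc C.s a = (c : G)⁻¹ * ((c : G) * C.s a * (c : G)⁻¹) * c := by group
        _ = 1 := by rw [h1]; group
    exact (s_inj C (a := a) (b := 0) (t := 0) (u := 0) (by rw [h2])).2
  -- secants go to secants
  have hL : ∀ o (c1 : F43), ∃ c2, M (dd o c1) = dd (oG b o) c2 := by
    intro o c1
    obtain ⟨τ, hτ⟩ := hf o
    have hq : (c : G) * C.s' c1 * (c : G)⁻¹ ∈ H.Q := H.Q_conj _ hcz _ (C.s'_Q c1)
    obtain ⟨c2, t2, h2⟩ := conj_f_Q C F (oG b o) hq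
    have h1 := conj_f C F o c1
    have h3 : (c : G) * (C.s' c1 * F.f o * (C.s' c1)⁻¹) * (c : G)⁻¹ =
        zp H.z τ * (zp H.z t2 * C.s (dd (oG b o) c2) * F.f (oG b o)) := by
      rw [← h2]
      calc (c : G) * (C.s' c1 * F.f o * (C.s' c1)⁻¹) * (c : G)⁻¹
          = ((c : G) * C.s' c1 * (c : G)⁻¹) * ((c : G) * F.f o * (c : G)⁻¹) *
            ((c : G) * C.s' c1 * (c : G)⁻¹)⁻¹ := by group
        _ = (((c : G) * C.s' c1 * (c : G)⁻¹) * zp H.z τ) * F.f (oG b o) *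
            ((c : G) * C.s' c1 * (c : G)⁻¹)⁻¹ := by rw [hτ]; group
        _ = _ := by rw [zp_comm (comm_z H hq)]; group
    have h4 : (c : G) * (C.s' c1 * F.f o * (C.s' c1)⁻¹) * (c : G)⁻¹ =
        zp H.z (nn o c1) * C.s (M (dd o c1)) * (zp H.z τ * F.f (oG b o)) := by
      rw [h1, ← hτ, ← hM]
      calc (c : G) * (zp H.z (nn o c1) * C.s (dd o c1) * F.f o) * (c : G)⁻¹
          = ((c : G) * zp H.z (nn o c1)) * C.s (dd o c1) * F.f o * (c : G)⁻¹ := by group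
        _ = _ := by rw [zp_comm hcz]; group
    rw [h3] at h4
    have h5 : zp H.z (τ + t2) * C.s (dd (oG b o) c2) = zp H.z (nn o c1 + τ) * C.s (M (dd o c1)) := by
      apply mul_right_cancel (b := F.f (oG b o))
      rw [zp_add (zz H), zp_add (zz H)]
      calc zp H.z τ * zp H.z t2 * C.s (dd (oG b o) c2) * F.f (oG b o)
          = zp H.z τ * (zp H.z t2 * C.s (dd (oG b o) c2) * F.f (oG b o)) := by group
        _ = zp H.z (nn o c1) * (C.s (M (dd o c1)) * zp H.z τ) * F.f (oG b o) := by rw [h4]; group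
        _ = _ := by rw [zp_comm (comm_z H (C.s_Q _))]; group
    exact ⟨c2, (s_inj C h5).2.symm⟩
  -- points go to points
  have hpt : ∀ i, ∃ μ, M (hv i) = sc μ (hv (piG b i)) := by
    intro i
    have hne1 : i ≠ nx i := by revert i; decide
    have hne2 : i ≠ nx (nx i) := by revert i; decide
    have hp1 : piG b i ≠ piG b (nx i) := fun h => hne1 (piG_inj b _ _ h)
    have hp2 : piG b i ≠ piG b (nx (nx i)) := fun h => hne2 (piG_inj b _ _ h)
    obtain ⟨c1, hc1⟩ := exists_dd i (nx i) hne1 .o .z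
    obtain ⟨c2, hc2⟩ := exists_dd i (nx (nx i)) hne2 .o .z
    rw [sc_one, sc_zero', add_zero] at hc1 hc2
    obtain ⟨d1, hd1⟩ := hL (mo i (nx i)) c1
    obtain ⟨d2, hd2⟩ := hL (mo i (nx (nx i))) c2
    rw [hc1, oG_mo, dd_mo _ _ hp1] at hd1
    rw [hc2, oG_mo, dd_mo _ _ hp2] at hd2
    have h0 := dec_three b i _ _ _ _ (hd1.symm.trans hd2)
    refine ⟨gam d1 (piG b i), ?_⟩
    rw [hd1, h0, show sc (0 : F4) (hv (piG b (nx i))) = 0 from sc_zero' _, add_zero]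
  choose l hl using hpt
  have hMl : ∀ a, M a = Ml (l 0, l 1, l 2) b a := by
    intro a
    conv_lhs => rw [basis a]
    rw [hMadd, hMadd, hMsc, hMsc, hMsc, hl, hl, hl, sc_sc, sc_sc, sc_sc]
    rfl
  have hne : ∀ i, l i ≠ 0 := by
    intro i hi
    have h1 := hl i
    rw [hi, show sc (0 : F4) (hv (piG b i)) = 0 from sc_zero' _] at h1
    exact hv_ne i (hMinj _ h1)
  have hkey := dec_l b (l 0) (l 1) (l 2) (hne 0) (hne 1) (hne 2) ⟨l 3, by rw [← hMl]; exact hl 3⟩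
    ⟨l 4, by rw [← hMl]; exact hl 4⟩
  have hfin : ∀ a, M a = sc (l 0) (Mb b a) := by
    intro a
    rw [hMl, hkey, Ml_scale]
    rfl
  -- correct by a power of `ρ`
  have hpow : ∀ k : ℕ, ∃ g : G, g * H.z = H.z * g ∧ g * H.ρ = H.ρ * g ∧
      (∀ a, a ∈ H.E hex0 ↔ g * a * g⁻¹ ∈ H.E hex0) ∧
      (∀ a, g * C.s a * g⁻¹ = C.s (M (sc (F4.w ^ k) a))) ∧
      ∀ o, ∃ t, g * F.f o * g⁻¹ = zp H.z t * F.f (oG b o) := by
    intro k
    induction k with
    | zero =>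
      refine ⟨c, hcz, hcr, hcE, fun a => ?_, hf⟩
      rw [pow_zero, show sc (1 : F4) a = a from sc_one a]
      exact hM a
    | succ k ih =>
      obtain ⟨g, h1, h2, h3, h4, h5⟩ := ih
      refine ⟨g * H.ρ, ?_, ?_, ?_, ?_, ?_⟩
      · rw [mul_assoc, H.ρ_comm, ← mul_assoc, h1, mul_assoc]
      · rw [mul_assoc, ← mul_assoc H.ρ, ← h2, mul_assoc]
      · intro a
        have h6 := conj_mem_E H (rC H) (by rw [P_rC, one_smul]) a
        rw [h6, h3, show g * H.ρ * a * (g * H.ρ)⁻¹ = g * (H.ρ * a * H.ρ⁻¹) * g⁻¹ by group]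
        exact Iff.rfl
      · intro a
        have e : g * H.ρ * C.s a * (g * H.ρ)⁻¹ = g * (H.ρ * C.s a * H.ρ⁻¹) * g⁻¹ := by group
        rw [e, C.s_rho, h4, sc_sc, pow_succ]
      · intro o
        obtain ⟨t, ht⟩ := h5 o
        refine ⟨t, ?_⟩
        rw [← ht]
        have e : g * H.ρ * F.f o * (g * H.ρ)⁻¹ = g * (H.ρ * F.f o * H.ρ⁻¹) * g⁻¹ := by group
        rw [e, ← F.f_rho]; group
  obtain ⟨k, hk⟩ : ∃ k : ℕ, F4.w ^ k * l 0 = 1 := by
    have h0 := hne 0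
    generalize l 0 = x at h0 ⊢
    cases x with
    | z => exact absurd rfl h0
    | o => exact ⟨0, rfl⟩
    | w => exact ⟨2, rfl⟩
    | v => exact ⟨1, rfl⟩
  obtain ⟨g, h1, h2, h3, h4, h5⟩ := hpow k
  refine ⟨g, h1, h2, h3, fun a => ?_, h5⟩
  rw [h4, hMsc, hfin, sc_sc, hk, show sc (1 : F4) (Mb b a) = Mb b a from sc_one _]

end Cfsg.Agent.J4Type.EPi
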