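import Mathlib
import Cfsg.Agent.SporadicA.MathieuRecog
import Cfsg.Agent.SporadicA.M24Count
import Cfsg.Agent.SporadicA.M24Trans
import Cfsg.Agent.SporadicStructure.M24Frame
import Cfsg.Agent.SporadicStructure.M22NoIndex
import Cfsg.Agent.BabyM.DuadGen
import Cfsg.Agent.S0363

/-!
# The automorphisms of `M22` (R07)

Every automorphism of `Spor.M22` is conjugation by a unique element of the duad stabiliser in
`M24` (`aut_M22`).  Hence a finite group `C` with normal subgroups `N ≤ M`, `|C : M| = 2`,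
`M / N ≅ M22` and `C_C(M/N) ≤ M` has a homomorphism onto the duad stabiliser with kernel `N`
(`exists_P`).
-/

set_option autoImplicit false

namespace Cfsg.Agent.J4Type.OuterM22

open Cfsg Finset
open Cfsg.Agent.SporadicA.GolayBase Cfsg.Agent.SporadicA Cfsg.Agent.SporadicStructure
open Cfsg.Agent.SporadicA.MathieuRecog
open scoped Pointwise

/-! ### Fixed points -/

/-- The number of fixed points on an invariant set, modulo `p`. -/
theorem card_fixed_modEq {p : ℕ} [hp : Fact p.Prime] {g : Equiv.Perm GolayPt} (hg : g ^ p = 1)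
    {Y : Finset GolayPt} (hY : ∀ x ∈ Y, g x ∈ Y) :
    Y.card ≡ (Y.filter (fun x => g x = x)).card [MOD p] := by
  classical
  let f : Function.End {x // x ∈ Y} := fun x => ⟨g x.1, hY x.1 x.2⟩
  have hn : ∀ n : ℕ, ∀ x : {x // x ∈ Y}, ((f ^ n : Function.End _) x).1 = (g ^ n) x.1 := by
    intro n
    induction n with
    | zero => intro x; rfl
    | succ n ih =>
      intro x
      rw [pow_succ', pow_succ', Equiv.Perm.mul_apply, ← ih]
      rfl
  have hf : f ^ p ^ 1 = 1 := by
    funext x
    apply Subtype.ext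
    rw [hn, pow_one, hg]
    rfl
  have h := Equiv.Perm.card_fixedPoints_modEq hf
  rw [Fintype.card_coe] at h
  have h2 : Fintype.card (Function.fixedPoints f) = (Y.filter (fun x => g x = x)).card := by
    rw [← Fintype.card_coe]
    refine Fintype.card_congr ⟨fun x => ⟨x.1.1, Finset.mem_filter.2 ⟨x.1.2, ?_⟩⟩,
      fun x => ⟨⟨x.1, (Finset.mem_filter.1 x.2).1⟩, ?_⟩, fun x => rfl, fun x => rfl⟩
    · exact congrArg Subtype.val x.2
    · exact Subtype.ext (Finset.mem_filter.1 x.2).2
  rwa [h2] at h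

/-- An element of `M24` of prime order `≠ 3` fixing nine points is trivial. -/
theorem eq_one_of_nine {p : ℕ} [hp : Fact p.Prime] (hp3 : p ≠ 3) {g : Equiv.Perm GolayPt}
    (hgM : g ∈ M24) (hg : g ^ p = 1) {F : Finset GolayPt} (hF : 9 ≤ F.card)
    (hfix : ∀ x ∈ F, g x = x) : g = 1 := by
  obtain ⟨S, hS, hS5⟩ := Finset.exists_subset_card_eq (show 5 ≤ F.card by omega)
  obtain ⟨o, ⟨ho, hSo⟩, -⟩ := Cfsg.Agent.S0363.result.2 S hS5
  have hgo : g • o = o := M24Frame.smul_octad_eq_of_five hgM ho ho hSo (by omega)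
    (fun z hz => by rw [hfix z (hS hz)]; exact hSo hz)
  have hgo' : ∀ x, x ∈ o → g x ∈ o := by
    intro x hx
    have := Finset.smul_mem_smul_finset (a := g) hx
    rwa [hgo] at this
  have hY : ∀ x ∈ o \ S, g x ∈ o \ S := by
    intro x hx
    rw [Finset.mem_sdiff] at hx ⊢
    refine ⟨hgo' x hx.1, fun h => ?_⟩
    have h1 := hfix _ (hS h)
    rw [g.injective h1] at h
    exact hx.2 h
  have h3 : (o \ S).card = 3 := by
    rw [Finset.card_sdiff_of_subset hSo, hS5, octad_card ho]
  have h4 := card_fixed_modEq hg hY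
  rw [h3] at h4
  have hne : ((o \ S).filter (fun x => g x = x)).Nonempty := by
    rw [Finset.nonempty_iff_ne_empty]
    intro h
    rw [h, Finset.card_empty, Nat.modEq_zero_iff_dvd] at h4
    exact hp3 ((Nat.prime_dvd_prime_iff_eq hp.out (by norm_num)).1 h4)
  obtain ⟨a, ha⟩ := hne
  rw [Finset.mem_filter, Finset.mem_sdiff] at ha
  have h8 : ∃ q ∈ F, q ∉ o := by
    by_contra hcon
    push Not at hcon
    have := Finset.card_le_card (s := F) (t := o) hcon
    rw [octad_card ho] at this
    omega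
  obtain ⟨q, hq, hqo⟩ := h8
  refine M24Frame.eq_one_of_fix_frame hgM ho (s := insert a S) ?_ ?_ ?_ hqo (hfix q hq)
  · intro x hx
    rcases Finset.mem_insert.1 hx with rfl | hx
    · exact ha.1.1
    · exact hSo hx
  · rw [Finset.card_insert_of_notMem ha.1.2, hS5]
  · intro x hx
    rcases Finset.mem_insert.1 hx with rfl | hx
    · exact ha.2
    · exact hfix x (hS hx)

/-- The 22 points. -/
def U : Finset GolayPt := Finset.univ \ {none, some 0}

theorem card_U : U.card = 22 := by decide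

theorem mem_U {x : GolayPt} : x ∈ U ↔ x ≠ none ∧ x ≠ some 0 := by
  simp [U]

theorem map_U {g : Equiv.Perm GolayPt} (h0 : g none = none) (h1 : g (some 0) = some 0)
    {x : GolayPt} (hx : x ∈ U) : g x ∈ U := by
  rw [mem_U] at hx ⊢
  refine ⟨fun h => hx.1 (g.injective (h.trans h0.symm)), fun h => hx.2 (g.injective (h.trans h1.symm))⟩

/-- fewer than seven fixed points among the 22 -/
theorem card_fix_U {p : ℕ} [hp : Fact p.Prime] (hp3 : p ≠ 3) {g : Equiv.Perm GolayPt}
    (hgM : g ∈ Spor.M22) (hg : g ^ p = 1) (hne : g ≠ 1) :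
    (U.filter (fun x => g x = x)).card < 7 := by
  by_contra hcon
  apply hne
  obtain ⟨h24, h0, h1⟩ := (mem_M22_iff g).1 hgM
  apply eq_one_of_nine hp3 h24 hg (F := insert none (insert (some 0) (U.filter (fun x => g x = x))))
  · rw [Finset.card_insert_of_notMem, Finset.card_insert_of_notMem]
    · omega
    · intro h
      exact (mem_U.1 (Finset.mem_filter.1 h).1).2 rfl
    · intro h
      rcases Finset.mem_insert.1 h with h | h
      · simp at h
      · exact (mem_U.1 (Finset.mem_filter.1 h).1).1 rfl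
  · intro x hx
    rcases Finset.mem_insert.1 hx with rfl | hx
    · exact h0
    · rcases Finset.mem_insert.1 hx with rfl | hx
      · exact h1
      · exact (Finset.mem_filter.1 hx).2

/-! ### Subgroups of index 22 -/

theorem exists_order {H : Subgroup (Equiv.Perm GolayPt)} (p : ℕ) [hp : Fact p.Prime]
    (h : p ∣ Nat.card H) : ∃ g ∈ H, g ^ p = 1 ∧ g ≠ 1 := by
  obtain ⟨g, hg⟩ := exists_prime_orderOf_dvd_card' (G := H) p h
  refine ⟨g.1, g.2, ?_, ?_⟩
  · have := pow_orderOf_eq_one g
    rw [hg] at this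
    exact congrArg Subtype.val this
  · intro h1
    have h2 : g = 1 := Subtype.ext h1
    rw [h2, orderOf_one] at hg
    exact hp.out.one_lt.ne hg

theorem exists_fixed (H : Subgroup (Equiv.Perm GolayPt)) (hH : H ≤ Spor.M22)
    (hcard : Nat.card H = 20160) : ∃ p ∈ U, ∀ h ∈ H, h p = p := by
  classical
  have : Fact (Nat.Prime 7) := ⟨by norm_num⟩
  have : Fact (Nat.Prime 5) := ⟨by norm_num⟩
  have : Fact (Nat.Prime 2) := ⟨by norm_num⟩
  have hU : ∀ h ∈ H, ∀ x ∈ U, h x ∈ U := by
    intro h hh x hx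
    have := (mem_M22_iff h).1 (hH hh)
    exact map_U this.2.1 this.2.2 hx
  obtain ⟨s, hsH, hs7, hs1⟩ := exists_order (H := H) 7 (by rw [hcard]; norm_num)
  obtain ⟨u, huH, hu5, hu1⟩ := exists_order (H := H) 5 (by rw [hcard]; norm_num)
  have h7 := card_fixed_modEq hs7 (hU s hsH)
  have h7' := card_fix_U (by norm_num) (hH hsH) hs7 hs1
  have h5 := card_fixed_modEq hu5 (hU u huH)
  have h5' := card_fix_U (by norm_num) (hH huH) hu5 hu1
  rw [card_U] at h7 h5
  have h7e : (U.filter (fun x => s x = x)).card = 1 := by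
    unfold Nat.ModEq at h7
    omega
  have h5e : (U.filter (fun x => u x = x)).card = 2 ∨ (U.filter (fun x => u x = x)).card = 7 := by
    unfold Nat.ModEq at h5
    omega
  obtain ⟨p, hp⟩ := Finset.card_eq_one.1 h7e
  have hpm : p ∈ U ∧ s p = p := by
    have : p ∈ U.filter (fun x => s x = x) := by rw [hp]; exact Finset.mem_singleton_self p
    rwa [Finset.mem_filter] at this
  set O : Finset GolayPt := Finset.univ.filter (fun x => ∃ h ∈ H, h p = x) with hO
  have hOm : ∀ x, x ∈ O ↔ ∃ h ∈ H, h p = x := by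
    intro x
    rw [hO, Finset.mem_filter]
    exact ⟨fun h => h.2, fun h => ⟨Finset.mem_univ _, h⟩⟩
  clear_value O
  have hOU : O ⊆ U := by
    intro x hx
    obtain ⟨h, hh, rfl⟩ := (hOm x).1 hx
    exact hU h hh p hpm.1
  have hOinv : ∀ h ∈ H, ∀ x ∈ O, h x ∈ O := by
    intro h hh x hx
    obtain ⟨k, hk, rfl⟩ := (hOm x).1 hx
    exact (hOm _).2 ⟨h * k, H.mul_mem hh hk, rfl⟩
  have hst := M24Count.card_step H p O hOm
  rw [hcard] at hst
  have hOd : O.card ∣ 20160 := ⟨_, hst⟩
  have hOle : O.card ≤ 22 := by rw [← card_U]; exact Finset.card_le_card hOU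
  have hO7 := card_fixed_modEq hs7 (hOinv s hsH)
  have hO7' : O.filter (fun x => s x = x) = {p} := by
    rw [← hp]
    ext x
    rw [Finset.mem_filter, Finset.mem_filter]
    constructor
    · rintro ⟨h1, h2⟩
      exact ⟨hOU h1, h2⟩
    · intro h
      refine ⟨?_, h.2⟩
      have : x ∈ U.filter (fun x => s x = x) := Finset.mem_filter.2 h
      rw [hp, Finset.mem_singleton] at this
      rw [this]
      exact (hOm p).2 ⟨1, H.one_mem, rfl⟩
  rw [hO7', Finset.card_singleton] at hO7
  have hO5 := card_fixed_modEq hu5 (hOinv u huH)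
  have hO5' : (O.filter (fun x => u x = x)).card ≤ (U.filter (fun x => u x = x)).card :=
    Finset.card_le_card (Finset.filter_subset_filter _ hOU)
  have hcases : O.card = 1 ∨ O.card = 8 ∨ O.card = 15 ∨ O.card = 22 := by
    unfold Nat.ModEq at hO7
    omega
  rcases hcases with h | h | h | h
  · refine ⟨p, hpm.1, fun k hk => ?_⟩
    obtain ⟨q, hq⟩ := Finset.card_eq_one.1 h
    have h1 : p ∈ O := (hOm p).2 ⟨1, H.one_mem, rfl⟩
    have h2 : k p ∈ O := (hOm _).2 ⟨k, hk, rfl⟩
    rw [hq, Finset.mem_singleton] at h1 h2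
    rw [h2, h1]
  · exfalso
    rw [h] at hO5
    unfold Nat.ModEq at hO5
    omega
  · exfalso
    have hYc : (U \ O).card = 7 := by rw [Finset.card_sdiff_of_subset hOU, card_U, h]
    have hYinv : ∀ (a : H) (x : GolayPt), a.1 x ∈ U \ O ↔ x ∈ U \ O := by
      have key : ∀ a ∈ H, ∀ x ∈ U \ O, a x ∈ U \ O := by
        intro a ha x hx
        rw [Finset.mem_sdiff] at hx ⊢
        refine ⟨hU a ha x hx.1, fun hc => hx.2 ?_⟩
        have := hOinv a⁻¹ (H.inv_mem ha) _ hc
        rwa [← Equiv.Perm.mul_apply, inv_mul_cancel] at this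
      intro a x
      refine ⟨fun hx => ?_, key a.1 a.2 x⟩
      have := key a.1⁻¹ (H.inv_mem a.2) _ hx
      rwa [← Equiv.Perm.mul_apply, inv_mul_cancel] at this
    have hdvd := M22NoIndex.card_dvd_mul_factorial H.subtype H.subtype_injective (U \ O) hYinv
      (H ⊓ fixingSubgroup (Equiv.Perm GolayPt) ((U \ O : Finset GolayPt) : Set GolayPt))
      (fun a ha => ⟨a.2, (mem_fixingSubgroup_iff _).2 ha⟩)
    rw [hcard, hYc] at hdvd
    have h2d : 2 ∣ Nat.card ↥(H ⊓ fixingSubgroup (Equiv.Perm GolayPt)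
        ((U \ O : Finset GolayPt) : Set GolayPt)) := by
      have h7f : Nat.factorial 7 = 5040 := by decide
      rw [h7f] at hdvd
      obtain ⟨c, hc⟩ := hdvd
      exact ⟨2 * c, by omega⟩
    obtain ⟨t, ht, ht2, ht1⟩ := exists_order 2 h2d
    apply ht1
    obtain ⟨h24, h0, h1⟩ := (mem_M22_iff t).1 (hH ht.1)
    apply eq_one_of_nine (p := 2) (by norm_num) h24 ht2 (F := insert none (insert (some 0) (U \ O)))
    · rw [Finset.card_insert_of_notMem, Finset.card_insert_of_notMem, hYc]
      · intro h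
        exact (mem_U.1 (Finset.mem_sdiff.1 h).1).2 rfl
      · intro h
        rcases Finset.mem_insert.1 h with h | h
        · simp at h
        · exact (mem_U.1 (Finset.mem_sdiff.1 h).1).1 rfl
    · intro x hx
      rcases Finset.mem_insert.1 hx with rfl | hx
      · exact h0
      · rcases Finset.mem_insert.1 hx with rfl | hx
        · exact h1
        · exact (mem_fixingSubgroup_iff _).1 ht.2 x hx
  · exfalso
    rw [h] at hOd
    exact absurd hOd (by norm_num)

/-- The two-point stabiliser is transitive on ordered pairs of the 22 points. -/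
theorem exists_pair {x y x' y' : GolayPt} (hx : x ∈ U) (hy : y ∈ U) (hxy : x ≠ y) (hx' : x' ∈ U)
    (hy' : y' ∈ U) (hxy' : x' ≠ y') : ∃ g ∈ Spor.M22, g x = x' ∧ g y = y' := by
  have key : ∀ a b : GolayPt, a ∈ U → b ∈ U → a ≠ b →
      ∃ g ∈ Spor.M22, g (some 1) = a ∧ g (some 2) = b := by
    intro a b ha hb hab
    obtain ⟨ha0, ha1⟩ := mem_U.1 ha
    obtain ⟨hb0, hb1⟩ := mem_U.1 hb
    obtain ⟨c, hc⟩ : ∃ c : GolayPt, c ∉ ({none, some 0, a, b} : Finset GolayPt) := by
      by_contra hcon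
      push Not at hcon
      have h1 : (Finset.univ : Finset GolayPt) ⊆ {none, some 0, a, b} := fun z _ => hcon z
      have h2 := Finset.card_le_card h1
      have h3 : (Finset.univ : Finset GolayPt).card = 24 := by decide
      have h4 := Finset.card_le_four (a := (none : GolayPt)) (b := some 0) (c := a) (d := b)
      omega
    simp only [Finset.mem_insert, Finset.mem_singleton, not_or] at hc
    obtain ⟨hc0, hc1, hc2, hc3⟩ := hc
    have hinj : Function.Injective ![none, some 0, a, b, c] := by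
      intro i j hij
      fin_cases i <;> fin_cases j <;> simp [Ne.symm ha0, Ne.symm ha1, Ne.symm hb0, Ne.symm hb1,
        Ne.symm hc0, Ne.symm hc1, Ne.symm hc2, Ne.symm hc3, ha0, ha1, hb0, hb1, hc0, hc1, hc2, hc3,
        hab, Ne.symm hab] at hij ⊢
    obtain ⟨g, hg, h0, h1, h2, h3, -⟩ := M24Trans.exists_map ![none, some 0, a, b, c] hinj
    exact ⟨g, (mem_M22_iff g).2 ⟨hg, h0, h1⟩, h2, h3⟩
  obtain ⟨g, hg, h1, h2⟩ := key x y hx hy hxy
  obtain ⟨h, hh, h3, h4⟩ := key x' y' hx' hy' hxy'
  refine ⟨h * g⁻¹, Subgroup.mul_mem _ hh (Subgroup.inv_mem _ hg), ?_, ?_⟩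
  · rw [Equiv.Perm.mul_apply, M24Frame.inv_apply_eq' h1, h3]
  · rw [Equiv.Perm.mul_apply, M24Frame.inv_apply_eq' h2, h4]

/-- The stabilisers of distinct points are distinct. -/
theorem eq_of_fix {x y : GolayPt} (hx : x ∈ U) (hy : y ∈ U)
    (h : ∀ g ∈ Spor.M22, g x = x → g y = y) : x = y := by
  by_contra hne
  have h3 : ∃ z ∈ U, z ≠ x ∧ z ≠ y := by
    by_contra hcon
    push Not at hcon
    have h1 : U ⊆ {x, y} := by
      intro z hz
      rw [Finset.mem_insert, Finset.mem_singleton]
      by_cases hzx : z = x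
      · exact Or.inl hzx
      · exact Or.inr (hcon z hz hzx)
    have h2 := Finset.card_le_card h1
    have h4 := Finset.card_le_two (a := x) (b := y)
    rw [card_U] at h2
    omega
  obtain ⟨z, hz, hzx, hzy⟩ := h3
  obtain ⟨g, hg, g1, g2⟩ := exists_pair hx hy hne hx hz hzx.symm
  exact hzy (g2.symm.trans (h g hg g1))

/-- The stabiliser of one of the 22 points. -/
def St (x : GolayPt) : Subgroup Spor.M22 where
  carrier := {g | g.1 x = x}
  one_mem' := rfl
  mul_mem' := by
    intro a b ha hb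
    show a.1 (b.1 x) = x
    rw [show b.1 x = x from hb]
    exact ha
  inv_mem' := by
    intro a ha
    exact M24Frame.inv_apply_eq' ha

theorem mem_St {x : GolayPt} {g : Spor.M22} : g ∈ St x ↔ g.1 x = x := Iff.rfl

theorem card_St {x : GolayPt} (hx : x ∈ U) : Nat.card (St x) = 20160 := by
  have h1 := M24Count.card_step Spor.M22 x U (fun p => by
    constructor
    · intro hp
      have h3 : ∃ z ∈ U, z ≠ x ∧ z ≠ p := by
        by_contra hcon
        push Not at hcon
        have h1 : U ⊆ {x, p} := by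
          intro z hz
          rw [Finset.mem_insert, Finset.mem_singleton]
          by_cases hzx : z = x
          · exact Or.inl hzx
          · exact Or.inr (hcon z hz hzx)
        have h2 := Finset.card_le_card h1
        have h4 := Finset.card_le_two (a := x) (b := p)
        rw [card_U] at h2
        omega
      obtain ⟨z, hz, hzx, hzp⟩ := h3
      obtain ⟨g, hg, h1, -⟩ := exists_pair hx hz hzx.symm hp hz hzp.symm
      exact ⟨g, hg, h1⟩
    · rintro ⟨g, hg, rfl⟩
      have := (mem_M22_iff g).1 hg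
      exact map_U this.2.1 this.2.2 hx)
  rw [card_M22, card_U] at h1
  have h2 : Nat.card (St x) =
      Nat.card (Spor.M22 ⊓ MulAction.stabilizer (Equiv.Perm GolayPt) x :
        Subgroup (Equiv.Perm GolayPt)) := by
    refine Nat.card_congr ⟨fun g => ⟨g.1.1, g.1.2, g.2⟩, fun g => ⟨⟨g.1, g.2.1⟩, g.2.2⟩,
      fun g => rfl, fun g => rfl⟩
  omega

/-! ### The permutation of the 22 points -/

section

variable (α : Spor.M22 ≃* Spor.M22)

theorem exists_image {x : GolayPt} (hx : x ∈ U) :
    ∃ y ∈ U, ∀ g : Spor.M22, (g.1 x = x ↔ (α g).1 y = y) := by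
  have hc : Nat.card ((St x).map α.toMonoidHom) = 20160 := by
    rw [Subgroup.card_map_of_injective α.injective, card_St hx]
  have hc2 : Nat.card (((St x).map α.toMonoidHom).map (Spor.M22).subtype) = 20160 := by
    rw [Subgroup.card_map_of_injective (Spor.M22).subtype_injective, hc]
  obtain ⟨y, hy, hfix⟩ := exists_fixed _ (Subgroup.map_subtype_le _) hc2
  have hle : (St x).map α.toMonoidHom ≤ St y := by
    intro k hk
    exact hfix k.1 ⟨k, hk, rfl⟩
  have heq : (St x).map α.toMonoidHom = St y :=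
    Subgroup.eq_of_le_of_card_ge hle (by rw [hc, card_St hy])
  refine ⟨y, hy, fun g => ?_⟩
  have h1 : α g ∈ (St x).map α.toMonoidHom ↔ g ∈ St x := by
    constructor
    · rintro ⟨k, hk, hkg⟩
      rwa [α.injective hkg] at hk
    · intro h
      exact ⟨g, h, rfl⟩
  rw [heq] at h1
  exact h1.symm

theorem image_unique {y y' : GolayPt} (hy : y ∈ U) (hy' : y' ∈ U)
    (h : ∀ g : Spor.M22, ((α g).1 y = y → (α g).1 y' = y')) : y = y' := by
  apply eq_of_fix hy hy'
  intro g hg hgy
  have h1 := h (α.symm ⟨g, hg⟩)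
  rw [α.apply_symm_apply] at h1
  exact h1 hgy

/-- the image point -/
noncomputable def pm (x : GolayPt) : GolayPt :=
  open Classical in if h : x ∈ U then (exists_image α h).choose else x

theorem pm_mem {x : GolayPt} (hx : x ∈ U) : pm α x ∈ U := by
  unfold pm
  rw [dif_pos hx]
  exact (exists_image α hx).choose_spec.1

theorem pm_iff {x : GolayPt} (hx : x ∈ U) (g : Spor.M22) :
    g.1 x = x ↔ (α g).1 (pm α x) = pm α x := by
  unfold pm
  rw [dif_pos hx]
  exact (exists_image α hx).choose_spec.2 g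

theorem pm_of_notMem {x : GolayPt} (hx : x ∉ U) : pm α x = x := by
  unfold pm
  rw [dif_neg hx]

theorem pm_none : pm α none = none := pm_of_notMem α (by decide)

theorem pm_zero : pm α (some 0) = some 0 := pm_of_notMem α (by decide)

theorem notMem_U {x : GolayPt} : x ∉ U ↔ x = none ∨ x = some 0 := by
  rw [mem_U]
  tauto

theorem pm_smul (g : Spor.M22) (x : GolayPt) : pm α (g.1 x) = (α g).1 (pm α x) := by
  obtain ⟨-, g0, g1⟩ := (mem_M22_iff _).1 g.2
  obtain ⟨-, a0, a1⟩ := (mem_M22_iff _).1 (α g).2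
  by_cases hx : x ∈ U
  · have hgx : g.1 x ∈ U := map_U g0 g1 hx
    apply image_unique α (pm_mem α hgx) (map_U a0 a1 (pm_mem α hx))
    intro h hh
    rw [← pm_iff α hgx] at hh
    have h1 : (g⁻¹ * h * g).1 x = x := by
      show g.1⁻¹ (h.1 (g.1 x)) = x
      rw [hh]
      exact M24Frame.inv_apply_eq' rfl
    rw [pm_iff α hx, map_mul, map_mul, map_inv] at h1
    have h2 : (α g).1⁻¹ ((α h).1 ((α g).1 (pm α x))) = pm α x := h1
    rw [Equiv.Perm.inv_eq_iff_eq] at h2
    exact h2
  · rcases notMem_U.1 hx with rfl | rfl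
    · rw [g0, pm_none, a0]
    · rw [g1, pm_zero, a1]

theorem pm_injective : Function.Injective (pm α) := by
  intro x y hxy
  by_cases hx : x ∈ U
  · by_cases hy : y ∈ U
    · apply eq_of_fix hx hy
      intro g hg hgx
      have h1 := (pm_iff α hx ⟨g, hg⟩).1 hgx
      rw [hxy] at h1
      exact (pm_iff α hy ⟨g, hg⟩).2 h1
    · exfalso
      have := pm_mem α hx
      rw [hxy, pm_of_notMem α hy] at this
      exact hy this
  · by_cases hy : y ∈ U
    · exfalso
      have := pm_mem α hy
      rw [← hxy, pm_of_notMem α hx] at this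
      exact hx this
    · rwa [pm_of_notMem α hx, pm_of_notMem α hy] at hxy

/-- the permutation of the points induced by an automorphism -/
noncomputable def sig : Equiv.Perm GolayPt :=
  Equiv.ofBijective (pm α) (Finite.injective_iff_bijective.1 (pm_injective α))

theorem sig_apply (x : GolayPt) : sig α x = pm α x := rfl

theorem sig_conj (g : Spor.M22) : (α g).1 = sig α * g.1 * (sig α)⁻¹ := by
  rw [eq_mul_inv_iff_mul_eq]
  ext1 x
  exact (pm_smul α g x).symm

/-- The induced permutation preserves the octads through the two points. -/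
theorem sig_hexad {o : Finset GolayPt} (ho : o ∈ octads) (hn : none ∈ o) (h0 : some 0 ∈ o) :
    o.image (sig α) ∈ octads := by
  set b : Finset GolayPt := o.image (sig α) with hb
  have hbc : b.card = 8 := by
    rw [hb, Finset.card_image_of_injective _ (sig α).injective, octad_card ho]
  have hbn : none ∈ b := Finset.mem_image.2 ⟨none, hn, pm_none α⟩
  have hb0 : some 0 ∈ b := Finset.mem_image.2 ⟨some 0, h0, pm_zero α⟩
  obtain ⟨S, hS1, hS2, hS5⟩ := Finset.exists_subsuperset_card_eq
    (s := {none, some 0}) (t := b) (n := 5) (by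
      intro x hx
      rw [Finset.mem_insert, Finset.mem_singleton] at hx
      rcases hx with rfl | rfl
      · exact hbn
      · exact hb0) (by
      have := Finset.card_le_two (a := (none : GolayPt)) (b := some 0)
      omega) (by omega)
  obtain ⟨o', ⟨ho', hSo'⟩, -⟩ := Cfsg.Agent.S0363.result.2 S hS5
  have hsub : o' ⊆ b := by
    by_contra hcon
    obtain ⟨w, hw, hwb⟩ := Finset.not_subset.1 hcon
    have hall : ∀ w', w' ∉ b → w' ∈ o' := by
      intro w' hw'
      have e1 : (sig α)⁻¹ w ∉ o := fun h => hwb (Finset.mem_image.2 ⟨_, h, by simp⟩)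
      have e2 : (sig α)⁻¹ w' ∉ o := fun h => hw' (Finset.mem_image.2 ⟨_, h, by simp⟩)
      obtain ⟨g, hg, hgo, hgw⟩ := M24Frame.exists_fix_octad_map ho e1 e2
      have hgM : g ∈ Spor.M22 := (mem_M22_iff g).2 ⟨hg, hgo _ hn, hgo _ h0⟩
      have hk := sig_conj α ⟨g, hgM⟩
      obtain ⟨hkM, -, -⟩ := (mem_M22_iff _).1 (α ⟨g, hgM⟩).2
      have hkb : ∀ z ∈ b, (α ⟨g, hgM⟩).1 z = z := by
        intro z hz
        obtain ⟨y, hy, rfl⟩ := Finset.mem_image.1 hz
        rw [hk]
        simp only [Equiv.Perm.mul_apply]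
        rw [M24Frame.inv_apply_eq' rfl, hgo y hy]
      have hkw : (α ⟨g, hgM⟩).1 w = w' := by
        rw [hk]
        simp only [Equiv.Perm.mul_apply]
        rw [hgw]
        simp
      have hko : (α ⟨g, hgM⟩).1 • o' = o' := M24Frame.smul_octad_eq_of_five hkM ho' ho' hSo'
        (by omega) (fun z hz => by rw [hkb z (hS2 hz)]; exact hSo' hz)
      have := Finset.smul_mem_smul_finset (a := (α ⟨g, hgM⟩).1) hw
      rw [hko] at this
      rwa [Equiv.Perm.smul_def, hkw] at this
    have h1 : (Finset.univ : Finset GolayPt) ⊆ b ∪ o' := by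
      intro z _
      rw [Finset.mem_union]
      by_cases hz : z ∈ b
      · exact Or.inl hz
      · exact Or.inr (hall z hz)
    have h2 := Finset.card_le_card h1
    have h3 : (Finset.univ : Finset GolayPt).card = 24 := by decide
    have h4 := Finset.card_union_le b o'
    have h5 := octad_card ho'
    omega
  have : o' = b := Finset.eq_of_subset_of_card_le hsub (by rw [hbc, octad_card ho'])
  rw [← this]
  exact ho'

end

/-! ### Restriction to the 22 points -/

open Cfsg.Agent.BabyM.DuadGen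

/-- The permutations stabilising `{none, some 0}` and the family of octads through both. -/
def Sg : Subgroup (Equiv.Perm GolayPt) where
  carrier := {g | (∀ x, g x ∈ U ↔ x ∈ U) ∧
    ∀ o : Finset GolayPt, (o.image g ∈ octads ∧ none ∈ o.image g ∧ some 0 ∈ o.image g) ↔
      (o ∈ octads ∧ none ∈ o ∧ some 0 ∈ o)}
  one_mem' := by
    refine ⟨fun x => Iff.rfl, fun o => ?_⟩
    rw [Equiv.Perm.coe_one, Finset.image_id]
  mul_mem' := by
    rintro a b ⟨ha, ha'⟩ ⟨hb, hb'⟩
    refine ⟨fun x => (ha _).trans (hb _), fun o => ?_⟩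
    rw [Equiv.Perm.coe_mul, ← Finset.image_image, ha', hb']
  inv_mem' := by
    rintro a ⟨ha, ha'⟩
    refine ⟨fun x => ?_, fun o => ?_⟩
    · rw [← ha]
      simp
    · rw [← ha', Finset.image_image]
      simp

/-- the 22 points as a subtype of a subtype -/
def toPt (x : Pt22) : GolayPt := x.1.1

theorem toPt_mem (x : Pt22) : toPt x ∈ U :=
  mem_U.2 ⟨x.1.2, fun h => x.2 (Subtype.ext h)⟩

def ofPt (x : GolayPt) (hx : x ∈ U) : Pt22 :=
  ⟨⟨x, (mem_U.1 hx).1⟩, fun h => (mem_U.1 hx).2 (congrArg Subtype.val h)⟩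

theorem toPt_injective : Function.Injective toPt :=
  Subtype.val_injective.comp Subtype.val_injective

/-- restriction of an element of `Sg` to the 22 points -/
def resFun (g : Sg) : Equiv.Perm Pt22 where
  toFun x := ofPt (g.1 (toPt x)) ((g.2.1 _).2 (toPt_mem x))
  invFun x := ofPt (g.1⁻¹ (toPt x)) (((Sg.inv_mem g.2).1 _).2 (toPt_mem x))
  left_inv x := toPt_injective (by
    show g.1⁻¹ (g.1 (toPt x)) = toPt x
    simp)
  right_inv x := toPt_injective (by
    show g.1 (g.1⁻¹ (toPt x)) = toPt x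
    simp)

theorem toPt_res (g : Sg) (x : Pt22) : toPt (resFun g x) = g.1 (toPt x) := rfl

/-- the octad of a block -/
def octOf (b : Finset Pt22) : Finset GolayPt := insert none (insert (some 0) (b.image toPt))

theorem mem_B22 (b : Finset Pt22) : b ∈ B22 ↔ octOf b ∈ octads := by
  constructor
  · rintro ⟨c, ⟨d, hd, hnd, rfl⟩, hc0, rfl⟩
    have h0 : some 0 ∈ d := Finset.mem_subtype.1 hc0
    have : octOf (Finset.subtype (fun a => a ≠ zero23) (Finset.subtype (fun a => a ≠ none) d)) = d := by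
      unfold octOf
      ext x
      simp only [Finset.mem_insert, Finset.mem_image, Finset.mem_subtype]
      constructor
      · rintro (rfl | rfl | ⟨y, hy, rfl⟩)
        · exact hnd
        · exact h0
        · exact hy
      · intro hx
        by_cases h1 : x = none
        · exact Or.inl h1
        by_cases h2 : x = some 0
        · exact Or.inr (Or.inl h2)
        exact Or.inr (Or.inr ⟨ofPt x (mem_U.2 ⟨h1, h2⟩), hx, rfl⟩)
    rw [this]
    exact hd
  · intro h
    refine ⟨Finset.subtype (fun a => a ≠ none) (octOf b), ⟨octOf b, h, ?_, rfl⟩, ?_, ?_⟩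
    · exact Finset.mem_insert_self _ _
    · rw [Finset.mem_subtype]
      exact Finset.mem_insert_of_mem (Finset.mem_insert_self _ _)
    · ext x
      rw [Finset.mem_subtype, Finset.mem_subtype]
      unfold octOf
      constructor
      · intro hx
        exact Finset.mem_insert_of_mem (Finset.mem_insert_of_mem (Finset.mem_image_of_mem _ hx))
      · intro hx
        have hxU := mem_U.1 (toPt_mem x)
        rcases Finset.mem_insert.1 hx with h1 | h1
        · exact absurd h1 hxU.1
        rcases Finset.mem_insert.1 h1 with h1 | h1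
        · exact absurd h1 hxU.2
        · obtain ⟨y, hy, hyx⟩ := Finset.mem_image.1 h1
          rwa [toPt_injective hyx] at hy

theorem none_mem_octOf (b : Finset Pt22) : none ∈ octOf b := Finset.mem_insert_self _ _

theorem zero_mem_octOf (b : Finset Pt22) : some 0 ∈ octOf b :=
  Finset.mem_insert_of_mem (Finset.mem_insert_self _ _)

theorem ext_res (g : Sg) (b : Finset Pt22) : octOf (b.image (resFun g)) = (octOf b).image g.1 := by
  have himg : ∀ x, x ∉ U → g.1 x ∉ U := fun x hx h => hx ((g.2.1 x).1 h)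
  have hinv : ∀ x, x ∉ U → (g.1⁻¹ x) ∉ U := fun x hx h => hx (((Sg.inv_mem g.2).1 x).1 h)
  ext x
  by_cases hx : x ∈ U
  · have hx' := mem_U.1 hx
    constructor
    · intro h
      rcases Finset.mem_insert.1 h with h1 | h1
      · exact absurd h1 hx'.1
      rcases Finset.mem_insert.1 h1 with h1 | h1
      · exact absurd h1 hx'.2
      obtain ⟨y, hy, rfl⟩ := Finset.mem_image.1 h1
      obtain ⟨z, hz, rfl⟩ := Finset.mem_image.1 hy
      rw [toPt_res]
      exact Finset.mem_image_of_mem _ (Finset.mem_insert_of_mem (Finset.mem_insert_of_mem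
        (Finset.mem_image_of_mem _ hz)))
    · intro h
      obtain ⟨y, hy, rfl⟩ := Finset.mem_image.1 h
      have hyU : y ∈ U := (g.2.1 y).1 hx
      have hy' := mem_U.1 hyU
      rcases Finset.mem_insert.1 hy with h1 | h1
      · exact absurd h1 hy'.1
      rcases Finset.mem_insert.1 h1 with h1 | h1
      · exact absurd h1 hy'.2
      obtain ⟨z, hz, rfl⟩ := Finset.mem_image.1 h1
      rw [← toPt_res]
      exact Finset.mem_insert_of_mem (Finset.mem_insert_of_mem
        (Finset.mem_image_of_mem _ (Finset.mem_image_of_mem _ hz)))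
  · constructor
    · intro _
      refine Finset.mem_image.2 ⟨g.1⁻¹ x, ?_, by simp⟩
      rcases notMem_U.1 (hinv x hx) with h | h
      · rw [h]; exact none_mem_octOf b
      · rw [h]; exact zero_mem_octOf b
    · intro _
      rcases notMem_U.1 hx with h | h
      · rw [h]; exact none_mem_octOf _
      · rw [h]; exact zero_mem_octOf _

theorem res_mem (g : Sg) : resFun g ∈ setSystemAut B22 := by
  rw [S36Aut.mem_aut_iff]
  intro b
  rw [mem_B22, mem_B22, ext_res]
  have h := g.2.2 (octOf b)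
  constructor
  · intro h1
    refine (h.1 ⟨h1, ?_, ?_⟩).1
    · rw [← ext_res]; exact none_mem_octOf _
    · rw [← ext_res]; exact zero_mem_octOf _
  · intro h1
    exact (h.2 ⟨h1, none_mem_octOf b, zero_mem_octOf b⟩).1

/-- The duad stabiliser lies in `Sg`. -/
theorem duad_le_Sg : duad ≤ Sg := by
  intro g hg
  obtain ⟨hgM, hd⟩ := mem_duad.1 hg
  have h1 : ∀ x, x ∉ U → g x ∉ U := by
    intro x hx
    rcases notMem_U.1 hx with rfl | rfl <;> rcases hd with ⟨h1, h2⟩ | ⟨h1, h2⟩
    · rw [h1]; decide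
    · rw [h1]; decide
    · rw [h2]; decide
    · rw [h2]; decide
  have hd' : ∀ g ∈ duad, ∀ o : Finset GolayPt, none ∈ o → some 0 ∈ o →
      none ∈ o.image g ∧ some 0 ∈ o.image g := by
    intro g hg o h1 h2
    obtain ⟨-, ⟨h3, h4⟩ | ⟨h3, h4⟩⟩ := mem_duad.1 hg
    · exact ⟨Finset.mem_image.2 ⟨_, h1, h3⟩, Finset.mem_image.2 ⟨_, h2, h4⟩⟩
    · exact ⟨Finset.mem_image.2 ⟨_, h2, h4⟩, Finset.mem_image.2 ⟨_, h1, h3⟩⟩
  have h2 : ∀ g ∈ duad, ∀ x, x ∉ U → g x ∉ U := by
    intro g hg x hx
    obtain ⟨-, hd⟩ := mem_duad.1 hg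
    rcases notMem_U.1 hx with rfl | rfl <;> rcases hd with ⟨h1, h2⟩ | ⟨h1, h2⟩
    · rw [h1]; decide
    · rw [h1]; decide
    · rw [h2]; decide
    · rw [h2]; decide
  refine ⟨fun x => ?_, fun o => ?_⟩
  · constructor
    · intro h
      by_contra hx
      exact h1 x hx h
    · intro h
      by_contra hx
      have := h2 g⁻¹ (inv_mem hg) _ hx
      rw [← Equiv.Perm.mul_apply, inv_mul_cancel] at this
      exact this h
  · constructor
    · rintro ⟨h3, h4, h5⟩
      have h6 := image_mem_octads (inv_mem hgM) h3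
      have h7 := hd' g⁻¹ (inv_mem hg) _ h4 h5
      rw [Finset.image_image] at h6 h7
      have h8 : (⇑g⁻¹ ∘ ⇑g) = id := by
        funext x
        simp
      rw [h8, Finset.image_id] at h6 h7
      exact ⟨h6, h7⟩
    · rintro ⟨h3, h4, h5⟩
      exact ⟨image_mem_octads hgM h3, hd' g hg o h4 h5⟩

/-- An element of `M24` fixing the 22 points is trivial. -/
theorem eq_one_of_fix_U {g : Equiv.Perm GolayPt} (hg : g ∈ M24) (h : ∀ x ∈ U, g x = x) : g = 1 := by
  obtain ⟨q, hq, hqo⟩ : ∃ q ∈ U, q ∉ M24Frame.stdOctad := by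
    refine ⟨some 4, by decide, M24Frame.four_notMem⟩
  refine M24Frame.eq_one_of_fix_frame hg M24Frame.stdOctad_mem
    (s := {some 1, some 2, some 3, some 5, some 14, some 17}) ?_ ?_ ?_ hqo (h q hq)
  · decide
  · decide
  · intro z hz
    exact h z ((by decide : ({some 1, some 2, some 3, some 5, some 14, some 17} :
      Finset GolayPt) ⊆ U) hz)

/-- Every element of `Sg` agrees with an element of the duad stabiliser on the 22 points. -/
theorem exists_duad {s : Equiv.Perm GolayPt} (hs : s ∈ Sg) :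
    ∃ τ ∈ duad, ∀ x ∈ U, τ x = s x := by
  have hfin : Finite (setSystemAut B22) := inferInstance
  let f : duad → setSystemAut B22 := fun g => ⟨resFun ⟨g.1, duad_le_Sg g.2⟩, res_mem _⟩
  have hinj : Function.Injective f := by
    intro g h hgh
    have h1 : ∀ x ∈ U, g.1 x = h.1 x := by
      intro x hx
      have h2 := congrArg (fun t : setSystemAut B22 => toPt (t.1 (ofPt x hx))) hgh
      exact h2
    apply Subtype.ext
    have h3 : h.1⁻¹ * g.1 = 1 := by
      apply eq_one_of_fix_U (mul_mem (inv_mem (duad_le h.2)) (duad_le g.2))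
      intro x hx
      rw [Equiv.Perm.mul_apply, h1 x hx]
      exact M24Frame.inv_apply_eq' rfl
    exact (inv_mul_eq_one.1 h3).symm
  have hcard : Nat.card duad = Nat.card (setSystemAut B22) := by
    rw [card_duad, S36Aut.card_aut card_Pt22 B22_steiner]
  have hbij := (Nat.bijective_iff_injective_and_card f).2 ⟨hinj, hcard⟩
  obtain ⟨τ, hτ⟩ := hbij.2 ⟨resFun ⟨s, hs⟩, res_mem _⟩
  refine ⟨τ.1, τ.2, fun x hx => ?_⟩
  exact congrArg (fun t : setSystemAut B22 => toPt (t.1 (ofPt x hx))) hτ

theorem sig_mem (α : Spor.M22 ≃* Spor.M22) : sig α ∈ Sg := by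
  have h1 : ∀ x, sig α x ∈ U ↔ x ∈ U := by
    intro x
    constructor
    · intro h
      by_contra hx
      rw [sig_apply, pm_of_notMem α hx] at h
      exact hx h
    · exact fun h => pm_mem α h
  have hn : sig α none = none := pm_none α
  have h0 : sig α (some 0) = some 0 := pm_zero α
  have hmem : ∀ o : Finset GolayPt, ∀ x, sig α x = x → (x ∈ o.image (sig α) ↔ x ∈ o) := by
    intro o x hx
    constructor
    · intro h
      obtain ⟨y, hy, hyx⟩ := Finset.mem_image.1 h
      rwa [(sig α).injective (hyx.trans hx.symm)] at hy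
    · exact fun h => Finset.mem_image.2 ⟨x, h, hx⟩
  refine ⟨h1, fun o => ?_⟩
  rw [hmem o none hn, hmem o (some 0) h0]
  constructor
  · rintro ⟨h2, h3, h4⟩
    refine ⟨?_, h3, h4⟩
    -- the inverse is induced by the inverse automorphism
    have h5 : ∀ x, sig α.symm (sig α x) = x := by
      intro x
      by_cases hx : x ∈ U
      · apply eq_of_fix (pm_mem α.symm (pm_mem α hx)) hx
        intro g hg hgx
        have h6 := (pm_iff α.symm (pm_mem α hx) (α ⟨g, hg⟩)).2
        rw [α.symm_apply_apply] at h6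
        exact (pm_iff α hx ⟨g, hg⟩).2 (h6 hgx)
      · rw [sig_apply, sig_apply, pm_of_notMem α hx, pm_of_notMem _ hx]
    have h6 := sig_hexad α.symm h2 ((hmem o none hn).2 h3) ((hmem o (some 0) h0).2 h4)
    rw [Finset.image_image] at h6
    have h7 : (⇑(sig α.symm) ∘ ⇑(sig α)) = id := funext h5
    rwa [h7, Finset.image_id] at h6
  · rintro ⟨h2, h3, h4⟩
    exact ⟨sig_hexad α h2 h3 h4, h3, h4⟩

/-- An element of `M24` stabilising `{none, some 0}` and centralising `M22` is trivial. -/
theorem eq_one_of_cent {c : Equiv.Perm GolayPt} (hc : c ∈ duad)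
    (h : ∀ g ∈ Spor.M22, c * g * c⁻¹ = g) : c = 1 := by
  apply eq_one_of_fix_U (duad_le hc)
  intro x hx
  symm
  apply eq_of_fix hx (((duad_le_Sg hc).1 x).2 hx)
  intro g hg hgx
  have h1 := h g hg
  rw [mul_inv_eq_iff_eq_mul] at h1
  have h2 := congrArg (fun t : Equiv.Perm GolayPt => t x) h1
  simp only [Equiv.Perm.mul_apply] at h2
  rw [hgx] at h2
  exact h2.symm

/-- The automorphisms of `M22` are the conjugations by the duad stabiliser. -/
theorem aut_M22 (α : Spor.M22 ≃* Spor.M22) :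
    ∃! τ : Equiv.Perm GolayPt, τ ∈ duad ∧ ∀ g : Spor.M22, (α g).1 = τ * g.1 * τ⁻¹ := by
  obtain ⟨τ, hτ, hτs⟩ := exists_duad (sig_mem α)
  have hτc : ∀ g : Spor.M22, (α g).1 = τ * g.1 * τ⁻¹ := by
    intro g
    rw [eq_mul_inv_iff_mul_eq]
    ext1 x
    obtain ⟨-, g0, g1⟩ := (mem_M22_iff _).1 g.2
    obtain ⟨-, a0, a1⟩ := (mem_M22_iff _).1 (α g).2
    rw [Equiv.Perm.mul_apply, Equiv.Perm.mul_apply]
    by_cases hx : x ∈ U
    · rw [hτs x hx, hτs _ (map_U g0 g1 hx), sig_apply, sig_apply, pm_smul]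
    · have h1 : ∀ z, z ∉ U → (α g).1 z = z := by
        intro z hz
        rcases notMem_U.1 hz with rfl | rfl
        · exact a0
        · exact a1
      have h2 : g.1 x = x := by
        rcases notMem_U.1 hx with rfl | rfl
        · exact g0
        · exact g1
      rw [h2, h1]
      exact fun h => hx (((duad_le_Sg hτ).1 x).1 h)
  refine ⟨τ, ⟨hτ, hτc⟩, ?_⟩
  rintro τ' ⟨hτ', h'⟩
  have h3 : τ⁻¹ * τ' = 1 := by
    apply eq_one_of_cent (mul_mem (inv_mem hτ) hτ')
    intro g hg
    have h4 : τ * g * τ⁻¹ = τ' * g * τ'⁻¹ := (hτc ⟨g, hg⟩).symm.trans (h' ⟨g, hg⟩)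
    calc τ⁻¹ * τ' * g * (τ⁻¹ * τ')⁻¹ = τ⁻¹ * (τ' * g * τ'⁻¹) * τ := by group
      _ = g := by rw [← h4]; group
  exact (inv_mul_eq_one.1 h3).symm

/-! ### The homomorphism onto the duad stabiliser -/

theorem M22_le_duad : Spor.M22 ≤ duad := by
  intro g hg
  obtain ⟨h1, h2, h3⟩ := (mem_M22_iff g).1 hg
  exact ⟨h1, Or.inl ⟨h2, h3⟩⟩

/-- **Main theorem**, in terms of a surjection `π : M → M22` with kernel `N`. -/
theorem exists_P_of_pi {C : Type*} [Group C] [Finite C] (M N : Subgroup C) [hMn : M.Normal]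
    [hNn : N.Normal] (hNM : N ≤ M) (hM : M.index = 2)
    (hout : ∀ c : C, (∀ m ∈ M, c * m * c⁻¹ * m⁻¹ ∈ N) → c ∈ M)
    (π : M →* Spor.M22) (hπ : Function.Surjective π) (hker : ∀ m : M, π m = 1 ↔ (m : C) ∈ N) :
    ∃ P : C →* Equiv.Perm GolayPt, P.ker = N ∧ P.range = duad ∧ (∀ c, c ∈ M ↔ P c ∈ Spor.M22) ∧
      ∀ m : M, P m = (π m).1 := by
  classical
  -- the automorphism induced by conjugation
  have hconj : ∀ c : C, ∃ α : Spor.M22 ≃* Spor.M22, ∀ m : M,
      α (π m) = π ⟨c * m * c⁻¹, hMn.conj_mem m m.2 c⟩ := by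
    intro c
    let φ : M →* Spor.M22 := π.comp (MulAut.conjNormal c).toMonoidHom
    have hφ : ∀ m : M, φ m = π ⟨c * m * c⁻¹, hMn.conj_mem m m.2 c⟩ := fun m => rfl
    have hφs : Function.Surjective φ := hπ.comp (MulAut.conjNormal c).surjective
    have hk : ∀ m : M, φ m = 1 ↔ π m = 1 := by
      intro m
      rw [hφ, hker, hker]
      constructor
      · intro h
        have := hNn.conj_mem _ h c⁻¹
        simpa [mul_assoc] using this
      · intro h
        exact hNn.conj_mem _ h c
    have hkle : π.ker = φ.ker := by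
      ext m
      rw [MonoidHom.mem_ker, MonoidHom.mem_ker, hk]
    let e1 := QuotientGroup.quotientKerEquivOfSurjective π hπ
    let e2 := QuotientGroup.quotientKerEquivOfSurjective φ hφs
    refine ⟨(e1.symm.trans (QuotientGroup.quotientMulEquivOfEq hkle)).trans e2, fun m => ?_⟩
    have h1 : e1.symm (π m) = QuotientGroup.mk' _ m := by
      rw [MulEquiv.symm_apply_eq]
      rfl
    rw [MulEquiv.trans_apply, MulEquiv.trans_apply, h1]
    rfl
  choose α hα using hconj
  have hP : ∀ c : C, ∃! τ : Equiv.Perm GolayPt, τ ∈ duad ∧ ∀ m : M,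
      (π ⟨c * m * c⁻¹, hMn.conj_mem m m.2 c⟩).1 = τ * (π m).1 * τ⁻¹ := by
    intro c
    obtain ⟨τ, ⟨h1, h2⟩, h3⟩ := aut_M22 (α c)
    refine ⟨τ, ⟨h1, fun m => ?_⟩, ?_⟩
    · rw [← hα, h2]
    · rintro τ' ⟨h4, h5⟩
      apply h3
      refine ⟨h4, fun g => ?_⟩
      obtain ⟨m, rfl⟩ := hπ g
      rw [hα, h5]
  choose P hPm hPu using hP
  have hmulm : ∀ c d : C, P (c * d) = P c * P d := by
    intro c d
    symm
    apply hPu
    refine ⟨mul_mem (hPm c).1 (hPm d).1, fun m => ?_⟩
    have h1 := (hPm c).2 ⟨d * m * d⁻¹, hMn.conj_mem m m.2 d⟩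
    have h2 := (hPm d).2 m
    have h3 : (⟨c * d * m * (c * d)⁻¹, hMn.conj_mem m m.2 (c * d)⟩ : M) =
        ⟨c * (d * m * d⁻¹) * c⁻¹, hMn.conj_mem _ (hMn.conj_mem m m.2 d) c⟩ :=
      Subtype.ext (by group)
    rw [h3]
    rw [h2] at h1
    rw [h1, mul_inv_rev]
    simp only [mul_assoc]
  let P' : C →* Equiv.Perm GolayPt := MonoidHom.mk' P hmulm
  have hPπ : ∀ m : M, P m = (π m).1 := by
    intro m
    symm
    apply hPu
    refine ⟨M22_le_duad (π m).2, fun k => ?_⟩
    have h1 : (⟨(m : C) * k * (m : C)⁻¹, hMn.conj_mem k k.2 m⟩ : M) = m * k * m⁻¹ := rfl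
    rw [h1, map_mul, map_mul, map_inv]
    rfl
  have hkerP : P'.ker = N := by
    ext c
    rw [MonoidHom.mem_ker]
    have hNc : ∀ c, c ∈ N → P c = 1 := by
      intro c hc
      have h1 := hPπ ⟨c, hNM hc⟩
      rw [(hker ⟨c, hNM hc⟩).2 hc] at h1
      exact h1
    constructor
    · intro h
      have h0 : P c = 1 := h
      have hcM : c ∈ M := by
        apply hout
        intro m hm
        have h1 := (hPm c).2 ⟨m, hm⟩
        rw [h0, one_mul, inv_one, mul_one] at h1
        have h2 : π ⟨c * m * c⁻¹, hMn.conj_mem m hm c⟩ = π ⟨m, hm⟩ := Subtype.ext h1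
        have h3 : π (⟨c * m * c⁻¹, hMn.conj_mem m hm c⟩ * ⟨m, hm⟩⁻¹) = 1 := by
          rw [map_mul, map_inv, h2, mul_inv_cancel]
        exact (hker _).1 h3
      have h1 := hPπ ⟨c, hcM⟩
      rw [h0] at h1
      exact (hker ⟨c, hcM⟩).1 (Subtype.ext h1.symm)
    · exact hNc c
  have hrle : P'.range ≤ duad := by
    rintro _ ⟨c, rfl⟩
    exact (hPm c).1
  have hcardN : Nat.card M = Nat.card N * 443520 := by
    have h1 : π.ker = N.subgroupOf M := by
      ext m
      rw [MonoidHom.mem_ker, hker, Subgroup.mem_subgroupOf]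
    have h2 := Subgroup.card_mul_index π.ker
    rw [Subgroup.index_ker, MonoidHom.range_eq_top.2 hπ, Subgroup.card_top, card_M22, h1] at h2
    rw [← h2, Nat.card_congr (Subgroup.subgroupOfEquivOfLe hNM).toEquiv]
  have hrange : P'.range = duad := by
    apply Subgroup.eq_of_le_of_card_ge hrle
    rw [card_duad]
    have h1 := Subgroup.card_mul_index P'.ker
    rw [Subgroup.index_ker, hkerP] at h1
    have h2 := Subgroup.card_mul_index M
    rw [hM, hcardN, ← h1] at h2
    have h3 : 0 < Nat.card N := Nat.card_pos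
    have h4 : 443520 * 2 = Nat.card P'.range := by
      apply Nat.eq_of_mul_eq_mul_left h3
      rw [← h2]
      ring
    omega
  refine ⟨P', hkerP, hrange, fun c => ⟨fun hc => ?_, fun hc => ?_⟩, hPπ⟩
  · have h1 : P' c = (π ⟨c, hc⟩).1 := hPπ ⟨c, hc⟩
    rw [h1]
    exact (π ⟨c, hc⟩).2
  · obtain ⟨m, hm⟩ := hπ ⟨P' c, hc⟩
    have h1 : P' m = P' c := by
      have : P' m = (π m).1 := hPπ m
      rw [this, hm]
    have h2 : (m : C)⁻¹ * c ∈ P'.ker := by
      rw [MonoidHom.mem_ker, map_mul, map_inv, h1, inv_mul_cancel]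
    rw [hkerP] at h2
    have h3 := M.mul_mem m.2 (hNM h2)
    rwa [mul_inv_cancel_left] at h3

/-- The outer action on `M22`: the form of S1646 / S1670. -/
theorem exists_P {C : Type*} [Group C] [Finite C] (M N : Subgroup C) [hMn : M.Normal]
    [hNn : N.Normal] (hNM : N ≤ M) (hM : M.index = 2)
    (hout : ∀ c : C, (∀ m ∈ M, c * m * c⁻¹ * m⁻¹ ∈ N) → c ∈ M)
    (hM22 : Cfsg.Spor.IsoM22 (M ⧸ N.subgroupOf M)) :
    ∃ P : C →* Equiv.Perm GolayPt, P.ker = N ∧ P.range = duad ∧
      ∀ c, c ∈ M ↔ P c ∈ Spor.M22 := by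
  obtain ⟨e⟩ := hM22
  obtain ⟨P, h1, h2, h3, -⟩ := exists_P_of_pi M N hNM hM hout
    (e.toMonoidHom.comp (QuotientGroup.mk' (N.subgroupOf M)))
    (e.surjective.comp (QuotientGroup.mk'_surjective _)) (fun m => by
      change e (QuotientGroup.mk' _ m) = 1 ↔ _
      rw [map_eq_one_iff e e.injective]
      exact (QuotientGroup.eq_one_iff m).trans Subgroup.mem_subgroupOf)
  exact ⟨P, h1, h2, h3⟩

end Cfsg.Agent.J4Type.OuterM22
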