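import Cfsg.Agent.J4Type.CentOf
import Cfsg.Agent.J4Type.OuterM22

/-!
# J₄ type: the homomorphism `P` of `C_G(t)` onto `M22:2` exists (R07)
-/

set_option autoImplicit false

namespace Cfsg.Agent.J4Type

open Cfsg

theorem duad_eq_M22d : Cfsg.Agent.BabyM.DuadGen.duad = M22d := Cfsg.Agent.BabyM.DuadGen.duad_eq

/-- The homomorphism of `C_G(t)` onto `M22d` with kernel `N`. -/
theorem Hyp.exists_isP {G : Type*} [Group G] [Finite G] {t : G}
    {Q N M : Subgroup (Subgroup.centralizer ({t} : Set G))} (H : Hyp t Q N M) :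
    ∃ P : Subgroup.centralizer ({t} : Set G) →* Equiv.Perm GolayPt, IsP N M P := by
  obtain ⟨π, hπ, hker⟩ := H.pi
  have := H.Mn
  have := H.Nn
  obtain ⟨P, h1, h2, h3, -⟩ := OuterM22.exists_P_of_pi M N H.NM H.index_M H.out π hπ hker
  refine ⟨P, h1, h2.trans duad_eq_M22d, fun c => (h3 c).trans ?_⟩
  rw [Cfsg.Agent.SporadicA.MathieuRecog.mem_M22_iff]
  constructor
  · exact fun h => h.2.1
  · intro h
    have h4 : P c ∈ Cfsg.Agent.BabyM.DuadGen.duad := by rw [← h2]; exact ⟨c, rfl⟩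
    obtain ⟨h5, ⟨-, h6⟩ | ⟨h6, -⟩⟩ := Cfsg.Agent.BabyM.DuadGen.mem_duad.1 h4
    · exact ⟨h5, h, h6⟩
    · rw [h] at h6
      exact absurd h6 (by simp)

end Cfsg.Agent.J4Type
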