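import Cfsg.Agent.J4Type.IsPOf
import Cfsg.Agent.J4Type.CocodeMask

/-!
# J₄ type: the elements of `C` outside `M` invert `ρ` modulo `Q` (R07)

Explicit commuting elements `s`, `s'` of order 3 of `M22` generating a group of order 9, and an
element `u` of `M22:2` inverting `s` and centralising `s'`.
-/

set_option autoImplicit false

namespace Cfsg.Agent.J4Type.POuter

open Cfsg Cfsg.Agent.SporadicA.GolayBase Cfsg.Agent.SporadicA.GolayPerm
open Cfsg.Agent.J4Type.CocodeMask

/-- `(2 21 17)(3 19 20)(5 7 8)(6 16 14)(9 22 18)(10 12 13)` -/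
def Ts : ℕ := 979442166230095711463493847975842848
/-- the inverse of `Ts` -/
def Ti : ℕ := 967170651799092958334263505715872800
/-- `(1 4 11)(2 21 17)(5 9 6)(7 22 16)(8 18 14)(10 13 12)` -/
def Ts' : ℕ := 976867534428191067258227175820743808
/-- `(0 23)(2 10)(3 19)(7 8)(12 17)(13 21)(14 16)(18 22)` -/
def Tu : ℕ := 23918178083769712434620360278255671

noncomputable def s : M24 := mk Ts (by decide +kernel)
noncomputable def s' : M24 := mk Ts' (by decide +kernel)
noncomputable def u : M24 := mk Tu (by decide +kernel)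

theorem tab_s : IsTab s Ts := isTab_mk _ _
theorem tab_s' : IsTab s' Ts' := isTab_mk _ _
theorem tab_u : IsTab u Tu := isTab_mk _ _

theorem tab_i : IsTab s⁻¹ Ti := by
  have h : IsTab (mk Ti (by decide +kernel)) Ti := isTab_mk _ _
  rw [tab_s.inv_eq h (by decide +kernel)]
  exact h

theorem eq_of_tab {g h : M24} {P Q : ℕ} (hg : IsTab g P) (hh : IsTab h Q) (hPQ : P = Q) : g = h := by
  subst hPQ
  exact hg.eq hh

theorem apply_eq {g : M24} {P : ℕ} (hg : IsTab g P) {p q : GolayPt}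
    (h : papp P (idx p) = idx q) : (g : Equiv.Perm GolayPt) p = q :=
  idx_injective ((hg p).trans h)

theorem ne_of_tab {g h : M24} {P Q : ℕ} (hg : IsTab g P) (hh : IsTab h Q) (p : GolayPt)
    (hPQ : papp P (idx p) ≠ papp Q (idx p)) : g ≠ h := by
  rintro rfl
  exact hPQ ((hg p).symm.trans (hh p))

theorem s_cube : s ^ 3 = 1 := by
  have h : s ^ 3 = s * s * s := by rw [pow_succ, pow_two]
  rw [h]
  exact eq_of_tab ((tab_s.mul tab_s).mul tab_s) isTab_one (by decide +kernel)

theorem s'_cube : s' ^ 3 = 1 := by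
  have h : s' ^ 3 = s' * s' * s' := by rw [pow_succ, pow_two]
  rw [h]
  exact eq_of_tab ((tab_s'.mul tab_s').mul tab_s') isTab_one (by decide +kernel)

theorem s_comm : s * s' = s' * s :=
  eq_of_tab (tab_s.mul tab_s') (tab_s'.mul tab_s) (by decide +kernel)

theorem s_ne : s ≠ 1 := ne_of_tab tab_s isTab_one (some 2) (by decide +kernel)

theorem s'_ne : s' ≠ 1 := ne_of_tab tab_s' isTab_one (some 1) (by decide +kernel)

theorem s'_ne_s : s' ≠ s := ne_of_tab tab_s' tab_s (some 1) (by decide +kernel)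

theorem s'_ne_s2 : s' ≠ s ^ 2 := by
  rw [pow_two]
  exact ne_of_tab tab_s' (tab_s.mul tab_s) (some 1) (by decide +kernel)

theorem u_s : u * s = s⁻¹ * u := eq_of_tab (tab_u.mul tab_s) (tab_i.mul tab_u) (by decide +kernel)

theorem u_s' : u * s' = s' * u := eq_of_tab (tab_u.mul tab_s') (tab_s'.mul tab_u) (by decide +kernel)

theorem s_mem : (s : Equiv.Perm GolayPt) ∈ Spor.M22 := by
  rw [Cfsg.Agent.SporadicA.MathieuRecog.mem_M22_iff]
  exact ⟨s.2, apply_eq tab_s (by decide +kernel), apply_eq tab_s (by decide +kernel)⟩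

theorem s'_mem : (s' : Equiv.Perm GolayPt) ∈ Spor.M22 := by
  rw [Cfsg.Agent.SporadicA.MathieuRecog.mem_M22_iff]
  exact ⟨s'.2, apply_eq tab_s' (by decide +kernel), apply_eq tab_s' (by decide +kernel)⟩

theorem u_mem : (u : Equiv.Perm GolayPt) ∈ M22d := by
  rw [← duad_eq_M22d, Cfsg.Agent.BabyM.DuadGen.mem_duad]
  exact ⟨u.2, Or.inr ⟨apply_eq tab_u (by decide +kernel), apply_eq tab_u (by decide +kernel)⟩⟩

end Cfsg.Agent.J4Type.POuter

namespace Cfsg.Agent.J4Type

open Cfsg POuter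

variable {G : Type*} [Group G] [Finite G] {t : G}
  {Q N M : Subgroup (Subgroup.centralizer ({t} : Set G))}
  {P : Subgroup.centralizer ({t} : Set G) →* Equiv.Perm GolayPt}

/-- The elements outside `M` invert `ρ` on `V`. -/
theorem Hyp.outer_inv' (H : Hyp t Q N M) (hP : IsP N M P)
    {r : Subgroup.centralizer ({t} : Set G)} (hr : r ∈ N) (hrQ : r ∉ Q) (hr3 : r ^ 3 = 1)
    {d : Subgroup.centralizer ({t} : Set G)} (hd : d ∉ M) :
    H.large.act d * H.large.act r = (H.large.act r)⁻¹ * H.large.act d := by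
  have hc : ∀ g h : M24, g = h → (g : Equiv.Perm GolayPt) = h := fun g h e => congrArg Subtype.val e
  have hn : ∀ g h : M24, g ≠ h → (g : Equiv.Perm GolayPt) ≠ h := fun g h e e' => e (Subtype.ext e')
  exact H.outer_inv hP hr hrQ hr3 s_mem s'_mem u_mem (hc _ _ s_cube) (hc _ _ s'_cube)
    (hc _ _ s_comm) (hn _ _ s_ne) (hn _ _ s'_ne) (hn _ _ s'_ne_s) (hn _ _ s'_ne_s2)
    (hc _ _ u_s) (hc _ _ u_s') hd

/-- The field `P_outer` of `Hex`. -/
theorem Hyp.P_outer' (H : Hyp t Q N M) (hP : IsP N M P)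
    {r : Subgroup.centralizer ({t} : Set G)} (hr : r ∈ N) (hrQ : r ∉ Q) (hr3 : r ^ 3 = 1)
    (d : Subgroup.centralizer ({t} : Set G)) (hd : P d none ≠ none) :
    ∃ q ∈ Q.map (Subgroup.centralizer ({t} : Set G)).subtype,
      (d : G) * r * (d : G)⁻¹ = q * (r : G)⁻¹ :=
  H.P_outer (H.outer_inv' hP hr hrQ hr3 (fun h => hd ((hP.mem d).1 h)))

end Cfsg.Agent.J4Type
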