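import Cfsg.Agent.J4Type.PreHexPerm

/-!
# `VCoord` from `CentCoords`

`exists_vcoord` : coordinates of `Q/⟨z⟩` in the sense of `VCoord` for a `Hex` whose groups
`E hex0 ∩ Q`, `E hex1 ∩ Q` are `{(a; 0)}`, `{(0; c)}` in the coordinates of a `CentCoords`.
-/

set_option autoImplicit false

namespace Cfsg.Agent.J4Type.VCoordOf

open Cfsg Cfsg.Agent.J4Type CentCoords CocodeMask SporadicA.FieldFour VCoord PreHexPerm
  SporadicA.GolayBase SporadicA.OctadFix OctadFixTrans
open SporadicA.GolayPerm hiding pcomp papp_pcomp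
open scoped Pointwise

variable {G : Type*} [Group G]

/-! ### Scalars -/

theorem sc_sc (x y : F4) (a : F43) : sc x (sc y a) = sc (x * y) a := by
  funext k
  exact (mul_assoc x y (a k)).symm

theorem sc_one (a : F43) : sc 1 a = a := by
  funext k
  exact one_mul (a k)

theorem sc_add (x : F4) (a b : F43) : sc x (a + b) = sc x a + sc x b := by
  funext k
  exact mul_add x (a k) (b k)

theorem scm_scm (x y : F4) (v : V6) : scm x (scm y v) = scm (x * y) v := by
  show (sc x (sc y v.1), sc x (sc y v.2)) = _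
  rw [sc_sc, sc_sc]
  rfl

theorem scm_one (v : V6) : scm 1 v = v := by
  show (sc 1 v.1, sc 1 v.2) = _
  rw [sc_one, sc_one]

/-- commutes with scalars -/
def Hom1 (M : V6 → V6) : Prop := ∀ γ v, M (scm γ v) = scm γ (M v)

theorem Hom1.comp {M N : V6 → V6} (hM : Hom1 M) (hN : Hom1 N) : Hom1 (fun v => M (N v)) := by
  intro γ v
  show M (N (scm γ v)) = _
  rw [hN, hM]

theorem hom1_id : Hom1 (fun v => v) := fun _ _ => rfl

theorem hom1_MDg : Hom1 MDg := by
  intro γ v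
  have h : ∀ a : F43, Dg (sc γ a) = sc γ (Dg a) := by
    intro a
    funext k
    fin_cases k
    · show γ * a 0 = γ * a 0
      rfl
    · show .w * (γ * a 1) = γ * (.w * a 1)
      exact mul_left_comm _ _ _
    · show .v * (γ * a 2) = γ * (.v * a 2)
      exact mul_left_comm _ _ _
  show (Dg (sc γ v.1), Dg (sc γ v.2)) = (sc γ (Dg v.1), sc γ (Dg v.2))
  rw [h, h]

theorem hom1_MSh : Hom1 MSh := by
  intro γ v
  have h : ∀ a : F43, Sh (sc γ a) = sc γ (Sh a) := by
    intro a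
    funext k
    fin_cases k <;> rfl
  show (Sh (sc γ v.1), Sh (sc γ v.2)) = (sc γ (Sh v.1), sc γ (Sh v.2))
  rw [h, h]

/-- the map `(a; c) ↦ (a + B c; c)` -/
def up (B : F43 → F43) (v : V6) : V6 := (v.1 + B v.2, v.2)

theorem hom1_up {B : F43 → F43} (h : ∀ γ a, B (sc γ a) = sc γ (B a)) : Hom1 (up B) := by
  intro γ v
  show (sc γ v.1 + B (sc γ v.2), sc γ v.2) = (sc γ (v.1 + B v.2), sc γ v.2)
  rw [h, sc_add]

theorem B01_sc (γ : F4) (a : F43) : B01 (sc γ a) = sc γ (B01 a) := by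
  funext k
  fin_cases k
  · rfl
  · rfl
  · show F4.z = γ * .z
    exact (mul_zero γ).symm

theorem B45_sc (γ : F4) (a : F43) : B45 (sc γ a) = sc γ (B45 a) := by
  funext k
  fin_cases k
  · exact (mul_add γ (a 1) (a 2)).symm
  · exact (mul_add γ (a 0) (a 2)).symm
  · exact (mul_add γ (a 0) (a 1)).symm

/-! ### Products -/

section Lin

variable {H : Cent G} {co : G → V6}

theorem exists_P {p : Equiv.Perm GolayPt} (hp : p ∈ M22d) :
    ∃ c : Subgroup.centralizer ({H.z} : Set G), H.P c = p := by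
  rw [← H.P_range] at hp
  exact hp

theorem comm_z (c : Subgroup.centralizer ({H.z} : Set G)) : (c : G) * H.z = H.z * c :=
  (Subgroup.mem_centralizer_iff.1 c.2 H.z rfl).symm

theorem Lin.mul {p q : Equiv.Perm GolayPt} (hp : p ∈ M22d) {M N : V6 → V6}
    (hM : Lin H co p M) (hN : Lin H co q N) (h1 : Hom1 M) :
    Lin H co (p * q) (fun v => M (N v)) := by
  intro c hc
  obtain ⟨d, hd⟩ := exists_P (H := H) hp
  have he : H.P (d⁻¹ * c) = q := by
    rw [map_mul, map_inv, hc, hd, inv_mul_cancel_left]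
  obtain ⟨γ, g0, hγ⟩ := hM d hd
  obtain ⟨δ, d0, hδ⟩ := hN _ he
  refine ⟨γ * δ, mul_ne_zero g0 d0, fun x hx => ?_⟩
  have h2 : ((d⁻¹ * c : Subgroup.centralizer ({H.z} : Set G)) : G) * x *
      ((d⁻¹ * c : Subgroup.centralizer ({H.z} : Set G)) : G)⁻¹ ∈ H.Q :=
    H.Q_conj _ (comm_z _) x hx
  have h3 := hγ _ h2
  rw [hδ x hx] at h3
  have h4 : (d : G) * (((d⁻¹ * c : Subgroup.centralizer ({H.z} : Set G)) : G) * x *
      ((d⁻¹ * c : Subgroup.centralizer ({H.z} : Set G)) : G)⁻¹) * (d : G)⁻¹ =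
      (c : G) * x * (c : G)⁻¹ := by
    show (d : G) * (((d : G)⁻¹ * c) * x * ((d : G)⁻¹ * c)⁻¹) * (d : G)⁻¹ = _
    group
  rw [h4] at h3
  rw [h3, h1, scm_scm]

end Lin

variable {H : Cent G} (K : CentCoords H)

theorem co_one : K.co 1 = 0 := by
  have h := K.co_mul 1 H.Q.one_mem 1 H.Q.one_mem
  rw [mul_one] at h
  exact left_eq_add.1 h

theorem add_self (v : V6) : v + v = 0 := by
  have h : ∀ x : F4, x + x = 0 := by decide
  refine Prod.ext ?_ ?_ <;> funext k <;> exact h _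

theorem co_inv {q : G} (hq : q ∈ H.Q) : K.co q⁻¹ = K.co q := by
  have h := K.co_mul q hq q⁻¹ (H.Q.inv_mem hq)
  rw [mul_inv_cancel, co_one] at h
  have h2 := add_self (K.co q)
  rw [← h2] at h
  exact (add_left_cancel h).symm

theorem eq_of_co {q r : G} (hq : q ∈ H.Q) (hr : r ∈ H.Q) (h : K.co q = K.co r) :
    q = r ∨ q = H.z * r := by
  have h1 : K.co (q * r⁻¹) = 0 := by
    rw [K.co_mul q hq _ (H.Q.inv_mem hr), co_inv K hr, h, add_self]
  rcases K.co_ker _ (H.Q.mul_mem hq (H.Q.inv_mem hr)) h1 with h2 | h2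
  · exact Or.inl (mul_inv_eq_one.1 h2)
  · exact Or.inr (mul_inv_eq_iff_eq_mul.1 h2)

theorem lin_one : Lin H K.co 1 (fun v => v) := by
  intro c hc
  obtain ⟨q, hq, i, hci⟩ := (H.P_ker c).1 hc
  have hρ : ∀ i : ℕ, ∀ x ∈ H.Q, H.ρ ^ i * x * (H.ρ ^ i)⁻¹ ∈ H.Q ∧
      K.co (H.ρ ^ i * x * (H.ρ ^ i)⁻¹) = scm (K.om ^ i) (K.co x) := by
    intro i
    induction i with
    | zero =>
      intro x hx
      rw [pow_zero, one_mul, inv_one, mul_one, pow_zero, scm_one]
      exact ⟨hx, rfl⟩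
    | succ i ih =>
      intro x hx
      obtain ⟨h1, h2⟩ := ih x hx
      have e : H.ρ ^ (i + 1) * x * (H.ρ ^ (i + 1))⁻¹ =
          H.ρ * (H.ρ ^ i * x * (H.ρ ^ i)⁻¹) * H.ρ⁻¹ := by
        rw [pow_succ']
        group
      rw [e]
      refine ⟨H.Q_conj _ H.ρ_comm _ h1, ?_⟩
      rw [K.co_rho _ h1, h2, scm_scm, pow_succ']
  refine ⟨K.om ^ i, pow_ne_zero _ K.om_ne_zero, fun x hx => ?_⟩
  obtain ⟨h1, h2⟩ := hρ i x hx
  rw [← h2, hci]
  have e : q * H.ρ ^ i * x * (q * H.ρ ^ i)⁻¹ = q * (H.ρ ^ i * x * (H.ρ ^ i)⁻¹) * q⁻¹ := by group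
  rw [e, K.co_mul _ (H.Q.mul_mem hq h1) _ (H.Q.inv_mem hq), K.co_mul _ hq _ h1, co_inv K hq]
  have h3 : ∀ a b : V6, a + b + a = b := by
    intro a b
    rw [add_right_comm, add_self, zero_add]
  rw [h3]

/-! ### The sixteen elements over `fixOct hex0` -/

theorem linDg : Lin H K.co s MDg := K.lin_s _ tab_s
theorem linSh : Lin H K.co s' MSh := K.lin_s' _ tab_s'

/-- the form of `b12` -/
def B12 (c : F43) : F43 := ![.z, c 1, c 2]
/-- the form of `b35` -/
def B35 (c : F43) : F43 :=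
  ![.v * c 1 + .w * c 2, .w * c 0 + .v * c 2, .v * c 0 + .w * c 1]

theorem B12_sc (γ : F4) (a : F43) : B12 (sc γ a) = sc γ (B12 a) := by
  funext k
  fin_cases k
  · show F4.z = γ * .z
    exact (mul_zero γ).symm
  · rfl
  · rfl

theorem B35_sc (γ : F4) (a : F43) : B35 (sc γ a) = sc γ (B35 a) := by
  have h : ∀ x y γ s t : F4, x * (γ * s) + y * (γ * t) = γ * (x * s + y * t) := by
    intro x y γ s t
    ring
  funext k
  fin_cases k
  · exact h _ _ _ _ _
  · exact h _ _ _ _ _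
  · exact h _ _ _ _ _

theorem lin01 : Lin H K.co b01 (up B01) := K.lin_b01 _ tab_b01
theorem lin45 : Lin H K.co b45 (up B45) := K.lin_b45 _ tab_b45

theorem lin12 : Lin H K.co b12 (up B12) := by
  have h := Lin.mul s'_mem (linSh K) (Lin.mul b01_mem (lin01 K)
    (Lin.mul s'_mem (linSh K) (linSh K) hom1_MSh) (hom1_up B01_sc)) hom1_MSh
  have e : (fun v => MSh (up B01 (MSh (MSh v)))) = up B12 := by
    funext v
    refine Prod.ext ?_ ?_
    · funext k
      fin_cases k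
      · show v.1 0 + F4.z = v.1 0 + F4.z
        rfl
      · rfl
      · rfl
    · funext k
      fin_cases k <;> rfl
  rw [← e]
  exact h

theorem lin35 : Lin H K.co b35 (up B35) := by
  have h := Lin.mul s_mem (linDg K) (Lin.mul b45_mem (lin45 K)
    (Lin.mul s_mem (linDg K) (linDg K) hom1_MDg) (hom1_up B45_sc)) hom1_MDg
  have e : (fun v => MDg (up B45 (MDg (MDg v)))) = up B35 := by
    have h1 : ∀ a1 a2 b1 b2 : F4, a1 + (.w * (.w * b1) + .v * (.v * b2)) =
        a1 + (.v * b1 + .w * b2) ∧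
        .w * (.w * (.w * a2) + (b1 + .v * (.v * b2))) = a2 + (.w * b1 + .v * b2) ∧
        .v * (.v * (.v * a2) + (b1 + .w * (.w * b2))) = a2 + (.v * b1 + .w * b2) ∧
        F4.w * (.w * (.w * a1)) = a1 ∧ F4.v * (.v * (.v * a1)) = a1 := by decide
    funext v
    refine Prod.ext ?_ ?_
    · funext k
      fin_cases k
      · exact (h1 _ 0 _ _).1
      · exact (h1 0 _ _ _).2.1
      · exact (h1 0 _ _ _).2.2.1
    · funext k
      fin_cases k
      · rfl
      · exact (h1 (v.2 1) 0 0 0).2.2.2.1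
      · exact (h1 (v.2 2) 0 0 0).2.2.2.2
  rw [← e]
  exact h

/-- the form of `pb x` -/
def Bx (x : X) (c : F43) : F43 :=
  (cond x.2.2.2 (B35 c) 0 + cond x.2.2.1 (B45 c) 0) + cond x.2.1 (B12 c) 0 + cond x.1 (B01 c) 0

theorem lin_pb (x : X) : Lin H K.co (pb x) (up (Bx x)) := by
  obtain ⟨a, b, c, d⟩ := x
  have hc : ∀ (e : Bool) (g : M24) (B : F43 → F43), (g : Equiv.Perm GolayPt) ∈ M22d →
      (∀ γ a, B (sc γ a) = sc γ (B a)) → Lin H K.co g (up B) →
      ((cond e g 1 : M24) : Equiv.Perm GolayPt) ∈ M22d ∧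
      Lin H K.co (cond e g 1 : M24) (up (fun c => cond e (B c) 0)) ∧
      Hom1 (up (fun c => cond e (B c) 0)) := by
    intro e g B h0 h1 h2
    cases e
    · refine ⟨one_mem _, ?_, ?_⟩
      · have : (up (fun _ => (0 : F43))) = fun v => v := by
          funext v
          show (v.1 + 0, v.2) = v
          rw [add_zero]
        show Lin H K.co 1 (up (fun _ => (0 : F43)))
        rw [this]
        exact lin_one K
      · show Hom1 (up (fun _ => (0 : F43)))
        apply hom1_up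
        intro γ a
        funext k
        exact (mul_zero γ).symm
    · exact ⟨h0, h2, hom1_up h1⟩
  obtain ⟨a0, a1, a2⟩ := hc a b01 B01 b01_mem B01_sc (lin01 K)
  obtain ⟨b0, b1, b2⟩ := hc b b12 B12 b12_mem B12_sc (lin12 K)
  obtain ⟨c0, c1, c2⟩ := hc c b45 B45 b45_mem B45_sc (lin45 K)
  obtain ⟨d0, d1, d2⟩ := hc d b35 B35 b35_mem B35_sc (lin35 K)
  have h := Lin.mul a0 a1 (Lin.mul b0 b1 (Lin.mul c0 c1 d1 c2) b2) a2
  have e : (fun v => up (fun t => cond a (B01 t) 0) (up (fun t => cond b (B12 t) 0)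
      (up (fun t => cond c (B45 t) 0) (up (fun t => cond d (B35 t) 0) v)))) =
      up (Bx (a, b, c, d)) := by
    funext v
    refine Prod.ext ?_ rfl
    show v.1 + _ + _ + _ + _ = v.1 + (_ + _ + _ + _)
    rw [← add_assoc, ← add_assoc, ← add_assoc]
    rfl
  rw [← e]
  exact h

/-- the value of the form on the hyperoval -/
theorem Bx_eq_aux : ∀ (x : X) (i j : Fin 6), i ≠ j →
    papp (Tpb x) (idx (hp i)) = idx (hp j) → ∀ c0 c1 c2 : F4, ∀ k : Fin 3,
      Bx x ![c0, c1, c2] k =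
        (sc (gam ![c0, c1, c2] i) (hv i) + sc (gam ![c0, c1, c2] j) (hv j)) k := by
  decide +kernel

theorem Bx_eq {x : X} {i j : Fin 6} (hij : i ≠ j)
    (h : (pb x : Equiv.Perm GolayPt) (hp i) = hp j) (c : F43) :
    Bx x c = sc (gam c i) (hv i) + sc (gam c j) (hv j) := by
  have h1 : papp (Tpb x) (idx (hp i)) = idx (hp j) := by
    rw [← h]
    exact (tab_pb x (hp i)).symm
  have h2 : c = ![c 0, c 1, c 2] := by
    funext k
    fin_cases k <;> rfl
  rw [h2]
  funext k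
  exact Bx_eq_aux x i j hij h1 _ _ _ k

/-! ### The coordinates -/

section Main

variable {G : Type*} [Group G] (H : Hex G) (K : CentCoords H.toCent)

theorem zz : H.z * H.z = 1 := by
  have := pow_orderOf_eq_one H.z
  rwa [H.z_order, pow_two] at this

theorem z_ne : H.z ≠ 1 := by
  intro h
  have := H.z_order
  rw [h, orderOf_one] at this
  omega

theorem co_z_mul {q : G} (hq : q ∈ H.Q) : K.co (H.z * q) = K.co q := by
  rw [K.co_mul _ H.z_mem_Q _ hq, K.co_z, zero_add]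

/-- an element of `E hex0` outside `Q` -/
theorem act_aux (h0 : ∀ q ∈ H.Q, q ∈ H.E hex0 ↔ (K.co q).2 = 0)
    (f : Subgroup.centralizer ({H.z} : Set G)) (hf : (f : G) ∈ H.E hex0) :
    ∃ x : X, (pb x : Equiv.Perm GolayPt) = H.P f ∧
      ∀ q ∈ H.Q, K.co ((f : G) * q * (f : G)⁻¹) = up (Bx x) (K.co q) := by
  have hE := H.E_elem hex0 HexMax.hex0_isHex
  obtain ⟨h1, h2⟩ := (H.E_map hex0 HexMax.hex0_isHex (H.P f)).1 ⟨f, hf, rfl⟩
  obtain ⟨x, hx⟩ := exists_pb (mem_fixOct.2 ⟨h1, h2⟩)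
  refine ⟨x, hx, ?_⟩
  obtain ⟨γ, -, hγ⟩ := lin_pb K x f hx.symm
  obtain ⟨q, hq, hqe⟩ := K.co_surj (![.o, .z, .z], 0)
  have hq0 : q ∈ H.E hex0 := (h0 q hq).2 (by rw [hqe])
  have h3 := hγ q hq
  rw [hE.2 _ hf _ hq0, mul_inv_cancel_right, hqe] at h3
  have h4 := congrFun (congrArg Prod.fst h3) 0
  have h5 : Bx x (0 : F43) = 0 := by
    have h := fun k => (by decide +kernel : ∀ (x : X) (k : Fin 3),
      Bx x (fun _ => F4.z) k = F4.z) x k
    funext k
    exact h k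
  have h6 : γ = 1 := by
    have h7 : (up (Bx x) ((![.o, .z, .z] : F43), (0 : F43))).1 = ![.o, .z, .z] := by
      show (![.o, .z, .z] : F43) + Bx x (0 : F43) = _
      rw [h5, add_zero]
    have h8 : (scm γ (up (Bx x) ((![.o, .z, .z] : F43), (0 : F43)))).1 0 = γ * .o := by
      show (sc γ (up (Bx x) ((![.o, .z, .z] : F43), (0 : F43))).1) 0 = _
      rw [h7]
      rfl
    have h9 : γ * .o = .o := h8.symm.trans h4.symm
    exact (mul_one γ).symm.trans h9
  intro q hq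
  rw [hγ q hq, h6, scm_one]

theorem exists_vcoord (h0 : ∀ q ∈ H.Q, q ∈ H.E hex0 ↔ (K.co q).2 = 0)
    (h1 : ∀ q ∈ H.Q, q ∈ H.E hex1 ↔ (K.co q).1 = 0) (hom : K.om = .w) : Nonempty (VCoord H) := by
  choose v hv hco using fun (a c : F43) => K.co_surj (a, c)
  refine ⟨{
    v := v
    v_mem := hv
    v_add := ?_
    v_inj := ?_
    v_sq := ?_
    v_rho := ?_
    v_E0 := fun a => (h0 _ (hv a 0)).2 (by rw [hco])
    v_E1 := fun c => (h1 _ (hv 0 c)).2 (by rw [hco])
    act := ?_ }⟩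
  · intro a c a' c'
    apply eq_of_co K (hv _ _) (H.Q.mul_mem (hv _ _) (hv _ _))
    rw [K.co_mul _ (hv _ _) _ (hv _ _), hco, hco, hco]
    rfl
  · intro a c h
    have h2 : K.co (v a c) = 0 := by
      rcases h with h | h
      · rw [h, co_one]
      · rw [h, K.co_z]
    rw [hco] at h2
    exact ⟨congrArg Prod.fst h2, congrArg Prod.snd h2⟩
  · intro a c
    have h2 := K.co_sq _ (hv a c)
    rw [hco] at h2
    rcases H.Q_sq _ (hv a c) with h3 | h3
    · rw [h2.1 h3, h3]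
      exact (pow_zero _).symm
    · have h4 : tr (hp3 a c) ≠ 0 := by
        intro h5
        rw [h2.2 h5] at h3
        exact z_ne H h3.symm
      have h5 : tr (hp3 a c) = 1 := by
        have : ∀ x : ZMod 2, x ≠ 0 → x = 1 := by decide
        exact this _ h4
      rw [h5, h3]
      exact (pow_one _).symm
  · intro a c
    have h2 : H.ρ * v a c * H.ρ⁻¹ ∈ H.Q := H.Q_conj _ H.ρ_comm _ (hv a c)
    apply eq_of_co K h2 (hv _ _)
    rw [K.co_rho _ (hv a c), hco, hco, hom]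
    rfl
  · intro f hf _ i j hij hP c
    obtain ⟨x, hx, hact⟩ := act_aux H K h0 f hf
    rw [← hx] at hP
    have h2 := Bx_eq hij hP c
    rw [← h2]
    apply eq_of_co K (H.Q_conj _ (comm_z f) _ (hv 0 c)) (hv _ _)
    rw [hact _ (hv 0 c), hco, hco]
    show ((0 : F43) + Bx x c, c) = _
    rw [zero_add]

end Main

end Cfsg.Agent.J4Type.VCoordOf
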