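import Cfsg.Agent.J4Type.HexCoord
import Cfsg.Agent.J4Type.VCoordOf
import Cfsg.Agent.J4Type.CoordRels
import Cfsg.Agent.J4Type.IsPOf
import Cfsg.Agent.J4Type.POuter

/-!
# Part (a) of R07 complete: `Hex` with `VCoord` from the hypotheses of S1646 / S1670
-/

set_option autoImplicit false

namespace Cfsg.Agent.J4Type.ExistsHex

open Cfsg

theorem exists_hex {G : Type*} [Group G] [Finite G] {t : G}
    {Q N M : Subgroup (Subgroup.centralizer ({t} : Set G))} (H : Hyp t Q N M) :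
    ∃ K : Hex G, K.z = t ∧ Nonempty (VCoord K) := by
  obtain ⟨P, hP⟩ := H.exists_isP
  obtain ⟨r, hr, hrQ, hr3, K, -⟩ := CoordRels.exists_w H hP
  obtain ⟨H', K', hz, -, hom, h0, h1⟩ := HexCoord.exists_hex K (H.P_outer' hP hr hrQ hr3)
  exact ⟨H', hz, VCoordOf.exists_vcoord H' K' h0 h1 hom⟩

end Cfsg.Agent.J4Type.ExistsHex
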