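import Cfsg.Agent.GolayOrbit.Hexads
import Cfsg.Agent.SporadicA.OctadFix

/-!
# The pointwise stabiliser `2^4` of an octad `O` in `M24` and the action on it of the stabiliser of
`O` and two of its points

`pair_trans`: the stabiliser in `M24` of `O`, `none ∈ O`, `some 0 ∈ O` is 2-transitive on the 16
points outside `O`.  `fix_conj`: it is transitive on the 15 involutions fixing `O` pointwise.
-/

set_option autoImplicit false

namespace Cfsg.Agent.J4Type.OctadFixTrans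

open Cfsg Cfsg.Agent.GolayOrbit.Basic Cfsg.Agent.GolayOrbit.Code Cfsg.Agent.GolayOrbit.Walk
  Cfsg.Agent.GolayOrbit.Cover Cfsg.Agent.GolayOrbit.Flags Cfsg.Agent.GolayOrbit.Hexads
open Cfsg.Agent.SporadicA.OctadFix
open scoped Pointwise

/-- Boolean test: two different positions outside the standard octad. -/
def outOut (i j : ℕ) : Bool :=
  cond (bitAt O₀ i) false (cond (bitAt O₀ j) false (cond (Nat.beq i j) false true))

def walkOut : List ℕ :=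
  [0, 0, 0, 1, 2, 3, 2, 1, 1, 0, 3, 2, 3, 3, 2, 3, 2, 1, 0, 1, 1, 0, 1, 1, 2, 2, 1, 0, 3, 0,
    3, 3, 0, 0, 0, 3, 0, 0, 3, 2, 3, 0, 1, 0, 0, 1, 2, 1, 1, 0, 0, 3, 3, 0, 1, 2, 1, 2, 1, 1,
    2, 2, 3, 2, 3, 2, 1, 1, 1, 1, 1, 2, 1, 1, 2, 2, 1, 2, 1, 2, 2, 1, 0, 1, 2, 1, 2, 3, 0, 0,
    3, 3, 3, 0, 3, 0, 1, 1, 1, 1, 2, 2, 2, 1, 0, 3, 0, 3, 3, 0, 3, 0, 3, 3, 3, 2, 3, 3, 3, 3,
    2, 2, 1, 2, 1, 1, 1, 1, 0, 1, 1, 0, 1, 2, 1, 2, 3, 0, 1, 2, 2, 3, 3, 3, 3, 2, 1, 0, 3, 2,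
    1, 0, 3, 2, 2, 2, 1, 2, 1, 1, 2, 1, 0, 1, 2, 3, 2, 3, 3, 2, 2, 2, 2, 1, 0, 3, 3, 2, 3, 2,
    2, 3, 3, 2, 1, 2, 3, 3, 2, 1, 0, 1, 0, 1, 0, 1, 2, 3, 2, 2, 3, 3, 3, 3, 1, 0, 3, 3, 2, 1,
    1, 2, 3, 2, 1, 2, 0, 3, 2, 1, 0, 1, 1, 1, 2, 1, 1, 2, 1, 0, 1, 1, 1, 2, 3, 3, 2, 0, 0, 3,
    0, 2, 2, 3, 0, 2, 2, 1, 0, 3, 2, 2, 3, 3, 0, 3, 3, 0, 3, 2, 1, 0, 3, 0, 0, 1, 3, 0, 1, 2,
    2]

theorem walkOut_covers :
    covers [1, 2, O₀] gensH 2 key2 walkOut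
      (2 ^ pos (some 5 : GolayPt) + 16777216 * 2 ^ pos (some 6 : GolayPt)) (pairList outOut) = true := by
  decide +kernel

theorem pair_trans₁ {p q : GolayPt} (hp : p ∉ ofMask O₀) (hq : q ∉ ofMask O₀) (hpq : p ≠ q) :
    ∃ g ∈ M24, g p₀ = p₀ ∧ g q₀ = q₀ ∧ g • ofMask O₀ = ofMask O₀ ∧ g (some 5) = p ∧
      g (some 6) = q := by
  have h3 : Nat.beq (pos p) (pos q) = false := by
    rcases h : Nat.beq (pos p) (pos q) with _ | _
    · rfl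
    · exact absurd (pos_injective (Nat.eq_of_beq_eq_true h)) hpq
  have h4 : outOut (pos p) (pos q) = true := by
    unfold outOut
    rw [bitAt_false_iff.mpr hp, bitAt_false_iff.mpr hq, h3]
    rfl
  obtain ⟨g, hg, hg1, hg2⟩ := exists_of_covers_pair walkOut_covers (mem_pairList h4)
  obtain ⟨hgM, hgf⟩ := mem_fixing.mp hg
  refine ⟨g, hgM, ?_, ?_, ?_, hg1, hg2⟩
  · have h1 := hgf (2 ^ pos p₀) (by simp [show pos p₀ = 0 from rfl])
    rw [ofMask_two_pow_pos] at h1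
    exact smul_singleton_eq h1
  · have h1 := hgf (2 ^ pos q₀) (by simp [show pos q₀ = 1 from rfl])
    rw [ofMask_two_pow_pos] at h1
    exact smul_singleton_eq h1
  · exact hgf O₀ (by simp)

theorem pair_trans₀ {p q p' q' : GolayPt} (hp : p ∉ ofMask O₀) (hq : q ∉ ofMask O₀) (hpq : p ≠ q)
    (hp' : p' ∉ ofMask O₀) (hq' : q' ∉ ofMask O₀) (hpq' : p' ≠ q') :
    ∃ g ∈ M24, g p₀ = p₀ ∧ g q₀ = q₀ ∧ g • ofMask O₀ = ofMask O₀ ∧ g p = p' ∧ g q = q' := by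
  obtain ⟨a, ha, a1, a2, a3, a4, a5⟩ := pair_trans₁ hp hq hpq
  obtain ⟨b, hb, b1, b2, b3, b4, b5⟩ := pair_trans₁ hp' hq' hpq'
  refine ⟨b * a⁻¹, M24.mul_mem hb (M24.inv_mem ha), ?_, ?_, ?_, ?_, ?_⟩
  · rw [Equiv.Perm.mul_apply, show a⁻¹ p₀ = p₀ by rw [Equiv.Perm.inv_eq_iff_eq, a1], b1]
  · rw [Equiv.Perm.mul_apply, show a⁻¹ q₀ = q₀ by rw [Equiv.Perm.inv_eq_iff_eq, a2], b2]
  · rw [mul_smul, show a⁻¹ • ofMask O₀ = ofMask O₀ by rw [inv_smul_eq_iff, a3], b3]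
  · rw [Equiv.Perm.mul_apply, show a⁻¹ p = some 5 by rw [Equiv.Perm.inv_eq_iff_eq, a4], b4]
  · rw [Equiv.Perm.mul_apply, show a⁻¹ q = some 6 by rw [Equiv.Perm.inv_eq_iff_eq, a5], b5]

/-- The stabiliser in `M24` of an octad and of two points `x ≠ y` of it is 2-transitive on the 16
points outside the octad. -/
theorem pair_trans {O : Finset GolayPt} (hO : O ∈ octads) {x y : GolayPt} (hx : x ∈ O) (hy : y ∈ O)
    (hxy : x ≠ y) {p q p' q' : GolayPt} (hp : p ∉ O) (hq : q ∉ O) (hpq : p ≠ q)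
    (hp' : p' ∉ O) (hq' : q' ∉ O) (hpq' : p' ≠ q') :
    ∃ g ∈ M24, g x = x ∧ g y = y ∧ g • O = O ∧ g p = p' ∧ g q = q' := by
  obtain ⟨k, hk, hkO, hk1, hk2⟩ := flagIn hO hx hy hxy
  have hout : ∀ p, p ∉ O → k⁻¹ p ∉ ofMask O₀ := by
    intro p hp h
    apply hp
    rw [← hkO]
    exact Finset.inv_smul_mem_iff.mp h
  have hinj : ∀ p q : GolayPt, p ≠ q → k⁻¹ p ≠ k⁻¹ q := fun p q h h' => h (k⁻¹.injective h')
  obtain ⟨g, hg, g1, g2, g3, g4, g5⟩ := pair_trans₀ (hout p hp) (hout q hq) (hinj _ _ hpq)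
    (hout p' hp') (hout q' hq') (hinj _ _ hpq')
  refine ⟨k * g * k⁻¹, M24.mul_mem (M24.mul_mem hk hg) (M24.inv_mem hk), ?_, ?_, ?_, ?_, ?_⟩
  · rw [Equiv.Perm.mul_apply, Equiv.Perm.mul_apply,
      show k⁻¹ x = p₀ by rw [Equiv.Perm.inv_eq_iff_eq, hk1], g1, hk1]
  · rw [Equiv.Perm.mul_apply, Equiv.Perm.mul_apply,
      show k⁻¹ y = q₀ by rw [Equiv.Perm.inv_eq_iff_eq, hk2], g2, hk2]
  · rw [mul_smul, mul_smul, show k⁻¹ • O = ofMask O₀ by rw [inv_smul_eq_iff, hkO], g3, hkO]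
  · rw [Equiv.Perm.mul_apply, Equiv.Perm.mul_apply, g4]
    exact smul_inv_smul k p'
  · rw [Equiv.Perm.mul_apply, Equiv.Perm.mul_apply, g5]
    exact smul_inv_smul k q'

/-- An element of `M24` that fixes an octad pointwise and a further point is trivial. -/
theorem eq_one_of_fix {O : Finset GolayPt} (hO : O ∈ octads) {g : Equiv.Perm GolayPt}
    (hg : g ∈ fixOct O) {p : GolayPt} (hp : p ∉ O) (hgp : g p = p) : g = 1 := by
  obtain ⟨k, -, hk⟩ := existsUnique_fixOct hO hp hp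
  rw [hk g ⟨hg, hgp⟩, hk 1 ⟨(fixOct O).one_mem, rfl⟩]

theorem exists_not_mem {O : Finset GolayPt} (hO : O ∈ octads) : ∃ p : GolayPt, p ∉ O := by
  by_contra h
  push Not at h
  have h1 : O = Finset.univ := Finset.eq_univ_iff_forall.2 h
  have h2 : O.card = 8 := hO.2
  rw [h1, Finset.card_univ] at h2
  have h3 : Fintype.card GolayPt = 24 := by decide +kernel
  omega

/-- The pointwise stabilisers of two different octads meet trivially. -/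
theorem fix_inf {O O' : Finset GolayPt} (hO : O ∈ octads) (hO' : O' ∈ octads) (hne : O ≠ O')
    {g : Equiv.Perm GolayPt} (hg : g ∈ fixOct O) (hg' : g ∈ fixOct O') : g = 1 := by
  have : ∃ p ∈ O', p ∉ O := by
    by_contra h
    push Not at h
    exact hne (Finset.eq_of_subset_of_card_le h (le_of_eq (by rw [hO.2, hO'.2]))).symm
  obtain ⟨p, hp', hp⟩ := this
  exact eq_one_of_fix hO hg hp ((mem_fixOct.1 hg').2 p hp')

/-- The stabiliser in `M24` of an octad `O` and of two of its points is transitive on the 15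
involutions fixing `O` pointwise. -/
theorem fix_conj {O : Finset GolayPt} (hO : O ∈ octads) {x y : GolayPt} (hx : x ∈ O) (hy : y ∈ O)
    (hxy : x ≠ y) {g g' : Equiv.Perm GolayPt} (hg : g ∈ fixOct O) (hg' : g' ∈ fixOct O)
    (h1 : g ≠ 1) (h1' : g' ≠ 1) :
    ∃ k ∈ M24, k x = x ∧ k y = y ∧ k • O = O ∧ k * g * k⁻¹ = g' := by
  obtain ⟨p, hp⟩ := exists_not_mem hO
  have hmove : ∀ g ∈ fixOct O, g ≠ 1 → g p ∉ O ∧ p ≠ g p := by
    intro g hg h1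
    refine ⟨fun h => ?_, fun h => h1 (eq_one_of_fix hO hg hp h.symm)⟩
    have h2 := (mem_fixOct.1 hg).2 _ h
    exact hp ((g.injective h2) ▸ h)
  obtain ⟨a1, a2⟩ := hmove g hg h1
  obtain ⟨b1, b2⟩ := hmove g' hg' h1'
  obtain ⟨k, hk, k1, k2, k3, k4, k5⟩ := pair_trans hO hx hy hxy hp a1 a2 hp b1 b2
  refine ⟨k, hk, k1, k2, k3, ?_⟩
  obtain ⟨u, -, hu⟩ := existsUnique_fixOct hO hp b1
  have h2 : k * g * k⁻¹ ∈ fixOct O := by
    have := (conj_mem_fixOct (o := O) hk).2 hg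
    rwa [k3] at this
  have h3 : (k * g * k⁻¹) p = g' p := by
    rw [Equiv.Perm.mul_apply, Equiv.Perm.mul_apply,
      show k⁻¹ p = p by rw [Equiv.Perm.inv_eq_iff_eq, k4], k5]
  rw [hu _ ⟨h2, h3⟩, hu g' ⟨hg', rfl⟩]

end Cfsg.Agent.J4Type.OctadFixTrans
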