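import Cfsg.Agent.J4Type.Conj

/-!
# R07 (J₄ type): level 5 of the interface, the involutions `t T` indexed by the trios

Output of part (e); input of parts (f) and (h).
-/

set_option autoImplicit false

open scoped Pointwise

namespace Cfsg.Agent.J4Type

open Cfsg

/-- the sextet (or any family of sets) `S` refines the trio `T` -/
def Refines (S T : Finset (Finset GolayPt)) : Prop := ∀ X ∈ S, ∃ O ∈ T, X ⊆ O

/-- the base trio, refined by `S0`: columns `01 | 23 | 45` -/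
def TM : Finset (Finset GolayPt) := {tet 0 ∪ tet 1, tet 2 ∪ tet 3, tet 4 ∪ tet 5}

/-- the trio of columns `04 | 13 | 25` -/
def TM' : Finset (Finset GolayPt) := {tet 0 ∪ tet 4, tet 1 ∪ tet 3, tet 2 ∪ tet 5}

/-- the trio of columns `02 | 15 | 34` -/
def TM'' : Finset (Finset GolayPt) := {tet 0 ∪ tet 2, tet 1 ∪ tet 5, tet 3 ∪ tet 4}

/-- Output of part (e).  `t T` is only meaningful for trios `T`. -/
structure Tau (G : Type*) [Group G] extends Compl G where
  t : Finset (Finset GolayPt) → G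
  t_sq : ∀ T ∈ trios, t T * t T = 1
  t_conj : ∀ T ∈ trios, ∀ g : M24, φ g * t T * (φ g)⁻¹ = t ((g : Equiv.Perm GolayPt) • T)
  /-- three trios through an octad, refined by the same sextet -/
  rel1 : ∀ T₁ ∈ trios, ∀ T₂ ∈ trios, ∀ T₃ ∈ trios, T₁ ≠ T₂ → T₁ ≠ T₃ → T₂ ≠ T₃ →
    ∀ S ∈ sextets, Refines S T₁ → Refines S T₂ → Refines S T₃ →
    ∀ O, O ∈ T₁ → O ∈ T₂ → O ∈ T₃ → t T₁ * t T₂ * t T₃ = 1
  /-- for the trios refined by `S0`, `t T` is an element of `C_{E(hex1)}(ρ)` outside `Q` -/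
  t_hex1 : ∀ T ∈ trios, Refines S0 T → t T ∈ E hex1 ∧ t T * ρ = ρ * t T ∧ t T ∉ Q
  /-- all elements of `C_{E(hex1)}(ρ)` -/
  t_exh : ∀ a ∈ E hex1, a * ρ = ρ * a →
    a = 1 ∨ a = z ∨ ∃ T ∈ trios, Refines S0 T ∧ (a = t T ∨ a = t T * z)
  /-- an explicit product (`t TM * t TM' * t TM'' = z`) -/
  z_prod : t TM * t TM' * t TM'' = z
  /-- `t T` is conjugate to `z`, `t T * z` is not (for `T` refined by `S0`) -/
  t_isConj : ∀ T ∈ trios, IsConj z (t T)
  tz_not_isConj : ∀ T ∈ trios, Refines S0 T → ¬ IsConj z (t T * z)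
  /-- `C_E(t T)` is the group of order 8 consisting of `1` and the seven sextets refining `T` -/
  t_cent : ∀ T ∈ trios, ∀ S : Finset GolayPt, Even S.card →
    (ε S * t T = t T * ε S ↔ ε S = 1 ∨ ∃ Y ∈ sextets, Refines Y T ∧ ∃ X ∈ Y, ε S = ε X)

end Cfsg.Agent.J4Type
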