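import Cfsg.Agent.J4Type.FinalEmb
import Cfsg.Agent.J4Type.Tau
import Cfsg.Agent.J4Type.OctadFixTrans
import Cfsg.Agent.SporadicStructure.M24El

/-!
# From the structure `Tau` to `TauFam`
-/

set_option autoImplicit false

open Cfsg
open scoped Pointwise

namespace Cfsg.Agent.J4Type.FinalTau

open Cfsg.Agent.J4.M24Pres Cfsg.Agent.J4.M24Hom Cfsg.Agent.SporadicA
open Cfsg.Agent.SporadicA.GolayPerm Cfsg.Agent.SporadicStructure.M24El
open Cfsg.Agent.J4Type.FinalRel

/-! ### The sextet of the first relator -/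

/-- check that a list of masks is a sextet -/
def sxOk (l : List ℕ) : Bool :=
  Nat.beq l.length 6 && l.all (fun a => Nat.blt a (2 ^ 24) && Nat.beq (GolayBase.popcount a) 4) &&
    (l.all fun a => l.all fun b => Nat.beq a b ||
      (GolayBase.isCode (a ||| b) && Nat.beq (GolayBase.popcount (a ||| b)) 8))

/-- the tetrads of the common sextet of `A1`, `A2`, `A3` -/
def lA : List ℕ := [8716289, 650, 2129956, 524624, 1059840, 4345856]

def SA : Finset (Finset GolayPt) := (lA.map GolayBase.fin).toFinset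

theorem SA_mem : SA ∈ sextets := by
  have hok : sxOk lA = true := by decide +kernel
  simp only [sxOk, Bool.and_eq_true, List.all_eq_true, Nat.beq_eq, Bool.or_eq_true,
    Nat.blt_eq] at hok
  refine ⟨by decide +kernel, ?_, ?_⟩
  · intro t ht
    rw [SA, List.mem_toFinset, List.mem_map] at ht
    obtain ⟨a, ha, rfl⟩ := ht
    rw [GolayBase.card_eq_popcount, GolayBase.maskOf_fin (hok.1.2 a ha).1]
    exact (hok.1.2 a ha).2
  · intro t ht u hu htu
    rw [SA, List.mem_toFinset, List.mem_map] at ht hu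
    obtain ⟨a, ha, rfl⟩ := ht
    obtain ⟨b, hb, rfl⟩ := hu
    rw [← GolayBase.fin_or, GolayBase.fin_mem_octads_iff
      (Nat.or_lt_two_pow (hok.1.2 a ha).1 (hok.1.2 b hb).1)]
    rcases hok.2 a ha b hb with h | h
    · exact absurd (by rw [h]) htu
    · exact h

/-- check of the refinement -/
def refOk (l m : List ℕ) : Bool := l.all fun a => m.any fun b => Nat.beq (a &&& b) a

theorem refines_of {l m : List ℕ} {S T : Finset (Finset GolayPt)}
    (hS : S = (l.map GolayBase.fin).toFinset) (hT : T = (m.map GolayBase.fin).toFinset)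
    (h : refOk l m = true) : Refines S T := by
  subst hS hT
  intro X hX
  rw [List.mem_toFinset, List.mem_map] at hX
  obtain ⟨a, ha, rfl⟩ := hX
  rw [refOk, List.all_eq_true] at h
  have h1 := h a ha
  rw [List.any_eq_true] at h1
  obtain ⟨b, hb, hab⟩ := h1
  rw [Nat.beq_eq] at hab
  refine ⟨GolayBase.fin b, List.mem_toFinset.2 (List.mem_map.2 ⟨b, hb, rfl⟩), ?_⟩
  intro x hx
  rw [GolayBase.mem_fin] at hx ⊢
  rw [← hab, Nat.testBit_and, Bool.and_eq_true] at hx
  exact hx.2

theorem refA1 : Refines SA A1 :=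
  refines_of rfl (m := [525274, 3189796, 13062145]) (by decide +kernel) (by decide +kernel)
theorem refA2 : Refines SA A2 :=
  refines_of rfl (m := [10846245, 525274, 5405696]) (by decide +kernel) (by decide +kernel)
theorem refA3 : Refines SA A3 :=
  refines_of rfl (m := [525274, 9776129, 6475812]) (by decide +kernel) (by decide +kernel)

theorem ne_A : A1 ≠ A2 ∧ A1 ≠ A3 ∧ A2 ≠ A3 := by decide +kernel

theorem oct_A : gset [1, 3, 4, 6, 7, 8, 9, 19] ∈ A1 ∧ gset [1, 3, 4, 6, 7, 8, 9, 19] ∈ A2 ∧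
    gset [1, 3, 4, 6, 7, 8, 9, 19] ∈ A3 := by decide +kernel

/-! ### The element moving `TM, TM', TM''` to `B1, B2, B3` -/

/-- table of `gB` -/
def tabB : List ℕ := [6, 11, 22, 12, 1, 23, 5, 15, 16, 8, 18, 20, 17, 9, 13, 14, 3, 19, 4, 21, 10, 7, 2, 0]
def tabBi : List ℕ := [23, 4, 22, 16, 18, 6, 0, 21, 9, 13, 20, 1, 3, 14, 15, 7, 8, 12, 10, 17, 11, 19, 2, 5]

def gBp : Equiv.Perm GolayPt where
  toFun := fn tabB
  invFun := fn tabBi
  left_inv := by decide +kernel
  right_inv := by decide +kernel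

theorem gBp_mem : gBp ∈ M24 :=
  GolayWalk.mem_M24_of_table gBp tabB rfl (by decide +kernel) (by decide +kernel)

def gB : M24 := ⟨gBp, gBp_mem⟩

theorem gB_TM : (gB : Equiv.Perm GolayPt) • TM = B1 := by
  change gBp • TM = B1
  decide +kernel
theorem gB_TM' : (gB : Equiv.Perm GolayPt) • TM' = B2 := by
  change gBp • TM' = B2
  decide +kernel
theorem gB_TM'' : (gB : Equiv.Perm GolayPt) • TM'' = B3 := by
  change gBp • TM'' = B3
  decide +kernel
theorem gB_tet : (gB : Equiv.Perm GolayPt) • tet 0 = tetB := by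
  change gBp • tet 0 = tetB
  decide +kernel

theorem inv_smul_mem {T U : Finset (Finset GolayPt)} {g : M24} (hU : U ∈ trios)
    (h : (g : Equiv.Perm GolayPt) • T = U) : T ∈ trios := by
  have h1 : T = (g⁻¹ : Equiv.Perm GolayPt) • U := by rw [← h, inv_smul_smul]
  rw [h1]
  exact SporadicStructure.TrioInv.smul_mem_trios (M24.inv_mem g.2) hU

theorem TM_mem : TM ∈ trios := inv_smul_mem B1_mem gB_TM
theorem TM'_mem : TM' ∈ trios := inv_smul_mem B2_mem gB_TM'
theorem TM''_mem : TM'' ∈ trios := inv_smul_mem B3_mem gB_TM''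

theorem refTM : Refines S0 TM := by
  intro X hX
  rw [S0, Finset.mem_image] at hX
  obtain ⟨i, -, rfl⟩ := hX
  fin_cases i
  · exact ⟨tet 0 ∪ tet 1, by simp [TM], Finset.subset_union_left⟩
  · exact ⟨tet 0 ∪ tet 1, by simp [TM], Finset.subset_union_right⟩
  · exact ⟨tet 2 ∪ tet 3, by simp [TM], Finset.subset_union_left⟩
  · exact ⟨tet 2 ∪ tet 3, by simp [TM], Finset.subset_union_right⟩
  · exact ⟨tet 4 ∪ tet 5, by simp [TM], Finset.subset_union_left⟩
  · exact ⟨tet 4 ∪ tet 5, by simp [TM], Finset.subset_union_right⟩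

/-! ### Nontrivial elements fixing `hex1` pointwise move `hex0` -/

/-- the elements fixing `hex1` pointwise, with the image of the point 1 -/
def tabH : List (ℕ × ℕ) := [(2, 965022493459746283130018686207886400),
  (4, 977881343727247884959580225012865152), (5, 963968006107452061485105465707840672),
  (6, 962263927365024076866113962913140928), (7, 958450755090271637751347090883205344),
  (9, 980315668202993199018439250323548448), (10, 976339721766278215343299373525214528),
  (11, 972567074602356114314004365543846240), (12, 983560219871965054030433640375233920),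
  (13, 969768617445755094729390061845075360), (16, 969078421380547773686168827279298048),
  (17, 961249846278898572718642977709332000), (19, 967293529413069530494244719728640608),
  (21, 971025651370656697506717674321852064), (22, 957193206004601622455553314759220928)]

def rowH (r : ℕ × ℕ) : Bool :=
  ok r.2 && ([0, 3, 8, 14, 15, 18, 20, 23].all fun i => Nat.beq (papp r.2 i) i) &&
    Nat.beq (papp r.2 1) r.1 && !(Nat.beq (pimg r.2 8391797) 8391797) &&
    Nat.blt (pimg r.2 8391797) (2 ^ 24)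

theorem tabH_ok : tabH.all rowH = true := by decide +kernel

theorem hex0_fin : hex0 = GolayBase.fin 8391797 := by decide +kernel

theorem hex1_list : ∀ p ∈ hex1, GolayBase.idx p ∈ [0, 3, 8, 14, 15, 18, 20, 23] := by decide +kernel

theorem tabH_full : ∀ p : GolayPt, p ∉ hex1 → p ≠ some 1 →
    (tabH.any fun r => Nat.beq r.1 (GolayBase.idx p)) = true := by decide +kernel

theorem move_of_fix {g : Equiv.Perm GolayPt} (hg : g ∈ M24) (hfix : ∀ p ∈ hex1, g p = p)
    (hne : g ≠ 1) : g • hex0 ≠ hex0 := by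
  have hO := HexMax.hex1_isHex.1
  have hgf : g ∈ OctadFix.fixOct hex1 := OctadFix.mem_fixOct.2 ⟨hg, hfix⟩
  have h1 : (some 1 : GolayPt) ∉ hex1 := by decide +kernel
  have hout : g (some 1) ∉ hex1 := by
    intro h
    have h2 := hfix _ h
    exact h1 (g.injective h2 ▸ h)
  have hne1 : g (some 1) ≠ some 1 := fun h =>
    hne (OctadFixTrans.eq_one_of_fix hO hgf h1 h)
  have h3 := tabH_full _ hout hne1
  rw [List.any_eq_true] at h3
  obtain ⟨r, hr, hrq⟩ := h3
  rw [Nat.beq_eq] at hrq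
  have h4 := tabH_ok
  rw [List.all_eq_true] at h4
  have h5 := h4 r hr
  simp only [rowH, Bool.and_eq_true, List.all_eq_true, Nat.beq_eq, Bool.not_eq_true',
    Nat.blt_eq] at h5
  obtain ⟨⟨⟨⟨hok, hfx⟩, h1r⟩, himg⟩, hlt⟩ := h5
  have helf : (el r.2 : Equiv.Perm GolayPt) ∈ OctadFix.fixOct hex1 := by
    refine OctadFix.mem_fixOct.2 ⟨(el r.2).2, fun p hp => ?_⟩
    have h6 := el_smul_pt hok p
    rw [hfx _ (hex1_list p hp), GolayBase.pt_idx] at h6
    exact h6
  have hel1 : (el r.2 : Equiv.Perm GolayPt) (some 1) = g (some 1) := by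
    have h6 := el_smul_pt hok (some 1)
    have h7 : GolayBase.idx (some 1) = 1 := by decide +kernel
    rw [h7, h1r, hrq, GolayBase.pt_idx] at h6
    exact h6
  have hgel : g = (el r.2 : Equiv.Perm GolayPt) := by
    have h6 : (el r.2 : Equiv.Perm GolayPt)⁻¹ * g = 1 :=
      OctadFixTrans.eq_one_of_fix hO ((OctadFix.fixOct hex1).mul_mem
        ((OctadFix.fixOct hex1).inv_mem helf) hgf) h1 (by
        rw [Equiv.Perm.mul_apply, ← hel1]; simp)
    exact (inv_mul_eq_one.1 h6).symm
  rw [hgel]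
  intro h
  have h7 := el_smul_fin hok 8391797
  rw [coe_smul_finset, ← hex0_fin, h] at h7
  have h8 := congrArg GolayBase.maskOf h7
  rw [hex0_fin, GolayBase.maskOf_fin (by norm_num), GolayBase.maskOf_fin hlt] at h8
  rw [← h8, Nat.beq_refl] at himg
  exact absurd himg (by decide)

/-! ### `Tau` gives `TauFam` -/

variable {G : Type*} [Group G]

theorem Tau.fam (T : Tau G) : Fam T.φ T.t := ⟨T.t_sq, fun g U hU => T.t_conj U hU g⟩

theorem Tau.tauFam (T : Tau G)
    (r2 : (((T.φ YM * T.φ XM * T.φ YM * T.φ XM * T.φ YM * T.φ XM * T.φ YM) ^ 3) * T.t T0 *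
      ((((T.φ XM * T.φ YM) ^ 3) * T.φ YM * ((T.φ XM * T.φ YM) ^ 6) * T.φ YM)⁻¹ * T.t T0 *
      (((T.φ XM * T.φ YM) ^ 3) * T.φ YM * ((T.φ XM * T.φ YM) ^ 6) * T.φ YM))) ^ 2 = 1) :
    FinalEmb.TauFam T.toCompl T.t where
  fam := Tau.fam T
  r1 := T.rel1 A1 A1_mem A2 A2_mem A3 A3_mem ne_A.1 ne_A.2.1 ne_A.2.2 SA SA_mem refA1 refA2 refA3
    _ oct_A.1 oct_A.2.1 oct_A.2.2
  r2 := r2
  prodB := by
    have h1 := T.t_conj TM TM_mem gB
    have h2 := T.t_conj TM' TM'_mem gB
    have h3 := T.t_conj TM'' TM''_mem gB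
    rw [gB_TM] at h1
    rw [gB_TM'] at h2
    rw [gB_TM''] at h3
    have h4 := FinalGen.Compl.conj_ε T.toCompl gB (S := tet 0)
      (by rw [FinalGen.tet_card]; decide)
    rw [gB_tet, T.ε_tet 0, ← T.z_prod] at h4
    rw [← h1, ← h2, ← h3, ← h4]
    simp only [mul_assoc, inv_mul_cancel_left]
  move := by
    obtain ⟨h1, h2, h3⟩ := T.t_hex1 TM TM_mem refTM
    have hc : T.t TM ∈ Subgroup.centralizer ({T.z} : Set G) := by
      rw [Subgroup.mem_centralizer_singleton_iff]
      exact (T.E_elem hex1 HexMax.hex1_isHex).2 _ h1 _ (T.z_mem_E hex1 HexMax.hex1_isHex)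
    refine ⟨⟨T.t TM, hc⟩, TM, TM_mem, rfl, ?_⟩
    obtain ⟨hM, hfix⟩ := (T.E_map hex1 HexMax.hex1_isHex (T.P ⟨T.t TM, hc⟩)).1
      ⟨⟨T.t TM, hc⟩, h1, rfl⟩
    apply move_of_fix hM hfix
    intro hP
    obtain ⟨q, hq, i, hi⟩ := (T.P_ker _).1 hP
    apply h3
    change T.t TM = q * T.ρ ^ i at hi
    have hsq := T.t_sq TM TM_mem
    -- `t TM` is a 2-element of `Q ⟨ρ⟩` commuting with `ρ`
    have hcomm : q * T.ρ = T.ρ * q := by
      have h4 : q = T.t TM * (T.ρ ^ i)⁻¹ := by rw [hi, mul_inv_cancel_right]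
      have h5 : Commute (T.t TM) T.ρ := h2
      have h6 : Commute (T.ρ ^ i)⁻¹ T.ρ := ((Commute.refl T.ρ).pow_left i).inv_left
      rw [h4]
      exact h5.mul_left h6
    have hq2 : q * q = 1 := by
      rcases T.ρ_fix q hq hcomm.symm with rfl | rfl
      · exact one_mul 1
      · have := T.z_order
        rw [orderOf_eq_iff (by norm_num)] at this
        rw [← pow_two]; exact this.1
    have h7 : T.ρ ^ (2 * i) = 1 := by
      have h8 : Commute q (T.ρ ^ i) := Commute.pow_right hcomm i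
      have h9 : (q * T.ρ ^ i) * (q * T.ρ ^ i) = (q * q) * (T.ρ ^ i * T.ρ ^ i) :=
        h8.symm.mul_mul_mul_comm q (T.ρ ^ i)
      rw [← hi, hsq, hq2, one_mul, ← pow_add] at h9
      rw [two_mul]; exact h9.symm
    have h10 : 3 ∣ 2 * i := by
      rw [← T.ρ_order]; exact orderOf_dvd_of_pow_eq_one h7
    have h11 : 3 ∣ i := (Nat.Coprime.dvd_mul_left (by norm_num : Nat.Coprime 3 2)).1 h10
    have h12 : T.ρ ^ i = 1 := by
      rw [← T.ρ_order] at h11
      exact orderOf_dvd_iff_pow_eq_one.1 h11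
    rw [hi, h12, mul_one]
    exact hq

end Cfsg.Agent.J4Type.FinalTau
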