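import Cfsg.Prelude.Def_Sporadic
import Cfsg.Agent.J4Type.FinalTau
import Cfsg.Agent.J4Type.ClosingJ4

/-!
# R07 (J₄ type), part (h): the isomorphism with the presented group
-/

set_option autoImplicit false

open Cfsg
open scoped Pointwise

namespace Cfsg.Agent.J4Type.Final

open Cfsg.Agent.J4.M24Pres Cfsg.Agent.J4.M24Hom Cfsg.Agent.SporadicA
open Cfsg.Agent.J4Type.FinalRel Cfsg.Agent.J4Type.FinalEmb Cfsg.Agent.J4Type.CloseInst
open Cfsg.Agent.J4 (Invol.EJ Invol.s Invol.d)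

/-! ### Facts on the presented group -/

section Pres

variable (hJ : Cfsg.IsJ4 Cfsg.Spor.J4)

include hJ

theorem finite_J4 : Finite Cfsg.Spor.J4 :=
  Nat.finite_of_card_ne_zero (by rw [hJ.2]; norm_num)

theorem rho_injective : Function.Injective Cfsg.Agent.J4.Rep112.rho := by
  have := hJ.1
  exact FinalHom.injective_of_simple Cfsg.Agent.J4.Rep112.rho (a := Cfsg.Agent.J4.Rep112.x)
    Cfsg.Agent.J4.Lower.xg_ne

theorem not_two_pow : ¬ 2 ^ 22 ∣ Nat.card Cfsg.Agent.J4.Rep112.rho.range := by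
  have := finite_J4 hJ
  intro h
  have h1 := h.trans (Subgroup.card_range_dvd Cfsg.Agent.J4.Rep112.rho)
  rw [hJ.2] at h1
  norm_num at h1

/-- the involutions of J4 -/
theorem invol (u : Cfsg.Spor.J4) (hu : u * u = 1) (hu1 : u ≠ 1) :
    IsConj u Cfsg.Agent.J4.Invol.s ∨ IsConj u Cfsg.Agent.J4.Invol.d :=
  Cfsg.Agent.J4.Invol.invol (rho_injective hJ) (not_two_pow hJ) u hu hu1

theorem exists_mem_EJ (u : Cfsg.Spor.J4) (hu : u * u = 1) (hu1 : u ≠ 1) :
    ∃ g : Cfsg.Spor.J4, g * u * g⁻¹ ∈ Cfsg.Agent.J4.Invol.EJ := by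
  rcases invol hJ u hu hu1 with h | h
  · obtain ⟨g, hg⟩ := isConj_iff.1 h
    exact ⟨g, by rw [hg]; exact Cfsg.Agent.J4.Invol.s_mem (rho_injective hJ)⟩
  · obtain ⟨g, hg⟩ := isConj_iff.1 h
    exact ⟨g, by rw [hg]; exact Cfsg.Agent.J4.Invol.d_mem (rho_injective hJ)⟩

end Pres

/-! ### The isomorphism -/

variable {G : Type*} [Group G]

/-- **The isomorphism**, from `TauFam` (parts (a)-(f)), `F3` (the centraliser of a duad normalises
`E`) and S1703. -/
theorem exists_bijective [Finite G] (hJ : Cfsg.IsJ4 Cfsg.Spor.J4) (C : Compl G)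
    {t : Finset (Finset GolayPt) → G} (F : TauFam C t)
    (F3 : ∀ p q : GolayPt, p ≠ q → ∀ g : G, g * C.ε {p, q} = C.ε {p, q} * g →
      g ∈ Subgroup.normalizer (C.E hex0 : Set G)) :
    ∃ f : Cfsg.Spor.J4 →* G, Function.Bijective f ∧ f Cfsg.Agent.J4.Invol.s = C.ε tetB := by
  have := hJ.1
  obtain ⟨f, hφ, -, hs, hN, hC⟩ := F.exists_hom
  have hf : Function.Injective f := TauFam.injective hs
  refine ⟨f, ⟨hf, ?_⟩, hs⟩
  have hB : tetB.card = 4 := by decide +kernel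
  have hE := ClosingJ4.map_EJ C f hφ hB hs
  rw [← MonoidHom.range_eq_top]
  apply eq_top C.toFrame f.range hN hC
  · rintro _ ⟨u, rfl⟩ h1 h2
    have h3 : u * u = 1 := hf (by rw [map_mul, h1, map_one])
    have h4 : u ≠ 1 := by
      rintro rfl
      exact h2 (map_one f)
    obtain ⟨g, hg⟩ := exists_mem_EJ hJ u h3 h4
    refine ⟨f g, ⟨g, rfl⟩, ?_⟩
    rw [← map_inv, ← map_mul, ← map_mul, ← hE]
    exact ⟨_, hg, rfl⟩
  · intro p q hpq h _ hh
    exact F3 p q hpq h hh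

theorem order_two_of_sq {H : Type*} [Group H] {u : H} (h1 : u * u = 1) (h2 : u ≠ 1) :
    orderOf u = 2 := orderOf_eq_prime (by rw [pow_two, h1]) h2

/-- order and classes of involutions -/
theorem isJ4_and_classes (hJ : Cfsg.IsJ4 Cfsg.Spor.J4) [IsSimpleGroup G]
    {f : Cfsg.Spor.J4 →* G} (hf : Function.Bijective f) :
    Cfsg.IsJ4 G ∧ ∃ x y : G, orderOf x = 2 ∧ orderOf y = 2 ∧ ¬ IsConj x y ∧
      ∀ z : G, orderOf z = 2 → IsConj z x ∨ IsConj z y := by
  have hcard : Nat.card G = 86775571046077562880 := by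
    rw [← hJ.2]; exact (Nat.card_congr (Equiv.ofBijective f hf)).symm
  have inj := rho_injective hJ
  have hs1 : Cfsg.Agent.J4.Invol.s * Cfsg.Agent.J4.Invol.s = 1 :=
    Cfsg.Agent.J4.Invol.EJ_sq inj _ (Cfsg.Agent.J4.Invol.s_mem inj)
  have hd1 : Cfsg.Agent.J4.Invol.d * Cfsg.Agent.J4.Invol.d = 1 :=
    Cfsg.Agent.J4.Invol.EJ_sq inj _ (Cfsg.Agent.J4.Invol.d_mem inj)
  have hns := Cfsg.Agent.J4.Invol.not_isConj_s_d
  -- one of the two classes contains an element of `EJ` other than `1`, and both do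
  have hs2 : Cfsg.Agent.J4.Invol.s ≠ 1 := by
    intro h
    have h1 : Cfsg.Agent.J4.Beta.beta Cfsg.Agent.J4.Lower.qs 1024 = 1 := by
      rw [← Cfsg.Agent.J4.Invol.rho_s, h, map_one]
    exact absurd (Cfsg.Agent.J4.Beta.beta_inj_one Cfsg.Agent.J4.Lower.qs_props.2
      (by rw [Cfsg.Agent.J4.Classes.qs_length]; norm_num) h1) (by norm_num)
  have hd2 : Cfsg.Agent.J4.Invol.d ≠ 1 := by
    intro h
    have h1 : Cfsg.Agent.J4.Beta.beta Cfsg.Agent.J4.Lower.qs 5 = 1 := by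
      rw [← Cfsg.Agent.J4.Invol.rho_d, h, map_one]
    exact absurd (Cfsg.Agent.J4.Beta.beta_inj_one Cfsg.Agent.J4.Lower.qs_props.2
      (by rw [Cfsg.Agent.J4.Classes.qs_length]; norm_num) h1) (by norm_num)
  exact ⟨⟨inferInstance, hcard⟩,
    ClosingJ4.two_classes f hf hs1 hd1 hs2 hd2 hns (invol hJ)⟩

end Cfsg.Agent.J4Type.Final
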