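import Cfsg.Agent.J4Type.Setup
import Cfsg.Agent.J4Type.HexMax
import Cfsg.Agent.S0366

/-!
# A subgroup containing the complement `M24`, the sextet involution `z` and an element of `C_G(z)`
moving `hex0` contains `N_G(E)` and `C_G(z)`
-/

set_option autoImplicit false

open Cfsg
open scoped Pointwise

namespace Cfsg.Agent.J4Type.FinalGen

/-- `M24` is transitive on 4-sets -/
theorem exists_smul_four {S T : Finset GolayPt} (hS : S.card = 4) (hT : T.card = 4) :
    ∃ g : M24, (g : Equiv.Perm GolayPt) • S = T := by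
  classical
  have h5 := Cfsg.Agent.S0366.result
  have h4 : MulAction.IsMultiplyPretransitive M24 GolayPt 4 :=
    MulAction.isMultiplyPretransitive_of_le' (n := 5) (by norm_num) (by
      rw [ENat.card_eq_coe_fintype_card]
      have : Fintype.card GolayPt = 24 := by decide +kernel
      rw [this]
      exact_mod_cast (by norm_num : 5 ≤ 24))
  rw [MulAction.isMultiplyPretransitive_iff] at h4
  let eS := (S.equivFinOfCardEq hS).symm
  let eT := (T.equivFinOfCardEq hT).symm
  obtain ⟨g, hg⟩ := h4 (x := ⟨fun i => (eS i : GolayPt), fun i j h => eS.injective (Subtype.ext h)⟩)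
    (y := ⟨fun i => (eT i : GolayPt), fun i j h => eT.injective (Subtype.ext h)⟩)
  refine ⟨g, ?_⟩
  ext p
  rw [Finset.mem_smul_finset]
  have hg' : ∀ i, (g : Equiv.Perm GolayPt) (eS i : GolayPt) = (eT i : GolayPt) := fun i =>
    congrArg (fun f => f i) hg
  constructor
  · rintro ⟨s, hs, rfl⟩
    have := hg' (eS.symm ⟨s, hs⟩)
    rw [Equiv.apply_symm_apply] at this
    change (g : Equiv.Perm GolayPt) s ∈ T
    rw [this]
    exact Subtype.coe_prop _
  · intro hp
    refine ⟨(eS (eT.symm ⟨p, hp⟩) : GolayPt), Subtype.coe_prop _, ?_⟩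
    have := hg' (eT.symm ⟨p, hp⟩)
    rw [Equiv.apply_symm_apply] at this
    exact this

theorem tet_card (i : Fin 6) : (tet i).card = 4 := by revert i; decide +kernel

variable {G : Type*} [Group G]

theorem Compl.conj_ε (C : Compl G) (g : M24) {S : Finset GolayPt} (hS : Even S.card) :
    C.φ g * C.ε S * (C.φ g)⁻¹ = C.ε ((g : Equiv.Perm GolayPt) • S) := by
  have h := C.π_smul ⟨C.φ g, C.φ_mem g⟩ S hS
  rw [C.π_φ] at h
  exact h

/-- all sextet involutions are conjugate to `z` under the complement -/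
theorem Compl.sextet_conj (C : Compl G) {S : Finset GolayPt} (hS : S.card = 4) :
    ∃ g : M24, C.φ g * C.z * (C.φ g)⁻¹ = C.ε S := by
  obtain ⟨g, hg⟩ := exists_smul_four (tet_card 0) hS
  refine ⟨g, ?_⟩
  rw [← C.ε_tet 0, Compl.conj_ε C g (by rw [tet_card]; decide), hg]

section
variable (C : Compl G) (K : Subgroup G) (hφ : ∀ g, C.φ g ∈ K) (hz : C.z ∈ K)
include hφ hz

theorem sextet_mem {S : Finset GolayPt} (hS : S.card = 4) : C.ε S ∈ K := by
  obtain ⟨g, hg⟩ := Compl.sextet_conj C hS
  rw [← hg]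
  exact K.mul_mem (K.mul_mem (hφ g) hz) (K.inv_mem (hφ g))

theorem duad_mem {p q : GolayPt} (hpq : p ≠ q) : C.ε {p, q} ∈ K := by
  classical
  obtain ⟨r, s, u, h⟩ : ∃ r s u : GolayPt, ({p, r, s, u} : Finset GolayPt).card = 4 ∧
      ({q, r, s, u} : Finset GolayPt).card = 4 ∧
      symmDiff ({p, r, s, u} : Finset GolayPt) {q, r, s, u} = {p, q} := by
    have h24 : Fintype.card GolayPt = 24 := by decide +kernel
    have hpick : ∀ T : Finset GolayPt, T.card < 24 → ∃ x, x ∉ T := by
      intro T hT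
      obtain ⟨x, -, hx⟩ := Finset.exists_mem_notMem_of_card_lt_card
        (s := T) (t := Finset.univ) (by rw [Finset.card_univ, h24]; exact hT)
      exact ⟨x, hx⟩
    obtain ⟨r, hr⟩ := hpick {p, q} (by have := Finset.card_le_two (a := p) (b := q); omega)
    obtain ⟨s, hs⟩ := hpick {p, q, r} (by
      have := Finset.card_le_three (a := p) (b := q) (c := r); omega)
    obtain ⟨u, hu⟩ := hpick {p, q, r, s} (by
      have := Finset.card_le_four (a := p) (b := q) (c := r) (d := s); omega)
    simp only [Finset.mem_insert, Finset.mem_singleton, not_or] at hr hs hu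
    refine ⟨r, s, u, ?_, ?_, ?_⟩
    · rw [Finset.card_insert_of_notMem (by simp [Ne.symm hr.1, Ne.symm hs.1, Ne.symm hu.1]),
        Finset.card_insert_of_notMem (by simp [Ne.symm hs.2.2, Ne.symm hu.2.2.1]),
        Finset.card_pair (Ne.symm hu.2.2.2)]
    · rw [Finset.card_insert_of_notMem (by simp [Ne.symm hr.2, Ne.symm hs.2.1, Ne.symm hu.2.1]),
        Finset.card_insert_of_notMem (by simp [Ne.symm hs.2.2, Ne.symm hu.2.2.1]),
        Finset.card_pair (Ne.symm hu.2.2.2)]
    · have e1 : ({p, r, s, u} : Finset GolayPt) = insert p {r, s, u} := rfl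
      have e2 : ({q, r, s, u} : Finset GolayPt) = insert q {r, s, u} := rfl
      have hp' : p ∉ ({r, s, u} : Finset GolayPt) := by
        simp only [Finset.mem_insert, Finset.mem_singleton, not_or]
        exact ⟨Ne.symm hr.1, Ne.symm hs.1, Ne.symm hu.1⟩
      have hq' : q ∉ ({r, s, u} : Finset GolayPt) := by
        simp only [Finset.mem_insert, Finset.mem_singleton, not_or]
        exact ⟨Ne.symm hr.2, Ne.symm hs.2.1, Ne.symm hu.2.1⟩
      rw [e1, e2]
      generalize ({r, s, u} : Finset GolayPt) = W at hp' hq'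
      ext x
      simp only [Finset.mem_symmDiff, Finset.mem_insert, Finset.mem_singleton]
      constructor
      · rintro (⟨h1, h2⟩ | ⟨h1, h2⟩)
        · rcases h1 with h1 | h1
          · exact Or.inl h1
          · exact absurd (Or.inr h1) h2
        · rcases h1 with h1 | h1
          · exact Or.inr h1
          · exact absurd (Or.inr h1) h2
      · rintro (rfl | rfl)
        · exact Or.inl ⟨Or.inl rfl, fun h => h.elim hpq hp'⟩
        · exact Or.inr ⟨Or.inl rfl, fun h => h.elim (fun h => hpq h.symm) hq'⟩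
  rw [← h.2.2, C.ε_mul _ _ (by rw [h.1]; decide) (by rw [h.2.1]; decide)]
  exact K.mul_mem (sextet_mem C K hφ hz h.1) (sextet_mem C K hφ hz h.2.1)

/-- the even cocode is contained in `K` -/
theorem ε_mem_K (S : Finset GolayPt) (hS : Even S.card) : C.ε S ∈ K := by
  classical
  induction h : S.card using Nat.strong_induction_on generalizing S with
  | _ n ih =>
    rcases Nat.eq_zero_or_pos S.card with h0 | h0
    · rw [Finset.card_eq_zero] at h0
      have h1 : C.ε (symmDiff S S) = C.ε S * C.ε S := C.ε_mul S S hS hS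
      rw [symmDiff_self] at h1
      have h2 : (⊥ : Finset GolayPt) = S := h0.symm
      rw [h2] at h1
      have h3 : C.ε S = 1 := by
        have := h1.symm
        exact mul_eq_left.mp this
      rw [h3]
      exact K.one_mem
    · have h2 : 1 < S.card := by
        rcases hS with ⟨k, hk⟩
        omega
      obtain ⟨p, hp, q, hq, hpq⟩ := Finset.one_lt_card.1 h2
      have hsub : ({p, q} : Finset GolayPt) ⊆ S := by
        intro x hx
        simp only [Finset.mem_insert, Finset.mem_singleton] at hx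
        rcases hx with rfl | rfl <;> assumption
      have hc : (S \ {p, q}).card = S.card - 2 := by
        rw [Finset.card_sdiff_of_subset hsub, Finset.card_pair hpq]
      have hev : Even (S \ {p, q}).card := by
        rw [hc]
        rcases hS with ⟨k, hk⟩
        exact ⟨k - 1, by omega⟩
      have hS' : symmDiff ({p, q} : Finset GolayPt) (S \ {p, q}) = S := by
        ext x
        simp only [Finset.mem_symmDiff, Finset.mem_sdiff]
        constructor
        · rintro (⟨h1, -⟩ | ⟨⟨h1, -⟩, -⟩)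
          · exact hsub h1
          · exact h1
        · intro hx
          by_cases hx2 : x ∈ ({p, q} : Finset GolayPt)
          · exact Or.inl ⟨hx2, fun h => h.2 hx2⟩
          · exact Or.inr ⟨⟨hx, hx2⟩, hx2⟩
      rw [← hS', C.ε_mul _ _ (by rw [Finset.card_pair hpq]; decide) hev]
      exact K.mul_mem (duad_mem C K hφ hz hpq) (ih _ (by rw [hc]; omega) _ hev rfl)

theorem E_le : C.E hex0 ≤ K := by
  intro a ha
  obtain ⟨S, hS, rfl⟩ := C.ε_surj a ha
  exact ε_mem_K C K hφ hz S hS

/-- `N_G(E) ≤ K` -/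
theorem normalizer_le : Subgroup.normalizer (C.E hex0 : Set G) ≤ K := by
  intro n hn
  have h1 : (⟨n, hn⟩ * (⟨C.φ (C.π ⟨n, hn⟩), C.φ_mem _⟩ :
      Subgroup.normalizer (C.E hex0 : Set G))⁻¹ : Subgroup.normalizer (C.E hex0 : Set G)).1 ∈
      C.E hex0 := by
    rw [← C.π_ker, map_mul, map_inv, C.π_φ, mul_inv_cancel]
  have h2 := E_le C K hφ hz h1
  have h3 : n * (C.φ (C.π ⟨n, hn⟩))⁻¹ ∈ K := h2
  have h4 := K.mul_mem h3 (hφ (C.π ⟨n, hn⟩))
  rwa [inv_mul_cancel_right] at h4

/-- `C_G(z) ≤ K` -/
theorem centralizer_le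
    (ht : ∃ c : Subgroup.centralizer ({C.z} : Set G), (c : G) ∈ K ∧ C.P c • hex0 ≠ hex0) :
    Subgroup.centralizer ({C.z} : Set G) ≤ K := by
  have hN := normalizer_le C K hφ hz
  -- elements of `C` fixing `hex0` normalise `E`
  have hst : ∀ c : Subgroup.centralizer ({C.z} : Set G), C.P c • hex0 = hex0 → (c : G) ∈ K := by
    intro c hc
    apply hN
    rw [Subgroup.mem_normalizer_iff]
    intro a
    have := C.E_conj hex0 HexMax.hex0_isHex c a
    rw [hc] at this
    exact this
  set Y : Subgroup (Equiv.Perm GolayPt) :=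
    (K.comap (Subgroup.centralizer ({C.z} : Set G)).subtype).map C.P with hY
  have hYle : Y ≤ M22d := by
    rw [hY, ← C.P_range]
    rintro _ ⟨c, -, rfl⟩
    exact ⟨c, rfl⟩
  have hYtop : Y = M22d := by
    apply HexMax.eq_M22d_of_hexStab Y hYle
    · intro g hg hfix
      rw [← C.P_range] at hg
      obtain ⟨c, rfl⟩ := hg
      exact ⟨c, hst c hfix, rfl⟩
    · obtain ⟨c, hcK, hc⟩ := ht
      exact ⟨C.P c, ⟨c, hcK, rfl⟩, hc⟩
  intro c hc
  have h1 : C.P ⟨c, hc⟩ ∈ Y := by
    rw [hYtop, ← C.P_range]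
    exact ⟨_, rfl⟩
  obtain ⟨k, hk, hkc⟩ := h1
  have h2 : C.P (⟨c, hc⟩ * k⁻¹) • hex0 = hex0 := by
    rw [map_mul, map_inv, hkc, mul_inv_cancel, one_smul]
  have h3 := hst _ h2
  have h4 := K.mul_mem h3 (show (k : G) ∈ K from hk)
  have h5 : ((⟨c, hc⟩ * k⁻¹ : Subgroup.centralizer ({C.z} : Set G)) : G) * (k : G) = c := by
    push_cast
    rw [inv_mul_cancel_right]
  rwa [h5] at h4

end

end Cfsg.Agent.J4Type.FinalGen
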