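import Cfsg.Agent.J4Type.FinalTrio
import Cfsg.Agent.J4Type.FinalGen
import Cfsg.Agent.J4.Invol

/-!
# The embedding of the presented group J4
-/

set_option autoImplicit false

open Cfsg
open scoped Pointwise

namespace Cfsg.Agent.J4Type.FinalEmb

open Cfsg.Agent.J4.M24Pres Cfsg.Agent.J4.M24Hom Cfsg.Agent.SporadicA
open Cfsg.Agent.J4Type.FinalRel

variable {G : Type*} [Group G]

/-- What is needed about the family of involutions `t T`, `T` a trio. -/
structure TauFam (C : Compl G) (t : Finset (Finset GolayPt) → G) : Prop where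
  fam : Fam C.φ t
  r1 : t A1 * t A2 * t A3 = 1
  r2 : (((C.φ YM * C.φ XM * C.φ YM * C.φ XM * C.φ YM * C.φ XM * C.φ YM) ^ 3) * t T0 *
      ((((C.φ XM * C.φ YM) ^ 3) * C.φ YM * ((C.φ XM * C.φ YM) ^ 6) * C.φ YM)⁻¹ * t T0 *
      (((C.φ XM * C.φ YM) ^ 3) * C.φ YM * ((C.φ XM * C.φ YM) ^ 6) * C.φ YM))) ^ 2 = 1
  prodB : t B1 * t B2 * t B3 = C.ε tetB
  move : ∃ (c : Subgroup.centralizer ({C.z} : Set G)) (T : Finset (Finset GolayPt)),
    T ∈ trios ∧ (c : G) = t T ∧ C.P c • hex0 ≠ hex0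

theorem z_ne_one (C : Compl G) : C.z ≠ 1 := by
  intro h
  have := C.z_order
  rw [h, orderOf_one] at this
  exact absurd this (by norm_num)

theorem TauFam.exists_hom {C : Compl G} {t : Finset (Finset GolayPt) → G} (F : TauFam C t) :
    ∃ f : Cfsg.Spor.J4 →* G, (∀ g : M24, f (Cfsg.Agent.J4.Pres.phi g) = C.φ g) ∧
      f Cfsg.Agent.J4.Rep112.t = t T0 ∧ f Cfsg.Agent.J4.Invol.s = C.ε tetB ∧
      Subgroup.normalizer (C.E hex0 : Set G) ≤ f.range ∧
      Subgroup.centralizer ({C.z} : Set G) ≤ f.range := by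
  obtain ⟨f, hphi, ht⟩ := FinalHom.exists_hom C.φ (t T0) (F.fam.trels F.r1 F.r2)
  have hφ : ∀ g, C.φ g ∈ f.range := fun g => ⟨_, hphi g⟩
  have hT0 : t T0 ∈ f.range := ⟨_, ht⟩
  have htT : ∀ T ∈ trios, t T ∈ f.range := fun T hT =>
    FinalTrio.Fam.mem F.fam f.range hφ T0_mem hT0 hT
  have hx : f Cfsg.Agent.J4.Rep112.x = C.φ XM := by
    rw [← Cfsg.Agent.J4.Pres.phi_X, hphi]
  have hy : f Cfsg.Agent.J4.Rep112.y = C.φ YM := by
    rw [← Cfsg.Agent.J4.Pres.phi_Y, hphi]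
  have hs : f Cfsg.Agent.J4.Invol.s = C.ε tetB := by
    rw [← F.prodB, ← F.fam.eJ]
    have hw : f Cfsg.Agent.J4.Invol.wJ = C.φ w2 := by
      simp only [Cfsg.Agent.J4.Invol.wJ, w2, map_mul, map_pow, map_inv, hx, hy]
    simp only [Cfsg.Agent.J4.Invol.s, map_pow, map_mul, map_inv, hw, hy, ht]
    rw [mul_assoc (C.φ YM), mul_assoc (C.φ YM)]
  have hz : C.z ∈ f.range := by
    have h4 : tetB.card = 4 := by decide +kernel
    obtain ⟨g, hg⟩ := FinalGen.Compl.sextet_conj C h4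
    have h1 : C.ε tetB ∈ f.range := ⟨_, hs⟩
    rw [← hg] at h1
    have h2 := f.range.mul_mem (f.range.mul_mem (f.range.inv_mem (hφ g)) h1) (hφ g)
    have h3 : (C.φ g)⁻¹ * (C.φ g * C.z * (C.φ g)⁻¹) * C.φ g = C.z := by group
    rwa [h3] at h2
  refine ⟨f, hphi, ht, hs, FinalGen.normalizer_le C f.range hφ hz,
    FinalGen.centralizer_le C f.range hφ hz ?_⟩
  obtain ⟨c, T, hT, hc, hmove⟩ := F.move
  exact ⟨c, hc ▸ htT T hT, hmove⟩

theorem TauFam.injective {C : Compl G} [IsSimpleGroup Cfsg.Spor.J4] {f : Cfsg.Spor.J4 →* G}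
    (hs : f Cfsg.Agent.J4.Invol.s = C.ε tetB) : Function.Injective f := by
  apply FinalHom.injective_of_simple f (a := Cfsg.Agent.J4.Invol.s)
  rw [hs]
  have h4 : tetB.card = 4 := by decide +kernel
  obtain ⟨g, hg⟩ := FinalGen.Compl.sextet_conj C h4
  rw [← hg]
  intro h
  apply z_ne_one C
  rw [mul_inv_eq_one] at h
  exact mul_eq_left.1 h

end Cfsg.Agent.J4Type.FinalEmb
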