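import Cfsg.Agent.J4.Pres
import Cfsg.Agent.J4.M24Hom

/-!
# From `M24` and an involution `t` satisfying the five `t`-relators to a homomorphism of the
presented group `Spor.J4`
-/

set_option autoImplicit false

open Cfsg

namespace Cfsg.Agent.J4Type.FinalHom

open Cfsg.Agent.J4.M24Pres Cfsg.Agent.J4.M24Hom Cfsg.Agent.J4.Rep112

/-- The five relators involving `t`. -/
structure TRels {G : Type*} [Group G] (x y t : G) : Prop where
  sq : t ^ 2 = 1
  comm_w : t⁻¹ * (y * x * y * ((x * (y⁻¹)) ^ 2) * ((x * y) ^ 3))⁻¹ * t *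
    (y * x * y * ((x * (y⁻¹)) ^ 2) * ((x * y) ^ 3)) = 1
  comm_x : t⁻¹ * x⁻¹ * t * x = 1
  r1 : (y * ((y * x * (y⁻¹) * x * y * x * (y⁻¹) * x)⁻¹ * t *
    (y * x * (y⁻¹) * x * y * x * (y⁻¹) * x))) ^ 3 = 1
  r2 : (((y * x * y * x * y * x * y) ^ 3) * t *
    ((((x * y) ^ 3) * y * ((x * y) ^ 6) * y)⁻¹ * t *
      (((x * y) ^ 3) * y * ((x * y) ^ 6) * y))) ^ 2 = 1

/-- images of the generators -/
def genMap {G : Type*} (x y t : G) : Cfsg.Spor.J4.Gen → G
  | .x => x
  | .y => y
  | .t => t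

theorem lift_relator {G : Type*} [Group G] {x y t : G} (h : Rels x y) (ht : TRels x y t)
    (r : FreeGroup Cfsg.Spor.J4.Gen)
    (hr : r ∈ Cfsg.Spor.coxRelators Cfsg.Spor.J4.edges ∪ {r | r ∈ Cfsg.Spor.J4.extra}) :
    FreeGroup.lift (genMap x y t) r = 1 := by
  have hl : ∀ g : Cfsg.Spor.J4.Gen, FreeGroup.lift (genMap x y t) (FreeGroup.of g) =
      genMap x y t g := fun g => FreeGroup.lift_apply_of
  rcases hr with ⟨g, hg, _⟩ | hr
  · exact absurd hg (by simp [Cfsg.Spor.coxNodes, Cfsg.Spor.J4.edges])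
  · have hr' : r ∈ Cfsg.Spor.J4.extra := hr
    unfold Cfsg.Spor.J4.extra at hr'
    simp only [List.mem_cons, List.not_mem_nil, or_false] at hr'
    rcases hr' with rfl | rfl | rfl | rfl | rfl | rfl | rfl | rfl | rfl | rfl | rfl | rfl <;>
      simp only [map_mul, map_pow, map_inv, hl, genMap]
    · exact h.r1
    · exact h.r2
    · exact h.r3
    · exact h.r4
    · exact h.r5
    · exact h.r6
    · exact h.r7
    · exact ht.sq
    · exact ht.comm_w
    · exact ht.comm_x
    · exact ht.r1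
    · exact ht.r2

/-- **The homomorphism from the presented group.** -/
theorem exists_hom {G : Type*} [Group G] (φ : M24 →* G) (t : G) (ht : TRels (φ XM) (φ YM) t) :
    ∃ f : Cfsg.Spor.J4 →* G, (∀ g : M24, f (Cfsg.Agent.J4.Pres.phi g) = φ g) ∧
      f Cfsg.Agent.J4.Rep112.t = t := by
  have hr : Rels (φ XM) (φ YM) := rels_map φ rels_XYM
  let f : Cfsg.Spor.J4 →* G := PresentedGroup.toGroup (f := genMap (φ XM) (φ YM) t)
    (lift_relator hr ht)
  have hx : f Cfsg.Agent.J4.Rep112.x = φ XM := PresentedGroup.toGroup.of (lift_relator hr ht)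
  have hy : f Cfsg.Agent.J4.Rep112.y = φ YM := PresentedGroup.toGroup.of (lift_relator hr ht)
  have htt : f Cfsg.Agent.J4.Rep112.t = t := PresentedGroup.toGroup.of (lift_relator hr ht)
  refine ⟨f, fun g => ?_, htt⟩
  have h : f.comp Cfsg.Agent.J4.Pres.phi = φ := by
    apply hom_ext
    · rw [MonoidHom.comp_apply, Cfsg.Agent.J4.Pres.phi_X, hx]
    · rw [MonoidHom.comp_apply, Cfsg.Agent.J4.Pres.phi_Y, hy]
  rw [← h, MonoidHom.comp_apply]

/-- a nontrivial homomorphism from the (simple) presented group is injective -/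
theorem injective_of_simple {G : Type*} [Group G] [IsSimpleGroup Cfsg.Spor.J4]
    (f : Cfsg.Spor.J4 →* G) {a : Cfsg.Spor.J4} (ha : f a ≠ 1) : Function.Injective f := by
  rw [← MonoidHom.ker_eq_bot_iff]
  rcases (inferInstance : (MonoidHom.ker f).Normal).eq_bot_or_eq_top with h | h
  · exact h
  · exact absurd (MonoidHom.mem_ker.1 (h ▸ Subgroup.mem_top a)) ha

end Cfsg.Agent.J4Type.FinalHom
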