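import Cfsg.Agent.J4Type.FinalHom
import Cfsg.Agent.J4Type.Setup
import Cfsg.Agent.SporadicA.GolayPerm

/-!
# The relators of `Spor.J4` from a family of involutions indexed by the trios
-/

set_option autoImplicit false

open Cfsg
open scoped Pointwise

namespace Cfsg.Agent.J4Type.FinalRel

open Cfsg.Agent.J4.M24Pres Cfsg.Agent.J4.M24Hom Cfsg.Agent.SporadicA

theorem gset_mem {l : List ℕ} (m : ℕ) (hm : m < 2 ^ 24) (h : gset l = GolayBase.fin m)
    (h1 : GolayBase.isCode m = true) (h2 : GolayBase.popcount m = 8) : gset l ∈ octads := by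
  rw [h, GolayBase.fin_mem_octads_iff hm]
  exact ⟨h1, h2⟩

theorem mem_trios_of {o1 o2 o3 : Finset GolayPt} (h1 : o1 ∈ octads) (h2 : o2 ∈ octads)
    (h3 : o3 ∈ octads) (h12 : o1 ∩ o2 = ∅) (h13 : o1 ∩ o3 = ∅) (h23 : o2 ∩ o3 = ∅) :
    ({o1, o2, o3} : Finset (Finset GolayPt)) ∈ trios := by
  have hne : ∀ {a b : Finset GolayPt}, a ∈ octads → a ∩ b = ∅ → a ≠ b := by
    rintro a b ha hab rfl
    rw [Finset.inter_self] at hab
    have h8 : a.card = 8 := ha.2
    rw [hab] at h8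
    exact absurd h8 (by decide)
  have n12 := hne h1 h12
  have n13 := hne h1 h13
  have n23 := hne h2 h23
  refine ⟨by rw [Finset.card_insert_of_notMem (by simp [n12, n13]), Finset.card_pair n23], ?_, ?_⟩
  · intro o ho
    simp only [Finset.mem_insert, Finset.mem_singleton] at ho
    rcases ho with rfl | rfl | rfl <;> assumption
  · intro o ho o' ho' hoo
    rw [Finset.disjoint_iff_inter_eq_empty]
    simp only [Finset.mem_insert, Finset.mem_singleton] at ho ho'
    rcases ho with rfl | rfl | rfl <;> rcases ho' with rfl | rfl | rfl <;>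
      first | exact absurd rfl hoo | assumption | (rw [Finset.inter_comm]; assumption)

/-- prove that an explicit triple of sets is a trio, given the three bit masks -/
macro "trio_tac" a:num b:num c:num : tactic => `(tactic|
  (apply mem_trios_of
   · exact gset_mem $a (by norm_num) (by decide +kernel) (by decide +kernel) (by decide +kernel)
   · exact gset_mem $b (by norm_num) (by decide +kernel) (by decide +kernel) (by decide +kernel)
   · exact gset_mem $c (by norm_num) (by decide +kernel) (by decide +kernel) (by decide +kernel)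
   · decide +kernel
   · decide +kernel
   · decide +kernel))

/-- the trio centralised by the generator `t` -/
def T0 : Finset (Finset GolayPt) :=
  {gset [7, 8, 9, 10, 11, 14, 17, 19], gset [0, 3, 6, 13, 15, 16, 18, 22],
    gset [1, 2, 4, 5, 12, 20, 21, 23]}

/-- the three trios of the first relator -/
def A1 : Finset (Finset GolayPt) :=
  {gset [1, 3, 4, 6, 7, 8, 9, 19], gset [2, 5, 10, 11, 13, 15, 20, 21],
    gset [0, 12, 14, 16, 17, 18, 22, 23]}
def A2 : Finset (Finset GolayPt) :=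
  {gset [0, 2, 5, 15, 16, 18, 21, 23], gset [1, 3, 4, 6, 7, 8, 9, 19],
    gset [10, 11, 12, 13, 14, 17, 20, 22]}
def A3 : Finset (Finset GolayPt) :=
  {gset [1, 3, 4, 6, 7, 8, 9, 19], gset [0, 10, 11, 13, 16, 18, 20, 23],
    gset [2, 5, 12, 14, 15, 17, 21, 22]}

/-- the three trios of the element `(y * w⁻¹ t w) ^ 3`, `w = (y x)^4 y⁻¹ x` of `E` -/
def B1 : Finset (Finset GolayPt) :=
  {gset [0, 6, 11, 12, 13, 19, 22, 23], gset [1, 2, 3, 4, 9, 16, 17, 20],
    gset [5, 7, 8, 10, 14, 15, 18, 21]}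
def B2 : Finset (Finset GolayPt) :=
  {gset [0, 5, 6, 7, 11, 15, 21, 22], gset [1, 2, 3, 8, 9, 10, 14, 18],
    gset [4, 12, 13, 16, 17, 19, 20, 23]}
def B3 : Finset (Finset GolayPt) :=
  {gset [8, 10, 12, 13, 14, 18, 19, 23], gset [0, 1, 2, 3, 6, 9, 11, 22],
    gset [4, 5, 7, 15, 16, 17, 20, 21]}

/-- a tetrad of the common sextet of `B1`, `B2`, `B3` -/
def tetB : Finset GolayPt := gset [0, 6, 11, 22]

theorem T0_mem : T0 ∈ trios := by trio_tac 675712 4563017 11538486
theorem A1_mem : A1 ∈ trios := by trio_tac 525274 3189796 13062145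
theorem A2_mem : A2 ∈ trios := by trio_tac 10846245 525274 5405696
theorem A3_mem : A3 ∈ trios := by trio_tac 525274 9776129 6475812
theorem B1_mem : B1 ∈ trios := by trio_tac 13121601 1245726 2409888
theorem B2_mem : B2 ∈ trios := by trio_tac 6326497 280334 10170384
theorem B3_mem : B3 ∈ trios := by trio_tac 9204992 4196943 3375280

/-- the words -/
def wW : M24 := YM * XM * YM * (XM * YM⁻¹) ^ 2 * (XM * YM) ^ 3
def w1 : M24 := YM * XM * YM⁻¹ * XM * YM * XM * YM⁻¹ * XM
def w2 : M24 := (YM * XM) ^ 4 * YM⁻¹ * XM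

theorem coe_mul' (a b : M24) : ((a * b : M24) : Equiv.Perm GolayPt) = a * b := rfl

theorem smul_X : (XM : Equiv.Perm GolayPt) • T0 = T0 := by
  change X • T0 = T0
  decide +kernel
theorem smul_W : (wW : Equiv.Perm GolayPt) • T0 = T0 := by
  change (Y * X * Y * (X * Y⁻¹) ^ 2 * (X * Y) ^ 3) • T0 = T0
  decide +kernel
theorem smul_w1 : (w1 : Equiv.Perm GolayPt) • A3 = T0 := by
  change (Y * X * Y⁻¹ * X * Y * X * Y⁻¹ * X) • A3 = T0
  decide +kernel
theorem smul_w2 : (w2 : Equiv.Perm GolayPt) • B3 = T0 := by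
  change ((Y * X) ^ 4 * Y⁻¹ * X) • B3 = T0
  decide +kernel
theorem smul_Y_A3 : (YM : Equiv.Perm GolayPt) • A3 = A1 := by
  change Y • A3 = A1
  decide +kernel
theorem smul_Y_A1 : (YM : Equiv.Perm GolayPt) • A1 = A2 := by
  change Y • A1 = A2
  decide +kernel
theorem smul_Y_B3 : (YM : Equiv.Perm GolayPt) • B3 = B1 := by
  change Y • B3 = B1
  decide +kernel
theorem smul_Y_B1 : (YM : Equiv.Perm GolayPt) • B1 = B2 := by
  change Y • B1 = B2
  decide +kernel

section

variable {G : Type*} [Group G] (φ : M24 →* G) (t : Finset (Finset GolayPt) → G)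

/-- a family of involutions indexed by the trios, permuted by `M24` -/
structure Fam : Prop where
  sq : ∀ T ∈ trios, t T * t T = 1
  conj : ∀ (g : M24), ∀ T ∈ trios, φ g * t T * (φ g)⁻¹ = t ((g : Equiv.Perm GolayPt) • T)

variable {φ t}

theorem Fam.cube (h : Fam φ t) {w : M24} {U1 U2 U3 : Finset (Finset GolayPt)}
    (hU1 : U1 ∈ trios) (hU3 : U3 ∈ trios)
    (hw : (w : Equiv.Perm GolayPt) • U3 = T0) (h31 : (YM : Equiv.Perm GolayPt) • U3 = U1)
    (h12 : (YM : Equiv.Perm GolayPt) • U1 = U2) :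
    (φ YM * ((φ w)⁻¹ * t T0 * φ w)) ^ 3 = t U1 * t U2 * t U3 := by
  have hs : (φ w)⁻¹ * t T0 * φ w = t U3 := by
    have := h.conj w U3 hU3
    rw [hw] at this
    rw [← this]; group
  have h1 := h.conj YM U3 hU3
  have h2 := h.conj YM U1 hU1
  rw [h31] at h1
  rw [h12] at h2
  have hy : φ YM * φ YM * φ YM = 1 := by
    rw [← map_mul, ← map_mul]
    have := rels_XYM.r2
    rw [pow_succ, pow_two] at this
    rw [this, map_one]
  rw [hs, ← h2, ← h1]
  have hy2 : φ YM * φ YM = (φ YM)⁻¹ := eq_inv_of_mul_eq_one_left hy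
  rw [pow_succ, pow_two]
  calc φ YM * t U3 * (φ YM * t U3) * (φ YM * t U3)
      = (φ YM * t U3 * (φ YM)⁻¹) * (φ YM * (φ YM * t U3 * (φ YM)⁻¹) * (φ YM)⁻¹) *
        (φ YM * φ YM * φ YM) * t U3 := by group
    _ = _ := by rw [hy, mul_one]

/-- **the relators of `Spor.J4`** -/
theorem Fam.trels (h : Fam φ t) (h1 : t A1 * t A2 * t A3 = 1)
    (h2 : (((φ YM * φ XM * φ YM * φ XM * φ YM * φ XM * φ YM) ^ 3) * t T0 *
      ((((φ XM * φ YM) ^ 3) * φ YM * ((φ XM * φ YM) ^ 6) * φ YM)⁻¹ * t T0 *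
      (((φ XM * φ YM) ^ 3) * φ YM * ((φ XM * φ YM) ^ 6) * φ YM))) ^ 2 = 1) :
    FinalHom.TRels (φ XM) (φ YM) (t T0) where
  sq := by rw [pow_two]; exact h.sq T0 T0_mem
  comm_w := by
    have h3 := h.conj wW T0 T0_mem
    rw [smul_W] at h3
    have h4 : φ wW = φ YM * φ XM * φ YM * (φ XM * (φ YM)⁻¹) ^ 2 * (φ XM * φ YM) ^ 3 := by
      simp only [wW, map_mul, map_pow, map_inv]
    rw [← h4]
    have h5 : φ wW * t T0 = t T0 * φ wW := by
      rw [mul_inv_eq_iff_eq_mul] at h3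
      exact h3
    rw [mul_assoc, ← h5, mul_assoc, inv_mul_cancel_left, inv_mul_cancel]
  comm_x := by
    have h3 := h.conj XM T0 T0_mem
    rw [smul_X, mul_inv_eq_iff_eq_mul] at h3
    rw [mul_assoc, ← h3, mul_assoc, inv_mul_cancel_left, inv_mul_cancel]
  r1 := by
    have h3 := h.cube A1_mem A3_mem smul_w1 smul_Y_A3 smul_Y_A1
    have h4 : φ w1 = φ YM * φ XM * (φ YM)⁻¹ * φ XM * φ YM * φ XM * (φ YM)⁻¹ * φ XM := by
      simp only [w1, map_mul, map_inv]
    rw [h4] at h3
    rw [h3]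
    exact h1
  r2 := h2

/-- the element of `E` given by the word `(y * w⁻¹ t w) ^ 3` -/
theorem Fam.eJ (h : Fam φ t) :
    (φ YM * ((φ w2)⁻¹ * t T0 * φ w2)) ^ 3 = t B1 * t B2 * t B3 :=
  h.cube B1_mem B3_mem smul_w2 smul_Y_B3 smul_Y_B1

end

end Cfsg.Agent.J4Type.FinalRel
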