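import Cfsg.Agent.J4Type.FinalRel
import Cfsg.Agent.SporadicStructure.TrioInv
import Cfsg.Agent.S1556
import Cfsg.Agent.S0367

/-!
# `M24` is transitive on trios; consequences for a family indexed by the trios
-/

set_option autoImplicit false

open Cfsg
open scoped Pointwise

namespace Cfsg.Agent.J4Type.FinalTrio

open Cfsg.Agent.J4.M24Pres Cfsg.Agent.J4.M24Hom Cfsg.Agent.SporadicA

/-- a trio consists of two disjoint octads and the complement of their union -/
theorem exists_eq {T : Finset (Finset GolayPt)} (hT : T ∈ trios) :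
    ∃ o1 o2 : Finset GolayPt, o1 ∈ octads ∧ o2 ∈ octads ∧ Disjoint o1 o2 ∧
      T = {o1, o2, (o1 ∪ o2)ᶜ} := by
  classical
  obtain ⟨h3, ho, hd⟩ := hT
  obtain ⟨o1, o2, o3, h12, h13, h23, rfl⟩ := Finset.card_eq_three.1 h3
  have m1 := ho o1 (by simp)
  have m2 := ho o2 (by simp)
  have m3 := ho o3 (by simp)
  have d12 := hd o1 (by simp) o2 (by simp) h12
  have d13 := hd o1 (by simp) o3 (by simp) h13
  have d23 := hd o2 (by simp) o3 (by simp) h23
  refine ⟨o1, o2, m1, m2, d12, ?_⟩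
  have e3 : o3 = (o1 ∪ o2)ᶜ := by
    apply Finset.eq_of_subset_of_card_le
    · intro x hx
      rw [Finset.mem_compl, Finset.mem_union, not_or]
      exact ⟨fun h => Finset.disjoint_left.1 d13 h hx, fun h => Finset.disjoint_left.1 d23 h hx⟩
    · have h24 : Fintype.card GolayPt = 24 := by decide +kernel
      rw [Finset.card_compl, Finset.card_union_of_disjoint d12, h24,
        show o1.card = 8 from m1.2, show o2.card = 8 from m2.2, show o3.card = 8 from m3.2]
  rw [e3]

/-- **`M24` is transitive on trios.** -/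
theorem exists_smul {T T' : Finset (Finset GolayPt)} (hT : T ∈ trios) (hT' : T' ∈ trios) :
    ∃ g : M24, (g : Equiv.Perm GolayPt) • T = T' := by
  classical
  obtain ⟨o1, o2, m1, m2, d, rfl⟩ := exists_eq hT
  obtain ⟨p1, p2, n1, n2, e, rfl⟩ := exists_eq hT'
  obtain ⟨g, hg⟩ := Cfsg.Agent.S0367.result o1 p1 m1 n1
  have hg1 : (g : Equiv.Perm GolayPt) • o1 = p1 := hg
  have m2' : (g : Equiv.Perm GolayPt) • o2 ∈ octads := (GolayPerm.smul_mem_octads g.2).2 m2
  have c1 : (p1 ∩ (g : Equiv.Perm GolayPt) • o2).card = (p1 ∩ p2).card := by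
    rw [← hg1, ← Finset.smul_finset_inter, Finset.card_smul_finset,
      Finset.disjoint_iff_inter_eq_empty.1 d, hg1, Finset.disjoint_iff_inter_eq_empty.1 e]
  obtain ⟨h, hh, h1, h2⟩ := Cfsg.Agent.S1556.result p1 _ p2 n1 m2' n2 c1
  refine ⟨⟨h, hh⟩ * g, ?_⟩
  have e1 : (h * (g : Equiv.Perm GolayPt)) • o1 = p1 := by rw [mul_smul, hg1, h1]
  have e2 : (h * (g : Equiv.Perm GolayPt)) • o2 = p2 := by rw [mul_smul, h2]
  change (h * (g : Equiv.Perm GolayPt)) • ({o1, o2, (o1 ∪ o2)ᶜ} : Finset (Finset GolayPt)) = _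
  rw [Finset.smul_finset_insert, Finset.smul_finset_insert, Finset.smul_finset_singleton, e1, e2]
  have e3 : (h * (g : Equiv.Perm GolayPt)) • (o1 ∪ o2)ᶜ = (p1 ∪ p2)ᶜ := by
    rw [← e1, ← e2, ← Finset.smul_finset_union]
    ext x
    rw [Finset.mem_compl, ← Finset.inv_smul_mem_iff, ← Finset.inv_smul_mem_iff,
      Finset.mem_compl]
  rw [e3]

section
variable {G : Type*} [Group G] {φ : M24 →* G} {t : Finset (Finset GolayPt) → G}

/-- a subgroup containing the complement and one member of the family contains all of them -/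
theorem Fam.mem (h : FinalRel.Fam φ t) (K : Subgroup G) (hφ : ∀ g, φ g ∈ K)
    {T0 T : Finset (Finset GolayPt)} (hT0 : T0 ∈ trios) (h0 : t T0 ∈ K) (hT : T ∈ trios) :
    t T ∈ K := by
  obtain ⟨g, hg⟩ := exists_smul hT0 hT
  rw [← hg, ← h.conj g T0 hT0]
  exact K.mul_mem (K.mul_mem (hφ g) h0) (K.inv_mem (hφ g))

end

end Cfsg.Agent.J4Type.FinalTrio
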