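import Mathlib

/-! # Commuting isometries of order 3 and 7 of an `F₂`-space of dimension 12

If `a`, `b` are commuting isometries of a nondegenerate space of dimension 12 over `F₂`, `a ^ 3 = 1`, `b ^ 7 = 1`, and
`b` acts non-trivially on `[V, a]`, then `C_V(a) = C_V(b) = 0`.
-/

set_option autoImplicit false

namespace Cfsg.Agent.J4Type.FixRho

variable {V : Type*} [AddCommGroup V] [Module (ZMod 2) V]

theorem add_self (v : V) : v + v = 0 := ZModModule.add_self v

/-- the vectors killed by `a ^ 2 + a + 1` and by `b ^ 3 + b + 1`. -/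
def U1 (a b : V →ₗ[ZMod 2] V) : Submodule (ZMod 2) V :=
  LinearMap.ker (a ∘ₗ a + a + LinearMap.id) ⊓ LinearMap.ker (b ∘ₗ b ∘ₗ b + b + LinearMap.id)

theorem mem_U1 {a b : V →ₗ[ZMod 2] V} {v : V} :
    v ∈ U1 a b ↔ a (a v) + a v + v = 0 ∧ b (b (b v)) + b v + v = 0 := by
  simp [U1]

theorem eq_of_add {x y : V} (h : x + y = 0) : x = y := by
  have := add_self y
  rw [← this] at h
  exact add_right_cancel h

theorem cube_eq {a b : V →ₗ[ZMod 2] V} {v : V} (hv : v ∈ U1 a b) : b (b (b v)) = b v + v := by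
  have h := (mem_U1.1 hv).2
  rw [add_assoc] at h
  exact eq_of_add h

theorem map_mem {a b : V →ₗ[ZMod 2] V} (hab : ∀ v, a (b v) = b (a v)) {v : V} (hv : v ∈ U1 a b) :
    b v ∈ U1 a b := by
  rw [mem_U1] at hv ⊢
  refine ⟨?_, ?_⟩
  · rw [hab, hab, ← map_add, ← map_add, hv.1, map_zero]
  · rw [← map_add, ← map_add, hv.2, map_zero]

theorem map_mem_left {a b : V →ₗ[ZMod 2] V} (hab : ∀ v, a (b v) = b (a v)) {v : V} (hv : v ∈ U1 a b) :
    a v ∈ U1 a b := by
  rw [mem_U1] at hv ⊢
  refine ⟨?_, ?_⟩
  · rw [← map_add, ← map_add, hv.1, map_zero]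
  · rw [← hab, ← hab, ← hab, ← map_add, ← map_add, hv.2, map_zero]

/-- `U1` is totally isotropic. -/
theorem isotropic {a b : V →ₗ[ZMod 2] V} (hab : ∀ v, a (b v) = b (a v))
    (hb : ∀ v, b (b (b (b (b (b (b v)))))) = v)
    (B : V →ₗ[ZMod 2] V →ₗ[ZMod 2] ZMod 2) (hBb : ∀ v w, B (b v) (b w) = B v w)
    {u v : V} (hu : u ∈ U1 a b) (hv : v ∈ U1 a b) : B u v = 0 := by
  have two : ∀ x : ZMod 2, x + x = 0 := by decide
  have key : ∀ u v : V, u ∈ U1 a b → v ∈ U1 a b → B u (b (b (b (b v)))) = 0 := by
    intro u v hu hv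
    -- relation from v
    have h1 : B u (b (b (b (b v)))) = B u (b (b v)) + B u (b v) := by
      rw [cube_eq (map_mem hab hv), map_add]
    -- relation from u
    have h2 : B u (b v) + B u (b (b (b v))) + B u (b (b (b (b v)))) = 0 := by
      have e1 : B u (b v) = B (b (b (b u))) (b (b (b (b v)))) := by
        rw [hBb, hBb, hBb]
      have e2 : B u (b (b (b v))) = B (b u) (b (b (b (b v)))) := by
        rw [hBb]
      rw [e1, e2, ← LinearMap.add_apply, ← LinearMap.add_apply, ← map_add, ← map_add, (mem_U1.1 hu).2, map_zero,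
        LinearMap.zero_apply]
    have h3 : B u (b (b (b v))) = B u (b v) + B u v := by
      rw [cube_eq hv, map_add]
    have h4 : B u v + B u (b (b v)) + B u (b (b (b v))) = 0 := by
      have e1 : B u v = B (b (b (b u))) (b (b (b v))) := by
        rw [hBb, hBb, hBb]
      have e2 : B u (b (b v)) = B (b u) (b (b (b v))) := by
        rw [hBb]
      rw [e1, e2, ← LinearMap.add_apply, ← LinearMap.add_apply, ← map_add, ← map_add, (mem_U1.1 hu).2, map_zero,
        LinearMap.zero_apply]
    -- f1 = f2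
    have h5 : B u (b v) = B u (b (b v)) := by
      rw [h3] at h4
      have : B u v + B u (b (b v)) + (B u (b v) + B u v) = B u (b (b v)) + B u (b v) + (B u v + B u v) := by ring
      rw [this, two, add_zero] at h4
      have h6 := congrArg (· + B u (b (b v))) h4
      simp only [zero_add] at h6
      have : B u (b (b v)) + B u (b v) + B u (b (b v)) = B u (b v) + (B u (b (b v)) + B u (b (b v))) := by ring
      rw [this, two, add_zero] at h6
      exact h6
    rw [h1, ← h5, two]
  have h := key u (b (b (b v))) hu (map_mem hab (map_mem hab (map_mem hab hv)))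
  rwa [hb] at h

theorem a_fix {a : V →ₗ[ZMod 2] V} (B : V →ₗ[ZMod 2] V →ₗ[ZMod 2] ZMod 2)
    (hBa : ∀ v w, B (a v) (a w) = B v w) {w x : V} (hw : a (a w) + a w + w = 0) (hx : a x = x) : B w x = 0 := by
  have two : ∀ x : ZMod 2, x + x = 0 := by decide
  have e1 : B (a w) x = B w x := by
    conv_lhs => rw [← hx]
    exact hBa w x
  have e2 : B (a (a w)) x = B w x := by
    conv_lhs => rw [← hx]
    rw [hBa, e1]
  have h : B (a (a w) + a w + w) x = B (a (a w)) x + B (a w) x + B w x := by
    simp
  rw [hw, map_zero, LinearMap.zero_apply, e1, e2, two, zero_add] at h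
  exact h.symm

/-- the sum of the powers of `b`. -/
def P (b : V →ₗ[ZMod 2] V) (v : V) : V :=
  b (b (b (b (b (b v))))) + b (b (b (b (b v)))) + b (b (b (b v))) + b (b (b v)) + b (b v) + b v + v

theorem b_fix {b : V →ₗ[ZMod 2] V} (B : V →ₗ[ZMod 2] V →ₗ[ZMod 2] ZMod 2)
    (hBb : ∀ v w, B (b v) (b w) = B v w) {w x : V} (hw : P b w = 0) (hx : b x = x) : B w x = 0 := by
  have two : ∀ x : ZMod 2, x + x = 0 := by decide
  have e : ∀ w, B (b w) x = B w x := by
    intro w
    conv_lhs => rw [← hx]
    exact hBb w x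
  have h : B (P b w) x = B w x := by
    unfold P
    simp only [map_add, LinearMap.add_apply, e]
    have := two (B w x)
    linear_combination 3 * this
  rw [hw, map_zero, LinearMap.zero_apply] at h
  exact h.symm

theorem P_add (b : V →ₗ[ZMod 2] V) (v w : V) : P b (v + w) = P b v + P b w := by
  unfold P
  simp only [map_add]
  abel

theorem b_P {b : V →ₗ[ZMod 2] V} (hb : ∀ v, b (b (b (b (b (b (b v)))))) = v) (v : V) : b (P b v) = P b v := by
  unfold P
  simp only [map_add, hb]
  abel

theorem P_eq_of_fix {b : V →ₗ[ZMod 2] V} {v : V} (h : b v = v) : P b v = v := by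
  unfold P
  simp only [h]
  have := add_self v
  simp [this]

/-- the other cubic factor. -/
def F (b : V →ₗ[ZMod 2] V) (v : V) : V := b (b (b v)) + b (b v) + v

theorem P_factor (b : V →ₗ[ZMod 2] V) (v : V) : P b v = b (b (b (F b v))) + b (F b v) + F b v := by
  unfold P F
  simp only [map_add]
  have h := add_self (b (b (b v)))
  have e : b (b (b (b (b (b v))))) + b (b (b (b (b v)))) + b (b (b v)) + (b (b (b (b v))) + b (b (b v)) + b v) +
      (b (b (b v)) + b (b v) + v) = (b (b (b (b (b (b v))))) + b (b (b (b (b v)))) + b (b (b (b v))) + b (b (b v)) +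
      b (b v) + b v + v) + (b (b (b v)) + b (b (b v))) := by abel
  rw [e, h, add_zero]

theorem F_mem {a b : V →ₗ[ZMod 2] V} (hab : ∀ v, a (b v) = b (a v)) {z : V} (hz : a (a z) + a z + z = 0)
    (hP : P b z = 0) : F b z ∈ U1 a b := by
  rw [mem_U1]
  refine ⟨?_, by rw [← P_factor, hP]⟩
  have h : a (a (F b z)) + a (F b z) + F b z = F b (a (a z) + a z + z) := by
    unfold F
    simp only [map_add, hab]
    abel
  rw [h, hz]
  simp [F]

/-- the inverse of `b`. -/
def inv (b : V →ₗ[ZMod 2] V) : V →ₗ[ZMod 2] V := b ∘ₗ b ∘ₗ b ∘ₗ b ∘ₗ b ∘ₗ b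

theorem inv_apply (b : V →ₗ[ZMod 2] V) (v : V) : inv b v = b (b (b (b (b (b v))))) := rfl

theorem inv_mem {a b : V →ₗ[ZMod 2] V} (hb : ∀ v, b (b (b (b (b (b (b v)))))) = v) {z : V}
    (hz : a (a z) + a z + z = 0) (hF : F b z = 0) : z ∈ U1 a (inv b) := by
  rw [mem_U1]
  refine ⟨hz, ?_⟩
  simp only [inv_apply, hb]
  -- b^{18} = b^4, b^6
  have h : b (b (b (b (F b z)))) = b (b (b (b z))) + b (b (b (b (b (b z))))) + z := by
    unfold F
    simp only [map_add, hb]
    abel
  rw [← h, hF]
  simp

/-- If `b` is non-trivial on `[V, a]` then `U1 a b ≠ 0`. -/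
theorem exists_ne {a b : V →ₗ[ZMod 2] V} (hab : ∀ v, a (b v) = b (a v)) (ha : ∀ v, a (a (a v)) = v)
    (hb : ∀ v, b (b (b (b (b (b (b v)))))) = v)
    (B : V →ₗ[ZMod 2] V →ₗ[ZMod 2] ZMod 2) (hB : ∀ v, (∀ w, B v w = 0) → v = 0)
    (hBa : ∀ v w, B (a v) (a w) = B v w) (hBb : ∀ v w, B (b v) (b w) = B v w)
    {v : V} (hv : a (a v) + a v + v = 0) (hbv : b v ≠ v) : U1 a b ≠ ⊥ := by
  intro h0
  have hF : ∀ z, a (a z) + a z + z = 0 → P b z = 0 → F b z = 0 := by
    intro z hz hP
    have := F_mem hab hz hP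
    rw [h0] at this
    exact this
  have habinv : ∀ v, a (inv b v) = inv b (a v) := by
    intro v
    simp only [inv_apply, hab]
  have hbinv : ∀ v, inv b (inv b (inv b (inv b (inv b (inv b (inv b v)))))) = v := by
    intro v
    simp only [inv_apply, hb]
  have hBinv : ∀ v w, B (inv b v) (inv b w) = B v w := by
    intro v w
    simp only [inv_apply, hBb]
  set w := b v + v with hw
  have hw0 : w ≠ 0 := fun h => hbv (eq_of_add h)
  have hwU : a (a w) + a w + w = 0 := by
    have : a (a w) + a w + w = b (a (a v) + a v + v) + (a (a v) + a v + v) := by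
      rw [hw]
      simp only [map_add, hab]
      abel
    rw [this, hv, map_zero, add_zero]
  have hwP : P b w = 0 := by
    rw [hw, P_add]
    have : P b (b v) = b (P b v) := by
      unfold P
      simp only [map_add]
    rw [this, b_P hb, add_self]
  apply hw0
  apply hB
  intro x
  set x1 := x + a x + a (a x) with hx1
  set y := a x + a (a x) with hy
  have hx : x = x1 + y := by
    rw [hx1, hy]
    have : x + a x + a (a x) + (a x + a (a x)) = x + (a x + a x) + (a (a x) + a (a x)) := by abel
    rw [this, add_self, add_self, add_zero, add_zero]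
  have hx1a : a x1 = x1 := by
    rw [hx1]
    simp only [map_add, ha]
    abel
  have hyU : a (a y) + a y + y = 0 := by
    rw [hy]
    simp only [map_add, ha]
    have : x + a x + (a (a x) + x) + (a x + a (a x)) = (x + x) + (a x + a x) + (a (a x) + a (a x)) := by abel
    rw [this]
    simp only [add_self, add_zero]
  set z := y + P b y with hz
  have hPyU : a (a (P b y)) + a (P b y) + P b y = P b (a (a y) + a y + y) := by
    unfold P
    simp only [map_add, hab]
    abel
  have hP0 : P b (0 : V) = 0 := by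
    unfold P
    simp
  have hzU : a (a z) + a z + z = 0 := by
    have : a (a z) + a z + z = (a (a y) + a y + y) + (a (a (P b y)) + a (P b y) + P b y) := by
      rw [hz]
      simp only [map_add]
      abel
    rw [this, hPyU, hyU, hP0, add_zero]
  have hzP : P b z = 0 := by
    rw [hz, P_add, P_eq_of_fix (b_P hb y), add_self]
  have hyz : y = P b y + z := by
    rw [hz]
    have : P b y + (y + P b y) = y + (P b y + P b y) := by abel
    rw [this, add_self, add_zero]
  have e1 : B w x1 = 0 := a_fix B hBa hwU hx1a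
  have e2 : B w (P b y) = 0 := b_fix B hBb hwP (b_P hb y)
  have e3 : B w z = 0 :=
    isotropic habinv hbinv B hBinv (inv_mem hb hwU (hF w hwU hwP)) (inv_mem hb hzU (hF z hzU hzP))
  rw [hx, map_add, e1, hyz, map_add, e2, e3, add_zero, add_zero]

/-- the order of `U1` is `1` or at least `2 ^ 6`. -/
theorem card_U1 [Finite V] {a b : V →ₗ[ZMod 2] V} (hab : ∀ v, a (b v) = b (a v)) (ha : ∀ v, a (a (a v)) = v)
    (hb : ∀ v, b (b (b (b (b (b (b v)))))) = v) (h : U1 a b ≠ ⊥) : 2 ^ 6 ≤ Nat.card (U1 a b) := by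
  classical
  have := Fintype.ofFinite V
  -- the two permutations of `U1`
  let fb : Function.End (U1 a b) := fun v => ⟨b v.1, map_mem hab v.2⟩
  let fa : Function.End (U1 a b) := fun v => ⟨a v.1, map_mem_left hab v.2⟩
  have hfb : fb ^ 7 ^ 1 = 1 := by
    funext v
    apply Subtype.ext
    exact hb v.1
  have hfa : fa ^ 3 ^ 1 = 1 := by
    funext v
    apply Subtype.ext
    exact ha v.1
  have : Fact (Nat.Prime 7) := ⟨by norm_num⟩
  have : Fact (Nat.Prime 3) := ⟨by norm_num⟩
  have h7 := Equiv.Perm.card_fixedPoints_modEq hfb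
  have h3 := Equiv.Perm.card_fixedPoints_modEq hfa
  have c7 : Fintype.card fb.fixedPoints = 1 := by
    rw [Fintype.card_eq_one_iff]
    refine ⟨⟨0, ?_⟩, ?_⟩
    · apply Subtype.ext
      exact map_zero b
    · rintro ⟨v, hv⟩
      apply Subtype.ext
      apply Subtype.ext
      have hv' : b v.1 = v.1 := congrArg Subtype.val hv
      have := (mem_U1.1 v.2).2
      rw [hv', hv', hv', add_self, zero_add] at this
      exact this
  have c3 : Fintype.card fa.fixedPoints = 1 := by
    rw [Fintype.card_eq_one_iff]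
    refine ⟨⟨0, ?_⟩, ?_⟩
    · apply Subtype.ext
      exact map_zero a
    · rintro ⟨v, hv⟩
      apply Subtype.ext
      apply Subtype.ext
      have hv' : a v.1 = v.1 := congrArg Subtype.val hv
      have := (mem_U1.1 v.2).1
      rw [hv', hv', add_self, zero_add] at this
      exact this
  rw [c7] at h7
  rw [c3] at h3
  rw [Nat.card_eq_fintype_card]
  have hd := Module.card_eq_pow_finrank (K := ZMod 2) (V := U1 a b)
  rw [ZMod.card] at hd
  set d := Module.finrank (ZMod 2) (U1 a b) with hdef
  have hd0 : d ≠ 0 := by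
    intro h0
    apply h
    exact Submodule.finrank_eq_zero.1 h0
  rw [hd] at h7 h3 ⊢
  apply Nat.pow_le_pow_right (by norm_num)
  by_contra hlt
  push Not at hlt
  interval_cases d
  all_goals first
    | exact hd0 rfl
    | exact absurd h7 (by decide)
    | exact absurd h3 (by decide)

theorem fixed_trivial [Finite V] (hcard : Nat.card V = 2 ^ 12) {a b : V →ₗ[ZMod 2] V}
    (hab : ∀ v, a (b v) = b (a v)) (ha : ∀ v, a (a (a v)) = v)
    (hb : ∀ v, b (b (b (b (b (b (b v)))))) = v)
    (B : V →ₗ[ZMod 2] V →ₗ[ZMod 2] ZMod 2) (hB : ∀ v, (∀ w, B v w = 0) → v = 0)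
    (hBa : ∀ v w, B (a v) (a w) = B v w) (hBb : ∀ v w, B (b v) (b w) = B v w)
    {v : V} (hv : a (a v) + a v + v = 0) (hbv : b v ≠ v) :
    (∀ x, a (a x) + a x + x = 0) ∧ (∀ x, P b x = 0) := by
  have habinv : ∀ v, a (inv b v) = inv b (a v) := by
    intro v
    simp only [inv_apply, hab]
  have hbinv : ∀ v, inv b (inv b (inv b (inv b (inv b (inv b (inv b v)))))) = v := by
    intro v
    simp only [inv_apply, hb]
  have hBinv : ∀ v w, B (inv b v) (inv b w) = B v w := by
    intro v w
    simp only [inv_apply, hBb]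
  have hbv' : inv b v ≠ v := by
    intro h
    apply hbv
    have := hb v
    rw [inv_apply] at h
    rw [h] at this
    exact this
  have n1 := card_U1 hab ha hb (exists_ne hab ha hb B hB hBa hBb hv hbv)
  have n2 := card_U1 habinv ha hbinv (exists_ne habinv ha hbinv B hB hBa hBinv hv hbv')
  -- membership of the second space
  have m2 : ∀ x ∈ U1 a (inv b), F b x = 0 := by
    intro x hx
    have h := (mem_U1.1 hx).2
    simp only [inv_apply, hb] at h
    have h2 : F b x = b (b (b (b (b (b (b x))) + b (b (b (b (b (b x))))) + x))) := by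
      unfold F
      simp only [map_add, hb]
      abel
    rw [h2, h, map_zero, map_zero, map_zero]
  -- the sum map is injective
  let g : U1 a b × U1 a (inv b) → V := fun p => p.1.1 + p.2.1
  have hg : Function.Injective g := by
    rintro ⟨⟨x, hx⟩, ⟨y, hy⟩⟩ ⟨⟨x', hx'⟩, ⟨y', hy'⟩⟩ h
    have h' : x + y = x' + y' := h
    have hd : x - x' = y' - y := by
      rw [sub_eq_sub_iff_add_eq_add, h', add_comm]
    have hz1 : x - x' ∈ U1 a b := Submodule.sub_mem _ hx hx'
    have hz2 : x - x' ∈ U1 a (inv b) := hd ▸ Submodule.sub_mem _ hy' hy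
    have z0 : x - x' = 0 := by
      set z := x - x' with hz
      have k1 := (mem_U1.1 hz1).2
      have k2 := m2 z hz2
      unfold F at k2
      -- b² z = b z
      have k3 : b (b z) = b z := by
        have e1 : b (b (b z)) = b z + z := cube_eq hz1
        rw [e1] at k2
        have : b z + z + b (b z) + z = (b (b z) + b z) + (z + z) := by abel
        rw [this, add_self, add_zero] at k2
        exact eq_of_add k2
      have k4 : b z = z := by
        have := congrArg (fun t => b (b (b (b (b (b t)))))) k3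
        simp only [hb] at this
        exact this
      rw [k4, k4, k4, add_self, zero_add] at k1
      exact k1
    have hx0 : x = x' := sub_eq_zero.1 z0
    have hy0 : y = y' := by
      rw [z0] at hd
      exact (sub_eq_zero.1 hd.symm).symm
    subst hx0 hy0
    rfl
  have hsurj : Function.Surjective g := by
    have := Fintype.ofFinite V
    have := Fintype.ofFinite (U1 a b × U1 a (inv b))
    apply ((Fintype.bijective_iff_injective_and_card g).2 ⟨hg, ?_⟩).2
    apply le_antisymm (Fintype.card_le_of_injective g hg)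
    rw [← Nat.card_eq_fintype_card, ← Nat.card_eq_fintype_card, Nat.card_prod, hcard]
    calc 2 ^ 12 = 2 ^ 6 * 2 ^ 6 := by norm_num
      _ ≤ _ := Nat.mul_le_mul n1 n2
  refine ⟨?_, ?_⟩
  · intro x
    obtain ⟨⟨⟨y, hy⟩, ⟨z, hz⟩⟩, rfl⟩ := hsurj x
    have e1 := (mem_U1.1 hy).1
    have e2 := (mem_U1.1 hz).1
    change a (a (y + z)) + a (y + z) + (y + z) = 0
    have : a (a (y + z)) + a (y + z) + (y + z) = (a (a y) + a y + y) + (a (a z) + a z + z) := by
      simp only [map_add]
      abel
    rw [this, e1, e2, add_zero]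
  · intro x
    obtain ⟨⟨⟨y, hy⟩, ⟨z, hz⟩⟩, rfl⟩ := hsurj x
    change P b (y + z) = 0
    rw [P_add]
    have e1 : P b y = 0 := by
      have : P b y = F b (b (b (b y)) + b y + y) := by
        rw [P_factor]
        unfold F
        simp only [map_add]
        abel
      rw [this, (mem_U1.1 hy).2]
      simp [F]
    have e2 : P b z = 0 := by
      rw [P_factor, m2 z hz]
      simp
    rw [e1, e2, add_zero]

/-- Both `a` and `b` are fixed point free on `V`. -/
theorem fixed_point_free [Finite V] (hcard : Nat.card V = 2 ^ 12) {a b : V →ₗ[ZMod 2] V}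
    (hab : ∀ v, a (b v) = b (a v)) (ha : ∀ v, a (a (a v)) = v)
    (hb : ∀ v, b (b (b (b (b (b (b v)))))) = v)
    (B : V →ₗ[ZMod 2] V →ₗ[ZMod 2] ZMod 2) (hB : ∀ v, (∀ w, B v w = 0) → v = 0)
    (hBa : ∀ v w, B (a v) (a w) = B v w) (hBb : ∀ v w, B (b v) (b w) = B v w)
    {v : V} (hv : a (a v) + a v + v = 0) (hbv : b v ≠ v) :
    (∀ x, a x = x → x = 0) ∧ (∀ x, b x = x → x = 0) := by
  obtain ⟨h1, h2⟩ := fixed_trivial hcard hab ha hb B hB hBa hBb hv hbv
  refine ⟨?_, ?_⟩
  · intro x hx
    have := h1 x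
    rw [hx, hx, add_self, zero_add] at this
    exact this
  · intro x hx
    rw [← h2 x, P_eq_of_fix hx]

end Cfsg.Agent.J4Type.FixRho
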