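import Cfsg.Agent.SporadicA.FieldFour

/-!
# Abstract frames for the 6-dimensional module (J4 type recognition)

`V` is a vector space over the field `F4` with four elements, `s`, `t` two linear maps of order
three with `s t = ω t s`.  Every subspace invariant under `s` and `t` has order `1`, `64` or `4096`
when `|V| = 4096`.
-/

set_option autoImplicit false

namespace Cfsg.Agent.J4Type.Frame

open Cfsg.Agent.SporadicA.FieldFour
open Cfsg.Agent.SporadicA.FieldFour.F4

/-- Conjugation of `F4`. -/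
def conj : F4 → F4
  | F4.z => F4.z
  | F4.o => F4.o
  | F4.w => F4.v
  | F4.v => F4.w

/-- The trace-like form on `F4`: `0, 1 ↦ 0` and `ω, ω² ↦ 1`. -/
def tr : F4 → ZMod 2
  | F4.z => 0
  | F4.o => 0
  | F4.w => 1
  | F4.v => 1

theorem conj_conj : ∀ a : F4, conj (conj a) = a := by decide
theorem conj_mul : ∀ a b : F4, conj (a * b) = conj a * conj b := by decide
theorem conj_add : ∀ a b : F4, conj (a + b) = conj a + conj b := by decide
theorem tr_add : ∀ a b : F4, tr (a + b) = tr a + tr b := by decide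
theorem tr_conj : ∀ a : F4, tr (conj a) = tr a := by decide
theorem add_self_F4 : ∀ a : F4, a + a = 0 := by decide
theorem one_eq : (1 : F4) = F4.o := rfl
theorem zero_eq : (0 : F4) = F4.z := rfl
theorem sum_eq : (1 : F4) + F4.w + F4.v = 0 := by decide
theorem eq_zero_of_tr : ∀ a : F4, tr a = 0 → tr (a * F4.v) = 0 → a = 0 := by decide

variable {V : Type*} [AddCommGroup V] [Module F4 V]

theorem add_self (v : V) : v + v = 0 := by
  have h : ((1 : F4) + 1) • v = 0 := by
    rw [show (1 : F4) + 1 = 0 from by decide, zero_smul]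
  rwa [add_smul, one_smul] at h

theorem neg_eq (v : V) : -v = v := by
  rw [neg_eq_iff_add_eq_zero]; exact add_self v

theorem eq_of_add_eq_zero {u v : V} (h : u + v = 0) : u = v := by
  rw [← neg_eq v]; exact eq_neg_of_add_eq_zero_left h

/-- A pair of operators generating an extraspecial group of order 27. -/
structure TP (V : Type*) [AddCommGroup V] [Module F4 V] where
  s : V →ₗ[F4] V
  t : V →ₗ[F4] V
  s3 : ∀ v, s (s (s v)) = v
  t3 : ∀ v, t (t (t v)) = v
  st : ∀ v, s (t v) = F4.w • t (s v)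

namespace TP

variable (T : TP V)

/-- Invariant subgroups. -/
def Inv (U : AddSubgroup V) : Prop := (∀ v ∈ U, T.s v ∈ U) ∧ (∀ v ∈ U, T.t v ∈ U)

theorem w_mem {U : AddSubgroup V} (hU : T.Inv U) {v : V} (hv : v ∈ U) : F4.w • v ∈ U := by
  -- ω v = s t (s² t² v)
  have h1 : T.t (T.t v) ∈ U := hU.2 _ (hU.2 _ hv)
  have h2 : T.s (T.s (T.t (T.t v))) ∈ U := hU.1 _ (hU.1 _ h1)
  have h3 : T.s (T.t (T.s (T.s (T.t (T.t v))))) ∈ U := hU.1 _ (hU.2 _ h2)
  rw [T.st, T.s3, T.t3] at h3
  exact h3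

theorem smul_mem {U : AddSubgroup V} (hU : T.Inv U) {v : V} (hv : v ∈ U) (a : F4) : a • v ∈ U := by
  have hw := T.w_mem hU hv
  cases a with
  | z => have : (F4.z : F4) • v = 0 := zero_smul F4 v
         rw [this]; exact U.zero_mem
  | o => have : (F4.o : F4) • v = v := one_smul F4 v
         rw [this]; exact hv
  | w => exact hw
  | v => have h := T.w_mem hU hw
         rw [smul_smul] at h
         exact h

theorem smul_mem_iff {U : AddSubgroup V} (hU : T.Inv U) {v : V} {a : F4} (ha : a ≠ 0) :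
    a • v ∈ U ↔ v ∈ U := by
  constructor
  · intro h
    have := T.smul_mem hU h a⁻¹
    rwa [smul_smul, inv_mul_cancel₀ ha, one_smul] at this
  · intro h; exact T.smul_mem hU h a

theorem s_mem_iff {U : AddSubgroup V} (hU : T.Inv U) {v : V} : T.s v ∈ U ↔ v ∈ U := by
  constructor
  · intro h
    have := hU.1 _ (hU.1 _ h)
    rwa [T.s3] at this
  · intro h; exact hU.1 _ h

theorem t_mem_iff {U : AddSubgroup V} (hU : T.Inv U) {v : V} : T.t v ∈ U ↔ v ∈ U := by
  constructor
  · intro h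
    have := hU.2 _ (hU.2 _ h)
    rwa [T.t3] at this
  · intro h; exact hU.2 _ h

/-- The projections to the eigenspaces of `s`: `proj k v` has eigenvalue `ω^k`. -/
def proj (k : Fin 3) (v : V) : V :=
  match k with
  | 0 => v + T.s v + T.s (T.s v)
  | 1 => v + F4.v • T.s v + F4.w • T.s (T.s v)
  | 2 => v + F4.w • T.s v + F4.v • T.s (T.s v)

/-- The eigenvalue. -/
def ev : Fin 3 → F4
  | 0 => F4.o
  | 1 => F4.w
  | 2 => F4.v

theorem s_proj (k : Fin 3) (v : V) : T.s (T.proj k v) = ev k • T.proj k v := by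
  match k with
  | 0 =>
    simp only [proj, ev, map_add, T.s3]
    rw [show (F4.o : F4) = 1 from rfl, one_smul]; abel
  | 1 =>
    simp only [proj, ev, map_add, map_smul, T.s3, smul_add, smul_smul]
    rw [show (F4.w * F4.v : F4) = 1 from rfl, show (F4.w * F4.w : F4) = F4.v from rfl, one_smul]
    abel
  | 2 =>
    simp only [proj, ev, map_add, map_smul, T.s3, smul_add, smul_smul]
    rw [show (F4.v * F4.w : F4) = 1 from rfl, show (F4.v * F4.v : F4) = F4.w from rfl, one_smul]
    abel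

theorem sum_proj (v : V) : T.proj 0 v + T.proj 1 v + T.proj 2 v = v := by
  simp only [proj]
  have e1 : T.s v + F4.v • T.s v + F4.w • T.s v = 0 := by
    have : ((1 : F4) + F4.v + F4.w) • T.s v = 0 := by
      rw [show (1 : F4) + F4.v + F4.w = 0 from by decide, zero_smul]
    rwa [add_smul, add_smul, one_smul] at this
  have e2 : T.s (T.s v) + F4.w • T.s (T.s v) + F4.v • T.s (T.s v) = 0 := by
    have : ((1 : F4) + F4.w + F4.v) • T.s (T.s v) = 0 := by
      rw [show (1 : F4) + F4.w + F4.v = 0 from by decide, zero_smul]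
    rwa [add_smul, add_smul, one_smul] at this
  calc v + T.s v + T.s (T.s v) + (v + F4.v • T.s v + F4.w • T.s (T.s v)) +
        (v + F4.w • T.s v + F4.v • T.s (T.s v))
      = (v + v) + v + (T.s v + F4.v • T.s v + F4.w • T.s v) +
        (T.s (T.s v) + F4.w • T.s (T.s v) + F4.v • T.s (T.s v)) := by abel
    _ = v := by rw [e1, e2, add_self, zero_add, add_zero, add_zero]

theorem proj_add (k : Fin 3) (u v : V) : T.proj k (u + v) = T.proj k u + T.proj k v := by
  match k with
  | 0 => simp only [proj, map_add]; abel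
  | 1 => simp only [proj, map_add, smul_add]; abel
  | 2 => simp only [proj, map_add, smul_add]; abel

theorem proj_mem {U : AddSubgroup V} (hU : T.Inv U) {v : V} (hv : v ∈ U) (k : Fin 3) :
    T.proj k v ∈ U := by
  have h1 := hU.1 _ hv
  have h2 := hU.1 _ h1
  match k with
  | 0 => exact U.add_mem (U.add_mem hv h1) h2
  | 1 => exact U.add_mem (U.add_mem hv (T.smul_mem hU h1 _)) (T.smul_mem hU h2 _)
  | 2 => exact U.add_mem (U.add_mem hv (T.smul_mem hU h1 _)) (T.smul_mem hU h2 _)

/-- Projection of an eigenvector. -/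
theorem proj_eig {v : V} {j : Fin 3} (hv : T.s v = ev j • v) (k : Fin 3) :
    T.proj k v = if k = j then v else 0 := by
  have h2 : T.s (T.s v) = (ev j * ev j) • v := by rw [hv, map_smul, hv, smul_smul]
  have key : ∀ a b : F4, v + a • T.s v + b • T.s (T.s v) = (1 + a * ev j + b * (ev j * ev j)) • v := by
    intro a b
    rw [h2, hv, smul_smul, smul_smul, add_smul, add_smul, one_smul]
  have h0 : T.proj 0 v = (1 + 1 * ev j + 1 * (ev j * ev j)) • v := by
    rw [← key 1 1, one_smul, one_smul]; rfl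
  have h1 : T.proj 1 v = (1 + F4.v * ev j + F4.w * (ev j * ev j)) • v := by
    rw [← key]; rfl
  have h3 : T.proj 2 v = (1 + F4.w * ev j + F4.v * (ev j * ev j)) • v := by
    rw [← key]; rfl
  fin_cases k <;> fin_cases j <;>
    first
      | (simp only [Fin.zero_eta, Fin.mk_one, Fin.reduceFinMk] at *
         first
          | (rw [h0, show ((1 : F4) + 1 * ev 0 + 1 * (ev 0 * ev 0)) = 1 from by decide]; simp)
          | (rw [h0, show ((1 : F4) + 1 * ev 1 + 1 * (ev 1 * ev 1)) = 0 from by decide]; simp)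
          | (rw [h0, show ((1 : F4) + 1 * ev 2 + 1 * (ev 2 * ev 2)) = 0 from by decide]; simp)
          | (rw [h1, show ((1 : F4) + F4.v * ev 0 + F4.w * (ev 0 * ev 0)) = 0 from by decide]; simp)
          | (rw [h1, show ((1 : F4) + F4.v * ev 1 + F4.w * (ev 1 * ev 1)) = 1 from by decide]; simp)
          | (rw [h1, show ((1 : F4) + F4.v * ev 2 + F4.w * (ev 2 * ev 2)) = 0 from by decide]; simp)
          | (rw [h3, show ((1 : F4) + F4.w * ev 0 + F4.v * (ev 0 * ev 0)) = 0 from by decide]; simp)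
          | (rw [h3, show ((1 : F4) + F4.w * ev 1 + F4.v * (ev 1 * ev 1)) = 0 from by decide]; simp)
          | (rw [h3, show ((1 : F4) + F4.w * ev 2 + F4.v * (ev 2 * ev 2)) = 1 from by decide]; simp))

/-- The frame map attached to a vector. -/
def psi (e : V) : (Fin 3 → F4) →ₗ[F4] V where
  toFun a := a 0 • e + a 1 • T.t e + a 2 • T.t (T.t e)
  map_add' a c := by simp only [Pi.add_apply, add_smul]; abel
  map_smul' r a := by
    simp only [Pi.smul_apply, smul_eq_mul, RingHom.id_apply, smul_add, smul_smul]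

theorem psi_apply (e : V) (a : Fin 3 → F4) :
    T.psi e a = a 0 • e + a 1 • T.t e + a 2 • T.t (T.t e) := rfl

theorem s_e1 {e : V} (he : T.s e = e) : T.s (T.t e) = F4.w • T.t e := by
  rw [T.st, he]

theorem s_e2 {e : V} (he : T.s e = e) : T.s (T.t (T.t e)) = F4.v • T.t (T.t e) := by
  rw [T.st, T.s_e1 he, map_smul, smul_smul]; rfl

theorem s_smul_e0 {e : V} (he : T.s e = e) (a : F4) : T.s (a • e) = ev 0 • (a • e) := by
  rw [map_smul, he]; exact (one_smul F4 _).symm

theorem s_smul_e1 {e : V} (he : T.s e = e) (a : F4) : T.s (a • T.t e) = ev 1 • (a • T.t e) := by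
  rw [map_smul, T.s_e1 he, smul_comm]; rfl

theorem s_smul_e2 {e : V} (he : T.s e = e) (a : F4) :
    T.s (a • T.t (T.t e)) = ev 2 • (a • T.t (T.t e)) := by
  rw [map_smul, T.s_e2 he, smul_comm]; rfl

theorem proj_psi {e : V} (he : T.s e = e) (a : Fin 3 → F4) :
    T.proj 0 (T.psi e a) = a 0 • e ∧ T.proj 1 (T.psi e a) = a 1 • T.t e ∧
      T.proj 2 (T.psi e a) = a 2 • T.t (T.t e) := by
  have h0 := T.s_smul_e0 he (a 0)
  have h1 := T.s_smul_e1 he (a 1)
  have h2 := T.s_smul_e2 he (a 2)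
  refine ⟨?_, ?_, ?_⟩
  · rw [psi_apply, proj_add, proj_add, proj_eig T h0, proj_eig T h1, proj_eig T h2]; simp
  · rw [psi_apply, proj_add, proj_add, proj_eig T h0, proj_eig T h1, proj_eig T h2]; simp
  · rw [psi_apply, proj_add, proj_add, proj_eig T h0, proj_eig T h1, proj_eig T h2]; simp

theorem psi_mem {U : AddSubgroup V} (hU : T.Inv U) {e : V} (he : e ∈ U) (a : Fin 3 → F4) :
    T.psi e a ∈ U := by
  rw [psi_apply]
  exact U.add_mem (U.add_mem (T.smul_mem hU he _) (T.smul_mem hU (hU.2 _ he) _))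
    (T.smul_mem hU (hU.2 _ (hU.2 _ he)) _)

theorem psi_eq_zero_of_mem {U : AddSubgroup V} (hU : T.Inv U) {e : V} (he : T.s e = e)
    (heU : e ∉ U) {a : Fin 3 → F4} (h : T.psi e a ∈ U) : a = 0 := by
  obtain ⟨h0, h1, h2⟩ := T.proj_psi he a
  have g0 := T.proj_mem hU h 0
  have g1 := T.proj_mem hU h 1
  have g2 := T.proj_mem hU h 2
  rw [h0] at g0; rw [h1] at g1; rw [h2] at g2
  have z0 : a 0 = 0 := by
    by_contra hne; exact heU ((T.smul_mem_iff hU hne).1 g0)
  have z1 : a 1 = 0 := by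
    by_contra hne; exact heU ((T.t_mem_iff hU).1 ((T.smul_mem_iff hU hne).1 g1))
  have z2 : a 2 = 0 := by
    by_contra hne
    exact heU ((T.t_mem_iff hU).1 ((T.t_mem_iff hU).1 ((T.smul_mem_iff hU hne).1 g2)))
  funext i
  fin_cases i
  · exact z0
  · exact z1
  · exact z2

theorem inv_bot : T.Inv (⊥ : AddSubgroup V) := by
  constructor
  · intro v hv; rw [AddSubgroup.mem_bot] at hv ⊢; rw [hv, map_zero]
  · intro v hv; rw [AddSubgroup.mem_bot] at hv ⊢; rw [hv, map_zero]

theorem inv_top : T.Inv (⊤ : AddSubgroup V) := ⟨fun _ _ => trivial, fun _ _ => trivial⟩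

theorem inv_inf {U U' : AddSubgroup V} (hU : T.Inv U) (hU' : T.Inv U') : T.Inv (U ⊓ U') :=
  ⟨fun v hv => ⟨hU.1 v hv.1, hU'.1 v hv.2⟩, fun v hv => ⟨hU.2 v hv.1, hU'.2 v hv.2⟩⟩

theorem exists_fix {U U' : AddSubgroup V} (hU : T.Inv U) (hU' : T.Inv U') {v : V}
    (hv : v ∈ U') (hvU : v ∉ U) : ∃ e ∈ U', e ∉ U ∧ T.s e = e := by
  by_cases h0 : T.proj 0 v ∈ U
  · by_cases h1 : T.proj 1 v ∈ U
    · by_cases h2 : T.proj 2 v ∈ U
      · exact absurd (by
          rw [← T.sum_proj v]
          exact U.add_mem (U.add_mem h0 h1) h2) hvU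
      · refine ⟨T.t (T.proj 2 v), hU'.2 _ (T.proj_mem hU' hv 2),
          fun h => h2 ((T.t_mem_iff hU).1 h), ?_⟩
        rw [T.st, T.s_proj, map_smul, smul_smul]
        exact one_smul F4 _
    · refine ⟨T.t (T.t (T.proj 1 v)), hU'.2 _ (hU'.2 _ (T.proj_mem hU' hv 1)),
        fun h => h1 ((T.t_mem_iff hU).1 ((T.t_mem_iff hU).1 h)), ?_⟩
      rw [T.st, T.st, T.s_proj, map_smul, map_smul, map_smul, smul_smul, smul_smul]
      exact one_smul F4 _
  · refine ⟨T.proj 0 v, T.proj_mem hU' hv 0, h0, ?_⟩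
    rw [T.s_proj]
    exact one_smul F4 _

theorem card_F43 : Nat.card (Fin 3 → F4) = 64 := by
  rw [Nat.card_eq_fintype_card, Fintype.card_fun, F4.card_eq, Fintype.card_fin]
  norm_num

theorem card_mul_le [Finite V] {U : AddSubgroup V} (hU : T.Inv U) {e : V} (he : T.s e = e)
    (heU : e ∉ U) : 64 * Nat.card U ≤ Nat.card V := by
  have hinj : Function.Injective (fun p : (Fin 3 → F4) × U => T.psi e p.1 + (p.2 : V)) := by
    rintro ⟨a, u⟩ ⟨a', u'⟩ h
    simp only at h
    have h1 : T.psi e (a - a') ∈ U := by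
      rw [map_sub]
      have : T.psi e a - T.psi e a' = (u' : V) - u := by
        rw [sub_eq_sub_iff_add_eq_add, h]; abel
      rw [this]
      exact U.sub_mem u'.2 u.2
    have h2 := T.psi_eq_zero_of_mem hU he heU h1
    have h3 : a = a' := sub_eq_zero.1 h2
    subst h3
    have h4 : (u : V) = u' := add_left_cancel h
    exact Prod.ext rfl (Subtype.ext h4)
  have := Nat.card_le_card_of_injective _ hinj
  rwa [Nat.card_prod, card_F43] at this

theorem le_card [Finite V] {U : AddSubgroup V} (hU : T.Inv U) (h : U ≠ ⊥) : 64 ≤ Nat.card U := by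
  obtain ⟨v, hv, hv0⟩ := (AddSubgroup.ne_bot_iff_exists_ne_zero.1 h : ∃ a : U, a ≠ 0) |>.elim
    (fun a ha => (⟨a, a.2, fun h0 => ha (Subtype.ext h0)⟩ : ∃ v, v ∈ U ∧ v ≠ 0))
  obtain ⟨e, heU, he0, hes⟩ := T.exists_fix T.inv_bot hU hv
    (fun h => hv0 (AddSubgroup.mem_bot.1 h))
  have hinj : Function.Injective (fun a : Fin 3 → F4 => (⟨T.psi e a, T.psi_mem hU heU a⟩ : U)) := by
    intro a a' h
    have h1 : T.psi e a = T.psi e a' := congrArg Subtype.val h
    have h2 : T.psi e (a - a') ∈ (⊥ : AddSubgroup V) := by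
      rw [map_sub, h1, sub_self]; exact AddSubgroup.zero_mem _
    exact sub_eq_zero.1 (T.psi_eq_zero_of_mem T.inv_bot hes he0 h2)
  have := Nat.card_le_card_of_injective _ hinj
  rwa [card_F43] at this

theorem card_eq [Finite V] (hV : Nat.card V = 4096) {U : AddSubgroup V} (hU : T.Inv U)
    (h : U ≠ ⊥) (h' : U ≠ ⊤) : Nat.card U = 64 := by
  apply le_antisymm _ (T.le_card hU h)
  obtain ⟨v, hv⟩ : ∃ v, v ∉ U := by
    by_contra hc
    push Not at hc
    exact h' (eq_top_iff.2 fun v _ => hc v)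
  obtain ⟨e, -, heU, hes⟩ := T.exists_fix hU T.inv_top (v := v) trivial hv
  have := T.card_mul_le hU hes heU
  rw [hV] at this
  omega

theorem eq_of_le [Finite V] (hV : Nat.card V = 4096) {U U' : AddSubgroup V} (hU : T.Inv U)
    (hU' : T.Inv U') (h : U ≠ ⊥) (h' : U' ≠ ⊤) (hle : U ≤ U') : U = U' := by
  have h1 : U ≠ ⊤ := fun h2 => h' (top_le_iff.1 (h2 ▸ hle))
  have h3 : U' ≠ ⊥ := fun h2 => h (le_bot_iff.1 (h2 ▸ hle))
  have c1 := T.card_eq hV hU h h1
  have c2 := T.card_eq hV hU' h3 h'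
  exact AddSubgroup.eq_of_le_of_card_ge hle (by rw [c1, c2])

end TP

end Cfsg.Agent.J4Type.Frame
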