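import Cfsg.Agent.J4Type.FrameForm

/-!
# Adapted bases (J4 type recognition)
-/

set_option autoImplicit false

namespace Cfsg.Agent.J4Type.FrameBasis

open Cfsg.Agent.SporadicA.FieldFour
open Cfsg.Agent.J4Type.Frame
open Cfsg.Agent.J4Type.FrameForm
open Cfsg.Agent.J4Type.Frame.TP (ev)

variable {V : Type*} [AddCommGroup V] [Module F4 V] {T : TP V}

/-- A basis adapted to two complementary totally singular subspaces and to the pair `T`. -/
structure Fr (B : Frm T) where
  e : Fin 3 → V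
  f : Fin 3 → V
  lam : F4
  kap : F4
  lam_ne : lam ≠ 0
  kap_ne : kap ≠ 0
  se : ∀ i, T.s (e i) = (lam * ev i) • e i
  sf : ∀ i, T.s (f i) = (lam * ev i) • f i
  te : ∀ i, T.t (e i) = kap • e (i + 1)
  tf : ∀ i, T.t (f i) = kap • f (i + 1)
  ef : ∀ (i j : Fin 3) (a c : F4), B.b (a • e i) (c • f j) = if i = j then tr (a * conj c) else 0
  ee : ∀ (i j : Fin 3) (a c : F4), B.b (a • e i) (c • e j) = 0
  ff : ∀ (i j : Fin 3) (a c : F4), B.b (a • f i) (c • f j) = 0
  qe : ∀ (i : Fin 3) (a : F4), B.q (a • e i) = 0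
  qf : ∀ (i : Fin 3) (a : F4), B.q (a • f i) = 0

namespace Fr

variable {B : Frm T} (F : Fr B)

/-- Linear combinations of the first half of the basis. -/
def E (a : Fin 3 → F4) : V := a 0 • F.e 0 + a 1 • F.e 1 + a 2 • F.e 2

/-- Linear combinations of the second half of the basis. -/
def G (c : Fin 3 → F4) : V := c 0 • F.f 0 + c 1 • F.f 1 + c 2 • F.f 2

theorem E_add (a a' : Fin 3 → F4) : F.E (a + a') = F.E a + F.E a' := by
  simp only [E, Pi.add_apply, add_smul]; abel

theorem G_add (a a' : Fin 3 → F4) : F.G (a + a') = F.G a + F.G a' := by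
  simp only [G, Pi.add_apply, add_smul]; abel

theorem E_smul (r : F4) (a : Fin 3 → F4) : F.E (r • a) = r • F.E a := by
  simp only [E, Pi.smul_apply, smul_eq_mul, smul_add, smul_smul]

theorem G_smul (r : F4) (a : Fin 3 → F4) : F.G (r • a) = r • F.G a := by
  simp only [G, Pi.smul_apply, smul_eq_mul, smul_add, smul_smul]

theorem E_zero : F.E 0 = 0 := by simp [E]

theorem G_zero : F.G 0 = 0 := by simp [G]

theorem b_E_f (a : Fin 3 → F4) (j : Fin 3) (c : F4) :
    B.b (F.E a) (c • F.f j) = tr (a j * conj c) := by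
  unfold E
  rw [B.b_add, B.b_add, F.ef, F.ef, F.ef]
  fin_cases j <;> simp

theorem b_G_e (a : Fin 3 → F4) (j : Fin 3) (c : F4) :
    B.b (F.G a) (c • F.e j) = tr (a j * conj c) := by
  unfold G
  have h : ∀ x y : F4, tr (x * conj y) = tr (y * conj x) := by decide
  rw [B.b_add, B.b_add, B.b_comm (a 0 • F.f 0), B.b_comm (a 1 • F.f 1), B.b_comm (a 2 • F.f 2),
    F.ef, F.ef, F.ef, h (a j) c]
  fin_cases j <;> simp

theorem b_E_e (a : Fin 3 → F4) (j : Fin 3) (c : F4) : B.b (F.E a) (c • F.e j) = 0 := by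
  unfold E
  rw [B.b_add, B.b_add, F.ee, F.ee, F.ee]; simp

theorem b_G_f (a : Fin 3 → F4) (j : Fin 3) (c : F4) : B.b (F.G a) (c • F.f j) = 0 := by
  unfold G
  rw [B.b_add, B.b_add, F.ff, F.ff, F.ff]; simp

theorem b_E_G (a c : Fin 3 → F4) : B.b (F.E a) (F.G c) =
    tr (a 0 * conj (c 0)) + tr (a 1 * conj (c 1)) + tr (a 2 * conj (c 2)) := by
  conv_lhs => rw [G]
  rw [B.b_add_right, B.b_add_right, F.b_E_f, F.b_E_f, F.b_E_f]

theorem b_E_E (a c : Fin 3 → F4) : B.b (F.E a) (F.E c) = 0 := by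
  conv_lhs => rw [E, E]
  rw [B.b_add_right, B.b_add_right]
  have h := F.b_E_e a
  unfold E at h
  rw [h, h, h]; simp

theorem b_G_G (a c : Fin 3 → F4) : B.b (F.G a) (F.G c) = 0 := by
  conv_lhs => rw [G, G]
  rw [B.b_add_right, B.b_add_right]
  have h := F.b_G_f a
  unfold G at h
  rw [h, h, h]; simp

theorem q_E (a : Fin 3 → F4) : B.q (F.E a) = 0 := by
  unfold E
  rw [B.q_add, B.q_add, F.qe, F.qe, F.qe, F.ee, B.b_add, F.ee, F.ee]; simp

theorem q_G (a : Fin 3 → F4) : B.q (F.G a) = 0 := by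
  unfold G
  rw [B.q_add, B.q_add, F.qf, F.qf, F.qf, F.ff, B.b_add, F.ff, F.ff]; simp

/-- The coordinate map. -/
def phi (p : (Fin 3 → F4) × (Fin 3 → F4)) : V := F.E p.1 + F.G p.2

theorem phi_add (p p' : (Fin 3 → F4) × (Fin 3 → F4)) : F.phi (p + p') = F.phi p + F.phi p' := by
  simp only [phi, Prod.fst_add, Prod.snd_add, E_add, G_add]; abel

theorem phi_smul (r : F4) (p : (Fin 3 → F4) × (Fin 3 → F4)) : F.phi (r • p) = r • F.phi p := by
  simp only [phi, Prod.smul_fst, Prod.smul_snd, E_smul, G_smul, smul_add]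

theorem q_phi (p : (Fin 3 → F4) × (Fin 3 → F4)) : B.q (F.phi p) =
    tr (p.1 0 * conj (p.2 0)) + tr (p.1 1 * conj (p.2 1)) + tr (p.1 2 * conj (p.2 2)) := by
  unfold phi
  rw [B.q_add, F.q_E, F.q_G, F.b_E_G]; simp

theorem phi_eq_zero {p : (Fin 3 → F4) × (Fin 3 → F4)} (h : F.phi p = 0) : p = 0 := by
  have h1 : ∀ (j : Fin 3) (c : F4), tr (p.1 j * conj c) = 0 := by
    intro j c
    have h0 : B.b (F.phi p) (c • F.f j) = B.b (F.E p.1) (c • F.f j) + B.b (F.G p.2) (c • F.f j) :=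
      B.b_add _ _ _
    rw [h, B.b_zero_left, F.b_E_f, F.b_G_f, add_zero] at h0
    exact h0.symm
  have h2 : ∀ (j : Fin 3) (c : F4), tr (p.2 j * conj c) = 0 := by
    intro j c
    have h0 : B.b (F.phi p) (c • F.e j) = B.b (F.E p.1) (c • F.e j) + B.b (F.G p.2) (c • F.e j) :=
      B.b_add _ _ _
    rw [h, B.b_zero_left, F.b_E_e, F.b_G_e, zero_add] at h0
    exact h0.symm
  have key : ∀ x : F4, (∀ c : F4, tr (x * conj c) = 0) → x = 0 := by decide
  apply Prod.ext
  · funext j; exact key _ (h1 j)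
  · funext j; exact key _ (h2 j)

theorem phi_injective : Function.Injective F.phi := by
  intro p p' h
  have h1 : F.phi (p + p') = 0 := by
    rw [phi_add, h]; exact add_self _
  have h2 := F.phi_eq_zero h1
  have h3 : ∀ x y : F4, x + y = 0 → x = y := by decide
  apply Prod.ext
  · funext j
    have := congrFun (congrArg Prod.fst h2) j
    exact h3 _ _ this
  · funext j
    have := congrFun (congrArg Prod.snd h2) j
    exact h3 _ _ this

theorem phi_bijective [Finite V] (hV : Nat.card V = 4096) : Function.Bijective F.phi := by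
  have hc : Nat.card ((Fin 3 → F4) × (Fin 3 → F4)) = Nat.card V := by
    rw [Nat.card_prod, TP.card_F43, hV]
  exact (Nat.bijective_iff_injective_and_card F.phi).2 ⟨F.phi_injective, hc⟩

/-- Matrices of unipotent operators acting trivially on the first half. -/
def IsM (x : V →ₗ[F4] V) (m : Fin 3 → Fin 3 → F4) : Prop :=
  (∀ i, x (F.e i) = F.e i) ∧ ∀ i, x (F.f i) = F.f i + F.E (m i)

/-- Matrices of unipotent operators acting trivially on the second half. -/
def IsM' (x : V →ₗ[F4] V) (m : Fin 3 → Fin 3 → F4) : Prop :=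
  (∀ i, x (F.f i) = F.f i) ∧ ∀ i, x (F.e i) = F.e i + F.G (m i)

/-- Exchange of the two halves. -/
def swap : Fr B where
  e := F.f
  f := F.e
  lam := F.lam
  kap := F.kap
  lam_ne := F.lam_ne
  kap_ne := F.kap_ne
  se := F.sf
  sf := F.se
  te := F.tf
  tf := F.te
  ef := by
    intro i j a c
    rw [B.b_comm, F.ef]
    have h : ∀ x y : F4, tr (x * conj y) = tr (y * conj x) := by decide
    by_cases hij : i = j
    · rw [if_pos hij, if_pos hij.symm, h]
    · rw [if_neg hij, if_neg (fun h => hij h.symm)]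
  ee := F.ff
  ff := F.ee
  qe := F.qf
  qf := F.qe

theorem isM'_iff {x : V →ₗ[F4] V} {m : Fin 3 → Fin 3 → F4} : F.IsM' x m ↔ F.swap.IsM x m :=
  Iff.rfl

theorem E_inj {a a' : Fin 3 → F4} (h : F.E a = F.E a') : a = a' := by
  have h1 : F.phi (a, 0) = F.phi (a', 0) := by simp [phi, G_zero, h]
  exact congrArg Prod.fst (F.phi_injective h1)

theorem IsM.unique {F : Fr B} {x : V →ₗ[F4] V} {m m' : Fin 3 → Fin 3 → F4} (h : F.IsM x m)
    (h' : F.IsM x m') : m = m' := by
  funext i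
  have h1 := (h.2 i).symm.trans (h'.2 i)
  exact F.E_inj (add_left_cancel h1)

theorem IsM.E {F : Fr B} {x : V →ₗ[F4] V} {m : Fin 3 → Fin 3 → F4} (h : F.IsM x m)
    (a : Fin 3 → F4) : x (F.E a) = F.E a := by
  unfold Fr.E
  simp only [map_add, map_smul, h.1]

theorem IsM.G {F : Fr B} {x : V →ₗ[F4] V} {m : Fin 3 → Fin 3 → F4} (h : F.IsM x m)
    (c : Fin 3 → F4) : x (F.G c) = F.G c + F.E (fun j => c 0 * m 0 j + c 1 * m 1 j + c 2 * m 2 j) := by
  unfold Fr.G
  simp only [map_add, map_smul, h.2, Fr.E, smul_add, smul_smul, add_smul]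
  abel

theorem IsM.phi {F : Fr B} {x : V →ₗ[F4] V} {m : Fin 3 → Fin 3 → F4} (h : F.IsM x m)
    (a c : Fin 3 → F4) : x (F.phi (a, c)) =
      F.phi (a + (fun j => c 0 * m 0 j + c 1 * m 1 j + c 2 * m 2 j), c) := by
  unfold Fr.phi
  rw [map_add, h.E, h.G, E_add]
  abel

theorem IsM.one : F.IsM LinearMap.id (fun _ _ => 0) := by
  refine ⟨fun _ => rfl, fun i => ?_⟩
  have : F.E (fun _ => 0) = 0 := F.E_zero
  rw [this, add_zero]; rfl

theorem IsM.comp {F : Fr B} {x y : V →ₗ[F4] V} {m m' : Fin 3 → Fin 3 → F4} (h : F.IsM x m)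
    (h' : F.IsM y m') : F.IsM (x ∘ₗ y) (m + m') := by
  refine ⟨fun i => ?_, fun i => ?_⟩
  · rw [LinearMap.comp_apply, h'.1, h.1]
  · rw [LinearMap.comp_apply, h'.2, map_add, h.2, h.E, Pi.add_apply, E_add]
    abel

/-- Hermitian property of the matrix of an isometry. -/
theorem IsM.herm {F : Fr B} {x : V →ₗ[F4] V} {m : Fin 3 → Fin 3 → F4} (h : F.IsM x m)
    (hb : ∀ u v, B.b (x u) (x v) = B.b u v) (i j : Fin 3) : m j i = conj (m i j) := by
  have key : ∀ x y : F4, (∀ c : F4, tr (x * conj c) = tr (c * y)) → y = conj x := by decide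
  apply key
  intro c
  have h1 := hb (F.f i) (c • F.f j)
  rw [h.2, map_smul, h.2, smul_add, B.b_add, B.b_add_right, B.b_add_right, F.b_E_f,
    ← F.E_smul, F.b_E_E, add_zero] at h1
  have h2 : B.b (F.f i) (F.E (c • m j)) = tr (c * m j i) := by
    have := F.b_E_f (c • m j) i 1
    rw [one_smul] at this
    rw [B.b_comm, this]
    simp [conj, one_eq]
    have : ∀ x : F4, x * F4.o = x := by decide
    rw [this]
  rw [h2] at h1
  have h3 : ∀ x y z : ZMod 2, x + y + z = x → z = y := by decide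
  exact h3 _ _ _ h1

end Fr

end Cfsg.Agent.J4Type.FrameBasis
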