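import Cfsg.Agent.J4Type.CoordOutB
import Cfsg.Agent.J4Type.FrameLift

/-!
# The concrete permutations and `CentCoords` (J4 type recognition)
-/

set_option autoImplicit false

namespace Cfsg.Agent.J4Type.FrameConc

open Cfsg Cfsg.Agent.J4Type Cfsg.Agent.J4Type.CoordPR Cfsg.Agent.J4Type.CentCoords
open Cfsg.Agent.J4Type.VCoord Cfsg.Agent.J4Type.CocodeMask Cfsg.Agent.J4Type.CoordOut
open Cfsg.Agent.J4Type.FrameRels
open Cfsg.Agent.SporadicA.GolayBase Cfsg.Agent.SporadicA.GolayPerm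
open Cfsg.Agent.SporadicA.FieldFour (F4)

/-- `C[0,5]` : fixes `hex1` pointwise -/
def Tc : ℕ := 983560219871965054030433640375233920
/-- `C[1,2]` : fixes `hex1` pointwise -/
def Td : ℕ := 958450755090271637751347090883205344

noncomputable def pc : M24 := mk Tc (by decide +kernel)
noncomputable def pd : M24 := mk Td (by decide +kernel)

theorem tab_c : IsTab pc Tc := isTab_mk _ _
theorem tab_d : IsTab pd Td := isTab_mk _ _

theorem rels : Rels ps ps' pb01 pb45 pc pd pu where
  s3 := eq_of_tab ((tab_s.mul tab_s).mul tab_s) isTab_one (by decide +kernel)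
  t3 := eq_of_tab ((tab_s'.mul tab_s').mul tab_s') isTab_one (by decide +kernel)
  st := eq_of_tab (tab_s.mul tab_s') (tab_s'.mul tab_s) (by decide +kernel)
  s1 := s_ne
  t1 := s'_ne
  ts := s'_ne_s
  tss := s'_ne_s2
  u2 := eq_of_tab (tab_u.mul tab_u) isTab_one (by decide +kernel)
  us := eq_of_tab (tab_u.mul tab_s) ((tab_s.mul tab_s).mul tab_u) (by decide +kernel)
  ut := eq_of_tab (tab_u.mul tab_s') ((tab_s'.mul tab_s').mul tab_u) (by decide +kernel)
  ua := eq_of_tab (tab_u.mul tab_b01) (tab_b01.mul tab_u) (by decide +kernel)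
  ub := eq_of_tab (tab_u.mul tab_b45) ((((tab_s.mul tab_b45).mul tab_s).mul tab_s).mul tab_u) (by decide +kernel)
  uc := eq_of_tab (tab_u.mul tab_c) (tab_c.mul tab_u) (by decide +kernel)
  ud := eq_of_tab (tab_u.mul tab_d) (tab_d.mul tab_u) (by decide +kernel)
  a2 := eq_of_tab (tab_b01.mul tab_b01) isTab_one (by decide +kernel)
  sa := eq_of_tab (tab_s.mul tab_b01) (tab_b01.mul tab_s) (by decide +kernel)
  atr := eq_of_tab ((tab_b01.mul (((tab_s'.mul tab_b01).mul tab_s').mul tab_s')).mul (((tab_s'.mul tab_s').mul tab_b01).mul tab_s')) isTab_one (by decide +kernel)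
  b2 := eq_of_tab (tab_b45.mul tab_b45) isTab_one (by decide +kernel)
  tb := eq_of_tab (tab_s'.mul tab_b45) (tab_b45.mul tab_s') (by decide +kernel)
  btr := eq_of_tab ((tab_b45.mul (((tab_s.mul tab_b45).mul tab_s).mul tab_s)).mul (((tab_s.mul tab_s).mul tab_b45).mul tab_s)) isTab_one (by decide +kernel)
  aa := eq_of_tab (tab_b01.mul (((tab_s'.mul tab_b01).mul tab_s').mul tab_s')) ((((tab_s'.mul tab_b01).mul tab_s').mul tab_s').mul tab_b01) (by decide +kernel)
  ab := eq_of_tab (tab_b01.mul tab_b45) (tab_b45.mul tab_b01) (by decide +kernel)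
  ab' := eq_of_tab (tab_b01.mul (((tab_s.mul tab_b45).mul tab_s).mul tab_s)) ((((tab_s.mul tab_b45).mul tab_s).mul tab_s).mul tab_b01) (by decide +kernel)
  a'b := eq_of_tab ((((tab_s'.mul tab_b01).mul tab_s').mul tab_s').mul tab_b45) (tab_b45.mul (((tab_s'.mul tab_b01).mul tab_s').mul tab_s')) (by decide +kernel)
  a'b' := eq_of_tab ((((tab_s'.mul tab_b01).mul tab_s').mul tab_s').mul (((tab_s.mul tab_b45).mul tab_s).mul tab_s)) ((((tab_s.mul tab_b45).mul tab_s).mul tab_s).mul (((tab_s'.mul tab_b01).mul tab_s').mul tab_s')) (by decide +kernel)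
  bb := eq_of_tab (tab_b45.mul (((tab_s.mul tab_b45).mul tab_s).mul tab_s)) ((((tab_s.mul tab_b45).mul tab_s).mul tab_s).mul tab_b45) (by decide +kernel)
  c2 := eq_of_tab (tab_c.mul tab_c) isTab_one (by decide +kernel)
  stc := eq_of_tab ((tab_s.mul tab_s').mul tab_c) ((tab_c.mul tab_s).mul tab_s') (by decide +kernel)
  ctr := eq_of_tab ((tab_c.mul (((tab_s.mul tab_c).mul tab_s).mul tab_s)).mul (((tab_s.mul tab_s).mul tab_c).mul tab_s)) isTab_one (by decide +kernel)
  d2 := eq_of_tab (tab_d.mul tab_d) isTab_one (by decide +kernel)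
  std := eq_of_tab (((tab_s.mul tab_s').mul tab_s').mul tab_d) (((tab_d.mul tab_s).mul tab_s').mul tab_s') (by decide +kernel)
  dtr := eq_of_tab ((tab_d.mul (((tab_s.mul tab_d).mul tab_s).mul tab_s)).mul (((tab_s.mul tab_s).mul tab_d).mul tab_s)) isTab_one (by decide +kernel)
  cc := eq_of_tab (tab_c.mul (((tab_s.mul tab_c).mul tab_s).mul tab_s)) ((((tab_s.mul tab_c).mul tab_s).mul tab_s).mul tab_c) (by decide +kernel)
  cd := eq_of_tab (tab_c.mul tab_d) (tab_d.mul tab_c) (by decide +kernel)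
  cd' := eq_of_tab (tab_c.mul (((tab_s.mul tab_d).mul tab_s).mul tab_s)) ((((tab_s.mul tab_d).mul tab_s).mul tab_s).mul tab_c) (by decide +kernel)
  c'd := eq_of_tab ((((tab_s.mul tab_c).mul tab_s).mul tab_s).mul tab_d) (tab_d.mul (((tab_s.mul tab_c).mul tab_s).mul tab_s)) (by decide +kernel)
  c'd' := eq_of_tab ((((tab_s.mul tab_c).mul tab_s).mul tab_s).mul (((tab_s.mul tab_d).mul tab_s).mul tab_s)) ((((tab_s.mul tab_d).mul tab_s).mul tab_s).mul (((tab_s.mul tab_c).mul tab_s).mul tab_s)) (by decide +kernel)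
  dd := eq_of_tab (tab_d.mul (((tab_s.mul tab_d).mul tab_s).mul tab_s)) ((((tab_s.mul tab_d).mul tab_s).mul tab_s).mul tab_d) (by decide +kernel)
  ac := ne_of_tab (tab_b01.mul tab_c) (tab_c.mul tab_b01) (pt 1) (by decide +kernel)

theorem c1_eq : ps * ps * pd * ps = pc1 :=
  eq_of_tab (((tab_s.mul tab_s).mul tab_d).mul tab_s) tab_c1 (by decide +kernel)

theorem c2_eq : ps * ps * pc * ps = pc2 :=
  eq_of_tab (((tab_s.mul tab_s).mul tab_c).mul tab_s) tab_c2 (by decide +kernel)

theorem inn_c : Inn pc := inn_of_tab tab_c (by decide +kernel) (by decide +kernel)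
theorem inn_d : Inn pd := inn_of_tab tab_d (by decide +kernel) (by decide +kernel)

theorem d_ne : pd ≠ 1 := ne_of_tab tab_d isTab_one (pt 1) (by decide +kernel)

end Cfsg.Agent.J4Type.FrameConc
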