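import Cfsg.Agent.J4Type.CoordMain
import Cfsg.Agent.J4Type.FrameConc

/-!
# Existence of `CentCoords` (J4 type recognition)
-/

set_option autoImplicit false

namespace Cfsg.Agent.J4Type.FrameCent

open Cfsg Cfsg.Agent.J4Type

universe u

/-- **Coordinates of `Q/⟨z⟩` exist.** -/
theorem exists_centCoords {G : Type u} [Group G] [Finite G] {t : G}
    {Q N M : Subgroup (Subgroup.centralizer ({t} : Set G))}
    {P : Subgroup.centralizer ({t} : Set G) →* Equiv.Perm GolayPt} (H : Hyp t Q N M)
    (hP : IsP N M P) {r : Subgroup.centralizer ({t} : Set G)} (hr : r ∈ N) (hrQ : r ∉ Q)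
    (hr3 : r ^ 3 = 1) : Nonempty (CentCoords (H.toCent hP hr hrQ hr3)) :=
  CoordMain.exists_centCoords_of_rels H hP FrameConc.c1_eq FrameConc.c2_eq FrameConc.rels hr hrQ hr3

end Cfsg.Agent.J4Type.FrameCent
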