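import Cfsg.Agent.J4Type.FrameBasis

/-!
# Existence of adapted bases (J4 type recognition)
-/

set_option autoImplicit false

namespace Cfsg.Agent.J4Type.FrameExist

open Cfsg.Agent.SporadicA.FieldFour
open Cfsg.Agent.J4Type.Frame
open Cfsg.Agent.J4Type.FrameForm
open Cfsg.Agent.J4Type.FrameBasis
open Cfsg.Agent.J4Type.Frame.TP (ev)

variable {V : Type*} [AddCommGroup V] [Module F4 V] {T : TP V}

theorem b_smul_smul (B : Frm T) {a : F4} (ha : a ≠ 0) (u v : V) :
    B.b (a • u) (a • v) = B.b u v := by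
  cases a with
  | z => exact absurd rfl ha
  | o => have h : ∀ x : V, (F4.o : F4) • x = x := fun x => one_smul F4 x
         rw [h, h]
  | w => exact B.b_w u v
  | v =>
    have h : ∀ x : V, (F4.v : F4) • x = F4.w • (F4.w • x) := fun x => by rw [smul_smul]; rfl
    rw [h, h, B.b_w, B.b_w]

/-- Eigenvectors for distinct eigenvalues are orthogonal. -/
theorem b_eig (B : Frm T) {i j : Fin 3} (hij : i ≠ j) {u v : V} (hu : T.s u = ev i • u)
    (hv : T.s v = ev j • v) : B.b u v = 0 := by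
  have hev : ∀ k : Fin 3, ev k ≠ 0 := by decide
  -- for every eigenvector `v'` of value `ev j`
  have key : ∀ v' : V, T.s v' = ev j • v' → B.b u v' = B.b u ((ev j * (ev i)⁻¹) • v') := by
    intro v' hv'
    have h1 := B.b_s u v'
    rw [hu, hv'] at h1
    rw [← h1]
    have h2 : ev j • v' = ev i • ((ev j * (ev i)⁻¹) • v') := by
      rw [smul_smul, mul_comm (ev i), mul_assoc, inv_mul_cancel₀ (hev i), mul_one]
    rw [h2, b_smul_smul B (hev i)]
  set r := ev j * (ev i)⁻¹ with hr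
  have hr1 : r ≠ 1 := by
    rw [hr]; clear key hu hv
    revert i j; decide
  have hr0 : r ≠ 0 := mul_ne_zero (hev j) (inv_ne_zero (hev i))
  have e1 := key v hv
  have e2 := key (r • v) (by rw [map_smul, hv, smul_comm])
  rw [smul_smul] at e2
  have e3 : v = r • v + (r * r) • v := by
    have : ∀ r : F4, r ≠ 1 → r ≠ 0 → r + r * r = 1 := by decide
    rw [← add_smul, this r hr1 hr0, one_smul]
  have e4 : B.b u v = B.b u (r • v) + B.b u ((r * r) • v) := by
    rw [← B.b_add_right, ← e3]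
  rw [← e2] at e4
  rw [e4]
  exact CharTwo.add_self_eq_zero _

theorem psi_bij [Finite V] (hV : Nat.card V = 4096) {W W' : AddSubgroup V} (hW : T.Inv W)
    (hW' : T.Inv W') (hdis : W ⊓ W' = ⊥) {e f : V} (he : e ∈ W) (hf : f ∈ W') (he0 : e ≠ 0)
    (hf0 : f ≠ 0) (hse : T.s e = e) (hsf : T.s f = f) :
    Function.Bijective (fun p : (Fin 3 → F4) × (Fin 3 → F4) => T.psi e p.1 + T.psi f p.2) := by
  have hc : Nat.card ((Fin 3 → F4) × (Fin 3 → F4)) = Nat.card V := by
    rw [Nat.card_prod, TP.card_F43, hV]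
  refine (Nat.bijective_iff_injective_and_card _).2 ⟨?_, hc⟩
  have hz : ∀ (g : V), g ≠ 0 → T.s g = g → ∀ a, T.psi g a = 0 → a = 0 := by
    intro g hg hsg a ha
    exact T.psi_eq_zero_of_mem T.inv_bot hsg (fun h => hg (AddSubgroup.mem_bot.1 h))
      (by rw [ha]; exact AddSubgroup.zero_mem _)
  rintro ⟨a, c⟩ ⟨a', c'⟩ h
  simp only at h
  have h1 : T.psi e (a - a') = T.psi f (c' - c) := by
    rw [map_sub, map_sub, sub_eq_sub_iff_add_eq_add, h]; abel
  have m1 : T.psi e (a - a') ∈ W ⊓ W' := by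
    refine ⟨T.psi_mem hW he _, ?_⟩
    rw [h1]; exact T.psi_mem hW' hf _
  rw [hdis, AddSubgroup.mem_bot] at m1
  have m2 : T.psi f (c' - c) = 0 := by rw [← h1, m1]
  have z1 := hz e he0 hse _ m1
  have z2 := hz f hf0 hsf _ m2
  exact Prod.ext (sub_eq_zero.1 z1) (sub_eq_zero.1 z2).symm

/-- The powers of `t` applied to a vector. -/
def tpow (T : TP V) (e : V) : Fin 3 → V
  | 0 => e
  | 1 => T.t e
  | 2 => T.t (T.t e)

theorem psi_eq (e : V) (a : Fin 3 → F4) :
    T.psi e a = a 0 • tpow T e 0 + a 1 • tpow T e 1 + a 2 • tpow T e 2 := rfl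

theorem s_tpow {e : V} (he : T.s e = e) (i : Fin 3) : T.s (tpow T e i) = ev i • tpow T e i := by
  match i with
  | 0 => change T.s e = _; rw [he]; exact (one_smul F4 _).symm
  | 1 => exact T.s_e1 he
  | 2 => exact T.s_e2 he

theorem t_tpow {e : V} (i : Fin 3) : T.t (tpow T e i) = tpow T e (i + 1) := by
  match i with
  | 0 => rfl
  | 1 => rfl
  | 2 => exact T.t3 e

theorem b_tpow (B : Frm T) (e f : V) (i : Fin 3) (a c : F4) :
    B.b (a • tpow T e i) (c • tpow T f i) = B.b (a • e) (c • f) := by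
  match i with
  | 0 => rfl
  | 1 =>
    change B.b (a • T.t e) (c • T.t f) = _
    rw [← map_smul, ← map_smul, B.b_t]
  | 2 =>
    have h : ∀ (a : F4) (g : V), a • T.t (T.t g) = T.t (T.t (a • g)) := fun a g => by
      rw [map_smul, map_smul]
    change B.b (a • T.t (T.t e)) (c • T.t (T.t f)) = _
    rw [h, h, B.b_t, B.b_t]

theorem tpow_mem {U : AddSubgroup V} (hU : T.Inv U) {e : V} (he : e ∈ U) (i : Fin 3) :
    tpow T e i ∈ U := by
  match i with
  | 0 => exact he
  | 1 => exact hU.2 _ he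
  | 2 => exact hU.2 _ (hU.2 _ he)

theorem exists_fr [Finite V] (hV : Nat.card V = 4096) (B : Frm T) {W W' : AddSubgroup V}
    (hW : T.Inv W) (hW' : T.Inv W') (hWb : W ≠ ⊥) (hWb' : W' ≠ ⊥)
    (hiso : ∀ u ∈ W, ∀ v ∈ W, B.b u v = 0) (hq : ∀ v ∈ W, B.q v = 0)
    (hiso' : ∀ u ∈ W', ∀ v ∈ W', B.b u v = 0) (hq' : ∀ v ∈ W', B.q v = 0)
    (hdis : W ⊓ W' = ⊥) :
    ∃ F : Fr B, (∀ i, F.e i ∈ W) ∧ (∀ i, F.f i ∈ W') := by
  obtain ⟨⟨v, hv⟩, hv0⟩ := AddSubgroup.ne_bot_iff_exists_ne_zero.1 hWb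
  obtain ⟨⟨v', hv'⟩, hv0'⟩ := AddSubgroup.ne_bot_iff_exists_ne_zero.1 hWb'
  obtain ⟨e, heW, heb, hse⟩ := T.exists_fix T.inv_bot hW hv
    (fun h => hv0 (Subtype.ext (AddSubgroup.mem_bot.1 h)))
  obtain ⟨f0, hfW, hfb, hsf0⟩ := T.exists_fix T.inv_bot hW' hv'
    (fun h => hv0' (Subtype.ext (AddSubgroup.mem_bot.1 h)))
  have he0 : e ≠ 0 := fun h => heb (by rw [h]; exact AddSubgroup.zero_mem _)
  have hf0 : f0 ≠ 0 := fun h => hfb (by rw [h]; exact AddSubgroup.zero_mem _)
  have hbij := psi_bij hV hW hW' hdis heW hfW he0 hf0 hse hsf0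
  have hs0 : ∀ {g : V}, T.s g = g → T.s g = ev 0 • g := by
    intro g hg; rw [hg]; exact (one_smul F4 _).symm
  -- some multiple of `f0` is not orthogonal to `e`
  have hne : ∃ c : F4, B.b e (c • f0) ≠ 0 := by
    by_contra hc
    push Not at hc
    apply he0
    apply B.b_nondeg
    intro x
    obtain ⟨⟨a, c⟩, rfl⟩ := hbij.2 x
    simp only
    rw [B.b_add_right, hiso e heW _ (T.psi_mem hW heW a), zero_add, TP.psi_apply,
      B.b_add_right, B.b_add_right, hc,
      b_eig B (by decide : (0 : Fin 3) ≠ 1) (hs0 hse) (T.s_smul_e1 hsf0 _),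
      b_eig B (by decide : (0 : Fin 3) ≠ 2) (hs0 hse) (T.s_smul_e2 hsf0 _)]
    rfl
  -- normalise
  obtain ⟨r, hr0, hr1, hr2⟩ : ∃ r : F4, r ≠ 0 ∧ B.b e (r • f0) = 0 ∧ B.b e ((F4.w * r) • f0) = 1 := by
    have hv : B.b e (F4.v • f0) = B.b e f0 + B.b e (F4.w • f0) := by
      have : (F4.v : F4) = 1 + F4.w := by decide
      rw [this, add_smul, one_smul, B.b_add_right]
    have ho : (F4.o : F4) • f0 = f0 := one_smul F4 _
    obtain ⟨c, hc⟩ := hne
    have h01 : ∀ x : ZMod 2, x = 0 ∨ x = 1 := by decide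
    rcases h01 (B.b e f0) with h0 | h0 <;> rcases h01 (B.b e (F4.w • f0)) with h1 | h1
    · exfalso
      rw [h0, h1, add_zero] at hv
      apply hc
      cases c with
      | z => have : (F4.z : F4) • f0 = 0 := zero_smul F4 _
             rw [this, B.b_zero_right]
      | o => rw [ho, h0]
      | w => exact h1
      | v => exact hv
    · exact ⟨1, one_ne_zero, by rw [one_smul, h0], by rw [mul_one, h1]⟩
    · refine ⟨F4.w, by decide, h1, ?_⟩
      rw [show F4.w * F4.w = F4.v from rfl, hv, h0, h1]; rfl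
    · refine ⟨F4.v, by decide, ?_, ?_⟩
      · rw [hv, h0, h1]; rfl
      · rw [show F4.w * F4.v = F4.o from rfl, ho, h0]
  set f := r • f0 with hf
  have hfW' : f ∈ W' := T.smul_mem hW' hfW r
  have hsf : T.s f = f := by rw [hf, map_smul, hsf0]
  have hf00 : f ≠ 0 := smul_ne_zero hr0 hf0
  have hef1 : ∀ c : F4, B.b e (c • f) = tr c := by
    intro c
    have hw : B.b e (F4.w • f) = 1 := by rw [hf, smul_smul]; exact hr2
    cases c with
    | z => have : (F4.z : F4) • f = 0 := zero_smul F4 _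
           rw [this, B.b_zero_right]; rfl
    | o => have : (F4.o : F4) • f = f := one_smul F4 _
           rw [this]; exact hr1
    | w => exact hw
    | v =>
      have h : (F4.v : F4) = 1 + F4.w := by decide
      rw [h, add_smul, one_smul, B.b_add_right, hr1, hw]; rfl
  have hef : ∀ a c : F4, B.b (a • e) (c • f) = tr (a * conj c) := by
    intro a c
    by_cases ha : a = 0
    · rw [ha, zero_smul, B.b_zero_left, zero_mul]; rfl
    · have h1 : c • f = a • ((a⁻¹ * c) • f) := by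
        rw [smul_smul a (a⁻¹ * c) f, ← mul_assoc, mul_inv_cancel₀ ha, one_mul]
      rw [h1, b_smul_smul B ha, hef1]
      have : ∀ a c : F4, a ≠ 0 → tr (a⁻¹ * c) = tr (a * conj c) := by decide
      exact this a c ha
  have hsm : ∀ {g : V} {i : Fin 3}, T.s g = ev i • g → ∀ a : F4, T.s (a • g) = ev i • (a • g) := by
    intro g i hg a
    rw [map_smul, hg, smul_comm]
  refine ⟨{ e := tpow T e, f := tpow T f, lam := 1, kap := 1, lam_ne := one_ne_zero,
            kap_ne := one_ne_zero, se := ?_, sf := ?_, te := ?_, tf := ?_, ef := ?_, ee := ?_,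
            ff := ?_, qe := ?_, qf := ?_ }, fun i => tpow_mem hW heW i, fun i => tpow_mem hW' hfW' i⟩
  · intro i; rw [one_mul]; exact s_tpow hse i
  · intro i; rw [one_mul]; exact s_tpow hsf i
  · intro i; rw [one_smul]; exact t_tpow i
  · intro i; rw [one_smul]; exact t_tpow i
  · intro i j a c
    by_cases hij : i = j
    · subst hij
      rw [if_pos rfl, b_tpow, hef]
    · rw [if_neg hij]
      exact b_eig B hij (hsm (s_tpow hse i) a) (hsm (s_tpow hsf j) c)
  · intro i j a c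
    exact hiso _ (T.smul_mem hW (tpow_mem hW heW i) a) _ (T.smul_mem hW (tpow_mem hW heW j) c)
  · intro i j a c
    exact hiso' _ (T.smul_mem hW' (tpow_mem hW' hfW' i) a) _
      (T.smul_mem hW' (tpow_mem hW' hfW' j) c)
  · intro i a; exact hq _ (T.smul_mem hW (tpow_mem hW heW i) a)
  · intro i a; exact hq' _ (T.smul_mem hW' (tpow_mem hW' hfW' i) a)

/-- Reindexing a frame. -/
def shift {B : Frm T} (F : Fr B) (k : Fin 3) : Fr B where
  e i := F.e (i + k)
  f i := F.f (i + k)
  lam := F.lam * ev k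
  kap := F.kap
  lam_ne := mul_ne_zero F.lam_ne (by revert k; decide)
  kap_ne := F.kap_ne
  se i := by
    rw [F.se, mul_assoc F.lam, show ev (i + k) = ev k * ev i from by revert i k; decide]
  sf i := by
    rw [F.sf, mul_assoc F.lam, show ev (i + k) = ev k * ev i from by revert i k; decide]
  te i := by rw [F.te, show i + k + 1 = i + 1 + k from by revert i k; decide]
  tf i := by rw [F.tf, show i + k + 1 = i + 1 + k from by revert i k; decide]
  ef i j a c := by
    rw [F.ef]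
    have : (i + k = j + k) ↔ i = j := by revert i j k; decide
    by_cases h : i = j
    · rw [if_pos h, if_pos (this.2 h)]
    · rw [if_neg h, if_neg (fun h' => h (this.1 h'))]
  ee i j a c := F.ee _ _ a c
  ff i j a c := F.ff _ _ a c
  qe i a := F.qe _ a
  qf i a := F.qf _ a

/-- Rescaling a frame by the powers of a scalar. -/
def scale {B : Frm T} (F : Fr B) (μ : F4) (hμ : μ ≠ 0) : Fr B where
  e i := (![1, μ, μ * μ] i : F4) • F.e i
  f i := (![1, μ, μ * μ] i : F4) • F.f i
  lam := F.lam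
  kap := F.kap * μ⁻¹
  lam_ne := F.lam_ne
  kap_ne := mul_ne_zero F.kap_ne (inv_ne_zero hμ)
  se i := by rw [map_smul, F.se, smul_comm]
  sf i := by rw [map_smul, F.sf, smul_comm]
  te i := by
    rw [map_smul, F.te, smul_smul, smul_smul]
    congr 1
    have : ∀ (κ μ : F4) (i : Fin 3), μ ≠ 0 → ![1, μ, μ * μ] i * κ = κ * μ⁻¹ * ![1, μ, μ * μ] (i + 1) := by
      decide
    exact this _ _ _ hμ
  tf i := by
    rw [map_smul, F.tf, smul_smul, smul_smul]
    congr 1
    have : ∀ (κ μ : F4) (i : Fin 3), μ ≠ 0 → ![1, μ, μ * μ] i * κ = κ * μ⁻¹ * ![1, μ, μ * μ] (i + 1) := by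
      decide
    exact this _ _ _ hμ
  ef i j a c := by
    rw [smul_smul, smul_smul, F.ef]
    by_cases h : i = j
    · subst h
      rw [if_pos rfl, if_pos rfl]
      have : ∀ (μ a c : F4) (i : Fin 3), μ ≠ 0 →
          tr (a * ![1, μ, μ * μ] i * conj (c * ![1, μ, μ * μ] i)) = tr (a * conj c) := by
        decide
      exact this _ _ _ _ hμ
    · rw [if_neg h, if_neg h]
  ee i j a c := by rw [smul_smul, smul_smul, F.ee]
  ff i j a c := by rw [smul_smul, smul_smul, F.ff]
  qe i a := by rw [smul_smul, F.qe]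
  qf i a := by rw [smul_smul, F.qf]

end Cfsg.Agent.J4Type.FrameExist
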