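import Cfsg.Agent.J4Type.Frame

/-!
# Totally singular subspaces fixed by elementary abelian 2-groups (J4 type recognition)
-/

set_option autoImplicit false

namespace Cfsg.Agent.J4Type.FrameForm

open Cfsg.Agent.SporadicA.FieldFour
open Cfsg.Agent.J4Type.Frame

variable {V : Type*} [AddCommGroup V] [Module F4 V]

/-- A quadratic form over the field with two elements, invariant under a pair `T`. -/
structure Frm (T : TP V) where
  b : V → V → ZMod 2
  q : V → ZMod 2
  b_add : ∀ u v w, b (u + v) w = b u w + b v w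
  b_comm : ∀ u v, b u v = b v u
  b_nondeg : ∀ v, (∀ w, b v w = 0) → v = 0
  q_add : ∀ u v, q (u + v) = q u + q v + b u v
  b_w : ∀ u v, b (F4.w • u) (F4.w • v) = b u v
  q_w : ∀ v, q (F4.w • v) = q v
  b_s : ∀ u v, b (T.s u) (T.s v) = b u v
  b_t : ∀ u v, b (T.t u) (T.t v) = b u v

namespace Frm

variable {T : TP V} (B : Frm T)

theorem b_add_right (u v w : V) : B.b u (v + w) = B.b u v + B.b u w := by
  rw [B.b_comm, B.b_add, B.b_comm v, B.b_comm w]

theorem b_zero_left (v : V) : B.b 0 v = 0 := by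
  have := B.b_add 0 0 v
  rw [add_zero] at this
  exact left_eq_add.1 this

theorem b_zero_right (v : V) : B.b v 0 = 0 := by rw [B.b_comm, b_zero_left]

theorem q_zero : B.q 0 = 0 := by
  have := B.q_add 0 0
  rw [add_zero, B.b_zero_left, add_zero] at this
  exact left_eq_add.1 this

/-- The subgroup of vectors fixed by all members of a list. -/
def fixS (l : List (V →ₗ[F4] V)) : AddSubgroup V where
  carrier := {v | ∀ x ∈ l, x v = v}
  zero_mem' := fun x _ => map_zero x
  add_mem' := by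
    intro u v hu hv x hx
    rw [map_add, hu x hx, hv x hx]
  neg_mem' := by
    intro v hv x hx
    rw [map_neg, hv x hx]

theorem mem_fixS {l : List (V →ₗ[F4] V)} {v : V} : v ∈ fixS l ↔ ∀ x ∈ l, x v = v := Iff.rfl

/-- The orthogonal complement of a subgroup. -/
def perp (U : AddSubgroup V) : AddSubgroup V where
  carrier := {v | ∀ u ∈ U, B.b v u = 0}
  zero_mem' := fun u _ => B.b_zero_left u
  add_mem' := by
    intro u v hu hv x hx
    rw [B.b_add, hu x hx, hv x hx, add_zero]
  neg_mem' := by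
    intro v hv x hx
    rw [neg_eq]; exact hv x hx

theorem mem_perp {U : AddSubgroup V} {v : V} : v ∈ B.perp U ↔ ∀ u ∈ U, B.b v u = 0 := Iff.rfl

theorem inv_perp {U : AddSubgroup V} (hU : T.Inv U) : T.Inv (B.perp U) := by
  constructor
  · intro v hv u hu
    have h := hv (T.s (T.s u)) (hU.1 _ (hU.1 _ hu))
    rwa [← B.b_s, T.s3] at h
  · intro v hv u hu
    have h := hv (T.t (T.t u)) (hU.2 _ (hU.2 _ hu))
    rwa [← B.b_t, T.t3] at h

/-- A nonzero vector can be replaced by one fixed by a list of commuting involutions. -/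
theorem exists_fixed (l : List (V →ₗ[F4] V)) (h2 : ∀ x ∈ l, ∀ v, x (x v) = v)
    (hc : ∀ x ∈ l, ∀ y ∈ l, ∀ v, x (y v) = y (x v)) (K : AddSubgroup V)
    (hK : ∀ x ∈ l, ∀ v ∈ K, x v ∈ K) (hne : K ≠ ⊥) :
    ∃ v ∈ K, v ≠ 0 ∧ ∀ x ∈ l, x v = v := by
  induction l with
  | nil =>
    obtain ⟨⟨v, hv⟩, hv0⟩ := AddSubgroup.ne_bot_iff_exists_ne_zero.1 hne
    exact ⟨v, hv, fun h => hv0 (Subtype.ext h), fun x hx => absurd hx List.not_mem_nil⟩
  | cons y l ih =>
    obtain ⟨v, hv, hv0, hfix⟩ := ih (fun x hx => h2 x (List.mem_cons_of_mem _ hx))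
      (fun x hx z hz => hc x (List.mem_cons_of_mem _ hx) z (List.mem_cons_of_mem _ hz))
      (fun x hx => hK x (List.mem_cons_of_mem _ hx))
    by_cases hy : y v = v
    · refine ⟨v, hv, hv0, ?_⟩
      intro x hx
      rcases List.mem_cons.1 hx with rfl | hx
      · exact hy
      · exact hfix x hx
    · refine ⟨v + y v, K.add_mem hv (hK y List.mem_cons_self v hv), ?_, ?_⟩
      · intro h
        exact hy (eq_of_add_eq_zero h).symm
      · intro x hx
        rcases List.mem_cons.1 hx with rfl | hx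
        · rw [map_add, h2 x List.mem_cons_self, add_comm]
        · rw [map_add, hfix x hx, hc x (List.mem_cons_of_mem _ hx) y List.mem_cons_self,
            hfix x hx]

/-- The main statement on the fixed space of an elementary abelian group normalised by `T`. -/
theorem fixS_props [Finite V] (hV : Nat.card V = 4096) (l : List (V →ₗ[F4] V))
    (h2 : ∀ x ∈ l, ∀ v, x (x v) = v)
    (hc : ∀ x ∈ l, ∀ y ∈ l, ∀ v, x (y v) = y (x v))
    (hb : ∀ x ∈ l, ∀ u v, B.b (x u) (x v) = B.b u v)
    (hne : ∃ x ∈ l, ∃ v, x v ≠ v) (hI : T.Inv (fixS l)) :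
    fixS l ≠ ⊥ ∧ fixS l ≠ ⊤ ∧ Nat.card (fixS l) = 64 ∧
      (∀ u ∈ fixS l, ∀ v ∈ fixS l, B.b u v = 0) ∧
      (∀ x ∈ l, ∀ v, x v + v ∈ fixS l) ∧ (∀ v ∈ fixS l, B.q v = 0) := by
  haveI : Nontrivial V := by
    obtain ⟨x, -, v, hv⟩ := hne
    exact ⟨x v, v, hv⟩
  have hFbot : fixS l ≠ ⊥ := by
    intro h
    obtain ⟨v, -, hv0, hv⟩ := exists_fixed l h2 hc (⊤ : AddSubgroup V) (fun _ _ _ _ => trivial)
      (by
        intro h
        obtain ⟨u, hu⟩ := exists_ne (0 : V)
        have hm : u ∈ (⊤ : AddSubgroup V) := trivial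
        rw [h] at hm
        exact hu (AddSubgroup.mem_bot.1 hm))
    have : v ∈ fixS l := hv
    rw [h] at this
    exact hv0 (AddSubgroup.mem_bot.1 this)
  have hFtop : fixS l ≠ ⊤ := by
    intro h
    obtain ⟨x, hx, v, hv⟩ := hne
    have : v ∈ fixS l := by rw [h]; trivial
    exact hv (this x hx)
  set K := B.perp (fixS l) with hKdef
  have hKI : T.Inv K := B.inv_perp hI
  have hmem : ∀ x ∈ l, ∀ v, x v + v ∈ K := by
    intro x hx v f hf
    have h1 : B.b (x v) f = B.b v f := by
      conv_lhs => rw [← hf x hx]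
      exact hb x hx v f
    rw [B.b_add, h1]
    exact CharTwo.add_self_eq_zero _
  have hKbot : K ≠ ⊥ := by
    intro h
    obtain ⟨x, hx, v, hv⟩ := hne
    have := hmem x hx v
    rw [h, AddSubgroup.mem_bot] at this
    exact hv (eq_of_add_eq_zero this)
  have hKtop : K ≠ ⊤ := by
    intro h
    apply hFbot
    rw [eq_bot_iff]
    intro f hf
    rw [AddSubgroup.mem_bot]
    apply B.b_nondeg
    intro w
    have : w ∈ K := by rw [h]; trivial
    rw [B.b_comm]
    exact this f hf
  have hKinv : ∀ x ∈ l, ∀ v ∈ K, x v ∈ K := by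
    intro x hx v hv f hf
    have := hb x hx v f
    rw [hf x hx] at this
    rw [this]; exact hv f hf
  obtain ⟨k, hkK, hk0, hkf⟩ := exists_fixed l h2 hc K hKinv hKbot
  have hinf : K ⊓ fixS l ≠ ⊥ := by
    intro h
    have : k ∈ K ⊓ fixS l := ⟨hkK, hkf⟩
    rw [h] at this
    exact hk0 (AddSubgroup.mem_bot.1 this)
  have e1 : K ⊓ fixS l = K := T.eq_of_le hV (T.inv_inf hKI hI) hKI hinf hKtop inf_le_left
  have e2 : K ⊓ fixS l = fixS l := T.eq_of_le hV (T.inv_inf hKI hI) hI hinf hFtop inf_le_right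
  have e3 : K = fixS l := by rw [← e1, e2]
  have hiso : ∀ u ∈ fixS l, ∀ v ∈ fixS l, B.b u v = 0 := by
    intro u hu v hv
    rw [← e3] at hu
    exact hu v hv
  refine ⟨hFbot, hFtop, T.card_eq hV hI hFbot hFtop, hiso, ?_, ?_⟩
  · intro x hx v
    rw [← e3]; exact hmem x hx v
  · intro v hv
    have hw : F4.w • v ∈ fixS l := T.w_mem hI hv
    have hvv : F4.v • v = v + F4.w • v := by
      have h : ((1 : F4) + F4.w) • v = F4.v • v := by
        rw [show (1 : F4) + F4.w = F4.v from by decide]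
      rw [← h, add_smul, one_smul]
    have h1 : B.q (F4.v • v) = B.q v := by
      have : F4.v • v = F4.w • (F4.w • v) := by rw [smul_smul]; rfl
      rw [this, B.q_w, B.q_w]
    rw [hvv, B.q_add, B.q_w, hiso v hv _ hw, add_zero] at h1
    have : B.q v + B.q v = 0 := CharTwo.add_self_eq_zero _
    rw [this] at h1
    exact h1.symm

end Frm

end Cfsg.Agent.J4Type.FrameForm
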