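import Cfsg.Agent.J4Type.FrameOps2

/-!
# Existence of a frame with explicit matrices (J4 type recognition)
-/

set_option autoImplicit false

namespace Cfsg.Agent.J4Type.FrameMain

open Cfsg.Agent.SporadicA.FieldFour
open Cfsg.Agent.J4Type.Frame
open Cfsg.Agent.J4Type.FrameForm
open Cfsg.Agent.J4Type.FrameBasis
open Cfsg.Agent.J4Type.FrameExist
open Cfsg.Agent.J4Type.FrameOps
open Cfsg.Agent.J4Type.FrameOps2
open Cfsg.Agent.J4Type.Frame.TP (ev)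

variable {V : Type*} [AddCommGroup V] [Module F4 V]

/-- Conjugate by `s`. -/
def cs (T : TP V) (x : V →ₗ[F4] V) : V →ₗ[F4] V := T.s ∘ₗ x ∘ₗ T.s ∘ₗ T.s

/-- Conjugate by `t`. -/
def ct (T : TP V) (x : V →ₗ[F4] V) : V →ₗ[F4] V := T.t ∘ₗ x ∘ₗ T.t ∘ₗ T.t

variable {T : TP V}

theorem cs_s (x : V →ₗ[F4] V) (v : V) : cs T x (T.s v) = T.s (x v) := by
  simp only [cs, LinearMap.comp_apply, T.s3]

theorem ct_t (x : V →ₗ[F4] V) (v : V) : ct T x (T.t v) = T.t (x v) := by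
  simp only [ct, LinearMap.comp_apply, T.t3]

theorem s_cs2 (x : V →ₗ[F4] V) (v : V) : x (T.s v) = T.s (cs T (cs T x) v) := by
  simp only [cs, LinearMap.comp_apply, T.s3]

theorem t_ct2 (x : V →ₗ[F4] V) (v : V) : x (T.t v) = T.t (ct T (ct T x) v) := by
  simp only [ct, LinearMap.comp_apply, T.t3]

theorem cs3 (x : V →ₗ[F4] V) : cs T (cs T (cs T x)) = x := by
  apply LinearMap.ext
  intro v
  simp only [cs, LinearMap.comp_apply, T.s3]

theorem ts (v : V) : T.t (T.s v) = F4.v • T.s (T.t v) := by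
  rw [T.st, smul_smul]
  exact (one_smul F4 _).symm

theorem cs_t' {x x' : V →ₗ[F4] V} (h : ∀ v, x (T.t v) = T.t (x' v)) (v : V) :
    cs T x (T.t v) = T.t (cs T x' v) := by
  simp only [cs, LinearMap.comp_apply]
  simp only [T.st, map_smul, h, smul_smul]
  exact one_smul F4 _

theorem ct_s' {x x' : V →ₗ[F4] V} (h : ∀ v, x (T.s v) = T.s (x' v)) (v : V) :
    ct T x (T.s v) = T.s (ct T x' v) := by
  simp only [ct, LinearMap.comp_apply]
  simp only [ts, map_smul, h, smul_smul]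
  exact one_smul F4 _

/-- The operators used to find a frame. -/
structure Ops {T : TP V} (B : Frm T) where
  a : V →ₗ[F4] V
  b : V →ₗ[F4] V
  c : V →ₗ[F4] V
  d : V →ₗ[F4] V
  u : V →ₗ[F4] V
  ba : ∀ x y, B.b (a x) (a y) = B.b x y
  bb : ∀ x y, B.b (b x) (b y) = B.b x y
  bc : ∀ x y, B.b (c x) (c y) = B.b x y
  bd : ∀ x y, B.b (d x) (d y) = B.b x y
  bu : ∀ x y, B.b (u x) (u y) = B.b x y
  a2 : ∀ v, a (a v) = v
  b2 : ∀ v, b (b v) = v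
  c2 : ∀ v, c (c v) = v
  d2 : ∀ v, d (d v) = v
  u2 : ∀ v, u (u v) = v
  sa : ∀ v, a (T.s v) = T.s (a v)
  tb : ∀ v, b (T.t v) = T.t (b v)
  stc : ∀ v, c (T.s (T.t v)) = T.s (T.t (c v))
  std : ∀ v, d (T.s (T.t (T.t v))) = T.s (T.t (T.t (d v)))
  atr : ∀ v, a (ct T a (ct T (ct T a) v)) = v
  btr : ∀ v, b (cs T b (cs T (cs T b) v)) = v
  ctr : ∀ v, c (cs T c (cs T (cs T c) v)) = v
  dtr : ∀ v, d (cs T d (cs T (cs T d) v)) = v
  caa : ∀ v, a (ct T a v) = ct T a (a v)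
  cab : ∀ v, a (b v) = b (a v)
  cab' : ∀ v, a (cs T b v) = cs T b (a v)
  ca'b : ∀ v, ct T a (b v) = b (ct T a v)
  ca'b' : ∀ v, ct T a (cs T b v) = cs T b (ct T a v)
  cbb : ∀ v, b (cs T b v) = cs T b (b v)
  ccc : ∀ v, c (cs T c v) = cs T c (c v)
  ccd : ∀ v, c (d v) = d (c v)
  ccd' : ∀ v, c (cs T d v) = cs T d (c v)
  cc'd : ∀ v, cs T c (d v) = d (cs T c v)
  cc'd' : ∀ v, cs T c (cs T d v) = cs T d (cs T c v)
  cdd : ∀ v, d (cs T d v) = cs T d (d v)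
  us : ∃ r : F4, ∀ v, u (T.s v) = r • T.s (T.s (u v))
  ut : ∃ r : F4, ∀ v, u (T.t v) = r • T.t (T.t (u v))
  ua : ∀ v, u (a v) = a (u v)
  ub : ∀ v, u (b v) = cs T b (u v)
  uc : ∀ v, u (c v) = c (u v)
  ud : ∀ v, u (d v) = d (u v)
  na : ∃ v, a v ≠ v
  nb : ∃ v, b v ≠ v
  nc : ∃ v, c v ≠ v
  nd : ∃ v, d v ≠ v
  nac : ∃ v, a (c v) ≠ c (a v)

namespace Ops

variable {B : Frm T} (O : Ops B)

theorem iso_cs {x : V →ₗ[F4] V} (h : ∀ u v, B.b (x u) (x v) = B.b u v) (u v : V) :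
    B.b (cs T x u) (cs T x v) = B.b u v := by
  simp only [cs, LinearMap.comp_apply]
  rw [B.b_s, h, B.b_s, B.b_s]

theorem iso_ct {x : V →ₗ[F4] V} (h : ∀ u v, B.b (x u) (x v) = B.b u v) (u v : V) :
    B.b (ct T x u) (ct T x v) = B.b u v := by
  simp only [ct, LinearMap.comp_apply]
  rw [B.b_t, h, B.b_t, B.b_t]

theorem sq_cs {x : V →ₗ[F4] V} (h : ∀ v, x (x v) = v) (v : V) :
    cs T x (cs T x v) = v := by
  simp only [cs, LinearMap.comp_apply, T.s3, h]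

theorem sq_ct {x : V →ₗ[F4] V} (h : ∀ v, x (x v) = v) (v : V) :
    ct T x (ct T x v) = v := by
  simp only [ct, LinearMap.comp_apply, T.t3, h]

omit [AddCommGroup V] [Module F4 V] in
/-- a vector fixed by `x`, `x'` is fixed by `x''` if `x x' x'' = 1` -/
theorem fix_third {x x' x'' : V → V} (h2 : ∀ v, x (x v) = v) (h2' : ∀ v, x' (x' v) = v)
    (h : ∀ v, x (x' (x'' v)) = v) {v : V} (hv : x v = v) (hv' : x' v = v) : x'' v = v := by
  have h1 : x' (x'' v) = x v := by rw [← h2 (x' (x'' v)), h]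
  rw [hv] at h1
  rw [← h2' (x'' v), h1, hv']

omit [AddCommGroup V] [Module F4 V] in
/-- a vector fixed by `x'`, `x''` is fixed by `x` if `x x' x'' = 1` -/
theorem fix_first {x x' x'' : V → V} (h : ∀ v, x (x' (x'' v)) = v) {v : V} (hv : x' v = v)
    (hv' : x'' v = v) : x v = v := by
  have := h v
  rwa [hv', hv] at this

/-- The first list. -/
def l1 : List (V →ₗ[F4] V) := [O.a, ct T O.a, O.b, cs T O.b]

/-- The second list. -/
def l2 : List (V →ₗ[F4] V) := [O.c, cs T O.c, O.d, cs T O.d]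

theorem mem1 {v : V} : v ∈ Frm.fixS O.l1 ↔ O.a v = v ∧ ct T O.a v = v ∧ O.b v = v ∧ cs T O.b v = v := by
  rw [Frm.mem_fixS, l1]
  simp only [List.mem_cons, List.not_mem_nil, or_false, forall_eq_or_imp, forall_eq]

theorem mem2 {v : V} : v ∈ Frm.fixS O.l2 ↔ O.c v = v ∧ cs T O.c v = v ∧ O.d v = v ∧ cs T O.d v = v := by
  rw [Frm.mem_fixS, l2]
  simp only [List.mem_cons, List.not_mem_nil, or_false, forall_eq_or_imp, forall_eq]

theorem inv1 : T.Inv (Frm.fixS O.l1) := by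
  constructor
  · intro v hv
    rw [mem1] at hv ⊢
    obtain ⟨h1, h2, h3, h4⟩ := hv
    have h5 : cs T (cs T O.b) v = v := fix_third (x := O.b) O.b2 (sq_cs O.b2) O.btr h3 h4
    refine ⟨by rw [O.sa, h1], ?_, ?_, by rw [cs_s, h3]⟩
    · rw [ct_s' O.sa, h2]
    · rw [s_cs2 O.b, h5]
  · intro v hv
    rw [mem1] at hv ⊢
    obtain ⟨h1, h2, h3, h4⟩ := hv
    have h5 : ct T (ct T O.a) v = v := fix_third (x := O.a) O.a2 (sq_ct O.a2) O.atr h1 h2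
    refine ⟨?_, by rw [ct_t, h1], by rw [O.tb, h3], ?_⟩
    · rw [t_ct2 O.a, h5]
    · rw [cs_t' O.tb, h4]

theorem c_t (v : V) : O.c (T.t v) = T.t (cs T O.c v) := by
  have h1 : ∀ w, cs T (cs T O.c) (T.t w) = T.t (O.c w) := by
    intro w
    have : cs T (cs T O.c) (T.t w) = T.s (T.s (O.c (T.s (T.t w)))) := by
      simp only [cs, LinearMap.comp_apply, T.s3]
    rw [this, O.stc, T.s3]
  have h2 := cs_t' h1 v
  rwa [cs3] at h2

theorem d_t (v : V) : O.d (T.t v) = T.t (cs T (cs T O.d) v) := by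
  have h1 : ∀ w, O.d (T.t (T.s (T.s w))) = T.t (T.s (T.s (O.d w))) := by
    intro w
    have e1 : T.s (T.t (T.t (T.t (T.s (T.s w))))) = w := by rw [T.t3, T.s3]
    have e2 := O.std (T.t (T.s (T.s w)))
    rw [e1] at e2
    rw [e2, T.s3, T.t3]
  have h2 := h1 (T.s v)
  rw [T.s3] at h2
  simp only [cs, LinearMap.comp_apply, T.s3]
  exact h2

theorem cs2_fix {x : V →ₗ[F4] V} (h2 : ∀ v, x (x v) = v)
    (htr : ∀ v, x (cs T x (cs T (cs T x) v)) = v) {v : V} (h : x v = v) (h' : cs T x v = v) :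
    cs T (cs T x) v = v := fix_third (x := x) h2 (sq_cs h2) htr h h'

theorem inv2 : T.Inv (Frm.fixS O.l2) := by
  constructor
  · intro v hv
    rw [mem2] at hv ⊢
    obtain ⟨h1, h2, h3, h4⟩ := hv
    have h5 := cs2_fix O.c2 O.ctr h1 h2
    have h6 := cs2_fix O.d2 O.dtr h3 h4
    refine ⟨?_, by rw [cs_s, h1], ?_, by rw [cs_s, h3]⟩
    · rw [s_cs2 O.c, h5]
    · rw [s_cs2 O.d, h6]
  · intro v hv
    rw [mem2] at hv ⊢
    obtain ⟨h1, h2, h3, h4⟩ := hv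
    have h5 := cs2_fix O.c2 O.ctr h1 h2
    have h6 := cs2_fix O.d2 O.dtr h3 h4
    refine ⟨?_, ?_, ?_, ?_⟩
    · rw [O.c_t, h2]
    · rw [cs_t' O.c_t, h5]
    · rw [O.d_t, h6]
    · rw [cs_t' O.d_t, cs3, h3]

theorem u_mem1 {v : V} (hv : v ∈ Frm.fixS O.l1) : O.u v ∈ Frm.fixS O.l1 := by
  have hv' := hv
  rw [mem1] at hv ⊢
  obtain ⟨h1, h2, h3, h4⟩ := hv
  obtain ⟨r, hr⟩ := O.ut
  have e1 : O.a (O.u v) = O.u v := by rw [← O.ua, h1]
  have e2 : cs T O.b (O.u v) = O.u v := by rw [← O.ub, h3]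
  have e3 : O.b (O.u v) = O.u v := by
    have : O.b (O.u v) = O.u (O.u (O.b (O.u v))) := (O.u2 _).symm
    rw [this, O.ub, O.u2, h4]
  have e4 : ∀ w, ct T (ct T O.a) (O.u w) = O.u (ct T O.a w) := by
    intro w
    obtain ⟨y, rfl⟩ : ∃ y, w = T.t y := ⟨T.t (T.t w), (T.t3 w).symm⟩
    rw [ct_t, hr, hr, map_smul, O.ua]
    congr 1
    simp only [ct, LinearMap.comp_apply, T.t3]
  have e5 : ct T (ct T O.a) (O.u v) = O.u v := by rw [e4, h2]
  refine ⟨e1, ?_, e3, e2⟩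
  have h6 := O.atr (O.u v)
  rw [e5] at h6
  rw [← O.a2 (ct T O.a (O.u v)), h6, e1]

theorem u_mem2 {v : V} (hv : v ∈ Frm.fixS O.l2) : O.u v ∈ Frm.fixS O.l2 := by
  rw [mem2] at hv ⊢
  obtain ⟨h1, h2, h3, h4⟩ := hv
  obtain ⟨r, hr⟩ := O.us
  have key : ∀ x : V →ₗ[F4] V, (∀ w, O.u (x w) = x (O.u w)) → ∀ w,
      cs T (cs T x) (O.u w) = O.u (cs T x w) := by
    intro x hx w
    obtain ⟨y, rfl⟩ : ∃ y, w = T.s y := ⟨T.s (T.s w), (T.s3 w).symm⟩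
    rw [cs_s, hr, hr, map_smul, hx]
    congr 1
    simp only [cs, LinearMap.comp_apply, T.s3]
  have fin : ∀ x : V →ₗ[F4] V, (∀ w, O.u (x w) = x (O.u w)) → (∀ w, x (x w) = w) →
      (∀ w, x (cs T x (cs T (cs T x) w)) = w) → x v = v → cs T x v = v →
      x (O.u v) = O.u v ∧ cs T x (O.u v) = O.u v := by
    intro x hx hx2 hxt g1 g2
    have e1 : x (O.u v) = O.u v := by rw [← hx, g1]
    have e5 : cs T (cs T x) (O.u v) = O.u v := by rw [key x hx, g2]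
    refine ⟨e1, ?_⟩
    have h6 := hxt (O.u v)
    rw [e5] at h6
    rw [← hx2 (cs T x (O.u v)), h6, e1]
  obtain ⟨f1, f2⟩ := fin O.c O.uc O.c2 O.ctr h1 h2
  obtain ⟨f3, f4⟩ := fin O.d O.ud O.d2 O.dtr h3 h4
  exact ⟨f1, f2, f3, f4⟩

theorem main [Finite V] (hV : Nat.card V = 4096) :
    ∃ F : Fr B, F.IsM O.a mA ∧ F.IsM O.b mB ∧ F.IsM' O.c mC ∧ F.IsM' O.d mD ∧
      (O.u (F.e 0) = F4.v • F.e 1 ∧ O.u (F.e 1) = F4.w • F.e 0 ∧ O.u (F.e 2) = F.e 2) ∧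
      (O.u (F.f 0) = F4.v • F.f 1 ∧ O.u (F.f 1) = F4.w • F.f 0 ∧ O.u (F.f 2) = F.f 2) := by
  have hsq1 : ∀ x ∈ O.l1, ∀ v, x (x v) = v := by
    simp only [l1, List.mem_cons, List.not_mem_nil, or_false, forall_eq_or_imp, forall_eq]
    exact ⟨O.a2, sq_ct O.a2, O.b2, sq_cs O.b2⟩
  have hsq2 : ∀ x ∈ O.l2, ∀ v, x (x v) = v := by
    simp only [l2, List.mem_cons, List.not_mem_nil, or_false, forall_eq_or_imp, forall_eq]
    exact ⟨O.c2, sq_cs O.c2, O.d2, sq_cs O.d2⟩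
  have hb1 : ∀ x ∈ O.l1, ∀ u v, B.b (x u) (x v) = B.b u v := by
    simp only [l1, List.mem_cons, List.not_mem_nil, or_false, forall_eq_or_imp, forall_eq]
    exact ⟨O.ba, iso_ct O.ba, O.bb, iso_cs O.bb⟩
  have hb2 : ∀ x ∈ O.l2, ∀ u v, B.b (x u) (x v) = B.b u v := by
    simp only [l2, List.mem_cons, List.not_mem_nil, or_false, forall_eq_or_imp, forall_eq]
    exact ⟨O.bc, iso_cs O.bc, O.bd, iso_cs O.bd⟩
  have hc1 : ∀ x ∈ O.l1, ∀ y ∈ O.l1, ∀ v, x (y v) = y (x v) := by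
    simp only [l1, List.mem_cons, List.not_mem_nil, or_false, forall_eq_or_imp, forall_eq]
    exact ⟨⟨fun _ => trivial, O.caa, O.cab, O.cab'⟩,
      ⟨fun v => (O.caa v).symm, fun _ => trivial, O.ca'b, O.ca'b'⟩,
      ⟨fun v => (O.cab v).symm, fun v => (O.ca'b v).symm, fun _ => trivial, O.cbb⟩,
      ⟨fun v => (O.cab' v).symm, fun v => (O.ca'b' v).symm, fun v => (O.cbb v).symm, fun _ => trivial⟩⟩
  have hc2 : ∀ x ∈ O.l2, ∀ y ∈ O.l2, ∀ v, x (y v) = y (x v) := by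
    simp only [l2, List.mem_cons, List.not_mem_nil, or_false, forall_eq_or_imp, forall_eq]
    exact ⟨⟨fun _ => trivial, O.ccc, O.ccd, O.ccd'⟩,
      ⟨fun v => (O.ccc v).symm, fun _ => trivial, O.cc'd, O.cc'd'⟩,
      ⟨fun v => (O.ccd v).symm, fun v => (O.cc'd v).symm, fun _ => trivial, O.cdd⟩,
      ⟨fun v => (O.ccd' v).symm, fun v => (O.cc'd' v).symm, fun v => (O.cdd v).symm, fun _ => trivial⟩⟩
  have ha_mem : O.a ∈ O.l1 := List.mem_cons_self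
  have hb_mem : O.b ∈ O.l1 := by simp [l1]
  have hc_mem : O.c ∈ O.l2 := List.mem_cons_self
  have hd_mem : O.d ∈ O.l2 := by simp [l2]
  obtain ⟨p1, p2, p3, p4, p5, p6⟩ := B.fixS_props hV O.l1 hsq1 hc1 hb1 ⟨_, ha_mem, O.na⟩ O.inv1
  obtain ⟨q1, q2, q3, q4, q5, q6⟩ := B.fixS_props hV O.l2 hsq2 hc2 hb2 ⟨_, hc_mem, O.nc⟩ O.inv2
  have hdis : Frm.fixS O.l1 ⊓ Frm.fixS O.l2 = ⊥ := by
    by_contra hne
    have e1 := T.eq_of_le hV (T.inv_inf O.inv1 O.inv2) O.inv1 hne p2 inf_le_left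
    have e2 := T.eq_of_le hV (T.inv_inf O.inv1 O.inv2) O.inv2 hne q2 inf_le_right
    have e3 : Frm.fixS O.l1 = Frm.fixS O.l2 := by rw [← e1, e2]
    obtain ⟨v, hv⟩ := O.nac
    apply hv
    have g1 := p5 O.a ha_mem v
    have g2 := q5 O.c hc_mem v
    have g3 : O.c (O.a v + v) = O.a v + v := (O.mem2.1 (e3 ▸ g1)).1
    have g4 : O.a (O.c v + v) = O.c v + v := (O.mem1.1 (e3 ▸ g2)).1
    rw [map_add] at g3 g4
    have g5 : O.a (O.c v) = O.c v + v + O.a v := by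
      rw [← g4, add_assoc, add_self, add_zero]
    have g6 : O.c (O.a v) = O.a v + v + O.c v := by
      rw [← g3, add_assoc, add_self, add_zero]
    rw [g5, g6]; abel
  obtain ⟨F0, hF0e, hF0f⟩ := exists_fr hV B O.inv1 O.inv2 p1 q1 p4 p6 q4 q6 hdis
  obtain ⟨F, hFa, hFb, hFe, hFf⟩ := exists_normal hV F0 (a1 := ct T O.a) (a2 := ct T (ct T O.a))
    (b1 := cs T O.b) (b2 := cs T (cs T O.b))
    (fun i => (O.mem1.1 (hF0e i)).1) (fun i => (O.mem1.1 (hF0e i)).2.2.1) O.ba O.bb O.sa (ct_t O.a)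
    (ct_t (ct T O.a)) O.atr O.na O.tb (cs_s O.b) (cs_s (cs T O.b)) O.btr O.nb
  have hFe' : ∀ i, F.e i ∈ Frm.fixS O.l1 := by
    intro i
    obtain ⟨r, j, h⟩ := hFe i
    rw [h]; exact T.smul_mem O.inv1 (hF0e j) r
  have hFf' : ∀ i, F.f i ∈ Frm.fixS O.l2 := by
    intro i
    obtain ⟨r, j, h⟩ := hFf i
    rw [h]; exact T.smul_mem O.inv2 (hF0f j) r
  have huE : ∀ i, ∃ x, O.u (F.e i) = F.E x := by
    intro i
    apply exists_E hV F
    intro j r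
    exact p4 _ (O.u_mem1 (hFe' i)) _ (T.smul_mem O.inv1 (hFe' j) r)
  have huG : ∀ i, ∃ x, O.u (F.f i) = F.G x := by
    intro i
    apply exists_E hV F.swap
    intro j r
    exact q4 _ (O.u_mem2 (hFf' i)) _ (T.smul_mem O.inv2 (hFf' j) r)
  have hu := u_matrix hFa hFb (cs_s O.b) O.us huE huG O.bu O.u2 O.ua O.ub
  have hc := c_matrix (c1 := cs T O.c) (c2 := cs T (cs T O.c)) (u := O.u)
    (fun i => (O.mem2.1 (hFf' i)).1) O.bc O.stc (cs_s O.c) (cs_s (cs T O.c)) O.ctr O.nc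
    hu.1.2.2 hu.2.1 hu.2.2.1 hu.2.2.2 O.uc hV
  have hd := d_matrix (c1 := cs T O.d) (c2 := cs T (cs T O.d)) (u := O.u)
    (fun i => (O.mem2.1 (hFf' i)).2.2.1) O.bd O.std (cs_s O.d) (cs_s (cs T O.d)) O.dtr O.nd
    hu.1.2.2 hu.2.1 hu.2.2.1 hu.2.2.2 O.ud hV
  exact ⟨F, hFa, hFb, hc, hd, hu⟩

end Ops

end Cfsg.Agent.J4Type.FrameMain
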