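import Cfsg.Agent.J4Type.FrameOf

/-!
# From a presentation of `E hex0` as the even cocode to `Frame`: the remaining fields
-/

set_option autoImplicit false

namespace Cfsg.Agent.J4Type.FrameOf2

open Cfsg Cfsg.Agent.J4Type.HexStab Cfsg.Agent.J4Type.NormE Cfsg.Agent.J4Type.FrameOf
open Cfsg.Agent.J4Type.DuadStab (IsCocode prod_symmDiff)
open scoped Pointwise IsMulCommutative

/-! ### Parities on the six tetrads -/

/-- The parities of a set on the six tetrads. -/
def par (S : Finset GolayPt) : Fin 6 → ZMod 2 := fun i => ((S ∩ tet i).card : ZMod 2)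

theorem par_symmDiff (S T : Finset GolayPt) : par (symmDiff S T) = par S + par T := by
  funext i
  have h1 : symmDiff S T ∩ tet i = symmDiff (S ∩ tet i) (T ∩ tet i) := by
    ext p
    simp only [Finset.mem_inter, Finset.mem_symmDiff]
    tauto
  have h2 := DuadStab.card_symmDiff_parity (S ∩ tet i) (T ∩ tet i)
  show ((symmDiff S T ∩ tet i).card : ZMod 2) = ((S ∩ tet i).card : ZMod 2) +
    ((T ∩ tet i).card : ZMod 2)
  rw [h1, ← Nat.cast_add]
  exact (ZMod.natCast_eq_natCast_iff _ _ 2).2 h2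

theorem mem_tet_unique : ∀ p : GolayPt, ∃ i, p ∈ tet i ∧ ∀ j, p ∈ tet j → j = i := by
  decide +kernel

theorem sum_par (S : Finset GolayPt) : ∑ i, par S i = (S.card : ZMod 2) := by
  have h1 : S = Finset.univ.biUnion fun i => S ∩ tet i := by
    ext p
    simp only [Finset.mem_biUnion, Finset.mem_univ, true_and, Finset.mem_inter]
    obtain ⟨i, hi, -⟩ := mem_tet_unique p
    exact ⟨fun h => ⟨i, h, hi⟩, fun ⟨_, h, _⟩ => h⟩
  have h2 : S.card = ∑ i, (S ∩ tet i).card := by
    conv_lhs => rw [h1]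
    apply Finset.card_biUnion
    intro i _ j _ hij
    rw [Function.onFun, Finset.disjoint_left]
    intro p hp hq
    obtain ⟨k, -, hk⟩ := mem_tet_unique p
    exact hij ((hk i (Finset.mem_inter.1 hp).2).trans (hk j (Finset.mem_inter.1 hq).2).symm)
  rw [h2, Nat.cast_sum]
  rfl

/-- An octad meeting the tetrads in `3, 1, 1, 1, 1, 1` points. -/
def octS : Finset GolayPt := gset [0, 1, 7, 12, 13, 14, 20, 23]

theorem isCode_octS : IsCode octS := by
  have h : octS ∈ octads := by
    rw [SporadicA.GolayBase.mem_octads_iff]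
    decide +kernel
  exact h.1

theorem par_octS : par octS = 1 := by decide +kernel

theorem even_octS : Even octS.card := by decide +kernel

theorem vec_cases : ∀ v : Fin 6 → ZMod 2, ∑ i, v i = 0 → v = 0 ∨ v = 1 ∨
    ∃ i j, i ≠ j ∧ (v = par {mog i 0, mog j 0} ∨ v = par {mog i 0, mog j 0} + 1) := by
  decide +kernel

theorem mog_ne : ∀ i j : Fin 6, i ≠ j → mog i 0 ≠ mog j 0 := by decide +kernel

theorem mog_mem : ∀ i c, mog i c ∈ tet i := by decide +kernel

/-! ### `E ∩ Q` -/

section mem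

variable {G : Type*} [Group G] {H : Hex G} (K : Coco H)

theorem eps_empty : eps K ∅ = 1 := by
  unfold eps
  rw [Finset.prod_empty]
  rfl

theorem pair_mem_iff {i j : Fin 6} {p q : GolayPt} (hp : p ∈ tet i) (hq : q ∈ tet j)
    (hpq : p ≠ q) : eps K {p, q} ∈ H.Q ↔ i = j := by
  rw [eps_pair K hpq]
  exact K.mem_Q i j p hp q hq

theorem symmDiff_mem_iff {S T : Finset GolayPt} (hT : eps K T ∈ H.Q) :
    eps K (symmDiff S T) ∈ H.Q ↔ eps K S ∈ H.Q := by
  rw [eps_mul]
  exact Subgroup.mul_mem_cancel_right _ hT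

theorem mem_of_par_zero (n : ℕ) : ∀ S : Finset GolayPt, S.card ≤ n → par S = 0 →
    eps K S ∈ H.Q := by
  classical
  induction n with
  | zero =>
    intro S hS _
    rw [Finset.card_eq_zero.1 (Nat.le_zero.1 hS), eps_empty]
    exact H.Q.one_mem
  | succ n ih =>
    intro S hS hpar
    rcases S.eq_empty_or_nonempty with rfl | ⟨p, hp⟩
    · rw [eps_empty]
      exact H.Q.one_mem
    obtain ⟨i, hi, -⟩ := mem_tet_unique p
    have h1 : Even (S ∩ tet i).card := ZMod.natCast_eq_zero_iff_even.1 (congrFun hpar i)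
    have h2 : p ∈ S ∩ tet i := Finset.mem_inter.2 ⟨hp, hi⟩
    have h3 : 1 < (S ∩ tet i).card := by
      have := Finset.card_pos.2 ⟨p, h2⟩
      rw [Nat.even_iff] at h1
      omega
    obtain ⟨q, hq, hqp⟩ := Finset.exists_mem_ne h3 p
    rw [Finset.mem_inter] at hq
    have h4 : eps K {p, q} ∈ H.Q := (pair_mem_iff K hi hq.2 hqp.symm).2 rfl
    rw [← symmDiff_mem_iff K h4]
    have h5 : symmDiff S {p, q} = (S.erase p).erase q := by
      ext x
      simp only [Finset.mem_symmDiff, Finset.mem_insert, Finset.mem_singleton, Finset.mem_erase]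
      constructor
      · rintro (⟨h, h'⟩ | ⟨rfl | rfl, h'⟩)
        · tauto
        · exact absurd hp h'
        · exact absurd hq.1 h'
      · tauto
    apply ih
    · rw [h5, Finset.card_erase_of_mem (Finset.mem_erase.2 ⟨hqp, hq.1⟩),
        Finset.card_erase_of_mem hp]
      omega
    · rw [par_symmDiff, hpar, zero_add]
      have h6 : ∀ i : Fin 6, ∀ p ∈ tet i, ∀ q ∈ tet i, p ≠ q → par {p, q} = 0 := by
        decide +kernel
      exact h6 i p hi q hq.2 hqp.symm

theorem octS_mem : eps K octS ∈ H.Q := by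
  rw [(eps_eq_one K octS even_octS).2 isCode_octS]
  exact H.Q.one_mem

theorem mem_Q_iff (S : Finset GolayPt) (hS : Even S.card) :
    eps K S ∈ H.Q ↔ (∀ i, Even (S ∩ tet i).card) ∨ ∀ i, Odd (S ∩ tet i).card := by
  have e1 : (∀ i, Even (S ∩ tet i).card) ↔ par S = 0 := by
    rw [funext_iff]
    exact forall_congr' fun i => ZMod.natCast_eq_zero_iff_even.symm
  have e2 : (∀ i, Odd (S ∩ tet i).card) ↔ par S = 1 := by
    rw [funext_iff]
    exact forall_congr' fun i => ZMod.natCast_eq_one_iff_odd.symm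
  rw [e1, e2]
  have hz : ∀ T : Finset GolayPt, par T = 0 → eps K T ∈ H.Q :=
    fun T hT => mem_of_par_zero K _ T le_rfl hT
  have hadd : ∀ v : Fin 6 → ZMod 2, v + v = 0 := fun v => by
    funext i
    exact CharTwo.add_self_eq_zero _
  constructor
  · intro h
    have h0 : ∑ i, par S i = 0 := by
      rw [sum_par]
      exact ZMod.natCast_eq_zero_iff_even.2 hS
    rcases vec_cases (par S) h0 with h1 | h1 | ⟨i, j, hij, h1⟩
    · exact Or.inl h1
    · exact Or.inr h1
    · exfalso
      have key : eps K {mog i 0, mog j 0} ∈ H.Q := by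
        rw [← symmDiff_mem_iff K h]
        rcases h1 with h1 | h1
        · apply hz
          rw [par_symmDiff, h1, hadd]
        · rw [← symmDiff_mem_iff K (octS_mem K)]
          apply hz
          rw [par_symmDiff, par_symmDiff, h1, par_octS, ← add_assoc, hadd, zero_add, hadd]
      exact hij ((pair_mem_iff K (mog_mem i 0) (mog_mem j 0) (mog_ne i j hij)).1 key)
  · rintro (h | h)
    · exact hz S h
    · rw [← symmDiff_mem_iff K (octS_mem K)]
      apply hz
      rw [par_symmDiff, h, par_octS, hadd]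

end mem

/-! ### The permutation induced by `ρ` -/

/-- the images of the points `0, …, 23` under `mog i c ↦ mog i (ω c)` -/
def sigTable : List ℕ :=
  [1, 2, 0, 3, 4, 14, 21, 7, 11, 20, 10, 18, 12, 16, 17, 9, 22, 5, 8, 6, 15, 19, 13, 23]

def sigFun (p : GolayPt) : GolayPt := gp (sigTable.getD (SporadicA.GolayBase.idx p) 0)

/-- the permutation `mog i c ↦ mog i (ω c)` -/
def sig : Equiv.Perm GolayPt :=
  ⟨sigFun, fun p => sigFun (sigFun p), by unfold Function.LeftInverse; decide +kernel,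
    by unfold Function.RightInverse Function.LeftInverse; decide +kernel⟩

theorem sig_mog : ∀ i c, sig (mog i c) = mog i (om c) := by
  have h : ∀ i c, sigFun (mog i c) = mog i (om c) := by decide +kernel
  exact h

theorem exists_mog : ∀ p : GolayPt, ∃ i c, p = mog i c := by decide +kernel

theorem om_zero : om 0 = 0 := rfl

theorem sig_tet (i : Fin 6) : sig • tet i = tet i := by
  rw [SporadicA.GolayPerm.smul_finset_eq_map]
  revert i
  have h : ∀ i, (tet i).image sigFun = tet i := by decide +kernel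
  intro i
  rw [Finset.map_eq_image]
  exact h i

section frame

variable {G : Type*} [Group G] {H : Hex G} (K : Coco H)

theorem pi_ρ (f : Subgroup.normalizer (H.E hex0 : Set G) →* M24)
    (hf : ∀ (n : Subgroup.normalizer (H.E hex0 : Set G)) (S : Finset GolayPt), Even S.card →
      (n : G) * eps K S * (n : G)⁻¹ = eps K ((f n : Equiv.Perm GolayPt) • S))
    (n : Subgroup.normalizer (H.E hex0 : Set G)) (hn : (n : G) = H.ρ) :
    (f n : Equiv.Perm GolayPt) = sig := by
  apply K.cocode.perm_unique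
  intro p q
  by_cases hpq : p = q
  · rw [hpq, K.cocode.sq, K.cocode.sq]
  apply Subtype.ext
  have h1 := hf n {p, q} (by rw [Finset.card_pair hpq]; exact ⟨1, rfl⟩)
  rw [Finset.smul_finset_insert, Finset.smul_finset_singleton, Equiv.Perm.smul_def,
    Equiv.Perm.smul_def, eps_pair K hpq,
    eps_pair K ((f n : Equiv.Perm GolayPt).injective.ne hpq), hn] at h1
  rw [Subgroup.coe_mul, ← h1, Subgroup.coe_mul]
  obtain ⟨i, c, rfl⟩ := exists_mog p
  obtain ⟨j, d, rfl⟩ := exists_mog q
  rw [K.ρ_duad, sig_mog, sig_mog]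

/-- Duads are not conjugate to `z`. -/
theorem duad_not_conj
    (hE : ∀ g : G, g⁻¹ * H.z * g ∈ H.E hex0 →
      ∃ O, IsHex O ∧ ∀ a : G, g⁻¹ * a * g ∈ H.E hex0 ↔ a ∈ H.E O)
    (p q : GolayPt) (hpq : p ≠ q) : ¬ IsConj H.z (eps K {p, q}) := by
  intro h
  obtain ⟨g, hg⟩ := isConj_iff.1 h
  have h1 : (g⁻¹)⁻¹ * H.z * g⁻¹ ∈ H.E hex0 := by
    rw [inv_inv, hg, eps_pair K hpq]
    exact Subgroup.mul_mem _ (K.e p).2 (K.e q).2
  obtain ⟨O, hO, h2⟩ := hE g⁻¹ h1
  rw [inv_inv] at h2
  obtain ⟨c, hc⟩ := exists_smul H isHex_hex0 hO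
  have h3 : g * (c : G) ∈ Subgroup.normalizer (H.E hex0 : Set G) := by
    rw [Subgroup.mem_normalizer_iff]
    intro a
    have h4 := H.E_conj hex0 isHex_hex0 c a
    rw [hc, ← h2] at h4
    have h5 : g * (c : G) * a * (g * (c : G))⁻¹ = g * ((c : G) * a * (c : G)⁻¹) * g⁻¹ := by group
    rw [h5]
    exact h4
  refine (K.conj_iff (K.e p * K.e q) (duad_ne_one K hpq)).1 ⟨g * (c : G), h3, ?_⟩
    ⟨p, q, hpq, rfl⟩
  have h6 : (c : G) * H.z * (c : G)⁻¹ = H.z := by
    rw [(Subgroup.mem_centralizer_singleton_iff.1 c.2), mul_inv_cancel_right]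
  have h7 : g * (c : G) * H.z * (g * (c : G))⁻¹ = g * ((c : G) * H.z * (c : G)⁻¹) * g⁻¹ := by group
  rw [h7, h6, hg, eps_pair K hpq, Subgroup.coe_mul]

include K in
/-- **Main theorem of this file**: `Coco` gives `Frame`. -/
theorem exists_frame [Finite G]
    (hE : ∀ g : G, g⁻¹ * H.z * g ∈ H.E hex0 →
      ∃ O, IsHex O ∧ ∀ a : G, g⁻¹ * a * g ∈ H.E hex0 ↔ a ∈ H.E O) :
    ∃ F : Frame G, F.toHex = H := by
  obtain ⟨f, hf1, hf2⟩ := exists_pi K
  have hsurj := surjective_of_ker f hf2 (card_normalizer K)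
  refine ⟨{ H with
    ε := eps K
    ε_mem := fun S _ => (∏ p ∈ S, K.e p : H.E hex0).2
    ε_mul := fun S T _ _ => eps_mul K S T
    ε_ker := eps_eq_one K
    ε_surj := ?_
    π := f
    π_smul := hf1
    π_ker := hf2
    π_surj := hsurj
    ε_tet := K.prod_tet
    A_iff := mem_Q_iff K
    P_ε := ?_
    ρ_tet := ?_
    duad_not_conj := duad_not_conj K hE
    E_unique := hE }, rfl⟩
  · intro a ha
    obtain ⟨S, hS, h⟩ := K.gen ⟨a, ha⟩
    exact ⟨S, hS, (congrArg (fun x : H.E hex0 => (x : G)) h).symm⟩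
  · intro a i j hij p hp q hq h
    have hpq : p ≠ q := by
      rintro rfl
      obtain ⟨k, -, hk⟩ := mem_tet_unique p
      exact hij ((hk i hp).trans (hk j hq).symm)
    apply K.P_duad a i j hij p hp q hq
    rw [h, eps_pair K hpq]
  · intro n hn i
    rw [pi_ρ K f hf1 n hn, sig_mog, om_zero]
    exact ⟨rfl, sig_tet i⟩

end frame

end Cfsg.Agent.J4Type.FrameOf2
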