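import Cfsg.Agent.J4Type.FrameExist

/-!
# Matrices of the operators in an adapted basis (J4 type recognition)
-/

set_option autoImplicit false

namespace Cfsg.Agent.J4Type.FrameOps

open Cfsg.Agent.SporadicA.FieldFour
open Cfsg.Agent.J4Type.Frame
open Cfsg.Agent.J4Type.FrameForm
open Cfsg.Agent.J4Type.FrameBasis
open Cfsg.Agent.J4Type.FrameExist
open Cfsg.Agent.J4Type.Frame.TP (ev)

variable {V : Type*} [AddCommGroup V] [Module F4 V] {T : TP V} {B : Frm T}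

theorem ev_ne (i : Fin 3) : ev i ≠ 0 := by revert i; decide

theorem exists_E [Finite V] (hV : Nat.card V = 4096) (F : Fr B) {w : V}
    (h : ∀ (j : Fin 3) (c : F4), B.b w (c • F.e j) = 0) : ∃ a, w = F.E a := by
  obtain ⟨⟨a, c⟩, rfl⟩ := (F.phi_bijective hV).2 w
  refine ⟨a, ?_⟩
  have h1 : ∀ (j : Fin 3) (x : F4), tr (c j * conj x) = 0 := by
    intro j x
    have h0 : B.b (F.phi (a, c)) (x • F.e j) = B.b (F.E a) (x • F.e j) + B.b (F.G c) (x • F.e j) :=
      B.b_add _ _ _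
    rw [h, F.b_E_e, F.b_G_e, zero_add] at h0
    exact h0.symm
  have key : ∀ x : F4, (∀ c : F4, tr (x * conj c) = 0) → x = 0 := by decide
  have hc : c = 0 := by funext j; exact key _ (h1 j)
  rw [hc]
  simp [Fr.phi, Fr.G_zero]

theorem exists_isM [Finite V] (hV : Nat.card V = 4096) (F : Fr B) {x : V →ₗ[F4] V}
    (hx : ∀ i, x (F.e i) = F.e i) (hb : ∀ u v, B.b (x u) (x v) = B.b u v) :
    ∃ m, F.IsM x m := by
  have h : ∀ i, ∃ a, x (F.f i) = F.f i + F.E a := by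
    intro i
    have : ∃ a, x (F.f i) + F.f i = F.E a := by
      apply exists_E hV F
      intro j c
      have h1 := hb (F.f i) (c • F.e j)
      rw [map_smul, hx] at h1
      rw [B.b_add, h1]
      exact CharTwo.add_self_eq_zero _
    obtain ⟨a, ha⟩ := this
    refine ⟨a, ?_⟩
    rw [← ha]
    calc x (F.f i) = x (F.f i) + (F.f i + F.f i) := by rw [add_self, add_zero]
      _ = F.f i + (x (F.f i) + F.f i) := by abel
  choose m hm using h
  exact ⟨m, hx, hm⟩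

theorem s_E (F : Fr B) (a : Fin 3 → F4) : T.s (F.E a) = F.E (fun j => F.lam * ev j * a j) := by
  unfold Fr.E
  simp only [map_add, map_smul, F.se, smul_smul]
  simp only [mul_comm]

theorem t_E (F : Fr B) (a : Fin 3 → F4) : T.t (F.E a) = F.E (fun j => F.kap * a (j - 1)) := by
  unfold Fr.E
  simp only [map_add, map_smul, F.te, smul_smul]
  rw [show (0 : Fin 3) - 1 = 2 from rfl, show (1 : Fin 3) - 1 = 0 from rfl,
    show (2 : Fin 3) - 1 = 1 from rfl, show (0 : Fin 3) + 1 = 1 from rfl,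
    show (1 : Fin 3) + 1 = 2 from rfl, show (2 : Fin 3) + 1 = 0 from rfl,
    mul_comm (a 0), mul_comm (a 1), mul_comm (a 2)]
  abel

theorem conj_s {F : Fr B} {x x' : V →ₗ[F4] V} {m : Fin 3 → Fin 3 → F4} (h : F.IsM x m)
    (hx : ∀ v, x' (T.s v) = T.s (x v)) : F.IsM x' (fun i j => (ev i)⁻¹ * ev j * m i j) := by
  have hl : ∀ i, F.lam * ev i ≠ 0 := fun i => mul_ne_zero F.lam_ne (ev_ne i)
  have e1 : ∀ i, F.e i = (F.lam * ev i)⁻¹ • T.s (F.e i) := by
    intro i; rw [F.se, smul_smul, inv_mul_cancel₀ (hl i), one_smul]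
  have e2 : ∀ i, F.f i = (F.lam * ev i)⁻¹ • T.s (F.f i) := by
    intro i; rw [F.sf, smul_smul, inv_mul_cancel₀ (hl i), one_smul]
  refine ⟨fun i => ?_, fun i => ?_⟩
  · conv_lhs => rw [e1 i]
    rw [map_smul, hx, h.1, ← e1 i]
  · conv_lhs => rw [e2 i]
    rw [map_smul, hx, h.2, map_add, smul_add, ← e2 i, s_E, ← F.E_smul]
    congr 2
    funext j
    simp only [Pi.smul_apply, smul_eq_mul]
    have := F.lam_ne
    have h2 := ev_ne i
    field_simp

theorem conj_t {F : Fr B} {x x' : V →ₗ[F4] V} {m : Fin 3 → Fin 3 → F4} (h : F.IsM x m)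
    (hx : ∀ v, x' (T.t v) = T.t (x v)) : F.IsM x' (fun i j => m (i - 1) (j - 1)) := by
  have e1 : ∀ i, F.e i = F.kap⁻¹ • T.t (F.e (i - 1)) := by
    intro i; rw [F.te, smul_smul, inv_mul_cancel₀ F.kap_ne, one_smul, sub_add_cancel]
  have e2 : ∀ i, F.f i = F.kap⁻¹ • T.t (F.f (i - 1)) := by
    intro i; rw [F.tf, smul_smul, inv_mul_cancel₀ F.kap_ne, one_smul, sub_add_cancel]
  refine ⟨fun i => ?_, fun i => ?_⟩
  · conv_lhs => rw [e1 i]
    rw [map_smul, hx, h.1, ← e1 i]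
  · conv_lhs => rw [e2 i]
    rw [map_smul, hx, h.2, map_add, smul_add, ← e2 i, t_E, ← F.E_smul]
    congr 2
    funext j
    simp only [Pi.smul_apply, smul_eq_mul]
    rw [← mul_assoc, inv_mul_cancel₀ F.kap_ne, one_mul]

theorem isM_shift {F : Fr B} {x : V →ₗ[F4] V} {m : Fin 3 → Fin 3 → F4} (h : F.IsM x m)
    (k : Fin 3) : (shift F k).IsM x (fun i j => m (i + k) (j + k)) := by
  refine ⟨fun i => h.1 _, fun i => ?_⟩
  change x (F.f (i + k)) = F.f (i + k) + _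
  rw [h.2]
  congr 1
  change F.E (m (i + k)) = m (i + k) (0 + k) • F.e (0 + k) + m (i + k) (1 + k) • F.e (1 + k) +
    m (i + k) (2 + k) • F.e (2 + k)
  unfold Fr.E
  match k with
  | 0 => rfl
  | 1 =>
    rw [show (0 : Fin 3) + 1 = 1 from rfl, show (1 : Fin 3) + 1 = 2 from rfl,
      show (2 : Fin 3) + 1 = 0 from rfl]
    abel
  | 2 =>
    rw [show (0 : Fin 3) + 2 = 2 from rfl, show (1 : Fin 3) + 2 = 0 from rfl,
      show (2 : Fin 3) + 2 = 1 from rfl]
    abel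

theorem isM_scale {F : Fr B} {x : V →ₗ[F4] V} {m : Fin 3 → Fin 3 → F4} (h : F.IsM x m)
    (μ : F4) (hμ : μ ≠ 0) : (scale F μ hμ).IsM x
      (fun i j => ![1, μ, μ * μ] i * m i j * (![1, μ, μ * μ] j)⁻¹) := by
  have hne : ∀ i : Fin 3, (![1, μ, μ * μ] i : F4) ≠ 0 := by
    intro i; revert μ; revert i; decide
  refine ⟨fun i => ?_, fun i => ?_⟩
  · change x ((![1, μ, μ * μ] i : F4) • F.e i) = _
    rw [map_smul, h.1]; rfl
  · change x ((![1, μ, μ * μ] i : F4) • F.f i) = (![1, μ, μ * μ] i : F4) • F.f i + _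
    rw [map_smul, h.2, smul_add]
    congr 1
    rw [← F.E_smul]
    change _ = (![1, μ, μ * μ] i * m i 0 * (![1, μ, μ * μ] 0)⁻¹) • ((![1, μ, μ * μ] 0 : F4) • F.e 0)
      + (![1, μ, μ * μ] i * m i 1 * (![1, μ, μ * μ] 1)⁻¹) • ((![1, μ, μ * μ] 1 : F4) • F.e 1)
      + (![1, μ, μ * μ] i * m i 2 * (![1, μ, μ * μ] 2)⁻¹) • ((![1, μ, μ * μ] 2 : F4) • F.e 2)
    rw [smul_smul, smul_smul, smul_smul, inv_mul_cancel_right₀ (hne 0),
      inv_mul_cancel_right₀ (hne 1), inv_mul_cancel_right₀ (hne 2)]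
    rfl

/-- The matrix of `a`: a diagonal matrix with exactly one zero. -/
theorem diag_pattern {F : Fr B} {a a1 a2 : V →ₗ[F4] V} {m : Fin 3 → Fin 3 → F4}
    (h : F.IsM a m) (hb : ∀ u v, B.b (a u) (a v) = B.b u v)
    (hs : ∀ v, a (T.s v) = T.s (a v)) (h1 : ∀ v, a1 (T.t v) = T.t (a v))
    (h2 : ∀ v, a2 (T.t v) = T.t (a1 v)) (h3 : ∀ v, a (a1 (a2 v)) = v) (hne : ∃ v, a v ≠ v)
    [Finite V] (hV : Nat.card V = 4096) :
    ∃ k : Fin 3, ∀ i j, m i j = if i = j ∧ i ≠ k then 1 else 0 := by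
  have e1 : ∀ i j, m i j = (ev i)⁻¹ * ev j * m i j := fun i j =>
    congrFun (congrFun (h.unique (conj_s h hs)) i) j
  have hoff : ∀ i j, i ≠ j → m i j = 0 := by
    intro i j hij
    have := e1 i j
    have key : ∀ (i j : Fin 3) (x : F4), i ≠ j → x = (ev i)⁻¹ * ev j * x → x = 0 := by decide
    exact key i j _ hij this
  have k1 := conj_t h h1
  have k2 := conj_t k1 h2
  have k3 := (h.comp (k1.comp k2))
  have k4 : F.IsM (a ∘ₗ (a1 ∘ₗ a2)) (fun _ _ => 0) := by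
    have : a ∘ₗ (a1 ∘ₗ a2) = LinearMap.id := LinearMap.ext h3
    rw [this]; exact Fr.IsM.one F
  have k5 := k3.unique k4
  have hsum : m 0 0 + (m 2 2 + m 1 1) = 0 := congrFun (congrFun k5 0) 0
  have hd : ∀ i, m i i = conj (m i i) := fun i => h.herm hb i i
  have h01 : ∀ x : F4, x = conj x → x = 0 ∨ x = 1 := by decide
  have hnz : ¬ (m 0 0 = 0 ∧ m 1 1 = 0 ∧ m 2 2 = 0) := by
    rintro ⟨z0, z1, z2⟩
    have hm : m = fun _ _ => 0 := by
      funext i j
      by_cases hij : i = j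
      · subst hij; fin_cases i
        · exact z0
        · exact z1
        · exact z2
      · exact hoff i j hij
    obtain ⟨v, hv⟩ := hne
    apply hv
    obtain ⟨⟨p, c⟩, rfl⟩ := (F.phi_bijective hV).2 v
    rw [hm] at h
    rw [h.phi]
    congr 1
    apply Prod.ext
    · funext j; simp
    · rfl
  have hf := h01 _ (hd 0)
  have hg := h01 _ (hd 1)
  have hh := h01 _ (hd 2)
  have hcase : ∃ k : Fin 3, ∀ i, m i i = if i ≠ k then 1 else 0 := by
    rcases hf with hf | hf <;> rcases hg with hg | hg <;> rcases hh with hh | hh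
    · exact absurd ⟨hf, hg, hh⟩ hnz
    · rw [hf, hg, hh] at hsum; exact absurd hsum (by decide)
    · rw [hf, hg, hh] at hsum; exact absurd hsum (by decide)
    · exact ⟨0, fun i => by fin_cases i <;> simp [hf, hg, hh]⟩
    · rw [hf, hg, hh] at hsum; exact absurd hsum (by decide)
    · exact ⟨1, fun i => by fin_cases i <;> simp [hf, hg, hh]⟩
    · exact ⟨2, fun i => by fin_cases i <;> simp [hf, hg, hh]⟩
    · rw [hf, hg, hh] at hsum; exact absurd hsum (by decide)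
  obtain ⟨k, hk⟩ := hcase
  refine ⟨k, fun i j => ?_⟩
  by_cases hij : i = j
  · subst hij
    rw [hk i]
    by_cases hik : i ≠ k
    · rw [if_pos hik, if_pos ⟨rfl, hik⟩]
    · rw [if_neg hik, if_neg (fun h' => hik h'.2)]
  · rw [hoff i j hij, if_neg (fun h' => hij h'.1)]

/-- The matrix of an operator whose product with its two `s`-conjugates is `1` has zero diagonal. -/
theorem diag_zero {F : Fr B} {a a1 a2 : V →ₗ[F4] V} {m : Fin 3 → Fin 3 → F4}
    (h : F.IsM a m) (h1 : ∀ v, a1 (T.s v) = T.s (a v))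
    (h2 : ∀ v, a2 (T.s v) = T.s (a1 v)) (h3 : ∀ v, a (a1 (a2 v)) = v) (i : Fin 3) :
    m i i = 0 := by
  have k1 := conj_s h h1
  have k2 := conj_s k1 h2
  have k3 := (h.comp (k1.comp k2))
  have k4 : F.IsM (a ∘ₗ (a1 ∘ₗ a2)) (fun _ _ => 0) := by
    have : a ∘ₗ (a1 ∘ₗ a2) = LinearMap.id := LinearMap.ext h3
    rw [this]; exact Fr.IsM.one F
  have k5 := k3.unique k4
  have hsum : m i i + ((ev i)⁻¹ * ev i * m i i + (ev i)⁻¹ * ev i * ((ev i)⁻¹ * ev i * m i i)) = 0 :=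
    congrFun (congrFun k5 i) i
  have key : ∀ (i : Fin 3) (x : F4),
      x + ((ev i)⁻¹ * ev i * x + (ev i)⁻¹ * ev i * ((ev i)⁻¹ * ev i * x)) = 0 → x = 0 := by decide
  exact key i _ hsum

/-- The three matrices of the operators `a`, `b` after normalisation. -/
def mA : Fin 3 → Fin 3 → F4 := fun i j => if i = j ∧ i ≠ 2 then 1 else 0
def mB : Fin 3 → Fin 3 → F4 := fun i j => if i = j then 0 else 1

theorem circ_matrix {F : Fr B} {b b1 b2 : V →ₗ[F4] V} {m : Fin 3 → Fin 3 → F4}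
    (h : F.IsM b m) (hb : ∀ u v, B.b (b u) (b v) = B.b u v)
    (ht : ∀ v, b (T.t v) = T.t (b v)) (h1 : ∀ v, b1 (T.s v) = T.s (b v))
    (h2 : ∀ v, b2 (T.s v) = T.s (b1 v)) (h3 : ∀ v, b (b1 (b2 v)) = v) (hne : ∃ v, b v ≠ v)
    [Finite V] (hV : Nat.card V = 4096) :
    ∃ μ : F4, μ ≠ 0 ∧ m = ![![0, μ, conj μ], ![conj μ, 0, μ], ![μ, conj μ, 0]] := by
  have hd := diag_zero h h1 h2 h3
  have e1 : ∀ i j, m i j = m (i - 1) (j - 1) := fun i j =>
    congrFun (congrFun (h.unique (conj_t h ht)) i) j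
  have h10 := h.herm hb 0 1
  have h21 := h.herm hb 1 2
  have h02 := h.herm hb 2 0
  have h12 : m 1 2 = m 0 1 := e1 1 2
  have h20 : m 2 0 = m 1 2 := e1 2 0
  have hm : m = ![![0, m 0 1, conj (m 0 1)], ![conj (m 0 1), 0, m 0 1], ![m 0 1, conj (m 0 1), 0]] := by
    funext i j
    fin_cases i <;> fin_cases j
    · exact hd 0
    · rfl
    · change m 0 2 = conj (m 0 1); rw [h02, h20, h12]
    · exact h10
    · exact hd 1
    · exact h12
    · change m 2 0 = m 0 1; rw [h20, h12]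
    · change m 2 1 = conj (m 0 1); rw [h21, h12]
    · exact hd 2
  refine ⟨m 0 1, ?_, hm⟩
  intro h0
  obtain ⟨v, hv⟩ := hne
  apply hv
  obtain ⟨⟨p, c⟩, rfl⟩ := (F.phi_bijective hV).2 v
  have hm0 : m = fun _ _ => 0 := by
    rw [hm, h0]
    funext i j
    fin_cases i <;> fin_cases j <;> rfl
  rw [hm0] at h
  rw [h.phi]
  congr 1
  apply Prod.ext
  · funext j; simp
  · rfl

/-- Existence of a frame in which `a` and `b` have the standard matrices. -/
theorem exists_normal [Finite V] (hV : Nat.card V = 4096) (F : Fr B)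
    {a a1 a2 b b1 b2 : V →ₗ[F4] V}
    (hae : ∀ i, a (F.e i) = F.e i) (hbe : ∀ i, b (F.e i) = F.e i)
    (hab : ∀ u v, B.b (a u) (a v) = B.b u v) (hbb : ∀ u v, B.b (b u) (b v) = B.b u v)
    (has : ∀ v, a (T.s v) = T.s (a v)) (ha1 : ∀ v, a1 (T.t v) = T.t (a v))
    (ha2 : ∀ v, a2 (T.t v) = T.t (a1 v)) (ha3 : ∀ v, a (a1 (a2 v)) = v) (hane : ∃ v, a v ≠ v)
    (hbt : ∀ v, b (T.t v) = T.t (b v)) (hb1 : ∀ v, b1 (T.s v) = T.s (b v))
    (hb2 : ∀ v, b2 (T.s v) = T.s (b1 v)) (hb3 : ∀ v, b (b1 (b2 v)) = v)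
    (hbne : ∃ v, b v ≠ v) :
    ∃ F' : Fr B, F'.IsM a mA ∧ F'.IsM b mB ∧
      (∀ i, ∃ (c : F4) (j : Fin 3), F'.e i = c • F.e j) ∧
      (∀ i, ∃ (c : F4) (j : Fin 3), F'.f i = c • F.f j) := by
  obtain ⟨m, hm⟩ := exists_isM hV F hae hab
  obtain ⟨k, hk⟩ := diag_pattern hm hab has ha1 ha2 ha3 hane hV
  set F1 := shift F (k + 1) with hF1
  have ha' : F1.IsM a mA := by
    have h := isM_shift hm (k + 1)
    have : (fun i j => m (i + (k + 1)) (j + (k + 1))) = mA := by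
      funext i j
      rw [hk]
      have key : ∀ i j k : Fin 3, (if i + (k + 1) = j + (k + 1) ∧ i + (k + 1) ≠ k then (1 : F4)
          else 0) = mA i j := by decide
      exact key i j k
    rw [this] at h; exact h
  have hbe1 : ∀ i, b (F1.e i) = F1.e i := fun i => hbe _
  obtain ⟨n, hn⟩ := exists_isM hV F1 hbe1 hbb
  obtain ⟨μ, hμ, hnm⟩ := circ_matrix hn hbb hbt hb1 hb2 hb3 hbne hV
  refine ⟨scale F1 μ hμ, ?_, ?_, ?_, ?_⟩
  · have h := isM_scale ha' μ hμ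
    have : (fun i j => ![1, μ, μ * μ] i * mA i j * (![1, μ, μ * μ] j)⁻¹) = mA := by
      funext i j
      have key : ∀ (μ : F4) (i j : Fin 3), μ ≠ 0 →
          ![1, μ, μ * μ] i * mA i j * (![1, μ, μ * μ] j)⁻¹ = mA i j := by decide
      exact key μ i j hμ
    rw [this] at h; exact h
  · have h := isM_scale hn μ hμ
    rw [hnm] at h
    have : (fun i j => ![1, μ, μ * μ] i *
        ((![![0, μ, conj μ], ![conj μ, 0, μ], ![μ, conj μ, 0]] : Fin 3 → Fin 3 → F4) i j) *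
        (![1, μ, μ * μ] j)⁻¹) = mB := by
      funext i j
      have key : ∀ (μ : F4) (i j : Fin 3), μ ≠ 0 → ![1, μ, μ * μ] i *
        ((![![0, μ, conj μ], ![conj μ, 0, μ], ![μ, conj μ, 0]] : Fin 3 → Fin 3 → F4) i j) *
        (![1, μ, μ * μ] j)⁻¹ = mB i j := by decide
      exact key μ i j hμ
    rw [this] at h; exact h
  · intro i; exact ⟨_, _, rfl⟩
  · intro i; exact ⟨_, _, rfl⟩

end Cfsg.Agent.J4Type.FrameOps
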