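import Cfsg.Agent.J4Type.FrameOps

/-!
# Matrices of the remaining operators in an adapted basis (J4 type recognition)
-/

set_option autoImplicit false

namespace Cfsg.Agent.J4Type.FrameOps2

open Cfsg.Agent.SporadicA.FieldFour
open Cfsg.Agent.J4Type.Frame
open Cfsg.Agent.J4Type.FrameForm
open Cfsg.Agent.J4Type.FrameBasis
open Cfsg.Agent.J4Type.FrameExist
open Cfsg.Agent.J4Type.FrameOps
open Cfsg.Agent.J4Type.Frame.TP (ev)

variable {V : Type*} [AddCommGroup V] [Module F4 V] {T : TP V} {B : Frm T}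

theorem E_eq_zero (F : Fr B) {a : Fin 3 → F4} (h : F.E a = 0) : a = 0 :=
  F.E_inj (by rw [h, F.E_zero])

theorem G_inj (F : Fr B) {a a' : Fin 3 → F4} (h : F.G a = F.G a') : a = a' :=
  F.swap.E_inj h

theorem E_single (F : Fr B) (x : F4) (j : Fin 3) : F.E (fun k => if k = j then x else 0) = x • F.e j := by
  unfold Fr.E
  fin_cases j <;> simp

theorem G_single (F : Fr B) (x : F4) (j : Fin 3) : F.G (fun k => if k = j then x else 0) = x • F.f j := by
  unfold Fr.G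
  fin_cases j <;> simp

/-- An operator (linear or semilinear) commuting with `a` and preserving the second half fixes the
last line. -/
theorem line_two {F : Fr B} {a : V →ₗ[F4] V} (ha : F.IsM a mA) {c : Fin 3 → F4}
    (h : a (F.G c) = F.G c) : F.G c = c 2 • F.f 2 := by
  rw [ha.G] at h
  have h1 : F.E (fun j => c 0 * mA 0 j + c 1 * mA 1 j + c 2 * mA 2 j) = 0 := add_eq_left.1 h
  have h2 := E_eq_zero F h1
  have h0 := congrFun h2 0
  have h3 := congrFun h2 1
  have e0 : c 0 = 0 := by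
    have : c 0 * mA 0 0 + c 1 * mA 1 0 + c 2 * mA 2 0 = c 0 := by
      rw [show mA 0 0 = 1 from rfl, show mA 1 0 = 0 from rfl, show mA 2 0 = 0 from rfl]
      ring
    rw [← this]; exact h0
  have e1 : c 1 = 0 := by
    have : c 0 * mA 0 1 + c 1 * mA 1 1 + c 2 * mA 2 1 = c 1 := by
      rw [show mA 0 1 = 0 from rfl, show mA 1 1 = 1 from rfl, show mA 2 1 = 0 from rfl]
      ring
    rw [← this]; exact h3
  unfold Fr.G
  rw [e0, e1, zero_smul, zero_smul, zero_add, zero_add]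

theorem f_ne (F : Fr B) (i : Fin 3) : F.f i ≠ 0 := by
  intro h
  have := F.ef i i F4.w 1
  rw [h, smul_zero, B.b_zero_right, if_pos rfl] at this
  exact absurd this (by decide)

theorem e_ne (F : Fr B) (i : Fin 3) : F.e i ≠ 0 := f_ne F.swap i

theorem smul_f_inj (F : Fr B) {i : Fin 3} {x y : F4} (h : x • F.f i = y • F.f i) : x = y := by
  by_contra hne
  have h1 : (x - y) • F.f i = 0 := by rw [sub_smul, h, sub_self]
  have h2 := congrArg (fun v => (x - y)⁻¹ • v) h1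
  simp only [smul_smul, smul_zero] at h2
  rw [inv_mul_cancel₀ (sub_ne_zero.2 hne), one_smul] at h2
  exact f_ne F i h2

theorem G_s (F : Fr B) (a : Fin 3 → F4) : T.s (F.G a) = F.G (fun j => F.lam * ev j * a j) :=
  s_E F.swap a

/-- Analysis of the involution `u`. -/
theorem u_matrix {F : Fr B} {a b b1 u : V →ₗ[F4] V} (ha : F.IsM a mA) (hbm : F.IsM b mB)
    (hb1 : ∀ v, b1 (T.s v) = T.s (b v))
    (hus : ∃ r : F4, ∀ v, u (T.s v) = r • T.s (T.s (u v)))
    (huE : ∀ i, ∃ x, u (F.e i) = F.E x) (huG : ∀ i, ∃ x, u (F.f i) = F.G x)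
    (hiso : ∀ x y, B.b (u x) (u y) = B.b x y) (hu2 : ∀ v, u (u v) = v)
    (hua : ∀ v, u (a v) = a (u v)) (hub : ∀ v, u (b v) = b1 (u v)) :
    (u (F.e 0) = F4.v • F.e 1 ∧ u (F.e 1) = F4.w • F.e 0 ∧ u (F.e 2) = F.e 2) ∧
      (u (F.f 0) = F4.v • F.f 1 ∧ u (F.f 1) = F4.w • F.f 0 ∧ u (F.f 2) = F.f 2) := by
  obtain ⟨r, hr⟩ := hus
  obtain ⟨c, hc⟩ := huG 2
  have hf2 : a (F.f 2) = F.f 2 := by
    rw [ha.2]
    have : F.E (mA 2) = 0 := by
      have : mA 2 = 0 := by funext j; revert j; decide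
      rw [this, F.E_zero]
    rw [this, add_zero]
  have h1 : a (F.G c) = F.G c := by rw [← hc, ← hua, hf2]
  have h2 := line_two ha h1
  rw [h2] at hc
  have hc0 : c 2 ≠ 0 := by
    intro h0
    rw [h0, zero_smul] at hc
    have := hu2 (F.f 2)
    rw [hc, map_zero] at this
    exact f_ne F 2 this.symm
  -- the scalar relation
  have hrl : r * F.lam = F4.w := by
    have h3 := hr (F.f 2)
    rw [F.sf, map_smul, hc, map_smul, F.sf, map_smul, map_smul, F.sf, smul_smul, smul_smul,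
      smul_smul, smul_smul] at h3
    have h4 := smul_f_inj F h3
    have key : ∀ l r x : F4, l ≠ 0 → x ≠ 0 →
        l * ev 2 * x = r * x * (l * ev 2) * (l * ev 2) → r * l = F4.w := by decide
    exact key _ _ _ F.lam_ne hc0 h4
  have hE : ∀ i (x : Fin 3 → F4), u (F.e i) = F.E x → ∀ j, x j ≠ 0 → ev i = F4.w * (ev j * ev j) := by
    intro i x hx j hxj
    have h3 := hr (F.e i)
    rw [F.se, map_smul, hx, s_E, s_E, ← F.E_smul, ← F.E_smul] at h3
    have h4 := congrFun (F.E_inj h3) j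
    simp only [Pi.smul_apply, smul_eq_mul] at h4
    have key : ∀ l r y e e' : F4, l ≠ 0 → y ≠ 0 → r * l = F4.w →
        l * e * y = r * (l * e' * (l * e' * y)) → e = F4.w * (e' * e') := by decide
    exact key _ _ _ _ _ F.lam_ne hxj hrl h4
  have hG : ∀ i (x : Fin 3 → F4), u (F.f i) = F.G x → ∀ j, x j ≠ 0 → ev i = F4.w * (ev j * ev j) := by
    intro i x hx j hxj
    have h3 := hr (F.f i)
    rw [F.sf, map_smul, hx, G_s, G_s, ← F.G_smul, ← F.G_smul] at h3
    have h4 := congrFun (G_inj F h3) j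
    simp only [Pi.smul_apply, smul_eq_mul] at h4
    have key : ∀ l r y e e' : F4, l ≠ 0 → y ≠ 0 → r * l = F4.w →
        l * e * y = r * (l * e' * (l * e' * y)) → e = F4.w * (e' * e') := by decide
    exact key _ _ _ _ _ F.lam_ne hxj hrl h4
  have hsig : ∀ i j : Fin 3, ev i = F4.w * (ev j * ev j) → j = 1 - i := by decide
  have hEm : ∀ i, ∃ y : F4, u (F.e i) = y • F.e (1 - i) := by
    intro i
    obtain ⟨x, hx⟩ := huE i
    refine ⟨x (1 - i), ?_⟩
    rw [hx, ← E_single]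
    congr 1
    funext j
    by_cases hj : j = 1 - i
    · rw [if_pos hj, hj]
    · rw [if_neg hj]
      by_contra hne
      exact hj (hsig _ _ (hE i x hx j hne))
  have hGm : ∀ i, ∃ y : F4, u (F.f i) = y • F.f (1 - i) := by
    intro i
    obtain ⟨x, hx⟩ := huG i
    refine ⟨x (1 - i), ?_⟩
    rw [hx, ← G_single]
    congr 1
    funext j
    by_cases hj : j = 1 - i
    · rw [if_pos hj, hj]
    · rw [if_neg hj]
      by_contra hne
      exact hj (hsig _ _ (hG i x hx j hne))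
  obtain ⟨y0, hy0⟩ := hEm 0
  obtain ⟨y1, hy1⟩ := hEm 1
  obtain ⟨y2, hy2⟩ := hEm 2
  obtain ⟨z0, hz0⟩ := hGm 0
  obtain ⟨z1, hz1⟩ := hGm 1
  obtain ⟨z2, hz2⟩ := hGm 2
  rw [show (1 : Fin 3) - 0 = 1 from rfl] at hy0 hz0
  rw [show (1 : Fin 3) - 1 = 0 from rfl] at hy1 hz1
  rw [show (1 : Fin 3) - 2 = 2 from rfl] at hy2 hz2
  have q2 : y2 = 1 := by
    have := hu2 (F.e 2)
    rw [hy2, map_smul, hy2, smul_smul] at this
    have h3 : (y2 * y2) • F.e 2 = (1 : F4) • F.e 2 := by rw [this, one_smul]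
    have h4 := smul_f_inj F.swap (i := 2) h3
    have key : ∀ x : F4, x * x = 1 → x = 1 := by decide
    exact key _ h4
  have p2 : z2 = 1 := by
    have := hu2 (F.f 2)
    rw [hz2, map_smul, hz2, smul_smul] at this
    have h3 : (z2 * z2) • F.f 2 = (1 : F4) • F.f 2 := by rw [this, one_smul]
    have h4 := smul_f_inj F h3
    have key : ∀ x : F4, x * x = 1 → x = 1 := by decide
    exact key _ h4
  rw [q2, one_smul] at hy2
  rw [p2, one_smul] at hz2
  -- the relation with `b`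
  have hbs := conj_s hbm hb1
  have h5 := hub (F.f 2)
  have hb2 : b (F.f 2) = F.f 2 + (F.e 0 + F.e 1) := by
    rw [hbm.2]
    congr 1
    unfold Fr.E
    rw [show mB 2 0 = 1 from rfl, show mB 2 1 = 1 from rfl, show mB 2 2 = 0 from rfl]
    simp
  have hbs2 : b1 (F.f 2) = F.f 2 + (F4.w • F.e 0 + F4.v • F.e 1) := by
    rw [hbs.2]
    congr 1
    unfold Fr.E
    simp only
    rw [show (ev 2)⁻¹ * ev 0 * mB 2 0 = F4.w from rfl,
      show (ev 2)⁻¹ * ev 1 * mB 2 1 = F4.v from rfl,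
      show (ev 2)⁻¹ * ev 2 * mB 2 2 = 0 from rfl]
    simp
  rw [hb2, map_add, map_add, hz2, hbs2, hy0, hy1] at h5
  have h6 : y0 • F.e 1 + y1 • F.e 0 = F4.w • F.e 0 + F4.v • F.e 1 := add_left_cancel h5
  have h7 : F.E ![y1, y0, 0] = F.E ![F4.w, F4.v, 0] := by
    unfold Fr.E
    simp only [Matrix.cons_val_zero, Matrix.cons_val_one, Matrix.cons_val, zero_smul, add_zero]
    rw [← h6]; abel
  have h8 := F.E_inj h7
  have hy1' : y1 = F4.w := congrFun h8 0
  have hy0' : y0 = F4.v := congrFun h8 1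
  subst hy1' hy0'
  have hz0' : z0 = F4.v := by
    have key : ∀ z : F4, (∀ a c : F4, tr ((a * F4.v) * conj (c * z)) = tr (a * conj c)) → z = F4.v := by
      decide
    apply key
    intro x y
    have := hiso (x • F.e 0) (y • F.f 0)
    rw [map_smul, map_smul, hy0, hz0, smul_smul, smul_smul, F.ef, F.ef, if_pos rfl, if_pos rfl] at this
    exact this
  have hz1' : z1 = F4.w := by
    have key : ∀ z : F4, (∀ a c : F4, tr ((a * F4.w) * conj (c * z)) = tr (a * conj c)) → z = F4.w := by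
      decide
    apply key
    intro x y
    have := hiso (x • F.e 1) (y • F.f 1)
    rw [map_smul, map_smul, hy1, hz1, smul_smul, smul_smul, F.ef, F.ef, if_pos rfl, if_pos rfl] at this
    exact this
  subst hz0' hz1'
  exact ⟨⟨hy0, hy1, hy2⟩, hz0, hz1, hz2⟩

/-- The matrices of `c` and `d`. -/
def mC : Fin 3 → Fin 3 → F4 := ![![.z, .v, .v], ![.w, .z, .o], ![.w, .o, .z]]
def mD : Fin 3 → Fin 3 → F4 := ![![.z, .v, .o], ![.w, .z, .w], ![.o, .v, .z]]

theorem ne_id_of_zero {F : Fr B} {x : V →ₗ[F4] V} {m : Fin 3 → Fin 3 → F4} (h : F.IsM' x m)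
    (hm : m = fun _ _ => 0) [Finite V] (hV : Nat.card V = 4096) (v : V) : x v = v := by
  obtain ⟨⟨p, c⟩, rfl⟩ := (F.swap.phi_bijective hV).2 v
  rw [hm] at h
  have h' : F.swap.IsM x (fun _ _ => 0) := h
  rw [Fr.IsM.phi h']
  congr 1
  apply Prod.ext
  · funext j; simp
  · rfl

theorem c_matrix {F : Fr B} {c c1 c2 u : V →ₗ[F4] V}
    (hcf : ∀ i, c (F.f i) = F.f i) (hb : ∀ x y, B.b (c x) (c y) = B.b x y)
    (hst : ∀ v, c (T.s (T.t v)) = T.s (T.t (c v)))
    (h1 : ∀ v, c1 (T.s v) = T.s (c v)) (h2 : ∀ v, c2 (T.s v) = T.s (c1 v))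
    (h3 : ∀ v, c (c1 (c2 v)) = v) (hne : ∃ v, c v ≠ v)
    (hu2 : u (F.e 2) = F.e 2) (hf0 : u (F.f 0) = F4.v • F.f 1) (hf1 : u (F.f 1) = F4.w • F.f 0)
    (hf2 : u (F.f 2) = F.f 2) (huc : ∀ v, u (c v) = c (u v))
    [Finite V] (hV : Nat.card V = 4096) : F.IsM' c mC := by
  obtain ⟨n, hn⟩ := exists_isM hV F.swap hcf hb
  have hd := diag_zero hn h1 h2 h3
  have hc1 : ∀ v, (T.t ∘ₗ c ∘ₗ T.t ∘ₗ T.t) (T.t v) = T.t (c v) := by
    intro v; simp only [LinearMap.comp_apply, T.t3]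
  have k1 := conj_t hn hc1
  have hc2 : ∀ v, c (T.s v) = T.s ((T.t ∘ₗ c ∘ₗ T.t ∘ₗ T.t) v) := by
    intro v
    simp only [LinearMap.comp_apply]
    rw [← hst (T.t (T.t v)), T.t3]
  have k2 := conj_s k1 hc2
  have e1 : ∀ i j, n i j = (ev i)⁻¹ * ev j * n (i - 1) (j - 1) := fun i j =>
    congrFun (congrFun (hn.unique k2) i) j
  have h10 := hn.herm hb 0 1
  have h21 := hn.herm hb 1 2
  have h02 := hn.herm hb 2 0
  have h12 : n 1 2 = F4.w * n 0 1 := e1 1 2
  have h20 : n 2 0 = F4.w * n 1 2 := e1 2 0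
  -- the relation with `u`
  have h4 := huc (F.e 2)
  have hce : c (F.e 2) = F.e 2 + F.G (n 2) := hn.2 2
  rw [hu2, hce, map_add, hu2] at h4
  have h5 : u (F.G (n 2)) = F.G (n 2) := add_left_cancel h4
  have h6 : F.G ![F4.w * n 2 1, F4.v * n 2 0, n 2 2] = F.G (n 2) := by
    rw [← h5]
    unfold Fr.G
    simp only [map_add, map_smul, hf0, hf1, hf2, smul_smul, Matrix.cons_val_zero,
      Matrix.cons_val_one, Matrix.cons_val]
    rw [mul_comm F4.w, mul_comm F4.v]
    abel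
  have h7 := G_inj F h6
  have h8 : F4.w * n 2 1 = n 2 0 := congrFun h7 0
  rw [h20, h12, h21, h12] at h8
  have hX : n 0 1 = F4.v := by
    have key : ∀ x : F4, x ≠ 0 → F4.w * conj (F4.w * x) = F4.w * (F4.w * x) → x = F4.v := by decide
    refine key _ ?_ h8
    intro h0
    obtain ⟨v, hv⟩ := hne
    apply hv
    refine ne_id_of_zero (F := F) hn ?_ hV v
    funext i j
    fin_cases i <;> fin_cases j
    · exact hd 0
    · exact h0
    · change n 0 2 = 0; rw [h02, h20, h12, h0]; rfl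
    · change n 1 0 = 0; rw [h10, h0]; rfl
    · exact hd 1
    · change n 1 2 = 0; rw [h12, h0]; rfl
    · change n 2 0 = 0; rw [h20, h12, h0]; rfl
    · change n 2 1 = 0; rw [h21, h12, h0]; rfl
    · exact hd 2
  have hnm : n = mC := by
    funext i j
    fin_cases i <;> fin_cases j
    · exact hd 0
    · exact hX
    · change n 0 2 = _; rw [h02, h20, h12, hX]; rfl
    · change n 1 0 = _; rw [h10, hX]; rfl
    · exact hd 1
    · change n 1 2 = _; rw [h12, hX]; rfl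
    · change n 2 0 = _; rw [h20, h12, hX]; rfl
    · change n 2 1 = _; rw [h21, h12, hX]; rfl
    · exact hd 2
  rw [← hnm]; exact hn

theorem d_matrix {F : Fr B} {c c1 c2 u : V →ₗ[F4] V}
    (hcf : ∀ i, c (F.f i) = F.f i) (hb : ∀ x y, B.b (c x) (c y) = B.b x y)
    (hst : ∀ v, c (T.s (T.t (T.t v))) = T.s (T.t (T.t (c v))))
    (h1 : ∀ v, c1 (T.s v) = T.s (c v)) (h2 : ∀ v, c2 (T.s v) = T.s (c1 v))
    (h3 : ∀ v, c (c1 (c2 v)) = v) (hne : ∃ v, c v ≠ v)
    (hu2 : u (F.e 2) = F.e 2) (hf0 : u (F.f 0) = F4.v • F.f 1) (hf1 : u (F.f 1) = F4.w • F.f 0)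
    (hf2 : u (F.f 2) = F.f 2) (huc : ∀ v, u (c v) = c (u v))
    [Finite V] (hV : Nat.card V = 4096) : F.IsM' c mD := by
  obtain ⟨n, hn⟩ := exists_isM hV F.swap hcf hb
  have hd := diag_zero hn h1 h2 h3
  have hc1 : ∀ v, (T.t ∘ₗ c ∘ₗ T.t ∘ₗ T.t) (T.t v) = T.t (c v) := by
    intro v; simp only [LinearMap.comp_apply, T.t3]
  have k1 := conj_t hn hc1
  have hc1' : ∀ v, (T.t ∘ₗ T.t ∘ₗ c ∘ₗ T.t) (T.t v) = T.t ((T.t ∘ₗ c ∘ₗ T.t ∘ₗ T.t) v) := by
    intro v; simp only [LinearMap.comp_apply]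
  have k1' := conj_t k1 hc1'
  have hc2 : ∀ v, c (T.s v) = T.s ((T.t ∘ₗ T.t ∘ₗ c ∘ₗ T.t) v) := by
    intro v
    simp only [LinearMap.comp_apply]
    rw [← hst (T.t v), T.t3]
  have k2 := conj_s k1' hc2
  have e1 : ∀ i j, n i j = (ev i)⁻¹ * ev j * n (i - 1 - 1) (j - 1 - 1) := fun i j =>
    congrFun (congrFun (hn.unique k2) i) j
  have h10 := hn.herm hb 0 1
  have h21 := hn.herm hb 1 2
  have h02 := hn.herm hb 2 0
  have h01 : n 0 1 = F4.w * n 1 2 := e1 0 1
  have h12 : n 1 2 = F4.w * n 2 0 := e1 1 2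
  -- the relation with `u`
  have h4 := huc (F.e 2)
  have hce : c (F.e 2) = F.e 2 + F.G (n 2) := hn.2 2
  rw [hu2, hce, map_add, hu2] at h4
  have h5 : u (F.G (n 2)) = F.G (n 2) := add_left_cancel h4
  have h6 : F.G ![F4.w * n 2 1, F4.v * n 2 0, n 2 2] = F.G (n 2) := by
    rw [← h5]
    unfold Fr.G
    simp only [map_add, map_smul, hf0, hf1, hf2, smul_smul, Matrix.cons_val_zero,
      Matrix.cons_val_one, Matrix.cons_val]
    rw [mul_comm F4.w, mul_comm F4.v]
    abel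
  have h7 := G_inj F h6
  have h8 : F4.w * n 2 1 = n 2 0 := congrFun h7 0
  rw [h21, h12] at h8
  have hX : n 2 0 = F4.o := by
    have key : ∀ x : F4, x ≠ 0 → F4.w * conj (F4.w * x) = x → x = F4.o := by decide
    refine key _ ?_ h8
    intro h0
    obtain ⟨v, hv⟩ := hne
    apply hv
    refine ne_id_of_zero (F := F) hn ?_ hV v
    funext i j
    fin_cases i <;> fin_cases j
    · exact hd 0
    · change n 0 1 = 0; rw [h01, h12, h0]; rfl
    · change n 0 2 = 0; rw [h02, h0]; rfl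
    · change n 1 0 = 0; rw [h10, h01, h12, h0]; rfl
    · exact hd 1
    · change n 1 2 = 0; rw [h12, h0]; rfl
    · exact h0
    · change n 2 1 = 0; rw [h21, h12, h0]; rfl
    · exact hd 2
  have hnm : n = mD := by
    funext i j
    fin_cases i <;> fin_cases j
    · exact hd 0
    · change n 0 1 = _; rw [h01, h12, hX]; rfl
    · change n 0 2 = _; rw [h02, hX]; rfl
    · change n 1 0 = _; rw [h10, h01, h12, hX]; rfl
    · exact hd 1
    · change n 1 2 = _; rw [h12, hX]; rfl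
    · exact hX
    · change n 2 1 = _; rw [h21, h12, hX]; rfl
    · exact hd 2
  rw [← hnm]; exact hn

end Cfsg.Agent.J4Type.FrameOps2
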