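import Cfsg.Agent.Co2Type.Quad

/-!
# A conjugate of `z` inside `Q` (R07 J4 type, helper180)

`Large Q z` with `|Q / ⟨z⟩| = 2 ^ 12`.  If some conjugate `t ≠ z` of `z` commutes with `z` (the
conclusion of the `Z*`-theorem) then some conjugate `t ≠ z` lies in `Q`, provided that involutions
have large commutator spaces on `V = Q / ⟨z⟩` and `C / Q` has no 2-subgroup of order `≥ 2 ^ 7` whose
commutators take at most two values.
-/

set_option autoImplicit false

namespace Cfsg.Agent.J4Type.FusionOne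

open Cfsg.Agent.Co2Type.Quad

variable {G : Type*} [Group G] {Q : Subgroup G} {z : G}

/-! ### general helpers -/

/-- if products of two elements of `K \ R` lie in `R` then `|K| ≤ 2 |K ∩ R|` -/
theorem card_le_two_mul [Finite G] (K R : Subgroup G)
    (hKR : ∀ a ∈ K, ∀ b ∈ K, a ∉ R → b ∉ R → a⁻¹ * b ∈ R) :
    Nat.card K ≤ 2 * Nat.card (K ⊓ R : Subgroup G) := by
  classical
  by_cases hle : K ≤ R
  · rw [inf_eq_left.2 hle]; omega
  · obtain ⟨a, haK, haR⟩ := SetLike.not_le_iff_exists.1 hle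
    have hcov : (K : Set G) ⊆ ((K ⊓ R : Subgroup G) : Set G) ∪
        (fun x => a * x) '' ((K ⊓ R : Subgroup G) : Set G) := by
      intro b hb
      by_cases hbR : b ∈ R
      · left; exact ⟨hb, hbR⟩
      · right
        exact ⟨a⁻¹ * b, ⟨K.mul_mem (K.inv_mem haK) hb, hKR a haK b hb haR hbR⟩, by simp⟩
    have h1 : (K : Set G).ncard ≤ ((K ⊓ R : Subgroup G) : Set G).ncard +
        ((fun x => a * x) '' ((K ⊓ R : Subgroup G) : Set G)).ncard :=
      (Set.ncard_le_ncard hcov (Set.toFinite _)).trans (Set.ncard_union_le _ _)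
    have h2 := Set.ncard_image_le (f := fun x => a * x)
      (Set.toFinite ((K ⊓ R : Subgroup G) : Set G))
    have e1 : (K : Set G).ncard = Nat.card K := rfl
    have e2 : ((K ⊓ R : Subgroup G) : Set G).ncard = Nat.card (K ⊓ R : Subgroup G) := rfl
    omega

theorem conj_z_eq (h : Large Q z) {x : G} (hx : x ∈ Q) : x * z * x⁻¹ = z := by
  rw [h.comm_z x hx, mul_assoc, mul_inv_cancel, mul_one]

/-- preimage in `Q` of a subspace of `V` -/
def pre (h : Large Q z) (W : Submodule (ZMod 2) h.V) : Subgroup G where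
  carrier := {x | ∃ hx : x ∈ Q, h.pr ⟨x, hx⟩ ∈ W}
  mul_mem' := by
    rintro a b ⟨ha, ha'⟩ ⟨hb, hb'⟩
    refine ⟨Q.mul_mem ha hb, ?_⟩
    have := W.add_mem ha' hb'
    rwa [← h.pr_mul] at this
  one_mem' := ⟨Q.one_mem, W.zero_mem⟩
  inv_mem' := by
    rintro a ⟨ha, ha'⟩
    exact ⟨Q.inv_mem ha, W.neg_mem ha'⟩

theorem mem_pre (h : Large Q z) {W : Submodule (ZMod 2) h.V} {x : Q} :
    (x : G) ∈ pre h W ↔ h.pr x ∈ W := ⟨fun ⟨_, hx⟩ => hx, fun hx => ⟨x.2, hx⟩⟩

theorem pre_le (h : Large Q z) (W : Submodule (ZMod 2) h.V) : pre h W ≤ Q := fun _ hx => hx.1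

theorem card_pre [Finite G] (h : Large Q z) (W : Submodule (ZMod 2) h.V) :
    Nat.card (pre h W) = 2 * Nat.card W := by
  let f : pre h W →* Multiplicative W :=
    { toFun := fun x => Multiplicative.ofAdd ⟨h.pr ⟨x, x.2.1⟩, x.2.2⟩
      map_one' := rfl
      map_mul' := fun _ _ => rfl }
  have hsurj : Function.Surjective f := by
    intro w
    obtain ⟨x, hx⟩ := h.pr_surjective ((Multiplicative.toAdd w : W) : h.V)
    refine ⟨⟨x, x.2, ?_⟩, ?_⟩
    · rw [show (⟨(x : G), x.2⟩ : Q) = x from rfl, hx]; exact (Multiplicative.toAdd w).2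
    · show Multiplicative.ofAdd (⟨h.pr ⟨x, x.2⟩, _⟩ : W) = w
      apply Multiplicative.toAdd.injective
      apply Subtype.ext
      exact hx
  have h1 := Subgroup.card_mul_index f.ker
  rw [Subgroup.index_ker, MonoidHom.range_eq_top.2 hsurj, Subgroup.card_top] at h1
  have h2 : Nat.card f.ker = 2 := by
    have hz : (⟨z, h.z_mem, by
        rw [h.pr_eq_zero.2 (Or.inr rfl)]; exact W.zero_mem⟩ : pre h W) ∈ f.ker := by
      rw [MonoidHom.mem_ker]
      apply Multiplicative.toAdd.injective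
      apply Subtype.ext
      show h.pr ⟨z, _⟩ = 0
      exact h.pr_eq_zero.2 (Or.inr rfl)
    rw [Nat.card_eq_two_iff]
    refine ⟨1, ⟨_, hz⟩, ?_, ?_⟩
    · intro he
      apply h.z_ne
      exact (congrArg (fun t : f.ker => ((t : pre h W) : G)) he).symm
    · ext x
      simp only [Set.mem_insert_iff, Set.mem_singleton_iff, Set.mem_univ, iff_true]
      have hx := MonoidHom.mem_ker.1 x.2
      have hx' : h.pr ⟨((x : pre h W) : G), (x : pre h W).2.1⟩ = 0 :=
        congrArg (fun w : Multiplicative W => ((Multiplicative.toAdd w : W) : h.V)) hx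
      rcases h.pr_eq_zero.1 hx' with h3 | h3
      · left; exact Subtype.ext (Subtype.ext h3)
      · right; exact Subtype.ext (Subtype.ext h3)
  have h3 : Nat.card (Multiplicative W) = Nat.card W := rfl
  rw [h2, h3] at h1
  exact h1.symm

/-! ### the endomorphism `N = 1 + t` -/

/-- `N = 1 + t` on `V`. -/
noncomputable def Nil (h : Large Q z) (t : Subgroup.centralizer ({z} : Set G)) :
    h.V →ₗ[ZMod 2] h.V := LinearMap.id + (h.act t).toLinearMap

theorem Nil_apply (h : Large Q z) (t : Subgroup.centralizer ({z} : Set G)) (v : h.V) :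
    Nil h t v = v + h.act t v := rfl

theorem mem_ker_Nil (h : Large Q z) (t : Subgroup.centralizer ({z} : Set G)) (v : h.V) :
    v ∈ LinearMap.ker (Nil h t) ↔ h.act t v = v := by
  rw [LinearMap.mem_ker, Nil_apply]
  constructor
  · intro he
    have : h.act t v = -v := (neg_eq_of_add_eq_zero_right he).symm
    rw [this, h.neg_eq]
  · intro he
    rw [he, h.add_self]

theorem act_act (h : Large Q z) (t : Subgroup.centralizer ({z} : Set G)) (ht : t * t = 1)
    (v : h.V) : h.act t (h.act t v) = v := by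
  have : h.act (t * t) v = h.act t (h.act t v) := by rw [map_mul]; rfl
  rw [← this, ht, map_one]; rfl

/-- `b (N v) w = b v (N w)` -/
theorem b_Nil (h : Large Q z) (t : Subgroup.centralizer ({z} : Set G)) (ht : t * t = 1)
    (v w : h.V) : h.b (Nil h t v) w = h.b v (Nil h t w) := by
  rw [Nil_apply, Nil_apply, map_add, LinearMap.add_apply, map_add]
  congr 1
  rw [← h.b_act t (h.act t v) w, act_act h t ht]

theorem range_le_ker (h : Large Q z) (t : Subgroup.centralizer ({z} : Set G)) (ht : t * t = 1) :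
    LinearMap.range (Nil h t) ≤ LinearMap.ker (Nil h t) := by
  rintro _ ⟨v, rfl⟩
  rw [mem_ker_Nil, Nil_apply, map_add, act_act h t ht, add_comm]

/-- `(ker N)^⊥ ≤ range N` -/
theorem mem_range_Nil [Finite Q] (h : Large Q z) (t : Subgroup.centralizer ({z} : Set G))
    (ht : t * t = 1) {v : h.V} (hv : ∀ w, h.act t w = w → h.b v w = 0) :
    v ∈ LinearMap.range (Nil h t) := by
  classical
  have : Module.Finite (ZMod 2) h.V := Module.Finite.of_finite
  by_contra hne
  obtain ⟨f, hf, hf'⟩ := Submodule.exists_le_ker_of_notMem hne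
  obtain ⟨w, hw⟩ := h.exists_b_eq f
  apply hf
  rw [← hw, h.b_comm]
  apply hv
  rw [← mem_ker_Nil, LinearMap.mem_ker]
  apply h.b_nondeg
  intro u
  rw [b_Nil h t ht, hw]
  exact hf' ⟨u, rfl⟩

theorem card_range_mul_card_ker [Finite G] (h : Large Q z)
    (t : Subgroup.centralizer ({z} : Set G)) :
    Nat.card (LinearMap.range (Nil h t)) * Nat.card (LinearMap.ker (Nil h t)) = Nat.card h.V := by
  rw [Submodule.card_eq_card_quotient_mul_card (LinearMap.ker (Nil h t)),
    Nat.card_congr (LinearMap.quotKerEquivRange (Nil h t)).toEquiv, mul_comm]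


/-! ### the pair `(z, t)` with `t ∉ Q` -/

/-- the commutator `x t x⁻¹ t⁻¹` -/
def kap (t x : G) : G := x * t * x⁻¹ * t⁻¹

theorem kap_mem (h : Large Q z) {t : G} (htz : t * z = z * t) {x : G} (hx : x ∈ Q) :
    kap t x ∈ Q := by
  have : kap t x = x * (t * x⁻¹ * t⁻¹) := by simp only [kap, mul_assoc]
  rw [this]
  exact Q.mul_mem hx (h.conj_mem t htz _ (Q.inv_mem hx))

theorem kap_mul (t x y : G) : kap t (x * y) = x * kap t y * x⁻¹ * kap t x := by
  simp only [kap]; group

theorem kap_eq_one {t x : G} : kap t x = 1 ↔ x * t = t * x := by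
  rw [kap, mul_inv_eq_one, mul_inv_eq_iff_eq_mul]

theorem pr_kap (h : Large Q z) (t : Subgroup.centralizer ({z} : Set G)) (x : Q)
    (hk : kap (t : G) x ∈ Q) : h.pr ⟨kap (t : G) x, hk⟩ = Nil h t (h.pr x) := by
  rw [Nil_apply, h.act_pr]
  have h1 : (⟨kap (t : G) x, hk⟩ : Q) = x * (h.conjQ t x)⁻¹ := by
    apply Subtype.ext
    show kap (t : G) x = (x : G) * ((t : G) * x * (t : G)⁻¹)⁻¹
    simp only [kap]; group
  rw [h1, h.pr_mul, h.pr_inv, h.neg_eq]

/-- the situation `t = z ^ g ∈ C_G(z)`, `z ^ G ∩ Q = {z}` -/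
structure Sit (h : Large Q z) (Qt : Subgroup G) (t : G) : Prop where
  ht : Large Qt t
  tz : t * z = z * t
  ne : t ≠ z
  isConj : IsConj z t
  only : ∀ u ∈ Q, IsConj z u → u = z
  onlyt : ∀ u ∈ Qt, IsConj z u → u = t

namespace Sit

variable {h : Large Q z} {Qt : Subgroup G} {t : G}

theorem z_notMem (s : Sit h Qt t) : z ∉ Qt := fun hz => s.ne (s.onlyt z hz (IsConj.refl z)).symm

theorem t_notMem (s : Sit h Qt t) : t ∉ Q := fun hz => s.ne (s.only t hz s.isConj)

theorem mem_cent (s : Sit h Qt t) : t ∈ Subgroup.centralizer ({z} : Set G) :=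
  Subgroup.mem_centralizer_singleton_iff.2 s.tz

theorem kap_eq (s : Sit h Qt t) {x : G} (hx : kap t x ∈ Qt) : kap t x = 1 := by
  have h1 : x * t * x⁻¹ ∈ Qt := by
    have := Qt.mul_mem hx s.ht.z_mem
    have e : kap t x * t = x * t * x⁻¹ := by simp only [kap]; group
    rwa [e] at this
  have h2 : IsConj z (x * t * x⁻¹) := s.isConj.trans (isConj_iff.2 ⟨x, rfl⟩)
  have h3 := s.onlyt _ h1 h2
  simp only [kap]
  rw [h3, mul_inv_cancel]

theorem comm_D (s : Sit h Qt t) {d r : G} (hd : d ∈ Q) (hd' : d ∈ Qt) (hr : r ∈ Q)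
    (hr' : r * t = t * r) : d * r = r * d := by
  rcases h.comm d hd r hr with h1 | h1
  · exact h1
  · exfalso
    apply s.z_notMem
    have h2 : z = d⁻¹ * (r⁻¹ * d * r) := by
      rw [eq_inv_mul_iff_mul_eq, mul_assoc r⁻¹, eq_inv_mul_iff_mul_eq, h1, ← mul_assoc]
    rw [h2]
    have hr2 : r⁻¹ * t = t * r⁻¹ := by
      rw [inv_mul_eq_iff_eq_mul, ← mul_assoc, hr', mul_assoc, mul_inv_cancel, mul_one]
    have h3 := s.ht.conj_mem r⁻¹ hr2 d hd'
    rw [inv_inv] at h3
    exact Qt.mul_mem (Qt.inv_mem hd') h3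

theorem comm_t (s : Sit h Qt t) {d : G} (hd' : d ∈ Qt) : d * t = t * d := s.ht.comm_z d hd'

/-- if `d̄ ∈ [V, t]` then `kap t x = d z` for every `x` with `kap t x ≡ d` -/
theorem kap_eq_mul (s : Sit h Qt t) {d x : G} (hd' : d ∈ Qt) (hd1 : d ≠ 1)
    (hx : kap t x = d ∨ kap t x = d * z) : kap t x = d * z := by
  rcases hx with h1 | h1
  · exfalso
    apply hd1
    rw [← h1]
    exact s.kap_eq (by rw [h1]; exact hd')
  · exact h1

/-- if `[t, r] = z` for some `r ∈ Q` then `D̄ ∩ [V,t] = 0` -/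
theorem no_kap (s : Sit h Qt t) {r : G} (hr1 : kap t r = z) {d x : G}
    (hd' : d ∈ Qt) (hd1 : d ≠ 1) (hx : x ∈ Q) (hx' : kap t x = d ∨ kap t x = d * z) : False := by
  have h1 := s.kap_eq_mul hd' hd1 hx'
  have h2 : kap t (x * r) = d := by
    rw [kap_mul, hr1, h1, conj_z_eq h hx]
    have hdz : d * z = z * d := by
      have h4 : kap t x ∈ Q := kap_mem h s.tz hx
      rw [h1] at h4
      have h5 : d ∈ Q := by
        have := Q.mul_mem h4 (Q.inv_mem h.z_mem)
        rwa [mul_inv_cancel_right] at this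
      exact h.comm_z d h5
    rw [hdz, ← mul_assoc, h.z_sq, one_mul]
  apply hd1
  rw [← h2]
  exact s.kap_eq (by rw [h2]; exact hd')

/-- case `[t, Q] ∌ z` : two different elements of `D ∖ {1, d}` have product `d` -/
theorem kap_case (s : Sit h Qt t) {d e f x : G} (hx : x ∈ Q) (hd' : d ∈ Qt)
    (hkx : kap t x = d * z)
    (hex : ∀ e ∈ Q, e ∈ Qt → e ≠ 1 → ∃ y ∈ Q, kap t y = e * z)
    (he : e ∈ Q) (he' : e ∈ Qt) (he1 : e ≠ 1) (hed : e ≠ d)
    (hf : f ∈ Q) (hf' : f ∈ Qt) (hf1 : f ≠ 1) (hfd : f ≠ d) (hef : e * f ≠ 1) :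
    e * f = d := by
  -- for `c ∈ D ∖ {1,d}` : `x c = c x z`
  have key : ∀ c, c ∈ Q → c ∈ Qt → c ≠ 1 → c ≠ d → x * c = c * x * z := by
    intro c hc hc' hc1 hcd
    rcases h.comm x hx c hc with h1 | h1
    · exfalso
      obtain ⟨y, hy, hy'⟩ := hex c hc hc' hc1
      have h2 : kap t (x * y) = c * d := by
        rw [kap_mul, hy', hkx]
        have hdz : d * z = z * d := by
          have h4 : kap t x ∈ Q := kap_mem h s.tz hx
          rw [hkx] at h4
          have h5 : d ∈ Q := by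
            have := Q.mul_mem h4 (Q.inv_mem h.z_mem)
            rwa [mul_inv_cancel_right] at this
          exact h.comm_z d h5
        calc x * (c * z) * x⁻¹ * (d * z) = (x * c) * (z * x⁻¹) * (d * z) := by group
          _ = (c * x) * (x⁻¹ * z) * (z * d) := by
              rw [h1, (h.comm_z x⁻¹ (Q.inv_mem hx)), hdz]
          _ = c * (z * z) * d := by group
          _ = c * d := by rw [h.z_sq, mul_one]
      have h3 : kap t (x * y) = 1 := s.kap_eq (by rw [h2]; exact Qt.mul_mem hc' hd')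
      rw [h2] at h3
      -- `c * d = 1` so `c = d⁻¹ = d`
      have hdd : d * d = 1 := by
        have h4 : kap t x ∈ Q := kap_mem h s.tz hx
        rw [hkx] at h4
        have h5 : d ∈ Q := by
          have := Q.mul_mem h4 (Q.inv_mem h.z_mem)
          rwa [mul_inv_cancel_right] at this
        rcases h.sq d h5 with h6 | h6
        · exact h6
        · exact absurd (h6 ▸ Qt.mul_mem hd' hd') s.z_notMem
      exact hcd (mul_right_cancel (h3.trans hdd.symm))
    · exact h1
  by_contra hne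
  have k1 := key e he he' he1 hed
  have k2 := key f hf hf' hf1 hfd
  have k3 := key (e * f) (Q.mul_mem he hf) (Qt.mul_mem he' hf') hef hne
  have k4 : x * (e * f) = (e * f) * x := by
    calc x * (e * f) = (x * e) * f := by group
      _ = e * x * z * f := by rw [k1]
      _ = e * x * (z * f) := by group
      _ = e * x * (f * z) := by rw [h.comm_z f hf]
      _ = e * (x * f) * z := by group
      _ = e * (f * x * z) * z := by rw [k2]
      _ = e * f * x * (z * z) := by group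
      _ = (e * f) * x := by rw [h.z_sq, mul_one]
  rw [k4] at k3
  exact h.z_ne (mul_eq_left.1 k3.symm)


/-- elements of `ker N` have `kap t x ∈ {1, z}` -/
theorem kap_of_act (s : Sit h Qt t) {x : Q} (hx : h.act ⟨t, s.mem_cent⟩ (h.pr x) = h.pr x) :
    kap t x = 1 ∨ kap t x = z := by
  have hk := kap_mem h s.tz x.2
  have h1 := pr_kap h ⟨t, s.mem_cent⟩ x hk
  rw [← mem_ker_Nil, LinearMap.mem_ker] at hx
  rw [hx] at h1
  exact h.pr_eq_zero.1 h1

theorem t_mul_self (s : Sit h Qt t) :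
    (⟨t, s.mem_cent⟩ : Subgroup.centralizer ({z} : Set G)) * ⟨t, s.mem_cent⟩ = 1 :=
  Subtype.ext s.ht.z_sq

/-- if `d ∈ D` commutes with every `x ∈ Q` with `[t, x] ∈ ⟨z⟩` then `d ≡ [t, y]` for some `y` -/
theorem exists_kap [Finite Q] (s : Sit h Qt t) {d : G} (hd : d ∈ Q)
    (hcomm : ∀ x ∈ Q, kap t x = 1 ∨ kap t x = z → d * x = x * d) :
    ∃ y ∈ Q, kap t y = d ∨ kap t y = d * z := by
  have h1 : h.pr ⟨d, hd⟩ ∈ LinearMap.range (Nil h ⟨t, s.mem_cent⟩) := by
    apply mem_range_Nil h _ s.t_mul_self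
    intro w hw
    obtain ⟨x, rfl⟩ := h.pr_surjective w
    rw [h.b_pr]
    exact hcomm x x.2 (s.kap_of_act hw)
  obtain ⟨v, hv⟩ := h1
  obtain ⟨y, rfl⟩ := h.pr_surjective v
  refine ⟨y, y.2, ?_⟩
  rw [← pr_kap h ⟨t, s.mem_cent⟩ y (kap_mem h s.tz y.2)] at hv
  exact h.pr_eq_pr.1 hv

theorem sq_D (s : Sit h Qt t) {d : G} (hd : d ∈ Q) (hd' : d ∈ Qt) : d * d = 1 := by
  rcases h.sq d hd with h1 | h1
  · exact h1
  · exact absurd (h1 ▸ Qt.mul_mem hd' hd') s.z_notMem

theorem mul_ne_one (s : Sit h Qt t) {d e : G} (hd : d ∈ Q) (hd' : d ∈ Qt) (hne : d ≠ e) :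
    d * e ≠ 1 := by
  intro h1
  exact hne (mul_left_cancel ((s.sq_D hd hd').trans h1.symm))

/-- Case A: `z ∈ [t, Q]` implies `|D| ≤ 2`. -/
theorem eq_of_kap_eq_z [Finite Q] (s : Sit h Qt t) {r : G} (hr : r ∈ Q) (hr1 : kap t r = z)
    {d e : G} (hd : d ∈ Q) (hd' : d ∈ Qt) (hd1 : d ≠ 1) (he : e ∈ Q) (he' : e ∈ Qt)
    (he1 : e ≠ 1) : d = e := by
  have key : ∀ c, c ∈ Q → c ∈ Qt → c ≠ 1 → c * r = r * c * z := by
    intro c hc hc' hc1
    rcases h.comm c hc r hr with h1 | h1
    · exfalso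
      obtain ⟨y, hy, hy'⟩ := s.exists_kap hc (by
        intro x hx hx'
        rcases hx' with h2 | h2
        · exact s.comm_D hc hc' hx (kap_eq_one.1 h2)
        · have h3 : kap t (x * r⁻¹) = 1 := by
            have h4 : kap t ((x * r⁻¹) * r) = z := by rw [inv_mul_cancel_right]; exact h2
            rw [kap_mul, hr1, conj_z_eq h (Q.mul_mem hx (Q.inv_mem hr))] at h4
            exact mul_eq_left.1 h4
          have h5 := s.comm_D hc hc' (Q.mul_mem hx (Q.inv_mem hr)) (kap_eq_one.1 h3)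
          calc c * x = c * (x * r⁻¹) * r := by group
            _ = x * r⁻¹ * (c * r) := by rw [h5]; group
            _ = x * c := by rw [h1]; group)
      exact s.no_kap hr1 hc' hc1 hy hy'
    · exact h1
  by_contra hne
  have h1 := key d hd hd' hd1
  have h2 := key e he he' he1
  have h3 := key (d * e) (Q.mul_mem hd he) (Qt.mul_mem hd' he') (s.mul_ne_one hd hd' hne)
  have h4 : d * e * r = r * (d * e) := by
    calc d * e * r = d * (e * r) := by group
      _ = (d * r) * e * z := by rw [h2]; group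
      _ = r * d * (z * e) * z := by rw [h1]; group
      _ = r * d * (e * z) * z := by rw [h.comm_z e he]
      _ = r * (d * e) * (z * z) := by group
      _ = r * (d * e) := by rw [h.z_sq, mul_one]
  rw [h4] at h3
  exact h.z_ne (mul_eq_left.1 h3.symm)

/-- `|R / D| ≥ |C_V(t)| / 2`. -/
theorem card_le [Finite G] (s : Sit h Qt t) :
    Nat.card (LinearMap.ker (Nil h ⟨t, s.mem_cent⟩)) * Nat.card (Q ⊓ Qt : Subgroup G) ≤
      2 * Nat.card (Q ⊓ Subgroup.centralizer {t} : Subgroup G) := by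
  classical
  set K := pre h (LinearMap.ker (Nil h ⟨t, s.mem_cent⟩)) with hK
  set c := Nat.card (LinearMap.ker (Nil h ⟨t, s.mem_cent⟩)) with hc
  have hcK : Nat.card K = 2 * c := card_pre h _
  have hKkap : ∀ x ∈ K, kap t x = 1 ∨ kap t x = z := by
    rintro x ⟨hx, hx'⟩
    exact s.kap_of_act (x := ⟨x, hx⟩) ((mem_ker_Nil h _ _).1 hx')
  have hKR : (K ⊓ Subgroup.centralizer {t} : Subgroup G) ≤ Q ⊓ Subgroup.centralizer {t} :=
    inf_le_inf_right _ (pre_le h _)
  have hKR' := Subgroup.card_le_of_le hKR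
  by_cases hA : ∃ r ∈ Q, kap t r = z
  · -- case A
    obtain ⟨r, hr, hr1⟩ := hA
    have hD : Nat.card (Q ⊓ Qt : Subgroup G) ≤ 2 := by
      by_cases hD1 : ∃ d ∈ (Q ⊓ Qt : Subgroup G), d ≠ 1
      · obtain ⟨d, hd, hd1⟩ := hD1
        have hsub : ((Q ⊓ Qt : Subgroup G) : Set G) ⊆ (({1, d} : Finset G) : Set G) := by
          intro e he
          by_cases he1 : e = 1
          · simp [he1]
          · have := s.eq_of_kap_eq_z hr hr1 hd.1 hd.2 hd1 he.1 he.2 he1
            simp [this]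
        have h1 := Set.ncard_le_ncard hsub (Set.toFinite _)
        rw [Set.ncard_coe_finset] at h1
        exact h1.trans Finset.card_le_two
      · push Not at hD1
        have : (Q ⊓ Qt : Subgroup G) = ⊥ := (Subgroup.eq_bot_iff_forall _).2 hD1
        rw [this, Subgroup.card_bot]; omega
    have h2 := card_le_two_mul K (Subgroup.centralizer {t}) (by
      intro a ha b hb hat hbt
      rw [Subgroup.mem_centralizer_singleton_iff] at hat hbt ⊢
      have ha1 : kap t a = z := (hKkap a ha).resolve_left fun h3 => hat (kap_eq_one.1 h3)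
      have hb1 : kap t b = z := (hKkap b hb).resolve_left fun h3 => hbt (kap_eq_one.1 h3)
      apply kap_eq_one.1
      have h3 : kap t (a * (a⁻¹ * b)) = z := by rw [mul_inv_cancel_left]; exact hb1
      rw [kap_mul, ha1] at h3
      have h4 : a * kap t (a⁻¹ * b) * a⁻¹ = 1 := mul_eq_right.1 h3
      rw [mul_inv_eq_one] at h4
      exact mul_eq_left.1 h4)
    rw [hcK] at h2
    calc c * Nat.card (Q ⊓ Qt : Subgroup G) ≤ c * 2 := Nat.mul_le_mul_left _ hD
      _ ≤ _ := by omega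
  · -- case B
    push Not at hA
    have hex : ∀ e ∈ Q, e ∈ Qt → e ≠ 1 → ∃ y ∈ Q, kap t y = e * z := by
      intro e he he' he1
      obtain ⟨y, hy, hy'⟩ := s.exists_kap he (by
        intro x hx hx'
        exact s.comm_D he he' hx (kap_eq_one.1 (hx'.resolve_right (hA x hx))))
      exact ⟨y, hy, s.kap_eq_mul he' he1 hy'⟩
    have hD : Nat.card (Q ⊓ Qt : Subgroup G) ≤ 4 := by
      by_cases hD1 : ∃ d ∈ (Q ⊓ Qt : Subgroup G), d ≠ 1
      · obtain ⟨d, hd, hd1⟩ := hD1
        obtain ⟨x, hx, hkx⟩ := hex d hd.1 hd.2 hd1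
        by_cases hD2 : ∃ e ∈ (Q ⊓ Qt : Subgroup G), e ≠ 1 ∧ e ≠ d
        · obtain ⟨e, he, he1, hed⟩ := hD2
          have hsub : ((Q ⊓ Qt : Subgroup G) : Set G) ⊆ (({1, d, e, e * d} : Finset G) : Set G) := by
            intro f hf
            by_cases hf1 : f = 1
            · simp [hf1]
            by_cases hfd : f = d
            · simp [hfd]
            by_cases hfe : f = e
            · simp [hfe]
            have h1 := s.kap_case hx hd.2 hkx hex he.1 he.2 he1 hed hf.1 hf.2 hf1 hfd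
              (s.mul_ne_one he.1 he.2 (Ne.symm hfe))
            have h2 : f = e * d := by
              rw [← h1, ← mul_assoc, s.sq_D he.1 he.2, one_mul]
            simp [h2]
          have h1 := Set.ncard_le_ncard hsub (Set.toFinite _)
          rw [Set.ncard_coe_finset] at h1
          exact h1.trans Finset.card_le_four
        · push Not at hD2
          have hsub : ((Q ⊓ Qt : Subgroup G) : Set G) ⊆ (({1, d} : Finset G) : Set G) := by
            intro f hf
            by_cases hf1 : f = 1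
            · simp [hf1]
            · simp [hD2 f hf hf1]
          have h1 := Set.ncard_le_ncard hsub (Set.toFinite _)
          rw [Set.ncard_coe_finset] at h1
          exact (h1.trans Finset.card_le_two).trans (by omega)
      · push Not at hD1
        have : (Q ⊓ Qt : Subgroup G) = ⊥ := (Subgroup.eq_bot_iff_forall _).2 hD1
        rw [this, Subgroup.card_bot]; omega
    have hKR2 : K ≤ (Q ⊓ Subgroup.centralizer {t} : Subgroup G) := by
      intro x hx
      exact Subgroup.mem_inf.2 ⟨pre_le h _ hx, Subgroup.mem_centralizer_singleton_iff.2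
        (kap_eq_one.1 ((hKkap x hx).resolve_right (hA x (pre_le h _ hx))))⟩
    have h3 := Subgroup.card_le_of_le hKR2
    calc c * Nat.card (Q ⊓ Qt : Subgroup G) ≤ c * 4 := Nat.mul_le_mul_left _ hD
      _ ≤ _ := by omega


theorem commutator_mem (h : Large Q z) {a b : G} (ha : a ∈ Q) (hb : b ∈ Q) :
    a * b * a⁻¹ * b⁻¹ = 1 ∨ a * b * a⁻¹ * b⁻¹ = z := by
  rcases h.comm a ha b hb with h1 | h1
  · left; rw [h1]; group
  · right
    calc a * b * a⁻¹ * b⁻¹ = b * a * (z * a⁻¹) * b⁻¹ := by rw [h1]; group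
      _ = b * a * (a⁻¹ * z) * b⁻¹ := by rw [h.comm_z a⁻¹ (Q.inv_mem ha)]
      _ = b * (z * b⁻¹) := by group
      _ = b * (b⁻¹ * z) := by rw [h.comm_z b⁻¹ (Q.inv_mem hb)]
      _ = z := by group

/-- the subgroup of `C / Q` provided by a situation with `|C_V(t)| ≥ 2 ^ 8` -/
theorem exists_two_subgroup [Finite G] (g : G)
    (s : Sit h (Q.map (MulAut.conj g).toMonoidHom) (g * z * g⁻¹)) {k : ℕ}
    (hk : 2 * k ≤ Nat.card (LinearMap.ker (Nil h ⟨g * z * g⁻¹, s.mem_cent⟩)))
    (hQ : IsPGroup 2 Q) :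
    ∃ P : Subgroup G, P ≤ Subgroup.centralizer {z} ∧ IsPGroup 2 P ∧
      (∃ c, ∀ a ∈ P, ∀ b ∈ P, a * b * a⁻¹ * b⁻¹ ∈ Q ∨ a * b * a⁻¹ * b⁻¹ * c ∈ Q) ∧
      k * Nat.card (P ⊓ Q : Subgroup G) ≤ Nat.card P := by
  set Qt := Q.map (MulAut.conj g).toMonoidHom with hQt
  set t := g * z * g⁻¹ with ht
  set R : Subgroup G := Q ⊓ Subgroup.centralizer {t} with hR
  let φ := (MulAut.conj g⁻¹).toMonoidHom
  have hφ : Function.Injective φ := (MulAut.conj g⁻¹).injective
  refine ⟨R.map φ, ?_, ?_, ?_, ?_⟩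
  · rintro _ ⟨x, hx, rfl⟩
    rw [Subgroup.mem_centralizer_singleton_iff]
    have hx' := Subgroup.mem_centralizer_singleton_iff.1 (Subgroup.mem_inf.1 hx).2
    show g⁻¹ * x * (g⁻¹)⁻¹ * z = z * (g⁻¹ * x * (g⁻¹)⁻¹)
    calc g⁻¹ * x * (g⁻¹)⁻¹ * z = g⁻¹ * (x * t) * g := by rw [ht]; group
      _ = g⁻¹ * (t * x) * g := by rw [hx']
      _ = _ := by rw [ht]; group
  · have h1 : IsPGroup 2 R := hQ.to_le inf_le_left
    exact h1.map φ
  · refine ⟨φ z, ?_⟩
    rintro _ ⟨x, hx, rfl⟩ _ ⟨y, hy, rfl⟩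
    rcases commutator_mem h (Subgroup.mem_inf.1 hx).1 (Subgroup.mem_inf.1 hy).1 with h1 | h1
    · left
      have : φ x * φ y * (φ x)⁻¹ * (φ y)⁻¹ = φ (x * y * x⁻¹ * y⁻¹) := by simp
      rw [this, h1, map_one]; exact Q.one_mem
    · right
      have : φ x * φ y * (φ x)⁻¹ * (φ y)⁻¹ * φ z = φ (x * y * x⁻¹ * y⁻¹ * z) := by simp
      rw [this, h1, h.z_sq, map_one]; exact Q.one_mem
  · have h1 : Nat.card (R.map φ) = Nat.card R := Nat.card_congr
      (R.equivMapOfInjective φ hφ).symm.toEquiv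
    have h2 : (R.map φ ⊓ Q : Subgroup G) = (R ⊓ Qt : Subgroup G).map φ := by
      rw [Subgroup.map_inf R Qt φ hφ]
      congr 1
      rw [hQt, Subgroup.map_map]
      have : φ.comp (MulAut.conj g).toMonoidHom = MonoidHom.id G := by
        ext x
        show g⁻¹ * (g * x * g⁻¹) * (g⁻¹)⁻¹ = x
        group
      rw [this, Subgroup.map_id]
    have h3 : Nat.card ((R ⊓ Qt : Subgroup G).map φ) = Nat.card (R ⊓ Qt : Subgroup G) :=
      Nat.card_congr ((R ⊓ Qt : Subgroup G).equivMapOfInjective φ hφ).symm.toEquiv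
    have h4 : Nat.card (R ⊓ Qt : Subgroup G) ≤ Nat.card (Q ⊓ Qt : Subgroup G) :=
      Subgroup.card_le_of_le (inf_le_inf_right _ inf_le_left)
    have h5 := s.card_le
    rw [h1, h2, h3]
    have h6 : 2 * (k * Nat.card (R ⊓ Qt : Subgroup G)) ≤ 2 * Nat.card R := by
      calc 2 * (k * Nat.card (R ⊓ Qt : Subgroup G))
          = 2 * k * Nat.card (R ⊓ Qt : Subgroup G) := by ring
        _ ≤ 2 * k * Nat.card (Q ⊓ Qt : Subgroup G) := Nat.mul_le_mul_left _ h4
        _ ≤ _ := (Nat.mul_le_mul_right _ hk).trans h5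
    omega

end Sit

/-! ### the case where all conjugates of `z` in `C_G(z)` are outer -/

theorem exists_mem_notMem [Finite G] (S : Subgroup G) (F : Finset G) (hF : F.card < Nat.card S) :
    ∃ w ∈ S, w ∉ F := by
  by_contra hcon
  push Not at hcon
  have hsub : (S : Set G) ⊆ (F : Set G) := fun w hw => hcon w hw
  have h1 := Set.ncard_le_ncard hsub (Set.toFinite _)
  rw [Set.ncard_coe_finset] at h1
  have e1 : (S : Set G).ncard = Nat.card S := rfl
  omega

/-- product rule: `z ^ G ∩ C_G(z) ∖ {z}` avoids the subgroup `M` of index `2` -/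
theorem prod_rule {M : Subgroup G}
    (hM : ∀ a b, a * z = z * a → b * z = z * b → a ∉ M → b ∉ M → a * b ∈ M) (hzM : z ∈ M)
    (hO : ∀ t, IsConj z t → t * z = z * t → t ≠ z → t ∉ M)
    {u a b : G} (hu : IsConj z u) (ha : IsConj z a) (hb : IsConj z b)
    (hau : a * u = u * a) (hbu : b * u = u * b) (hau' : a ≠ u) (hbu' : b ≠ u)
    (hab : IsConj z (u * a * b)) : a * b = 1 := by
  obtain ⟨g, rfl⟩ := isConj_iff.1 hu
  have tr : ∀ c : G, IsConj z c → c * (g * z * g⁻¹) = (g * z * g⁻¹) * c → c ≠ g * z * g⁻¹ →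
      (g⁻¹ * c * g) * z = z * (g⁻¹ * c * g) ∧ g⁻¹ * c * g ∉ M := by
    intro c hc hcu hcu'
    have h1 : (g⁻¹ * c * g) * z = z * (g⁻¹ * c * g) := by
      calc (g⁻¹ * c * g) * z = g⁻¹ * (c * (g * z * g⁻¹)) * g := by group
        _ = g⁻¹ * ((g * z * g⁻¹) * c) * g := by rw [hcu]
        _ = _ := by group
    refine ⟨h1, hO _ (hc.trans (isConj_iff.2 ⟨g⁻¹, by group⟩)) h1 ?_⟩
    intro h2
    apply hcu'
    rw [← h2]; group
  obtain ⟨ha1, ha2⟩ := tr a ha hau hau'
  obtain ⟨hb1, hb2⟩ := tr b hb hbu hbu'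
  have h3 := hM _ _ ha1 hb1 ha2 hb2
  have h4 : z * ((g⁻¹ * a * g) * (g⁻¹ * b * g)) ∈ M := M.mul_mem hzM h3
  have h5 : IsConj z (z * ((g⁻¹ * a * g) * (g⁻¹ * b * g))) := by
    refine hab.trans (isConj_iff.2 ⟨g⁻¹, by group⟩)
  have h6 : z * ((g⁻¹ * a * g) * (g⁻¹ * b * g)) * z = z * (z * ((g⁻¹ * a * g) * (g⁻¹ * b * g))) := by
    calc z * ((g⁻¹ * a * g) * (g⁻¹ * b * g)) * z
        = z * (g⁻¹ * a * g) * ((g⁻¹ * b * g) * z) := by group
      _ = z * ((g⁻¹ * a * g) * z) * (g⁻¹ * b * g) := by rw [hb1]; group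
      _ = _ := by rw [ha1]; group
  have h7 : z * ((g⁻¹ * a * g) * (g⁻¹ * b * g)) = z := by
    by_contra h8
    exact hO _ h5 h6 h8 h4
  have h8 : (g⁻¹ * a * g) * (g⁻¹ * b * g) = 1 := mul_eq_left.1 h7
  calc a * b = g * ((g⁻¹ * a * g) * (g⁻¹ * b * g)) * g⁻¹ := by group
    _ = 1 := by rw [h8]; group

theorem outer_false [Finite G] (h : Large Q z) {M : Subgroup G}
    (hM : ∀ a b, a * z = z * a → b * z = z * b → a ∉ M → b ∉ M → a * b ∈ M) (hzM : z ∈ M)
    (hO : ∀ t, IsConj z t → t * z = z * t → t ≠ z → t ∉ M)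
    {t : G} (htc : t ∈ Subgroup.centralizer ({z} : Set G)) (ht : IsConj z t) (htz : t ≠ z)
    (hcard : 2 ^ 4 ≤ Nat.card (LinearMap.range (Nil h ⟨t, htc⟩))) : False := by
  classical
  have tz : t * z = z * t := Subgroup.mem_centralizer_singleton_iff.1 htc
  have tt : t * t = 1 := by
    obtain ⟨g, rfl⟩ := isConj_iff.1 ht
    calc g * z * g⁻¹ * (g * z * g⁻¹) = g * (z * z) * g⁻¹ := by group
      _ = 1 := by rw [h.z_sq]; group
  have ttc : (⟨t, htc⟩ : Subgroup.centralizer ({z} : Set G)) * ⟨t, htc⟩ = 1 := Subtype.ext tt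
  set K := pre h (LinearMap.range (Nil h ⟨t, htc⟩)) with hK
  set S : Subgroup G := K ⊓ Subgroup.centralizer {t} with hS
  have hKkap : ∀ x ∈ K, kap t x = 1 ∨ kap t x = z := by
    rintro x ⟨hx, hx'⟩
    have h1 := range_le_ker h _ ttc hx'
    rw [LinearMap.mem_ker, ← pr_kap h ⟨t, htc⟩ ⟨x, hx⟩ (kap_mem h tz hx)] at h1
    exact h.pr_eq_zero.1 h1
  have h2 := card_le_two_mul K (Subgroup.centralizer {t}) (by
    intro a ha b hb hat hbt
    rw [Subgroup.mem_centralizer_singleton_iff] at hat hbt ⊢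
    have ha1 : kap t a = z := (hKkap a ha).resolve_left fun h3 => hat (kap_eq_one.1 h3)
    have hb1 : kap t b = z := (hKkap b hb).resolve_left fun h3 => hbt (kap_eq_one.1 h3)
    apply kap_eq_one.1
    have h3 : kap t (a * (a⁻¹ * b)) = z := by rw [mul_inv_cancel_left]; exact hb1
    rw [kap_mul, ha1] at h3
    have h4 : a * kap t (a⁻¹ * b) * a⁻¹ = 1 := mul_eq_right.1 h3
    rw [mul_inv_eq_one] at h4
    exact mul_eq_left.1 h4)
  have h3 : Nat.card K = 2 * Nat.card (LinearMap.range (Nil h ⟨t, htc⟩)) := card_pre h _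
  rw [← hS] at h2
  have hSc : 16 ≤ Nat.card S := by
    have : 2 ^ 4 ≤ Nat.card S := by omega
    simpa using this
  have hSQ : ∀ s ∈ S, s ∈ Q := fun s hs => pre_le h _ (Subgroup.mem_inf.1 hs).1
  have hSt : ∀ s ∈ S, s * t = t * s := fun s hs =>
    Subgroup.mem_centralizer_singleton_iff.1 (Subgroup.mem_inf.1 hs).2
  have hzS : z ∈ S := by
    refine Subgroup.mem_inf.2 ⟨⟨h.z_mem, ?_⟩, Subgroup.mem_centralizer_singleton_iff.2 tz.symm⟩
    rw [h.pr_eq_zero.2 (Or.inr rfl)]; exact Submodule.zero_mem _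
  -- every element of `S` gives a conjugate
  have hSc' : ∀ s ∈ S, IsConj z (s * t) ∨ IsConj z (s * z * t) := by
    intro s hs
    obtain ⟨hs1, hs2⟩ := (Subgroup.mem_inf.1 hs).1
    obtain ⟨v, hv⟩ := hs2
    obtain ⟨q, rfl⟩ := h.pr_surjective v
    rw [← pr_kap h ⟨t, htc⟩ q (kap_mem h tz q.2)] at hv
    have h4 : IsConj z ((q : G) * t * (q : G)⁻¹) := ht.trans (isConj_iff.2 ⟨q, rfl⟩)
    have h5 : (q : G) * t * (q : G)⁻¹ = kap t q * t := by simp only [kap]; group
    rw [h5] at h4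
    rcases h.pr_eq_pr.1 hv with h6 | h6
    · left; rw [show kap t q = s from h6] at h4; exact h4
    · right; rw [show kap t q = s * z from h6] at h4; exact h4
  -- adjusting by `z`
  have adj : ∀ s ∈ S, ∃ s' ∈ S, IsConj z (s' * t) ∧ (s' = s ∨ s' = s * z) := by
    intro s hs
    rcases hSc' s hs with h4 | h4
    · exact ⟨s, hs, h4, Or.inl rfl⟩
    · exact ⟨s * z, S.mul_mem hs hzS, h4, Or.inr rfl⟩
  have hsqS : ∀ s ∈ S, IsConj z (s * t) → s * s = 1 := by
    intro s hs hc
    obtain ⟨g, hg⟩ := isConj_iff.1 hc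
    have h4 : (s * t) * (s * t) = 1 := by
      rw [← hg]
      calc g * z * g⁻¹ * (g * z * g⁻¹) = g * (z * z) * g⁻¹ := by group
        _ = 1 := by rw [h.z_sq]; group
    calc s * s = s * (t * t) * s := by rw [tt]; group
      _ = s * t * (t * s) := by group
      _ = s * t * (s * t) := by rw [hSt s hs]
      _ = 1 := h4
  -- the claim
  have claim : ∀ x ∈ S, ∀ y ∈ S, IsConj z (x * t) → IsConj z (y * t) → x ≠ 1 → y ≠ 1 →
      x * y ≠ 1 → IsConj z (x * y * z * t) := by
    intro x hx y hy hx1 hy1 hxne hyne hxy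
    rcases hSc' (x * y) (S.mul_mem hx hy) with h4 | h4
    · exfalso
      have h5 : IsConj z (t * (x * t) * (y * t)) := by
        have : t * (x * t) * (y * t) = x * y * t := by
          calc t * (x * t) * (y * t) = (t * x) * (t * y) * t := by group
            _ = (x * t) * (y * t) * t := by rw [hSt x hx, hSt y hy]
            _ = x * (t * y) * (t * t) := by group
            _ = x * (y * t) := by rw [← hSt y hy, tt, mul_one]
            _ = x * y * t := by group
        rw [this]; exact h4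
      have h6 := prod_rule hM hzM hO ht hx1 hy1
        (by rw [← mul_assoc, ← hSt x hx]) (by rw [← mul_assoc, ← hSt y hy])
        (fun h7 => hxne (mul_eq_right.1 h7)) (fun h7 => hyne (mul_eq_right.1 h7)) h5
      apply hxy
      calc x * y = x * (t * t) * y := by rw [tt, mul_one]
        _ = x * t * (t * y) := by group
        _ = x * t * (y * t) := by rw [hSt y hy]
        _ = 1 := h6
    · exact h4
  have hzz := h.z_sq
  have hzc : ∀ s ∈ S, s * z = z * s := fun s hs => h.comm_z s (hSQ s hs)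
  -- choose `x, y, w`
  obtain ⟨x0, hx0, hx0'⟩ := exists_mem_notMem S {1, z}
    (lt_of_le_of_lt Finset.card_le_two (by omega))
  obtain ⟨x, hx, hxc, hxx⟩ := adj x0 hx0
  obtain ⟨y0, hy0, hy0'⟩ := exists_mem_notMem S {1, z, x, x * z}
    (lt_of_le_of_lt Finset.card_le_four (by omega))
  obtain ⟨y, hy, hyc, hyy⟩ := adj y0 hy0
  have hcard8 : (({1, z, x, x * z} ∪ {y, y * z, x * y, x * y * z} : Finset G)).card ≤ 8 :=
    (Finset.card_union_le _ _).trans (Nat.add_le_add Finset.card_le_four Finset.card_le_four)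
  obtain ⟨w0, hw0, hw0'⟩ := exists_mem_notMem S ({1, z, x, x * z} ∪ {y, y * z, x * y, x * y * z})
    (by omega)
  obtain ⟨w, hw, hwc, hww⟩ := adj w0 hw0
  simp only [Finset.mem_insert, Finset.mem_singleton, Finset.mem_union, not_or] at hx0' hy0' hw0'
  have mulzz : ∀ s : G, s * z * z = s := fun s => by rw [mul_assoc, hzz, mul_one]
  have x1 : x ≠ 1 := by
    rcases hxx with h4 | h4
    · rw [h4]; exact hx0'.1
    · intro h5; apply hx0'.2
      rw [← mulzz x0, ← h4, h5, one_mul]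
  have y1 : y ≠ 1 := by
    rcases hyy with h4 | h4
    · rw [h4]; exact hy0'.1
    · intro h5; apply hy0'.2.1
      rw [← mulzz y0, ← h4, h5, one_mul]
  have yx : y ≠ x := by
    rcases hyy with h4 | h4
    · rw [h4]; exact hy0'.2.2.1
    · intro h5; apply hy0'.2.2.2
      rw [← mulzz y0, ← h4, h5]
  obtain ⟨⟨w1, w2, w3, w4⟩, w5, w6, w7, w8⟩ := hw0'
  have w_ne : w ≠ 1 ∧ w ≠ x ∧ w ≠ y ∧ w ≠ x * y * z := by
    rcases hww with h4 | h4
    · rw [h4]; exact ⟨w1, w3, w5, w8⟩
    · refine ⟨?_, ?_, ?_, ?_⟩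
      · intro h5; apply w2
        rw [← mulzz w0, ← h4, h5, one_mul]
      · intro h5; apply w4
        rw [← mulzz w0, ← h4, h5]
      · intro h5; apply w6
        rw [← mulzz w0, ← h4, h5]
      · intro h5; apply w7
        rw [← mulzz w0, ← h4, h5, mulzz]
  obtain ⟨wn1, wnx, wny, wnxyz⟩ := w_ne
  have xsq := hsqS x hx hxc
  have ysq := hsqS y hy hyc
  have wsq := hsqS w hw hwc
  have ne_mul : ∀ a b : G, a * a = 1 → b ≠ a → a * b ≠ 1 := by
    intro a b ha hab h4
    exact hab (mul_left_cancel (h4.trans ha.symm))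
  have c1 := claim x hx y hy hxc hyc x1 y1 (ne_mul x y xsq yx)
  have c2 := claim x hx w hw hxc hwc x1 wn1 (ne_mul x w xsq wnx)
  have hxyzS : x * y * z ∈ S := S.mul_mem (S.mul_mem hx hy) hzS
  have xyzsq := hsqS _ hxyzS c1
  have xyz1 : x * y * z ≠ 1 := by
    intro h4
    -- then x * y = z, and `IsConj z (x*y*z*t)`; but `y = x z`
    apply hy0'.2.2.2
    have h5 : y = x * z := by
      have h6 : x * y = z := by rw [← mulzz (x * y), h4, one_mul]
      calc y = x * x * y := by rw [xsq, one_mul]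
        _ = x * (x * y) := by group
        _ = x * z := by rw [h6]
    rcases hyy with h7 | h7
    · rw [← h7]; exact h5
    · exfalso
      apply hy0'.2.2.1
      rw [← mulzz y0, ← h7, h5, mulzz]
  have c3 := claim (x * y * z) hxyzS w hw c1 hwc xyz1 wn1 (ne_mul _ w xyzsq wnxyz)
  -- `c3 : IsConj z (x*y*z*w*z*t)`
  have e3 : x * y * z * w * z * t = x * y * w * t := by
    calc x * y * z * w * z * t = x * y * (z * (w * z)) * t := by group
      _ = x * y * (z * (z * w)) * t := by rw [hzc w hw]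
      _ = x * y * (z * z) * w * t := by group
      _ = x * y * w * t := by rw [hzz, mul_one]
  rw [e3] at c3
  -- commutation
  have comm_of : ∀ a ∈ S, ∀ b ∈ S, a * a = 1 → b * b = 1 → IsConj z (a * b * z * t) →
      a * b = b * a := by
    intro a ha b hb ha1 hb1 hc
    have h4 := hsqS _ (S.mul_mem (S.mul_mem ha hb) hzS) hc
    have h5 : a * b * (a * b) = 1 := by
      calc a * b * (a * b) = a * b * (a * b) * (z * z) := by rw [hzz, mul_one]
        _ = a * b * ((a * b) * z) * z := by group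
        _ = a * b * (z * (a * b)) * z := by rw [hzc _ (S.mul_mem ha hb)]
        _ = a * b * z * (a * b * z) := by group
        _ = 1 := h4
    calc a * b = (a * b)⁻¹ := eq_inv_of_mul_eq_one_left h5
      _ = b⁻¹ * a⁻¹ := mul_inv_rev _ _
      _ = b * a := by
        rw [inv_eq_of_mul_eq_one_left hb1, inv_eq_of_mul_eq_one_left ha1]
  have hxy := comm_of x hx y hy xsq ysq c1
  have hxw := comm_of x hx w hw xsq wsq c2
  have tcomm : ∀ a ∈ S, ∀ b ∈ S, a * b = b * a → (a * t) * (b * t) = (b * t) * (a * t) := by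
    intro a ha b hb hab
    calc (a * t) * (b * t) = a * (t * b) * t := by group
      _ = a * b * (t * t) := by rw [← hSt b hb]; group
      _ = b * a * (t * t) := by rw [hab]
      _ = b * (a * t) * t := by group
      _ = b * (t * a) * t := by rw [hSt a ha]
      _ = (b * t) * (a * t) := by group
  have e4 : x * t * (y * t) * (w * t) = x * y * w * t := by
    calc x * t * (y * t) * (w * t) = x * (t * y) * (t * w) * t := by group
      _ = x * (y * t) * (w * t) * t := by rw [hSt y hy, hSt w hw]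
      _ = x * y * (t * w) * (t * t) := by group
      _ = x * y * (w * t) := by rw [← hSt w hw, tt, mul_one]
      _ = x * y * w * t := by group
  have h9 := prod_rule hM hzM hO hxc hyc hwc (tcomm y hy x hx hxy.symm) (tcomm w hw x hx hxw.symm)
    (fun h7 => yx (mul_right_cancel h7)) (fun h7 => wnx (mul_right_cancel h7))
    (by rw [e4]; exact c3)
  have h10 : y * w = 1 := by
    calc y * w = y * (t * t) * w := by rw [tt, mul_one]
      _ = y * t * (t * w) := by group
      _ = y * t * (w * t) := by rw [hSt w hw]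
      _ = 1 := h9
  exact ne_mul y w ysq wny h10

/-! ### the theorem -/

theorem isPGroup_Q [Finite G] (h : Large Q z) : IsPGroup 2 Q := by
  intro x
  refine ⟨2, ?_⟩
  apply Subtype.ext
  have h4 : ((x : G) * x) * ((x : G) * x) = 1 := by
    rcases h.sq x x.2 with h1 | h1
    · rw [h1, mul_one]
    · rw [h1, h.z_sq]
  show (x : G) ^ (2 ^ 2) = 1
  rw [← pow_two, ← pow_two, ← pow_mul] at h4
  exact h4

/-- If `z` is conjugate to another element of `C_G(z)`, then it is conjugate to another element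
of `Q`. -/
theorem exists_conj_mem [Finite G] (h : Large Q z) (M : Subgroup G)
    (hM : ∀ a b, a * z = z * a → b * z = z * b → a ∉ M → b ∉ M → a * b ∈ M) (hzM : z ∈ M)
    (hV : 2 ^ 12 ≤ Nat.card h.V)
    (hF1 : ∀ t (ht : t ∈ Subgroup.centralizer ({z} : Set G)), t * t = 1 → t ∈ M → t ∉ Q →
      2 ^ 8 ≤ Nat.card (LinearMap.ker (Nil h ⟨t, ht⟩)))
    (hF1' : ∀ t (ht : t ∈ Subgroup.centralizer ({z} : Set G)), t * t = 1 → t ∉ M →
      Nat.card (LinearMap.ker (Nil h ⟨t, ht⟩)) ≤ 2 ^ 8)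
    (hF2 : ∀ P : Subgroup G, P ≤ Subgroup.centralizer {z} → IsPGroup 2 P →
      (∃ c, ∀ a ∈ P, ∀ b ∈ P, a * b * a⁻¹ * b⁻¹ ∈ Q ∨ a * b * a⁻¹ * b⁻¹ * c ∈ Q) →
      Nat.card P < 2 ^ 7 * Nat.card (P ⊓ Q : Subgroup G))
    (hZ : ∃ t, IsConj z t ∧ t * z = z * t ∧ t ≠ z) :
    ∃ t ∈ Q, IsConj z t ∧ t ≠ z := by
  by_contra hcon
  push Not at hcon
  have sq_of : ∀ t, IsConj z t → t * t = 1 := by
    intro t ht
    obtain ⟨g, rfl⟩ := isConj_iff.1 ht
    calc g * z * g⁻¹ * (g * z * g⁻¹) = g * (z * z) * g⁻¹ := by group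
      _ = 1 := by rw [h.z_sq]; group
  by_cases hin : ∃ t, IsConj z t ∧ t * z = z * t ∧ t ≠ z ∧ t ∈ M
  · obtain ⟨t, ht, htz, htne, htM⟩ := hin
    obtain ⟨g, rfl⟩ := isConj_iff.1 ht
    have s : Sit h (Q.map (MulAut.conj g).toMonoidHom) (g * z * g⁻¹) :=
      { ht := h.conj g
        tz := htz
        ne := htne
        isConj := ht
        only := hcon
        onlyt := by
          rintro _ ⟨q, hq, rfl⟩ hc
          have h1 : IsConj z q := hc.trans (isConj_iff.2 ⟨g⁻¹, by
            show g⁻¹ * (g * q * g⁻¹) * (g⁻¹)⁻¹ = q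
            group⟩)
          rw [hcon q hq h1]
          rfl }
    obtain ⟨P, hP1, hP2, hP3, hP4⟩ := s.exists_two_subgroup g (k := 2 ^ 7)
      (by
        have := hF1 _ s.mem_cent (sq_of _ ht) htM s.t_notMem
        calc 2 * 2 ^ 7 = 2 ^ 8 := by norm_num
          _ ≤ _ := this) (isPGroup_Q h)
    exact absurd hP4 (not_le.2 (hF2 P hP1 hP2 hP3))
  · push Not at hin
    obtain ⟨t, ht, htz, htne⟩ := hZ
    have htc : t ∈ Subgroup.centralizer ({z} : Set G) :=
      Subgroup.mem_centralizer_singleton_iff.2 htz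
    refine outer_false h hM hzM hin htc ht htne ?_
    have h1 := card_range_mul_card_ker h ⟨t, htc⟩
    have h2 := hF1' t htc (sq_of t ht) (hin t ht htz htne)
    by_contra h3
    have h4 : Nat.card (LinearMap.range (Nil h ⟨t, htc⟩)) ≤ 2 ^ 4 - 1 := by omega
    have h5 := Nat.mul_le_mul h4 h2
    have h6 : (2 ^ 4 - 1) * 2 ^ 8 < 2 ^ 12 := by norm_num
    omega

end Cfsg.Agent.J4Type.FusionOne
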