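import Cfsg.Agent.J4Type.Setup
import Cfsg.Agent.J4Type.FusionOne

/-!
# The hypotheses of `FusionOne` from `Cent` / `Hex` (R07 J4 type, helper180)
-/

set_option autoImplicit false

open scoped Pointwise

namespace Cfsg.Agent.J4Type.FusionCent

open Cfsg Cfsg.Agent.J4Type Cfsg.Agent.Co2Type.Quad Cfsg.Agent.J4Type.FusionOne

variable {G : Type*} [Group G]

/-! ### `Cent` gives `Large` -/

theorem large (H : Cent G) : Large H.Q H.z where
  z_mem := H.z_mem_Q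
  z_ne := by
    intro h1
    have := H.z_order
    rw [h1, orderOf_one] at this
    exact absurd this (by norm_num)
  z_sq := by
    have := pow_orderOf_eq_one H.z
    rwa [H.z_order, pow_two] at this
  comm_z := fun x hx => Subgroup.mem_centralizer_singleton_iff.1 (H.Q_le hx)
  conj_mem := H.Q_conj
  sq := H.Q_sq
  comm := by
    intro x hx y hy
    rcases H.Q_comm x hx y hy with h1 | h1
    · exact Or.inl h1
    · right
      rw [h1]
      exact (Subgroup.mem_centralizer_singleton_iff.1 (H.Q_le (H.Q.mul_mem hy hx))).symm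
  cent := fun x _ hc => H.Q_cent x hc
  self := by
    intro g _ hg
    rcases H.Q_cent g hg with h1 | h1
    · rw [h1]; exact H.Q.one_mem
    · rw [h1]; exact H.z_mem_Q

variable (H : Cent G)

theorem card_V [Finite G] : Nat.card (large H).V = 2 ^ 12 := by
  have h1 := (large H).card_eq
  rw [H.Q_card] at h1
  omega

theorem mem_cent {c : G} : c ∈ Subgroup.centralizer ({H.z} : Set G) ↔ c * H.z = H.z * c :=
  Subgroup.mem_centralizer_singleton_iff

theorem ρ_mem : H.ρ ∈ Subgroup.centralizer ({H.z} : Set G) := (mem_cent H).2 H.ρ_comm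

theorem P_of_mem_Q (c : Subgroup.centralizer ({H.z} : Set G)) (hc : (c : G) ∈ H.Q) : H.P c = 1 :=
  (H.P_ker c).2 ⟨c, hc, 0, by simp⟩

theorem ρ_pow_three : H.ρ ^ 3 = 1 := by
  have := pow_orderOf_eq_one H.ρ
  rwa [H.ρ_order] at this

/-- powers of `ρ` in `Q` are trivial -/
theorem ρ_pow_eq_one {i : ℕ} (hi : H.ρ ^ i ∈ H.Q) : H.ρ ^ i = 1 := by
  have h4 : (H.ρ ^ i) ^ 4 = 1 := by
    have h5 : (H.ρ ^ i * H.ρ ^ i) * (H.ρ ^ i * H.ρ ^ i) = 1 := by
      rcases H.Q_sq _ hi with h1 | h1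
      · rw [h1, mul_one]
      · rw [h1]; exact (large H).z_sq
    rw [← pow_two, ← pow_two, ← pow_mul] at h5
    exact h5
  have h3 : (H.ρ ^ i) ^ 3 = 1 := by
    rw [← pow_mul, mul_comm, pow_mul, ρ_pow_three, one_pow]
  calc H.ρ ^ i = (H.ρ ^ i) ^ 4 * ((H.ρ ^ i) ^ 3)⁻¹ := by group
    _ = 1 := by rw [h4, h3]; group

theorem ρ_pow_of_pow {i n : ℕ} (hn : Nat.Coprime n 3) (hi : H.ρ ^ (i * n) = 1) : H.ρ ^ i = 1 := by
  have h1 : (3 : ℕ) ∣ i * n := by
    have := orderOf_dvd_of_pow_eq_one hi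
    rwa [H.ρ_order] at this
  have h2 : 3 ∣ i := hn.symm.dvd_of_dvd_mul_right h1
  obtain ⟨k, rfl⟩ := h2
  rw [pow_mul, ρ_pow_three, one_pow]

/-- normal form of powers -/
theorem mul_ρ_pow {q : G} (hq : q ∈ H.Q) (i n : ℕ) :
    ∃ q' ∈ H.Q, (q * H.ρ ^ i) ^ n = q' * H.ρ ^ (i * n) := by
  induction n with
  | zero => exact ⟨1, H.Q.one_mem, by simp⟩
  | succ n ih =>
    obtain ⟨q', hq', h1⟩ := ih
    have hρ : H.ρ ^ (i * n) * H.z = H.z * H.ρ ^ (i * n) :=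
      (mem_cent H).1 (Subgroup.pow_mem _ (ρ_mem H) _)
    refine ⟨q' * (H.ρ ^ (i * n) * q * (H.ρ ^ (i * n))⁻¹), H.Q.mul_mem hq' (H.Q_conj _ hρ q hq), ?_⟩
    rw [pow_succ, h1, Nat.mul_succ, pow_add]
    group

/-- an element of the kernel of `P` with `c ^ n ∈ Q`, `3 ∤ n`, lies in `Q` -/
theorem mem_Q_of_pow (c : Subgroup.centralizer ({H.z} : Set G)) (hc : H.P c = 1) {n : ℕ}
    (hn : Nat.Coprime n 3) (hcn : (c : G) ^ n ∈ H.Q) : (c : G) ∈ H.Q := by
  obtain ⟨q, hq, i, hqi⟩ := (H.P_ker c).1 hc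
  obtain ⟨q', hq', h1⟩ := mul_ρ_pow H hq i n
  rw [hqi] at hcn
  rw [h1] at hcn
  have h2 : H.ρ ^ (i * n) ∈ H.Q := by
    have := H.Q.mul_mem (H.Q.inv_mem hq') hcn
    rwa [inv_mul_cancel_left] at this
  have h3 := ρ_pow_of_pow H hn (ρ_pow_eq_one H h2)
  rw [hqi, h3, mul_one]
  exact hq

/-- two elements with the same inner image and squares in `Q` agree modulo `Q` -/
theorem div_mem_Q (c d : Subgroup.centralizer ({H.z} : Set G)) (hcd : H.P c = H.P d)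
    (hd : H.P d none = none) (hc2 : (c : G) * c ∈ H.Q) (hd2 : (d : G) * d ∈ H.Q) :
    (c : G) * (d : G)⁻¹ ∈ H.Q := by
  have h0 : H.P (c * d⁻¹) = 1 := by rw [map_mul, map_inv, hcd, mul_inv_cancel]
  obtain ⟨q, hq, i, hqi⟩ := (H.P_ker _).1 h0
  obtain ⟨r, hr, hρ⟩ := H.P_inner d hd
  have hqi' : (c : G) * (d : G)⁻¹ = q * H.ρ ^ i := by
    rw [← hqi]; rfl
  have hc : (c : G) = q * H.ρ ^ i * d := by rw [← hqi']; group
  -- `d ρ^i d⁻¹ = r' ρ^i`
  obtain ⟨r', hr', h1⟩ := mul_ρ_pow H hr 1 i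
  rw [pow_one, one_mul] at h1
  have h2 : (d : G) * H.ρ ^ i * (d : G)⁻¹ = r' * H.ρ ^ i := by
    rw [← h1, ← hρ, conj_pow]
  have hρz : H.ρ ^ i * H.z = H.z * H.ρ ^ i := (mem_cent H).1 (Subgroup.pow_mem _ (ρ_mem H) _)
  have hdz : (d : G) * H.z = H.z * d := (mem_cent H).1 d.2
  have h3 : (c : G) * c = q * (H.ρ ^ i * (d * q * (d : G)⁻¹) * (H.ρ ^ i)⁻¹) *
      (H.ρ ^ i * r' * (H.ρ ^ i)⁻¹) * H.ρ ^ (i * 2) * ((d : G) * d) := by
    calc (c : G) * c = q * (H.ρ ^ i * (d * q * (d : G)⁻¹) * (H.ρ ^ i)⁻¹) *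
          (H.ρ ^ i * ((d : G) * H.ρ ^ i * (d : G)⁻¹)) * ((d : G) * d) := by rw [hc]; group
      _ = _ := by rw [h2, Nat.mul_succ, mul_one, pow_add]; group
  have h4 : q * (H.ρ ^ i * (d * q * (d : G)⁻¹) * (H.ρ ^ i)⁻¹) *
      (H.ρ ^ i * r' * (H.ρ ^ i)⁻¹) ∈ H.Q :=
    H.Q.mul_mem (H.Q.mul_mem hq (H.Q_conj _ hρz _ (H.Q_conj _ hdz _ hq))) (H.Q_conj _ hρz _ hr')
  rw [h3] at hc2
  have h5 := H.Q.mul_mem hc2 (H.Q.inv_mem hd2)
  rw [mul_inv_cancel_right] at h5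
  have h6 := H.Q.mul_mem (H.Q.inv_mem h4) h5
  rw [inv_mul_cancel_left] at h6
  have h7 := ρ_pow_of_pow H (n := 2) (by norm_num) (ρ_pow_eq_one H h6)
  rw [hqi', h7, mul_one]
  exact hq

/-! ### the subgroup `M` -/

/-- the inner subgroup `M` of `C` -/
def M : Subgroup G :=
  ((MulAction.stabilizer (Equiv.Perm GolayPt) (none : GolayPt)).comap H.P).map
    (Subgroup.centralizer ({H.z} : Set G)).subtype

theorem mem_M {c : G} : c ∈ M H ↔ ∃ hc : c ∈ Subgroup.centralizer ({H.z} : Set G),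
    H.P ⟨c, hc⟩ none = none := by
  constructor
  · rintro ⟨d, hd, rfl⟩
    exact ⟨d.2, hd⟩
  · rintro ⟨hc, h1⟩
    exact ⟨⟨c, hc⟩, h1, rfl⟩

theorem P_mem (c : Subgroup.centralizer ({H.z} : Set G)) : H.P c ∈ M22d := by
  rw [← H.P_range]; exact ⟨c, rfl⟩

theorem mem_M22d {g : Equiv.Perm GolayPt} (hg : g ∈ M22d) : g ∈ M24 ∧
    ((g none = none ∧ g (some 0) = some 0) ∨ (g none = some 0 ∧ g (some 0) = none)) := by
  refine ⟨hg.1, ?_⟩
  have h1 : g • base = base := hg.2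
  have h2 : ∀ x ∈ base, g x ∈ base := by
    intro x hx
    rw [← h1]
    exact Finset.smul_mem_smul_finset hx
  have h3 := h2 none (by simp [base])
  have h4 := h2 (some 0) (by simp [base])
  simp only [base, Finset.mem_insert, Finset.mem_singleton] at h3 h4
  have hinj : g none ≠ g (some 0) := fun h5 => by simpa using g.injective h5
  rcases h3 with h3 | h3 <;> rcases h4 with h4 | h4
  · exact absurd (h3.trans h4.symm) hinj
  · exact Or.inl ⟨h3, h4⟩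
  · exact Or.inr ⟨h3, h4⟩
  · exact absurd (h3.trans h4.symm) hinj

theorem M_index {a b : G} (ha : a * H.z = H.z * a) (hb : b * H.z = H.z * b) (haM : a ∉ M H)
    (hbM : b ∉ M H) : a * b ∈ M H := by
  rw [mem_M] at haM hbM ⊢
  push Not at haM hbM
  have ha' := haM ((mem_cent H).2 ha)
  have hb' := hbM ((mem_cent H).2 hb)
  refine ⟨Subgroup.mul_mem _ ((mem_cent H).2 ha) ((mem_cent H).2 hb), ?_⟩
  have e : H.P ⟨a * b, Subgroup.mul_mem _ ((mem_cent H).2 ha) ((mem_cent H).2 hb)⟩ =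
      H.P ⟨a, (mem_cent H).2 ha⟩ * H.P ⟨b, (mem_cent H).2 hb⟩ := by rw [← map_mul]; rfl
  rw [e, Equiv.Perm.mul_apply]
  have h1 := (mem_M22d (P_mem H ⟨a, (mem_cent H).2 ha⟩)).2.resolve_left fun h => ha' h.1
  have h2 := (mem_M22d (P_mem H ⟨b, (mem_cent H).2 hb⟩)).2.resolve_left fun h => hb' h.1
  rw [h2.1, h1.2]

theorem z_mem_M : H.z ∈ M H := by
  rw [mem_M]
  refine ⟨H.Q_le H.z_mem_Q, ?_⟩
  rw [P_of_mem_Q H ⟨H.z, H.Q_le H.z_mem_Q⟩ H.z_mem_Q]
  rfl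

/-! ### fixed points of `ρ`, outer elements -/

theorem act_ρ_eq_zero {v : (large H).V} (hv : (large H).act ⟨H.ρ, ρ_mem H⟩ v = v) : v = 0 := by
  obtain ⟨x, rfl⟩ := (large H).pr_surjective v
  rw [(large H).act_pr, (large H).pr_eq_pr] at hv
  have hv' : H.ρ * x * H.ρ⁻¹ = x ∨ H.ρ * x * H.ρ⁻¹ = x * H.z := hv
  rw [(large H).pr_eq_zero]
  rcases hv' with h1 | h1
  · exact H.ρ_fix x x.2 (mul_inv_eq_iff_eq_mul.1 h1)
  · exfalso
    have hρz : H.ρ * H.z * H.ρ⁻¹ = H.z := by rw [H.ρ_comm]; group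
    have h2 : H.ρ ^ 3 * x * (H.ρ ^ 3)⁻¹ = x * H.z := by
      calc H.ρ ^ 3 * x * (H.ρ ^ 3)⁻¹ = H.ρ * (H.ρ * (H.ρ * x * H.ρ⁻¹) * H.ρ⁻¹) * H.ρ⁻¹ := by
            rw [pow_succ, pow_two]; group
        _ = H.ρ * (H.ρ * (x * H.z) * H.ρ⁻¹) * H.ρ⁻¹ := by rw [h1]
        _ = H.ρ * ((H.ρ * x * H.ρ⁻¹) * (H.ρ * H.z * H.ρ⁻¹)) * H.ρ⁻¹ := by group
        _ = H.ρ * (x * (H.z * H.z)) * H.ρ⁻¹ := by rw [h1, hρz]; group
        _ = H.ρ * x * H.ρ⁻¹ := by rw [(large H).z_sq, mul_one]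
        _ = x * H.z := h1
    rw [ρ_pow_three] at h2
    simp only [one_mul, inv_one, mul_one] at h2
    exact (large H).z_ne (mul_eq_left.1 h2.symm)

/-- `|C_V(t)| ≤ 2 ^ 6` for elements inverting `ρ` -/
theorem card_ker_outer [Finite G] (t : Subgroup.centralizer ({H.z} : Set G))
    (ht : ∃ q ∈ H.Q, (t : G) * H.ρ * (t : G)⁻¹ = q * H.ρ⁻¹) :
    Nat.card (LinearMap.ker (Nil (large H) t)) ≤ 2 ^ 8 := by
  set h := large H with hh
  obtain ⟨q, hq, htρ⟩ := ht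
  set r : Subgroup.centralizer ({H.z} : Set G) := ⟨H.ρ, ρ_mem H⟩ with hr
  -- `t ρ v = ρ⁻¹ t v`
  have hcomm : ∀ v, h.act t (h.act r v) = h.act r⁻¹ (h.act t v) := by
    intro v
    have e1 : t * r = ⟨q, H.Q_le hq⟩ * r⁻¹ * t := by
      apply Subtype.ext
      show (t : G) * H.ρ = q * H.ρ⁻¹ * t
      rw [← htρ]; group
    have e2 : h.act (t * r) v = h.act t (h.act r v) := by rw [map_mul]; rfl
    rw [← e2, e1, map_mul, map_mul, h.act_mem ⟨q, H.Q_le hq⟩ hq, one_mul]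
    rfl
  have hrr : ∀ v, h.act r (h.act r⁻¹ v) = v := by
    intro v
    have : h.act (r * r⁻¹) v = h.act r (h.act r⁻¹ v) := by rw [map_mul]; rfl
    rw [← this, mul_inv_cancel, map_one]; rfl
  have hr3 : ∀ v, h.act r (h.act r (h.act r v)) = v := by
    intro v
    have e : h.act (r * r * r) v = h.act r (h.act r (h.act r v)) := by
      rw [map_mul, map_mul]; rfl
    have e2 : r * r * r = 1 := by
      apply Subtype.ext
      show H.ρ * H.ρ * H.ρ = 1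
      have := ρ_pow_three H
      rwa [pow_succ, pow_two] at this
    rw [← e, e2, map_one]; rfl
  -- `W ∩ ρ W = 0`
  have hinter : ∀ v, h.act t v = v → h.act t (h.act r v) = h.act r v → v = 0 := by
    intro v h1 h2
    rw [hcomm, h1] at h2
    have h3 : v = h.act r (h.act r v) := by rw [← h2, hrr]
    apply act_ρ_eq_zero H
    show h.act r v = v
    calc h.act r v = h.act r (h.act r (h.act r v)) := by rw [← h3]
      _ = v := hr3 v
  set W := LinearMap.ker (Nil h t) with hW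
  let F : W × W → h.V := fun p => (p.1 : h.V) + h.act r (p.2 : h.V)
  have hF : Function.Injective F := by
    rintro ⟨⟨a, ha⟩, b, hb⟩ ⟨⟨c, hc⟩, d, hd⟩ he
    have he' : a + h.act r b = c + h.act r d := he
    have h1 : h.act r (b - d) = c - a := by
      rw [map_sub, sub_eq_sub_iff_add_eq_add, add_comm, he', add_comm]
    have h2 : h.act t (b - d) = b - d := (mem_ker_Nil h t _).1 (W.sub_mem hb hd)
    have h3 : h.act t (c - a) = c - a := (mem_ker_Nil h t _).1 (W.sub_mem hc ha)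
    have h4 := hinter _ h2 (by rw [h1]; exact h3)
    have h5 : b = d := sub_eq_zero.1 h4
    have h6 : a = c := by
      rw [h4, map_zero] at h1
      exact (sub_eq_zero.1 h1.symm).symm
    subst h5; subst h6; rfl
  have h7 := Nat.card_le_card_of_injective F hF
  rw [Nat.card_prod, card_V] at h7
  by_contra h8
  have h9 : 2 ^ 8 ≤ Nat.card W := by omega
  have := Nat.mul_le_mul h9 h9
  have h10 : (2 : ℕ) ^ 12 < 2 ^ 8 * 2 ^ 8 := by norm_num
  omega

end Cfsg.Agent.J4Type.FusionCent
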