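import Cfsg.Agent.J4Type.FusionCount
import Cfsg.Agent.J4Type.EClasses

/-!
# `|z^{N_G(E)}| = 1771` from `ECoord` (R07 J4 type, helper180)

The orbit data of `FusionCount` replaced by the classes `EClasses.K` of helper233.
-/

set_option autoImplicit false
set_option linter.unusedSectionVars false

open scoped Pointwise

namespace Cfsg.Agent.J4Type.FusionCount2

open Cfsg Cfsg.Agent.J4Type Cfsg.Agent.LargeExtra.Base
open Cfsg.Agent.J4Type.FusionCount
open Cfsg.Agent.J4Type.FusionMain (exists_norm_conj no_five)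
open Cfsg.Agent.J4Type.FusionCent (large)
open VCoord HexPerms ECoord EElems EPi EOrbCheck EOrbits EClasses

variable {G : Type*} [Group G]

/-- relaxed orbit structure: the classes are only assumed saturated for `Om H` -/
structure Orb (H : Hex G) where
  S : Fin 5 → Set G
  card : ∀ i, (S i).ncard = (![36, 90, 240, 240, 1440] : Fin 5 → ℕ) i
  disj : ∀ i j, i ≠ j → Disjoint (S i) (S j)
  one_notMem : ∀ i, (1 : G) ∉ S i
  z_notMem : ∀ i, H.z ∉ S i
  cover : ∀ a ∈ H.E hex0, a = 1 ∨ a = H.z ∨ ∃ i, a ∈ S i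
  sat : ∀ i, S i ⊆ Om H ∨ Disjoint (S i) (Om H)
  nc : ∀ a ∈ S 0, ¬ IsConj H.z a
  Q2 : ∀ i, i ≠ 0 → i ≠ 1 → ∀ a ∈ S i, a ∉ H.Q

variable (H : Hex G) [Finite G] (D : Orb H)

theorem Om_trans {i : Fin 5} {a : G} (ha : a ∈ Om H) (hai : a ∈ D.S i) : D.S i ⊆ Om H := by
  rcases D.sat i with h | h
  · exact h
  · exact absurd ha (Set.disjoint_left.1 h hai)

theorem Om_inter (i : Fin 5) : (Om H ∩ D.S i).ncard = 0 ∨
    (D.S i ⊆ Om H ∧ (Om H ∩ D.S i).ncard = (![36, 90, 240, 240, 1440] : Fin 5 → ℕ) i) := by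
  by_cases h : ∃ a, a ∈ Om H ∩ D.S i
  · right
    obtain ⟨a, ha, hai⟩ := h
    have h1 := Om_trans H D ha hai
    refine ⟨h1, ?_⟩
    rw [Set.inter_eq_right.2 h1, D.card]
  · left
    have : Om H ∩ D.S i = ∅ := Set.eq_empty_of_forall_notMem fun a ha => h ⟨a, ha⟩
    rw [this, Set.ncard_empty]

theorem Om_one (hZ : ∃ t, IsConj H.z t ∧ t * H.z = H.z * t ∧ t ≠ H.z) : D.S 1 ⊆ Om H := by
  obtain ⟨g, hQ, hne, hE⟩ := exists_conj_in H hZ
  have p := pair_of_conj (large H.toCent) hQ hne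
  obtain ⟨n, hn, hn'⟩ := exists_norm_conj H factEA p isHex0 hE
  have hmem : g * H.z * g⁻¹ ∈ Om H := ⟨n, Subgroup.mem_normalizer_iff.2 hn, hn'⟩
  rcases D.cover _ hE with h1 | h1 | ⟨i, hi⟩
  · exact absurd h1 (Om_sub H hmem).2
  · exact absurd h1 hne
  · have hi1 : i = 1 := by
      by_contra h2
      have h0 : i ≠ 0 := by
        rintro rfl
        exact D.nc _ hi (isConj_iff.2 ⟨g, rfl⟩)
      exact D.Q2 i h0 h2 _ hi hQ
    subst hi1
    exact Om_trans H D hmem hi

theorem ncard_Om : (Om H).ncard = 1 + (Om H ∩ D.S 0).ncard + (Om H ∩ D.S 1).ncard +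
    (Om H ∩ D.S 2).ncard + (Om H ∩ D.S 3).ncard + (Om H ∩ D.S 4).ncard := by
  have hdis : ∀ i j, i ≠ j → Disjoint (Om H ∩ D.S i) (Om H ∩ D.S j) := fun i j hij =>
    (D.disj i j hij).mono Set.inter_subset_right Set.inter_subset_right
  have hz : ∀ i, Disjoint ({H.z} : Set G) (Om H ∩ D.S i) := fun i => by
    rw [Set.disjoint_singleton_left]
    exact fun h => D.z_notMem i h.2
  have hcov : Om H = ((((({H.z} ∪ (Om H ∩ D.S 0)) ∪ (Om H ∩ D.S 1)) ∪ (Om H ∩ D.S 2)) ∪
      (Om H ∩ D.S 3)) ∪ (Om H ∩ D.S 4)) := by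
    ext a
    constructor
    · intro ha
      obtain ⟨h1, h2⟩ := Om_sub H ha
      rcases D.cover a h1 with h3 | h3 | ⟨i, hi⟩
      · exact absurd h3 h2
      · simp [h3]
      · fin_cases i
        · exact Or.inl (Or.inl (Or.inl (Or.inl (Or.inr ⟨ha, hi⟩))))
        · exact Or.inl (Or.inl (Or.inl (Or.inr ⟨ha, hi⟩)))
        · exact Or.inl (Or.inl (Or.inr ⟨ha, hi⟩))
        · exact Or.inl (Or.inr ⟨ha, hi⟩)
        · exact Or.inr ⟨ha, hi⟩
    · rintro (((((h | h) | h) | h) | h) | h)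
      · rw [Set.mem_singleton_iff.1 h]; exact z_mem_Om H
      · exact h.1
      · exact h.1
      · exact h.1
      · exact h.1
      · exact h.1
  conv_lhs => rw [hcov]
  rw [Set.ncard_union_eq, Set.ncard_union_eq, Set.ncard_union_eq, Set.ncard_union_eq,
    Set.ncard_union_eq, Set.ncard_singleton]
  · exact hz 0
  · exact Set.disjoint_union_left.2 ⟨hz 1, hdis 0 1 (by decide)⟩
  · exact Set.disjoint_union_left.2 ⟨Set.disjoint_union_left.2 ⟨hz 2, hdis 0 2 (by decide)⟩,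
      hdis 1 2 (by decide)⟩
  · exact Set.disjoint_union_left.2 ⟨Set.disjoint_union_left.2 ⟨Set.disjoint_union_left.2
      ⟨hz 3, hdis 0 3 (by decide)⟩, hdis 1 3 (by decide)⟩, hdis 2 3 (by decide)⟩
  · exact Set.disjoint_union_left.2 ⟨Set.disjoint_union_left.2 ⟨Set.disjoint_union_left.2
      ⟨Set.disjoint_union_left.2 ⟨hz 4, hdis 0 4 (by decide)⟩, hdis 1 4 (by decide)⟩,
      hdis 2 4 (by decide)⟩, hdis 3 4 (by decide)⟩

/-- **`z` has exactly 1771 conjugates under `N_G(E)`** -/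
theorem main (hZ : ∃ t, IsConj H.z t ∧ t * H.z = H.z * t ∧ t ≠ H.z) :
    (Om H).ncard = 1771 ∧ D.S 1 ⊆ Om H ∧ D.S 4 ⊆ Om H ∧ Disjoint (Om H) (D.S 0) ∧
      ((D.S 2 ⊆ Om H ∧ Disjoint (Om H) (D.S 3)) ∨ (D.S 3 ⊆ Om H ∧ Disjoint (Om H) (D.S 2))) := by
  have h0 : (Om H ∩ D.S 0).ncard = 0 := by
    have : Om H ∩ D.S 0 = ∅ := Set.eq_empty_of_forall_notMem fun a ha =>
      D.nc _ ha.2 (isConj_of_Om H ha.1)
    rw [this, Set.ncard_empty]
  have h1 := Om_one H D hZ
  have h1' : (Om H ∩ D.S 1).ncard = 90 := by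
    rw [Set.inter_eq_right.2 h1, D.card]; rfl
  have hc := ncard_Om H D
  rw [h0, h1'] at hc
  have dis : ∀ i, (Om H ∩ D.S i).ncard = 0 → Disjoint (Om H) (D.S i) := by
    intro i h
    rw [Set.disjoint_iff_inter_eq_empty]
    exact (Set.ncard_eq_zero (Set.toFinite _)).1 h
  have P13 := Om_prime H (p := 13) (by norm_num) (by norm_num)
    (by intro i h1 h2; interval_cases i <;> norm_num)
  have P331 := Om_prime H (p := 331) (by norm_num) (by norm_num)
    (by intro i h1 h2; interval_cases i <;> norm_num)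
  have P571 := Om_prime H (p := 571) (by norm_num) (by norm_num)
    (by intro i h1 h2; interval_cases i <;> norm_num)
  have P1531 := Om_prime H (p := 1531) (by norm_num) (by norm_num)
    (by intro i h1 h2; interval_cases i <;> norm_num)
  have P2011 := Om_prime H (p := 2011) (by norm_num) (by norm_num)
    (by intro i h1 h2; interval_cases i <;> norm_num)
  have k2 : (Om H ∩ D.S 2).ncard = 0 ∨ (D.S 2 ⊆ Om H ∧ (Om H ∩ D.S 2).ncard = 240) :=
    Om_inter H D 2
  have k3 : (Om H ∩ D.S 3).ncard = 0 ∨ (D.S 3 ⊆ Om H ∧ (Om H ∩ D.S 3).ncard = 240) :=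
    Om_inter H D 3
  have k4 : (Om H ∩ D.S 4).ncard = 0 ∨ (D.S 4 ⊆ Om H ∧ (Om H ∩ D.S 4).ncard = 1440) :=
    Om_inter H D 4
  rcases k2 with e2 | ⟨s2, e2⟩ <;> rcases k3 with e3 | ⟨s3, e3⟩ <;>
    rcases k4 with e4 | ⟨s4, e4⟩ <;> rw [e2, e3, e4] at hc
  · exact absurd (hc ▸ (by norm_num : 13 ∣ 1 + 0 + 90 + 0 + 0 + 0)) P13
  · exact absurd (hc ▸ (by norm_num : 1531 ∣ 1 + 0 + 90 + 0 + 0 + 1440)) P1531
  · exact absurd (hc ▸ (by norm_num : 331 ∣ 1 + 0 + 90 + 0 + 240 + 0)) P331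
  · exact ⟨hc, h1, s4, dis 0 h0, Or.inr ⟨s3, dis 2 e2⟩⟩
  · exact absurd (hc ▸ (by norm_num : 331 ∣ 1 + 0 + 90 + 240 + 0 + 0)) P331
  · exact ⟨hc, h1, s4, dis 0 h0, Or.inl ⟨s2, dis 3 e3⟩⟩
  · exact absurd (hc ▸ (by norm_num : 571 ∣ 1 + 0 + 90 + 240 + 240 + 0)) P571
  · exact absurd (hc ▸ (by norm_num : 2011 ∣ 1 + 0 + 90 + 240 + 240 + 1440)) P2011

/-! ### the classes of helper233 -/

variable {H} (C : ECoord H)

/-- classes inside `Q` do not depend on the signs -/
theorem K_eq (F F' : FSys H) {k : Fin 7} (hk : k ≤ 3) : K C F k = K C F' k := by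
  have aux : ∀ F F' : FSys H, K C F k ⊆ K C F' k := by
    rintro F F' x ⟨t, a, o, rfl, h⟩
    have ho : o = 0 := by
      rw [← el_mem_Q_iff C F t a o, mem_Q_iff C F ((el_mem_K C F).2 h)]
      exact hk
    subst ho
    refine ⟨t, a, 0, ?_, h⟩
    unfold el
    rw [F.f_zero, F'.f_zero]
  exact Set.Subset.antisymm (aux F F') (aux F' F)

/-- invariance of a set under `N_C(E)` in helper233's form -/
theorem inv_of_N0 {S : Set G} (hS : ∀ n ∈ N0 H, ∀ a, a ∈ S → n * a * n⁻¹ ∈ S) (n : G) (hn : n * H.z = H.z * n)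
    (hE : ∀ a, a ∈ H.E hex0 ↔ n * a * n⁻¹ ∈ H.E hex0) (a : G) : a ∈ S ↔ n * a * n⁻¹ ∈ S := by
  have hN : n ∈ N0 H := Subgroup.mem_inf.2 ⟨Subgroup.mem_centralizer_singleton_iff.2 hn,
    Subgroup.mem_normalizer_iff.2 hE⟩
  constructor
  · exact hS n hN a
  · intro h
    have := hS n⁻¹ (inv_mem hN) _ h
    have e : n⁻¹ * (n * a * n⁻¹) * n⁻¹⁻¹ = a := by group
    rwa [e] at this

include C in
/-- elements of the 36-class are not conjugate to `z` -/
theorem not_isConj {F : FSys H} {a : G} (ha : a ∈ K C F 2) : ¬ IsConj H.z a := by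
  intro hc
  have ha2 : a ∈ H.Q := (mem_Q_iff C F ha).2 (by decide)
  have haE : a ∈ H.E hex0 := (mem_E_iff C F).2 ⟨2, ha⟩
  have haz : a ≠ H.z := by
    rintro rfl
    have h1 : H.z ∈ K C F 1 := by rw [K_one]; exact Set.mem_singleton _
    exact absurd (K_unique C F ha h1) (by decide)
  obtain ⟨F', χ, hχ⟩ := exists_signs C (cls (N0 H) a) fun n hn hE b _ =>
    inv_of_N0 (S := cls (N0 H) a) (by
      rintro n hn _ ⟨m, hm, rfl⟩
      exact ⟨n * m, mul_mem hn hm, by group⟩) n hn hE b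
  have ha' : a ∈ K C F' 2 := by rw [K_eq C F' F (by decide)]; exact ha
  have haS : a ∈ cls (N0 H) a := ⟨1, one_mem _, by group⟩
  have mem_iff : ∀ b k, b ∈ K C F' k → (b ∈ cls (N0 H) a ↔ χ k) := by
    rintro b k ⟨t, c, o, rfl, h⟩
    rw [hχ, h]
  have hχ2 : χ 2 := (mem_iff a 2 ha').1 haS
  have sub : cls (N0 H) a ⊆ K C F' 2 ∪ K C F' 3 := by
    rintro _ ⟨n, hn, rfl⟩
    have hn1 := Subgroup.mem_inf.1 hn
    have hcz := Subgroup.mem_centralizer_singleton_iff.1 hn1.1
    have h1 : n * a * n⁻¹ ∈ H.E hex0 := (Subgroup.mem_normalizer_iff.1 hn1.2 a).1 haE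
    have h2 : n * a * n⁻¹ ∈ H.Q := H.Q_conj _ hcz _ ha2
    obtain ⟨k, hk⟩ := (mem_E_iff C F').1 h1
    have h3 := (mem_Q_iff C F' hk).1 h2
    have h4 : k ≠ 0 := by
      rintro rfl
      rw [K_zero, Set.mem_singleton_iff] at hk
      have ha1 : a = 1 := by
        calc a = n⁻¹ * (n * a * n⁻¹) * n := by group
          _ = 1 := by rw [hk]; group
      have h5 : (1 : G) ∈ K C F 0 := by rw [K_zero]; exact Set.mem_singleton _
      rw [ha1] at ha
      exact absurd (K_unique C F ha h5) (by decide)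
    have h5 : k ≠ 1 := by
      rintro rfl
      rw [K_one, Set.mem_singleton_iff] at hk
      apply haz
      calc a = n⁻¹ * (n * a * n⁻¹) * n := by group
        _ = n⁻¹ * (H.z * n) := by rw [hk]; group
        _ = H.z := by rw [← hcz]; group
    fin_cases k
    · exact absurd rfl h4
    · exact absurd rfl h5
    · exact Or.inl hk
    · exact Or.inr hk
    · exact absurd h3 (by decide)
    · exact absurd h3 (by decide)
    · exact absurd h3 (by decide)
  have hcard : (cls (N0 H) a).ncard = 36 ∨ (cls (N0 H) a).ncard = 126 := by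
    by_cases h3 : χ 3
    · right
      have e : cls (N0 H) a = K C F' 2 ∪ K C F' 3 := by
        apply Set.Subset.antisymm sub
        rintro b (hb | hb)
        · exact (mem_iff b 2 hb).2 hχ2
        · exact (mem_iff b 3 hb).2 h3
      rw [e, Set.ncard_union_eq _ (Set.toFinite _) (Set.toFinite _), K_ncard, K_ncard]
      · rfl
      · rw [Set.disjoint_left]
        intro b hb hb'
        exact absurd (K_unique C F' hb hb') (by decide)
    · left
      have e : cls (N0 H) a = K C F' 2 := by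
        apply Set.Subset.antisymm
        · intro b hb
          rcases sub hb with h | h
          · exact h
          · exact absurd ((mem_iff b 3 h).1 hb) h3
        · intro b hb
          exact (mem_iff b 2 hb).2 hχ2
      rw [e, K_ncard]
      rfl
  have h1 := card_cls_mul (N0 H) a
  have h2 := five_dvd H
  rw [← h1] at h2
  have h3 : 5 ∣ Nat.card (N0 H ⊓ Subgroup.centralizer {a} : Subgroup G) := by
    rcases hcard with h | h <;> rw [h] at h2
    · exact (Nat.Coprime.dvd_mul_left (by norm_num)).1 h2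
    · exact (Nat.Coprime.dvd_mul_left (by norm_num)).1 h2
  have : Fact (Nat.Prime 5) := ⟨by norm_num⟩
  obtain ⟨x, hx⟩ := exists_prime_orderOf_dvd_card' 5 h3
  have hx0 := Subgroup.mem_inf.1 x.2
  have hxN := Subgroup.mem_inf.1 hx0.1
  have hx5 : (x : G) ^ 5 = 1 := by
    have := pow_orderOf_eq_one x
    rw [hx] at this
    exact congrArg Subtype.val this
  obtain ⟨g, rfl⟩ := isConj_iff.1 hc
  have p := pair_of_conj (large H.toCent) ha2 haz
  have hx1 := no_five H factEA p isHex0 haE ⟨x, hxN.1⟩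
    (Subgroup.mem_centralizer_singleton_iff.1 hx0.2)
    (fun a ha => (Subgroup.mem_normalizer_iff.1 hxN.2 a).1 ha) hx5
  have : x = 1 := Subtype.ext hx1
  rw [this, orderOf_one] at hx
  exact absurd hx (by norm_num)

include C in
theorem exists_orb : ∃ (F : FSys H) (D : Orb H), ∀ i : Fin 5, D.S i = K C F (i.succ.succ) := by
  obtain ⟨F, χ, hχ⟩ := exists_signs C (Om H) fun n hn hE b _ =>
    inv_of_N0 (S := Om H) (by
      rintro n hn _ ⟨m, hm, rfl⟩
      exact ⟨n * m, mul_mem (Subgroup.mem_inf.1 hn).2 hm, by group⟩) n hn hE b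
  have mem_iff : ∀ b k, b ∈ K C F k → (b ∈ Om H ↔ χ k) := by
    rintro b k ⟨t, c, o, rfl, h⟩
    rw [hχ, h]
  refine ⟨F, ⟨fun i => K C F i.succ.succ, ?_, ?_, ?_, ?_, ?_, ?_, ?_, ?_⟩, fun i => rfl⟩
  · intro i
    rw [K_ncard]
    fin_cases i <;> rfl
  · intro i j hij
    rw [Set.disjoint_left]
    intro b hb hb'
    exact hij (Fin.succ_injective _ (Fin.succ_injective _ (K_unique C F hb hb')))
  · intro i h
    have h5 : (1 : G) ∈ K C F 0 := by rw [K_zero]; exact Set.mem_singleton _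
    exact absurd (K_unique C F h h5) (Fin.succ_ne_zero _)
  · intro i h
    have h5 : H.z ∈ K C F 1 := by rw [K_one]; exact Set.mem_singleton _
    have := K_unique C F h h5
    revert this
    fin_cases i <;> decide
  · intro a ha
    obtain ⟨k, hk⟩ := (mem_E_iff C F).1 ha
    fin_cases k
    · left
      have hk' : a ∈ K C F 0 := hk
      rw [K_zero] at hk'
      exact hk'
    · right; left
      have hk' : a ∈ K C F 1 := hk
      rw [K_one] at hk'
      exact hk'
    · exact Or.inr (Or.inr ⟨0, hk⟩)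
    · exact Or.inr (Or.inr ⟨1, hk⟩)
    · exact Or.inr (Or.inr ⟨2, hk⟩)
    · exact Or.inr (Or.inr ⟨3, hk⟩)
    · exact Or.inr (Or.inr ⟨4, hk⟩)
  · intro i
    by_cases h : χ i.succ.succ
    · left
      intro b hb
      exact (mem_iff b _ hb).2 h
    · right
      rw [Set.disjoint_left]
      intro b hb hb'
      exact h ((mem_iff b _ hb).1 hb')
  · intro a ha
    exact not_isConj C ha
  · intro i h0 h1 a ha hQ
    have := (mem_Q_iff C F ha).1 hQ
    revert this h0 h1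
    fin_cases i <;> decide

include C in
/-- **`z` has exactly `1771` conjugates under `N_G(E)`.** -/
theorem card_Om (hZ : ∃ t, IsConj H.z t ∧ t * H.z = H.z * t ∧ t ≠ H.z) : (Om H).ncard = 1771 := by
  obtain ⟨F, D, -⟩ := exists_orb C
  exact (main H D hZ).1

end Cfsg.Agent.J4Type.FusionCount2
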