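import Cfsg.Agent.J4Type.FusionV
import Cfsg.Agent.J4Type.FusionM22

/-!
# J₄ type, part (b): the elementary abelian subgroups of order `2^11` of `C` (R07, helper607)

`Hex.ea_unique` : an elementary abelian 2-subgroup `F ∋ z` of order at least `2^11` is one of the 77 groups `E O`.
-/

set_option autoImplicit false
set_option linter.unusedSectionVars false

namespace Cfsg.Agent.J4Type.FusionEA

open Cfsg Cfsg.Agent.J4Type Cfsg.Agent.J4Type.FusionV Cfsg.Agent.J4Type.FusionM22
open Cfsg.Agent.SporadicA.OctadFix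
open Module
open scoped Pointwise

variable {G : Type*} [Group G]

theorem isHexad_iff {O : Finset GolayPt} : FusionM22.IsHexad O ↔ IsHex O := by
  unfold FusionM22.IsHexad IsHex base
  rw [Finset.insert_subset_iff, Finset.singleton_subset_iff]

/-- elements of `M22:2` -/
theorem base_cases {g : Equiv.Perm GolayPt} (hg : g ∈ M22d) : g ∈ M24 ∧
    ((g none = none ∧ g (some 0) = some 0) ∨ (g none = some 0 ∧ g (some 0) = none)) := by
  obtain ⟨h1, h2⟩ := Subgroup.mem_inf.1 hg
  refine ⟨h1, ?_⟩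
  have h3 : g • base = base := h2
  have h4 : g none ∈ base := by
    rw [← h3]
    exact Finset.smul_mem_smul_finset (show (none : GolayPt) ∈ base by decide)
  have h5 : g (some 0) ∈ base := by
    rw [← h3]
    exact Finset.smul_mem_smul_finset (show (some 0 : GolayPt) ∈ base by decide)
  have h6 : g none ≠ g (some 0) := fun h => absurd (g.injective h) (by decide)
  simp only [base, Finset.mem_insert, Finset.mem_singleton] at h4 h5
  rcases h4 with h4 | h4 <;> rcases h5 with h5 | h5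
  · exact absurd (h4.trans h5.symm) h6
  · exact Or.inl ⟨h4, h5⟩
  · exact Or.inr ⟨h4, h5⟩
  · exact absurd (h4.trans h5.symm) h6

section

variable (H : Hex G) [Finite G] {F : Subgroup G}

theorem le_CC (hF : IsElem2 F) (hz : H.z ∈ F) : F ≤ CC H.toCent := fun x hx =>
  Subgroup.mem_centralizer_singleton_iff.2 (hF.2 x hx _ hz)

/-- `P` on `F` -/
def PF (hFC : F ≤ CC H.toCent) : F →* Equiv.Perm GolayPt := H.P.comp (Subgroup.inclusion hFC)

theorem mem_Q_iff (hF : IsElem2 F) (hFC : F ≤ CC H.toCent) (x : F) :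
    PF H hFC x = 1 ↔ (x : G) ∈ H.Q := by
  constructor
  · intro h
    have h1 : bar H.toCent (Subgroup.inclusion hFC x) * bar H.toCent (Subgroup.inclusion hFC x) = 1 := by
      rw [← map_mul, ← map_mul]
      have : x * x = 1 := Subtype.ext (hF.1 x x.2)
      rw [this, map_one, map_one]
    exact (bar_eq_one H.toCent).1 (bar_eq_one_of_sq H.toCent h1 h)
  · intro h
    exact (P_eq_one_iff H.toCent).2 ⟨0, by rw [pow_zero]; exact (bar_eq_one H.toCent).2 h⟩

theorem card_F (hF : IsElem2 F) (hFC : F ≤ CC H.toCent) :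
    Nat.card F = Nat.card (F ⊓ H.Q : Subgroup G) * Nat.card (PF H hFC).range := by
  rw [← Subgroup.card_mul_index (PF H hFC).ker, Subgroup.index_ker]
  congr 1
  refine Nat.card_congr
    { toFun := fun x => ⟨(x : F), (x : F).2, (mem_Q_iff H hF hFC _).1 x.2⟩
      invFun := fun x => ⟨⟨x.1, x.2.1⟩, (mem_Q_iff H hF hFC _).2 x.2.2⟩
      left_inv := fun x => rfl
      right_inv := fun x => rfl }

/-- If two elements of `F` act as distinct nontrivial translations for the hexad `O`, then `F ∩ Q ≤ E O`. -/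
theorem inf_le (hF : IsElem2 F) (hFC : F ≤ CC H.toCent) {O : Finset GolayPt} (hO : IsHex O) {x y : F}
    (hx : PF H hFC x ∈ fixOct O) (hy : PF H hFC y ∈ fixOct O) (hx1 : PF H hFC x ≠ 1)
    (hy1 : PF H hFC y ≠ 1) (hxy : PF H hFC x ≠ PF H hFC y) : F ⊓ H.Q ≤ H.E O := by
  have key : ∀ x : F, PF H hFC x ∈ fixOct O → PF H hFC x ≠ 1 → ∃ a : CC H.toCent, (a : G) ∈ H.E O ∧
      H.P a = PF H hFC x ∧ (a : G) ∉ H.Q ∧
      ∀ q ∈ F ⊓ H.Q, ((a : G) * q = q * a ∨ (a : G) * q = H.z * (q * a)) := by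
    intro x hx hx1
    obtain ⟨a, haE, ha⟩ := (H.E_map O hO _).2 (mem_fixOct.1 hx)
    have haa : a * a = 1 := Subtype.ext ((H.E_elem O hO).1 _ haE)
    have hxx : x * x = 1 := Subtype.ext (hF.1 x x.2)
    have hin : H.P a none = none := by
      rw [ha]
      exact (mem_fixOct.1 hx).2 _ (hO.2 (by decide))
    have hbar : bar H.toCent (Subgroup.inclusion hFC x) = bar H.toCent a := by
      apply bar_eq_of_P_eq H.toCent _ _ ha.symm hin
      · rw [← map_mul, ← map_mul, hxx, map_one, map_one]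
      · rw [← map_mul, haa, map_one]
    refine ⟨a, haE, ha, ?_, ?_⟩
    · intro h
      apply hx1
      rw [← ha]
      exact (P_eq_one_iff H.toCent).2 ⟨0, by rw [pow_zero]; exact (bar_eq_one H.toCent).2 h⟩
    · intro q hq
      have h1 := (act_fix_iff (large H.toCent) (Subgroup.inclusion hFC x) ⟨q, hq.2⟩).2
        (Or.inl (hF.2 x x.2 q hq.1))
      rw [act_of_bar_eq H.toCent hbar] at h1
      exact (act_fix_iff (large H.toCent) a ⟨q, hq.2⟩).1 h1
  obtain ⟨a, haE, ha, haQ, hafix⟩ := key x hx hx1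
  obtain ⟨b, hbE, hb, hbQ, hbfix⟩ := key y hy hy1
  intro q hq
  refine H.V_inf O hO a haE b hbE haQ hbQ ?_ q hq.2 (hafix q hq) (hbfix q hq)
  intro hab
  apply hxy
  have h1 : H.P (a * b) = 1 :=
    (P_eq_one_iff H.toCent).2 ⟨0, by rw [pow_zero]; exact (bar_eq_one H.toCent).2 hab⟩
  rw [map_mul, ha, hb] at h1
  have h2 : PF H hFC x * PF H hFC x = 1 := by
    rw [← map_mul]
    have : x * x = 1 := Subtype.ext (hF.1 x x.2)
    rw [this, map_one]
  rw [← h2] at h1
  exact (mul_left_cancel h1).symm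

theorem exists_two (hFC : F ≤ CC H.toCent) {O : Finset GolayPt} {S0 : Subgroup (Equiv.Perm GolayPt)}
    (hS0 : S0 ≤ (PF H hFC).range) (hK : 4 ≤ Nat.card (S0 ⊓ fixOct O : Subgroup (Equiv.Perm GolayPt))) :
    ∃ x y : F, PF H hFC x ∈ fixOct O ∧ PF H hFC y ∈ fixOct O ∧
      PF H hFC x ≠ 1 ∧ PF H hFC y ≠ 1 ∧ PF H hFC x ≠ PF H hFC y := by
  classical
  let K := (S0 ⊓ fixOct O : Subgroup (Equiv.Perm GolayPt))
  have hKf : Fintype K := Fintype.ofFinite K
  have h1 : 2 < (Finset.univ : Finset K).card := by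
    rw [Finset.card_univ, ← Nat.card_eq_fintype_card]
    exact lt_of_lt_of_le (by norm_num) hK
  obtain ⟨k, -, hk1⟩ := Finset.exists_mem_ne (s := (Finset.univ : Finset K)) (by omega) 1
  have h2 : (Finset.univ.erase (1 : K)).card = (Finset.univ : Finset K).card - 1 :=
    Finset.card_erase_of_mem (Finset.mem_univ _)
  obtain ⟨l, hl, hlk⟩ := Finset.exists_mem_ne (s := Finset.univ.erase (1 : K)) (by omega) k
  obtain ⟨x, hx⟩ := hS0 k.2.1
  obtain ⟨y, hy⟩ := hS0 l.2.1
  refine ⟨x, y, ?_, ?_, ?_, ?_, ?_⟩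
  · rw [hx]; exact k.2.2
  · rw [hy]; exact l.2.2
  · rw [hx]; exact fun h => hk1 (Subtype.ext h)
  · rw [hy]; exact fun h => (Finset.mem_erase.1 hl).1 (Subtype.ext h)
  · rw [hx, hy]; exact fun h => hlk (Subtype.ext h.symm)

theorem card_inf_Q (hF : IsElem2 F) (hz : H.z ∈ F) : ∃ f ≤ 6,
    finrank (ZMod 2) (vsub (large H.toCent) (F ⊓ H.Q)) = f ∧ Nat.card (F ⊓ H.Q : Subgroup G) = 2 ^ (f + 1) := by
  refine ⟨_, ?_, rfl, card_eq (large H.toCent) ⟨hz, H.z_mem_Q⟩ inf_le_right⟩
  have h1 := dim_le_of_abelian (large H.toCent) (X := F ⊓ H.Q)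
    (fun a ha b hb => hF.2 a ha.1 b hb.1)
  rw [dim_V] at h1
  omega

/-- outer elements invert `ρ` modulo `Q` -/
theorem bar_outer {b : CC H.toCent} (hb : H.P b none ≠ none) :
    bar H.toCent b * bar H.toCent (rC H.toCent) = (bar H.toCent (rC H.toCent))⁻¹ * bar H.toCent b := by
  obtain ⟨q, hq, h⟩ := H.P_outer b hb
  have h1 : b * rC H.toCent * b⁻¹ = ⟨q, H.Q_le hq⟩ * (rC H.toCent)⁻¹ := Subtype.ext h
  have h2 := congrArg (bar H.toCent) h1
  have hq1 : bar H.toCent (⟨q, H.Q_le hq⟩ : CC H.toCent) = 1 := (bar_eq_one H.toCent).2 hq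
  rw [map_mul, map_mul, map_inv, map_mul, hq1, one_mul, mul_inv_eq_iff_eq_mul, map_inv] at h2
  exact h2

/-- no outer element in an elementary abelian group of order at least `2^11` -/
theorem no_outer (hF : IsElem2 F) (hz : H.z ∈ F) (hFC : F ≤ CC H.toCent) (hc : 2 ^ 11 ≤ Nat.card F)
    (b : F) : PF H hFC b none = none := by
  by_contra hb
  have hbC : bar H.toCent (Subgroup.inclusion hFC b) * bar H.toCent (rC H.toCent) =
    (bar H.toCent (rC H.toCent))⁻¹ * bar H.toCent (Subgroup.inclusion hFC b) := bar_outer H hb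
  obtain ⟨f, hf6, hf, hfc⟩ := card_inf_Q H hF hz
  have hcard := card_F H hF hFC
  set S := (PF H hFC).range with hS
  have hSM : ∀ g ∈ S, g ∈ M22d := by
    rintro _ ⟨x, rfl⟩
    rw [← H.P_range]
    exact ⟨_, rfl⟩
  have hSel : ∀ g ∈ S, g * g = 1 := by
    rintro _ ⟨x, rfl⟩
    rw [← map_mul]
    have : x * x = 1 := Subtype.ext (hF.1 x x.2)
    rw [this, map_one]
  have hS2 : IsPGroup 2 S := by
    intro g
    refine ⟨1, ?_⟩
    rw [pow_one, pow_two]
    exact Subtype.ext (hSel _ g.2)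
  obtain ⟨O, hO, hSO⟩ := exists_hexad S (fun g hg => (base_cases (hSM g hg)).1) hS2
    (fun g hg => (base_cases (hSM g hg)).2)
  rw [isHexad_iff] at hO
  -- the inner part
  let S0 : Subgroup (Equiv.Perm GolayPt) := S ⊓ MulAction.stabilizer (Equiv.Perm GolayPt) (none : GolayPt)
  have hS0none : ∀ g ∈ S0, g none = none := fun g hg => hg.2
  have hS0zero : ∀ g ∈ S0, g (some 0) = some 0 := by
    intro g hg
    rcases (base_cases (hSM g hg.1)).2 with h | h
    · exact h.2
    · exact absurd (h.1.symm.trans (hS0none g hg)) (by decide)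
  have hS0le : Nat.card S0 ≤ 16 := card_le S0 (fun g hg => (base_cases (hSM g hg.1)).1)
    (fun g hg => hSel g hg.1) hS0none
  have hS0K : Nat.card S0 ≤ 4 * Nat.card (S0 ⊓ fixOct O : Subgroup (Equiv.Perm GolayPt)) :=
    card_le_four_mul S0 (fun g hg => (base_cases (hSM g hg.1)).1) (fun g hg => hSel g hg.1) hO.1
      (fun g hg => hSO g hg.1) (hO.2 (show (none : GolayPt) ∈ base by decide))
      (hO.2 (show (some 0 : GolayPt) ∈ base by decide)) (by decide) hS0none hS0zero
  have hSS0 : Nat.card S ≤ 2 * Nat.card S0 := by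
    have hrel : (S0.subgroupOf S).index ≤ 2 := by
      rw [Subgroup.index_eq_two_iff.2]
      refine ⟨⟨PF H hFC b, ⟨b, rfl⟩⟩, ?_⟩
      rintro ⟨g, hg⟩
      rw [Subgroup.mem_subgroupOf, Subgroup.mem_subgroupOf]
      have hbn : PF H hFC b none = some 0 := by
        rcases (base_cases (hSM _ ⟨b, rfl⟩)).2 with h | h
        · exact absurd h.1 hb
        · exact h.1
      have hb0 : PF H hFC b (some 0) = none := by
        rcases (base_cases (hSM _ ⟨b, rfl⟩)).2 with h | h
        · exact absurd h.1 hb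
        · exact h.2
      rcases (base_cases (hSM g hg)).2 with h | h
      · right
        refine ⟨⟨hg, h.1⟩, ?_⟩
        intro h2
        have h3 : (g * PF H hFC b) none = none := h2.2
        rw [Equiv.Perm.mul_apply, hbn, h.2] at h3
        exact absurd h3 (by decide)
      · left
        refine ⟨⟨S.mul_mem hg ⟨b, rfl⟩, ?_⟩, ?_⟩
        · show (g * PF H hFC b) none = none
          rw [Equiv.Perm.mul_apply, hbn, h.2]
        · intro h2
          have h3 : g none = none := h2.2
          rw [h.1] at h3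
          exact absurd h3 (by decide)
    have h1 := Subgroup.card_mul_index (S0.subgroupOf S)
    have h2 : Nat.card (S0.subgroupOf S) = Nat.card S0 :=
      Nat.card_congr (Subgroup.subgroupOfEquivOfLe (inf_le_left : S0 ≤ S)).toEquiv
    rw [h2] at h1
    rw [← h1, mul_comm]
    exact Nat.mul_le_mul_right _ hrel
  -- `f ≥ 5`
  have h2f : 2 ^ 11 ≤ 2 ^ (f + 1) * (2 * Nat.card S0) := by
    rw [← hfc]
    exact hc.trans (hcard.le.trans (Nat.mul_le_mul_left _ hSS0))
  have hf5 : 5 ≤ f := by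
    by_contra h
    have h1 : 2 ^ (f + 1) ≤ 2 ^ 5 := Nat.pow_le_pow_right (by norm_num) (by omega)
    have h3 : 2 ^ (f + 1) * (2 * Nat.card S0) ≤ 2 ^ 5 * (2 * 16) :=
      Nat.mul_le_mul h1 (Nat.mul_le_mul_left _ hS0le)
    omega
  -- the fixed space
  have hbfix : ∀ v ∈ vsub (large H.toCent) (F ⊓ H.Q),
      (large H.toCent).act (Subgroup.inclusion hFC b) v = v := by
    rintro _ ⟨q, hq, rfl⟩
    exact (act_fix_iff _ _ _).2 (Or.inl (hF.2 b b.2 q hq.1))
  by_cases hK : 4 ≤ Nat.card (S0 ⊓ fixOct O : Subgroup (Equiv.Perm GolayPt))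
  · -- two translations
    obtain ⟨x, y, hx, hy, hx1, hy1, hxy⟩ := exists_two H hFC (inf_le_left : S0 ≤ S) hK
    have hle := inf_le H hF hFC hO hx hy hx1 hy1 hxy
    have hXU : vsub (large H.toCent) (F ⊓ H.Q) ≤ vsub (large H.toCent) (H.E O ⊓ H.Q) := by
      rintro _ ⟨q, hq, rfl⟩
      exact ⟨q, ⟨hle hq, hq.2⟩, rfl⟩
    have hA : finrank (ZMod 2) (vsub (large H.toCent) (H.E O ⊓ H.Q)) = 6 := by
      have h1 := card_eq (large H.toCent) (X := H.E O ⊓ H.Q) ⟨H.z_mem_E O hO, H.z_mem_Q⟩ inf_le_right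
      rw [H.A_card O hO] at h1
      have h2 := Nat.pow_right_injective (le_refl 2) h1
      omega
    have hUinv : ∀ v ∈ vsub (large H.toCent) (H.E O ⊓ H.Q),
        (large H.toCent).act (rC H.toCent) v ∈ vsub (large H.toCent) (H.E O ⊓ H.Q) := by
      rintro _ ⟨q, hq, rfl⟩
      rw [(large H.toCent).act_pr]
      refine ⟨_, ⟨?_, ((large H.toCent).conjQ (rC H.toCent) q).2⟩, rfl⟩
      rw [Co2Type.Quad.Large.conjQ_coe]
      have h1 := (H.E_conj O hO (rC H.toCent) q).1 hq.1
      have h2 : H.P (rC H.toCent) = 1 := (P_eq_one_iff H.toCent).2 ⟨1, by rw [pow_one]⟩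
      rw [h2, one_smul] at h1
      exact h1
    have h1 := dim_le_of_outer H.toCent hbC _ _ hUinv hXU hbfix
    rw [hf, hA] at h1
    omega
  · -- `|S0| ≤ 12`, so `f = 6`
    have hS012 : Nat.card S0 ≤ 12 := by omega
    have hf' : f = 6 := by
      by_contra h
      have h5 : f = 5 := by omega
      rw [h5] at h2f
      omega
    -- a nontrivial inner element
    obtain ⟨g, hg, hg1⟩ : ∃ g ∈ S0, g ≠ 1 := by
      by_contra hno
      push Not at hno
      have : S0 = ⊥ := (Subgroup.eq_bot_iff_forall _).2 hno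
      rw [this, Subgroup.card_bot, hf'] at h2f
      omega
    obtain ⟨y, rfl⟩ := hg.1
    let U : Submodule (ZMod 2) (large H.toCent).V :=
      LinearMap.eqLocus (((large H.toCent).act (Subgroup.inclusion hFC y) :
        (large H.toCent).V →ₗ[ZMod 2] (large H.toCent).V)) LinearMap.id
    have hmemU : ∀ v, v ∈ U ↔ (large H.toCent).act (Subgroup.inclusion hFC y) v = v := fun v => Iff.rfl
    have hcomm := bar_comm H.toCent (c := Subgroup.inclusion hFC y) (hS0none _ hg)
    have hUinv : ∀ v ∈ U, (large H.toCent).act (rC H.toCent) v ∈ U := by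
      intro v hv
      rw [hmemU] at hv ⊢
      have h1 : bar H.toCent (Subgroup.inclusion hFC y * rC H.toCent) =
          bar H.toCent (rC H.toCent * Subgroup.inclusion hFC y) := by
        rw [map_mul, map_mul, hcomm]
      have h2 := act_of_bar_eq H.toCent h1
      rw [map_mul, map_mul] at h2
      have h3 := congrArg (fun f : (large H.toCent).V ≃ₗ[ZMod 2] (large H.toCent).V => f v) h2
      have h4 : (large H.toCent).act (Subgroup.inclusion hFC y) ((large H.toCent).act (rC H.toCent) v) =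
        (large H.toCent).act (rC H.toCent) ((large H.toCent).act (Subgroup.inclusion hFC y) v) := h3
      rw [h4, hv]
    have hXU : vsub (large H.toCent) (F ⊓ H.Q) ≤ U := by
      rintro _ ⟨q, hq, rfl⟩
      rw [hmemU]
      exact (act_fix_iff _ _ _).2 (Or.inl (hF.2 y y.2 q hq.1))
    have h1 := dim_le_of_outer H.toCent hbC _ _ hUinv hXU hbfix
    rw [hf, hf'] at h1
    have : Module.Finite (ZMod 2) (large H.toCent).V := Module.Finite.of_finite
    have h2 : U = ⊤ := by
      apply Submodule.eq_top_of_finrank_eq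
      have h3 := Submodule.finrank_le U
      rw [dim_V] at h3 ⊢
      omega
    apply hg1
    rw [mem_Q_iff H hF hFC]
    have h3 : (large H.toCent).act (Subgroup.inclusion hFC y) = 1 := by
      ext v
      have : v ∈ U := by rw [h2]; trivial
      exact this
    exact (large H.toCent).mem_of_act _ h3

/-- **The elementary abelian subgroups of order `2^11` containing `z` are the 77 groups `E O`.** -/
theorem ea_unique (hF : IsElem2 F) (hz : H.z ∈ F) (hc : 2 ^ 11 ≤ Nat.card F) :
    ∃ O, IsHex O ∧ F = H.E O := by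
  have hFC := le_CC H hF hz
  obtain ⟨f, hf6, hf, hfc⟩ := card_inf_Q H hF hz
  have hcard := card_F H hF hFC
  have hSM : ∀ g ∈ (PF H hFC).range, g ∈ M22d := by
    rintro _ ⟨x, rfl⟩
    rw [← H.P_range]
    exact ⟨_, rfl⟩
  have hSel : ∀ g ∈ (PF H hFC).range, g * g = 1 := by
    rintro _ ⟨x, rfl⟩
    rw [← map_mul]
    have : x * x = 1 := Subtype.ext (hF.1 x x.2)
    rw [this, map_one]
  have hS2 : IsPGroup 2 (PF H hFC).range := by
    intro g
    refine ⟨1, ?_⟩
    rw [pow_one, pow_two]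
    exact Subtype.ext (hSel _ g.2)
  obtain ⟨O, hO, hSO⟩ := exists_hexad _ (fun g hg => (base_cases (hSM g hg)).1) hS2
    (fun g hg => (base_cases (hSM g hg)).2)
  rw [isHexad_iff] at hO
  have hnone : ∀ g ∈ (PF H hFC).range, g none = none := by
    rintro _ ⟨x, rfl⟩
    exact no_outer H hF hz hFC hc x
  have hzero : ∀ g ∈ (PF H hFC).range, g (some 0) = some 0 := by
    intro g hg
    rcases (base_cases (hSM g hg)).2 with h | h
    · exact h.2
    · exact absurd (h.1.symm.trans (hnone g hg)) (by decide)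
  have hS16 : Nat.card (PF H hFC).range ≤ 16 :=
    card_le _ (fun g hg => (base_cases (hSM g hg)).1) hSel hnone
  have hSK := card_le_four_mul _ (fun g hg => (base_cases (hSM g hg)).1) hSel hO.1 hSO
    (hO.2 (show (none : GolayPt) ∈ base by decide)) (hO.2 (show (some 0 : GolayPt) ∈ base by decide))
    (by decide) hnone hzero
  have hf' : f = 6 := by
    by_contra h
    have h1 : 2 ^ (f + 1) ≤ 2 ^ 6 := Nat.pow_le_pow_right (by norm_num) (by omega)
    have h2 := Nat.mul_le_mul h1 hS16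
    rw [← hfc, ← hcard] at h2
    omega
  have hK : 4 ≤ Nat.card ((PF H hFC).range ⊓ fixOct O : Subgroup (Equiv.Perm GolayPt)) := by
    rw [hcard, hfc, hf'] at hc
    omega
  obtain ⟨x, y, hx, hy, hx1, hy1, hxy⟩ := exists_two H hFC le_rfl hK
  have hle := inf_le H hF hFC hO hx hy hx1 hy1 hxy
  have heq : F ⊓ H.Q = H.E O ⊓ H.Q := by
    apply Subgroup.eq_of_le_of_card_ge (le_inf hle inf_le_right)
    rw [H.A_card O hO, hfc, hf']
  have hFE : F ≤ H.E O := by
    intro g hg
    refine H.A_cent O hO g fun a haE haQ => ?_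
    have : a ∈ F ⊓ H.Q := by rw [heq]; exact ⟨haE, haQ⟩
    exact hF.2 g hg a this.1
  refine ⟨O, hO, Subgroup.eq_of_le_of_card_ge hFE ?_⟩
  rw [H.E_card O hO]
  exact hc

end

end Cfsg.Agent.J4Type.FusionEA
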