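import Mathlib

/-!
# A 2-group normalised by an element of order 5, on 6 points (R07, helper180)
-/

set_option autoImplicit false

namespace Cfsg.Agent.J4Type.FusionFive

open MulAction

/-- A 2-group of permutations preserving a set of six points and normalised by an element of order
five acting nontrivially on it, is trivial on it. -/
theorem six_fix {α : Type*} [DecidableEq α] (B : Subgroup (Equiv.Perm α)) (hB : IsPGroup 2 B)
    (σ : Equiv.Perm α) (hσ5 : σ ^ 5 = 1) (S : Finset α) (hS : S.card = 6)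
    (hBS : ∀ b ∈ B, ∀ x ∈ S, b x ∈ S) (hσS : ∀ x ∈ S, σ x ∈ S) (hσ1 : ∃ x ∈ S, σ x ≠ x)
    (hnorm : ∀ b ∈ B, σ⁻¹ * b * σ ∈ B) : ∀ b ∈ B, ∀ x ∈ S, b x = x := by
  classical
  obtain ⟨p, hpS, hp⟩ := hσ1
  have hper : Function.minimalPeriod σ p = 5 := by
    have : Fact (Nat.Prime 5) := ⟨by norm_num⟩
    apply Function.minimalPeriod_eq_prime
    · show (σ : α → α)^[5] p = p
      rw [Equiv.Perm.iterate_eq_pow, hσ5]; rfl
    · intro h; exact hp h
  have hpow : ∀ n, (σ ^ n) p ∈ S := by
    intro n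
    induction n with
    | zero => simpa using hpS
    | succ n ih => rw [pow_succ', Equiv.Perm.mul_apply]; exact hσS _ ih
  set O5 : Finset α := (Finset.range 5).image (fun i => (σ ^ i) p) with hO5
  have hO5c : O5.card = 5 := by
    rw [hO5, Finset.card_image_of_injOn, Finset.card_range]
    intro i hi j hj hij
    have h1 := Function.iterate_injOn_Iio_minimalPeriod (f := σ) (x := p)
    rw [hper] at h1
    apply h1 (by simpa using hi) (by simpa using hj)
    simpa [Equiv.Perm.iterate_eq_pow] using hij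
  have hO5S : O5 ⊆ S := by
    intro x hx
    rw [hO5, Finset.mem_image] at hx
    obtain ⟨i, -, rfl⟩ := hx
    exact hpow i
  have hmem5 : ∀ n, (σ ^ n) p ∈ O5 := by
    intro n
    rw [hO5, Finset.mem_image]
    refine ⟨n % 5, Finset.mem_range.2 (Nat.mod_lt _ (by norm_num)), ?_⟩
    have : σ ^ n = σ ^ (n % 5) := by
      conv_lhs => rw [← Nat.mod_add_div n 5, pow_add, pow_mul, hσ5, one_pow, mul_one]
    rw [this]
  have hdiff : (S \ O5).card = 1 := by
    rw [Finset.card_sdiff_of_subset hO5S, hS, hO5c]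
  obtain ⟨r, hr⟩ := Finset.card_eq_one.1 hdiff
  have hrS : r ∈ S ∧ r ∉ O5 := by
    have : r ∈ S \ O5 := by rw [hr]; exact Finset.mem_singleton_self r
    exact Finset.mem_sdiff.1 this
  have hcases : ∀ x ∈ S, x = r ∨ ∃ n, x = (σ ^ n) p := by
    intro x hx
    by_cases h5 : x ∈ O5
    · right
      rw [hO5, Finset.mem_image] at h5
      obtain ⟨i, -, rfl⟩ := h5
      exact ⟨i, rfl⟩
    · left
      have : x ∈ S \ O5 := Finset.mem_sdiff.2 ⟨hx, h5⟩
      rw [hr] at this
      exact Finset.mem_singleton.1 this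
  have hσr : σ r = r := by
    rcases hcases (σ r) (hσS r hrS.1) with h1 | ⟨n, h1⟩
    · exact h1
    · exfalso
      apply hrS.2
      have h2 : r = (σ ^ (n + 4)) p := by
        have h3 : (σ ^ 4) (σ r) = r := by
          rw [← Equiv.Perm.mul_apply, ← pow_succ, hσ5]; rfl
        rw [← h3, h1, ← Equiv.Perm.mul_apply, ← pow_add, add_comm]
      rw [h2]; exact hmem5 _
  -- a `σ`-closed predicate holding at one `σ ^ n p` holds at all
  have hclosed : ∀ (T : α → Prop), (∀ x, T x → T (σ x)) → ∀ n, T ((σ ^ n) p) →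
      ∀ m, T ((σ ^ m) p) := by
    intro T hT n hn m
    have h1 : ∀ k, T ((σ ^ k) ((σ ^ n) p)) := by
      intro k
      induction k with
      | zero => simpa using hn
      | succ k ih => rw [pow_succ', Equiv.Perm.mul_apply]; exact hT _ ih
    have h2 := h1 (m + 4 * n)
    rw [← Equiv.Perm.mul_apply, ← pow_add] at h2
    have h3 : σ ^ (m + 4 * n + n) = σ ^ m := by
      rw [show m + 4 * n + n = m + 5 * n by ring, pow_add, pow_mul, hσ5, one_pow, mul_one]
    rwa [h3] at h2
  -- action on `S`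
  letI act : MulAction B {x // x ∈ S} :=
    { smul := fun b x => ⟨b.1 x.1, hBS b.1 b.2 x.1 x.2⟩
      one_smul := fun x => Subtype.ext rfl
      mul_smul := fun a b x => Subtype.ext rfl }
  have hsmul : ∀ (b : B) (x : {x // x ∈ S}), ((b • x : {x // x ∈ S}) : α) = b.1 x.1 :=
    fun _ _ => rfl
  have hcardS : Nat.card {x // x ∈ S} = 6 := by
    rw [Nat.card_eq_fintype_card, Fintype.card_coe, hS]
  -- `B` fixes `r`
  have hfixr : ∀ b ∈ B, b r = r := by
    by_contra hcon
    push Not at hcon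
    obtain ⟨b, hb, hbr⟩ := hcon
    have hT : ∀ x, (∃ c ∈ B, c r = x) → ∃ c ∈ B, c r = σ x := by
      rintro x ⟨c, hc, rfl⟩
      refine ⟨σ * c * σ⁻¹, ?_, ?_⟩
      · have h4 : ∀ k : ℕ, (σ⁻¹) ^ k * c * σ ^ k ∈ B := by
          intro k
          induction k with
          | zero => simpa using hc
          | succ k ih =>
            have := hnorm _ ih
            have e : σ⁻¹ * ((σ⁻¹) ^ k * c * σ ^ k) * σ = (σ⁻¹) ^ (k + 1) * c * σ ^ (k + 1) := by
              rw [pow_succ' (σ⁻¹) k, pow_succ σ k]; simp only [mul_assoc]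
            rwa [e] at this
        have h5 := h4 4
        have e1 : (σ⁻¹) ^ 4 = σ := by
          have : σ ^ 4 * σ = 1 := by rw [← pow_succ, hσ5]
          rw [inv_pow]
          exact (eq_inv_of_mul_eq_one_right this).symm
        have e2 : σ ^ 4 = σ⁻¹ := by
          have : σ ^ 4 * σ = 1 := by rw [← pow_succ, hσ5]
          exact eq_inv_of_mul_eq_one_left this
        rwa [e1, e2] at h5
      · rw [Equiv.Perm.mul_apply, Equiv.Perm.mul_apply]
        have : σ⁻¹ r = r := by
          rw [Equiv.Perm.inv_eq_iff_eq]; exact hσr.symm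
        rw [this]
    have hall : ∀ x : {x // x ∈ S}, x ∈ orbit B (⟨r, hrS.1⟩ : {x // x ∈ S}) := by
      intro x
      have hx : ∃ c ∈ B, c r = x.1 := by
        rcases hcases x.1 x.2 with h1 | ⟨n, h1⟩
        · exact ⟨1, B.one_mem, h1.symm⟩
        · rw [h1]
          rcases hcases (b r) (hBS b hb r hrS.1) with h2 | ⟨m, h2⟩
          · exact absurd h2 hbr
          · exact hclosed (fun y => ∃ c ∈ B, c r = y) hT m ⟨b, hb, h2⟩ n
      obtain ⟨c, hc, hcx⟩ := hx
      exact ⟨⟨c, hc⟩, Subtype.ext hcx⟩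
    obtain ⟨n, hn⟩ := hB.card_orbit (⟨r, hrS.1⟩ : {x // x ∈ S})
    have huniv : orbit B (⟨r, hrS.1⟩ : {x // x ∈ S}) = Set.univ := Set.eq_univ_of_forall hall
    rw [huniv, Nat.card_coe_set_eq, Set.ncard_univ, hcardS] at hn
    rcases Nat.lt_or_ge n 3 with h3 | h3
    · interval_cases n <;> omega
    · have : 2 ^ 3 ≤ 2 ^ n := Nat.pow_le_pow_right (by norm_num) h3
      omega
  -- parity
  have hmod := hB.card_modEq_card_fixedPoints {x // x ∈ S}
  rw [hcardS] at hmod
  have hrfix : (⟨r, hrS.1⟩ : {x // x ∈ S}) ∈ fixedPoints B {x // x ∈ S} := by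
    intro b
    exact Subtype.ext (hfixr b.1 b.2)
  have hexist : ∃ x ∈ fixedPoints B {x // x ∈ S}, x ≠ ⟨r, hrS.1⟩ := by
    by_contra hcon
    push Not at hcon
    have : fixedPoints B {x // x ∈ S} = {⟨r, hrS.1⟩} := by
      ext x
      constructor
      · intro hx; exact hcon x hx
      · rintro rfl; exact hrfix
    rw [this] at hmod
    simp only [Nat.card_unique] at hmod
    exact absurd hmod (by decide)
  obtain ⟨x, hx, hxr⟩ := hexist
  have hxr' : (x : α) ≠ r := fun h => hxr (Subtype.ext h)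
  obtain ⟨n, hn⟩ := (hcases x.1 x.2).resolve_left hxr'
  have hTfix : ∀ y, (∀ b ∈ B, b y = y) → ∀ b ∈ B, b (σ y) = σ y := by
    intro y hy b hb
    have h1 := hy _ (hnorm b hb)
    rw [Equiv.Perm.mul_apply, Equiv.Perm.mul_apply, Equiv.Perm.inv_eq_iff_eq] at h1
    exact h1
  have hfixn : ∀ m, ∀ b ∈ B, b ((σ ^ m) p) = (σ ^ m) p :=
    hclosed (fun y => ∀ b ∈ B, b y = y) hTfix n (by
      rw [← hn]
      intro b hb
      exact congrArg Subtype.val (hx ⟨b, hb⟩))
  intro b hb y hy
  rcases hcases y hy with h1 | ⟨m, h1⟩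
  · rw [h1]; exact hfixr b hb
  · rw [h1]; exact hfixn m b hb

end Cfsg.Agent.J4Type.FusionFive
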