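import Cfsg.Agent.J4Type.HexMax
import Cfsg.Agent.SporadicStructure.OctadStabFinal

/-!
# Facts on `M24` for the fusion part of the `J4` recognition (R07, helper180)
-/

set_option autoImplicit false

open scoped Pointwise

namespace Cfsg.Agent.J4Type.FusionM24

open Cfsg Cfsg.Agent.J4Type Cfsg.Agent.SporadicA.GolayBase Cfsg.Agent.SporadicA.GolayPerm
  Cfsg.Agent.J4Type.HexMax

theorem mem_iff_of_smul_eq {g : Equiv.Perm GolayPt} {o : Finset GolayPt} (h : g • o = o)
    (x : GolayPt) : g x ∈ o ↔ x ∈ o := by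
  have h1 := mem_smul_iff g o x
  rwa [h] at h1

/-- An element of `M24` stabilising an octad and fixing six of its points fixes it pointwise. -/
theorem fix_octad_of_six {g : Equiv.Perm GolayPt} (hg : g ∈ M24) {o : Finset GolayPt}
    (ho : o ∈ octads) (hgo : g • o = o) {s : Finset GolayPt} (hs : s ⊆ o) (h6 : s.card = 6)
    (hfix : ∀ z ∈ s, g z = z) : ∀ z ∈ o, g z = z := by
  obtain ⟨p, hp⟩ : ∃ p : GolayPt, p ∉ o := by
    by_contra hcon
    push Not at hcon
    have h1 : o = Finset.univ := Finset.eq_univ_iff_forall.2 hcon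
    have h2 := octad_card ho
    rw [h1, Finset.card_univ, card24] at h2
    omega
  have H := Cfsg.Agent.SporadicStructure.OctadStabFinal.hyp ho hp
  obtain ⟨k, hk, hko, hkg⟩ := Cfsg.Agent.SporadicStructure.OctadStabAbs.exists_mul_mem_L H g hg
    (mem_iff_of_smul_eq hgo)
  obtain ⟨h1, h2, h3⟩ := Cfsg.Agent.SporadicStructure.OctadStabAbs.mem_L.1 hkg
  have h4 : k * g = 1 := H.hR _ h1 h2 h3 s hs h6 (by
    intro z hz
    rw [Equiv.Perm.mul_apply, hfix z hz, hko z (hs hz)])
  intro z hz
  have h5 : g = k⁻¹ := eq_inv_of_mul_eq_one_right h4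
  rw [h5, Equiv.Perm.inv_eq_iff_eq]
  exact (hko z hz).symm

/-- the images of a permutation of order five in `M22`, fixing `hex0` -/
def P5 : ℕ := pack [0, 21, 2, 3, 10, 4, 11, 14, 18, 19, 6, 5, 15, 17, 9, 1, 13, 8, 16, 20, 7, 22,
  12, 23]

theorem isPerm_P5 : isPerm P5 = true := by decide +kernel

theorem isAut_P5 : isAut P5 = true := by decide +kernel

theorem exists_order_five : ∃ g ∈ M22d, g • hex0 = hex0 ∧ g ^ 5 = 1 ∧ g ≠ 1 := by
  refine ⟨permOf P5 isPerm_P5, ⟨permOf_mem_M24 isPerm_P5 isAut_P5, ?_⟩, ?_, ?_, ?_⟩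
  · show permOf P5 isPerm_P5 • base = base
    have h1 : base = fin 8388609 := by decide +kernel
    rw [h1, smul_fin]
    have : pimg P5 8388609 = 8388609 := by decide +kernel
    rw [this]
  · have h1 : hex0 = fin 8391797 := by decide +kernel
    rw [h1, smul_fin]
    have : pimg P5 8391797 = 8391797 := by decide +kernel
    rw [this]
  · ext1 p
    simp only [pow_succ, pow_zero, one_mul, Equiv.Perm.mul_apply, permOf_apply,
      Equiv.Perm.one_apply]
    revert p
    decide +kernel
  · intro h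
    have h1 : permOf P5 isPerm_P5 (some 1) = some 1 := by rw [h]; rfl
    rw [permOf_apply] at h1
    exact absurd h1 (by decide +kernel)

end Cfsg.Agent.J4Type.FusionM24
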