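import Cfsg.Agent.J4Type.FusionHex
import Cfsg.Agent.J4Type.FusionM24
import Cfsg.Agent.J4Type.FusionFive
import Cfsg.Agent.J4Type.Conj
import Cfsg.Agent.LargeExtra.Base

/-!
# Conjugates of `z` in `E` (R07 J4 type, helper180)

For a conjugate `t = g z g⁻¹ ≠ z` of `z` in `Q`: `t` lies in some `E O`; `Q` and `Q^g` normalise `E O`; `z` and
`t` are conjugate in `N_G(E O)`; no element of order 5 of `C_G(z) ∩ C_G(t)` normalises `E O`.
-/

set_option autoImplicit false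

open scoped Pointwise

namespace Cfsg.Agent.J4Type.FusionMain

open Cfsg Cfsg.Agent.J4Type Cfsg.Agent.Co2Type.Quad Cfsg.Agent.J4Type.FusionOne
  Cfsg.Agent.J4Type.FusionCent Cfsg.Agent.J4Type.FusionHex Cfsg.Agent.LargeExtra.Base

/-- elementary abelian subgroups of order `≥ 2 ^ 5` of `M22:2` -/
def FactElem : Prop := ∀ B : Subgroup (Equiv.Perm GolayPt), B ≤ M22d → IsElem2 B →
  2 ^ 5 ≤ Nat.card B → ∃ O, IsHex O ∧ ∃ b ∈ B, ∃ b' ∈ B, b ≠ 1 ∧ b' ≠ 1 ∧ b ≠ b' ∧
    ∀ p ∈ O, b p = p ∧ b' p = p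

/-- the elementary abelian subgroups of order `2 ^ 11` containing `z` -/
def FactEA (G : Type*) [Group G] : Prop := ∀ (H : Hex G) (F : Subgroup G), IsElem2 F → H.z ∈ F →
  2 ^ 11 ≤ Nat.card F → ∃ O, IsHex O ∧ F = H.E O

section isotropic

variable {G : Type*} [Group G] {Q : Subgroup G} {z : G}

theorem card_isotropic [Finite G] (h : Large Q z) (W : Submodule (ZMod 2) h.V)
    (hW : ∀ v ∈ W, ∀ w ∈ W, h.b v w = 0) : Nat.card W * Nat.card W ≤ Nat.card h.V := by
  classical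
  have : Module.Finite (ZMod 2) h.V := Module.Finite.of_finite
  let f : h.V →ₗ[ZMod 2] Module.Dual (ZMod 2) W := W.dualRestrict.comp h.b
  have hf : Function.Surjective f := by
    intro φ
    obtain ⟨ψ, hψ⟩ := Subspace.dualRestrict_surjective (W := W) φ
    obtain ⟨v, hv⟩ := h.exists_b_eq ψ
    refine ⟨v, ?_⟩
    rw [← hψ]
    show W.dualRestrict (h.b v) = W.dualRestrict ψ
    congr 1
    ext w; exact hv w
  have hker : W ≤ LinearMap.ker f := by
    intro v hv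
    rw [LinearMap.mem_ker]
    ext w
    exact hW v hv w w.2
  have h1 : Nat.card h.V = Nat.card (LinearMap.ker f) * Nat.card (Module.Dual (ZMod 2) W) := by
    rw [Submodule.card_eq_card_quotient_mul_card (LinearMap.ker f),
      Nat.card_congr (f.quotKerEquivOfSurjective hf).toEquiv]
  have h2 : Nat.card (Module.Dual (ZMod 2) W) = Nat.card W := by
    rw [Module.natCard_eq_pow_finrank (K := ZMod 2) (V := Module.Dual (ZMod 2) W),
      Subspace.dual_finrank_eq, ← Module.natCard_eq_pow_finrank]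
  have h3 : Nat.card W ≤ Nat.card (LinearMap.ker f) :=
    Nat.card_le_card_of_injective (Submodule.inclusion hker) (Submodule.inclusion_injective hker)
  rw [h1, h2]
  exact Nat.mul_le_mul_right _ h3

/-- image in `V` of a subgroup of `Q` -/
def im (h : Large Q z) (D : Subgroup G) (hD : D ≤ Q) : Submodule (ZMod 2) h.V where
  carrier := {v | ∃ (d : G) (hd : d ∈ D), h.pr ⟨d, hD hd⟩ = v}
  zero_mem' := ⟨1, one_mem _, h.pr_one⟩
  add_mem' := by
    rintro _ _ ⟨d, h1, rfl⟩ ⟨e, h3, rfl⟩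
    exact ⟨d * e, mul_mem h1 h3, h.pr_mul ⟨d, hD h1⟩ ⟨e, hD h3⟩⟩
  smul_mem' := by
    rintro c _ ⟨d, h1, rfl⟩
    have hc : c = 0 ∨ c = 1 := by revert c; decide
    rcases hc with rfl | rfl
    · exact ⟨1, one_mem _, by rw [zero_smul]; exact h.pr_one⟩
    · exact ⟨d, h1, by rw [one_smul]⟩

theorem card_abelian [Finite G] (h : Large Q z) (D : Subgroup G) (hD : D ≤ Q)
    (hc : ∀ a ∈ D, ∀ b ∈ D, a * b = b * a) :
    Nat.card D * Nat.card D ≤ 4 * Nat.card h.V := by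
  have h1 := card_isotropic h (im h D hD) (by
    rintro _ ⟨a, ha, rfl⟩ _ ⟨b, hb, rfl⟩
    rw [h.b_pr]
    exact hc a ha b hb)
  have h2 : D ≤ pre h (im h D hD) := fun d hd => ⟨hD hd, d, hd, rfl⟩
  have h3 := Subgroup.card_le_of_le h2
  rw [card_pre] at h3
  calc Nat.card D * Nat.card D ≤ (2 * Nat.card (im h D hD)) * (2 * Nat.card (im h D hD)) :=
        Nat.mul_le_mul h3 h3
    _ = 4 * (Nat.card (im h D hD) * Nat.card (im h D hD)) := by ring
    _ ≤ _ := Nat.mul_le_mul_left _ h1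

end isotropic

variable {G : Type*} [Group G] (H : Hex G)

theorem Q_norm {O : Finset GolayPt} (hO : IsHex O) {c : G} (hc : c ∈ H.Q) (a : G) :
    a ∈ H.E O ↔ c * a * c⁻¹ ∈ H.E O := by
  have h1 := H.E_conj O hO ⟨c, H.Q_le hc⟩ a
  rw [P_of_mem_Q H.toCent _ hc, one_smul] at h1
  exact h1

/-- elements of `C` normalising `E O` fix `O` -/
theorem smul_eq_of_norm [Finite G] {O : Finset GolayPt} (hO : IsHex O)
    (c : Subgroup.centralizer ({H.z} : Set G))
    (hc : ∀ a ∈ H.E O, (c : G) * a * (c : G)⁻¹ ∈ H.E O) : H.P c • O = O := by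
  by_contra hne
  have hO' : IsHex (H.P c • O) := HexMax.smul_isHex (P_mem H.toCent c) hO
  have h1 : H.E O ≤ H.Q := by
    intro a ha
    have h2 : (c : G) * a * (c : G)⁻¹ ∈ H.Q := by
      apply H.E_inf O _ hO hO' (Ne.symm hne)
      exact Subgroup.mem_inf.2 ⟨hc a ha, (H.E_conj O hO c a).1 ha⟩
    have hcz : (c : G)⁻¹ * H.z = H.z * (c : G)⁻¹ :=
      (mem_cent H.toCent).1 (Subgroup.inv_mem _ c.2)
    have h3 := H.Q_conj _ hcz _ h2
    have e : (c : G)⁻¹ * ((c : G) * a * (c : G)⁻¹) * ((c : G)⁻¹)⁻¹ = a := by group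
    rwa [e] at h3
  have h2 := H.A_card O hO
  rw [inf_eq_left.2 h1, H.E_card O hO] at h2
  norm_num at h2

/-! ### the pair -/

section pair

variable {g : G}

/-- `Q ^ g` -/
abbrev Qg (H : Hex G) (g : G) : Subgroup G := H.Q.map (MulAut.conj g).toMonoidHom

theorem card_Qg : Nat.card (Qg H g) = 2 ^ 13 := by
  rw [← H.Q_card]
  exact Nat.card_congr (H.Q.equivMapOfInjective _ (MulAut.conj g).injective).symm.toEquiv

/-- `C_{Q^g}(z)` -/
abbrev Xg (H : Hex G) (g : G) : Subgroup G := Qg H g ⊓ Subgroup.centralizer {H.z}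

theorem card_Xg [Finite G] (p : Pair H.Q H.z (Qg H g) (g * H.z * g⁻¹)) :
    2 ^ 12 ≤ Nat.card (Xg H g) := by
  have h1 := card_le_two_mul (Qg H g) (Subgroup.centralizer {H.z}) (by
    intro a ha b hb haz hbz
    rw [Subgroup.mem_centralizer_singleton_iff] at haz hbz ⊢
    have ha' := (p.la.comm a ha H.z p.z_mem).resolve_left haz
    have hb' := (p.la.comm b hb H.z p.z_mem).resolve_left hbz
    set t := g * H.z * g⁻¹ with ht
    have hta : a⁻¹ * t = t * a⁻¹ := p.la.comm_z _ (inv_mem ha)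
    have htb : a⁻¹ * b * t = t * (a⁻¹ * b) := p.la.comm_z _ (mul_mem (inv_mem ha) hb)
    have e1 : a⁻¹ * H.z = H.z * t * a⁻¹ := by
      rw [inv_mul_eq_iff_eq_mul]
      calc H.z = H.z * (a * a⁻¹) * (t * t) := by rw [p.la.z_sq]; group
        _ = H.z * a * (a⁻¹ * t) * t := by group
        _ = H.z * a * (t * a⁻¹) * t := by rw [hta]
        _ = (H.z * a * t) * (a⁻¹ * t) := by group
        _ = (a * H.z) * (t * a⁻¹) := by rw [ha', hta]
        _ = a * (H.z * t * a⁻¹) := by group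
    calc a⁻¹ * b * H.z = a⁻¹ * (b * H.z) := by group
      _ = (a⁻¹ * H.z) * b * t := by rw [hb']; group
      _ = H.z * t * (a⁻¹ * b * t) := by rw [e1]; group
      _ = H.z * t * (t * (a⁻¹ * b)) := by rw [htb]
      _ = H.z * (t * t) * (a⁻¹ * b) := by group
      _ = H.z * (a⁻¹ * b) := by rw [p.la.z_sq, mul_one])
  rw [card_Qg] at h1
  have h2 : (2 : ℕ) ^ 13 = 2 * 2 ^ 12 := by norm_num
  show 2 ^ 12 ≤ Nat.card (Qg H g ⊓ Subgroup.centralizer {H.z} : Subgroup G)
  omega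

theorem card_Dg [Finite G] (p : Pair H.Q H.z (Qg H g) (g * H.z * g⁻¹)) :
    Nat.card (H.Q ⊓ Qg H g : Subgroup G) ≤ 2 ^ 7 := by
  have h1 := card_abelian (large H.toCent) (H.Q ⊓ Qg H g) inf_le_left (by
    intro a ha b hb
    exact p.comm_D (Subgroup.mem_inf.1 ha).1 (Subgroup.mem_inf.1 ha).2
      (Subgroup.mem_inf.1 hb).1 (Subgroup.mem_inf.1 hb).2)
  rw [card_V] at h1
  by_contra h2
  have h3 : 2 ^ 7 + 1 ≤ Nat.card (H.Q ⊓ Qg H g : Subgroup G) := by omega
  have h4 := Nat.mul_le_mul h3 h3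
  have h5 : (4 : ℕ) * 2 ^ 12 < (2 ^ 7 + 1) * (2 ^ 7 + 1) := by norm_num
  omega

/-- the homomorphism `P` on `C_{Q^g}(z)` -/
def fg (H : Hex G) (g : G) : Xg H g →* Equiv.Perm GolayPt :=
  H.P.comp (Subgroup.inclusion inf_le_right)

theorem fg_apply (x : Xg H g) : fg H g x = H.P ⟨x, (Subgroup.mem_inf.1 x.2).2⟩ := rfl

theorem card_range_fg [Finite G] (p : Pair H.Q H.z (Qg H g) (g * H.z * g⁻¹)) :
    2 ^ 5 ≤ Nat.card (fg H g).range := by
  have hker : Nat.card (fg H g).ker ≤ Nat.card (H.Q ⊓ Qg H g : Subgroup G) := by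
    let F : (fg H g).ker → (H.Q ⊓ Qg H g : Subgroup G) := fun x => ⟨((x : Xg H g) : G), by
      have hx := (Subgroup.mem_inf.1 (x : Xg H g).2)
      refine Subgroup.mem_inf.2 ⟨?_, hx.1⟩
      have h1 : H.P ⟨((x : Xg H g) : G), hx.2⟩ = 1 := x.2
      refine mem_Q_of_pow H.toCent ⟨((x : Xg H g) : G), hx.2⟩ h1 (n := 4) (by norm_num) ?_
      have h4 : (((x : Xg H g) : G) * ((x : Xg H g) : G)) * (((x : Xg H g) : G) * ((x : Xg H g) : G)) = 1 := by
        rcases p.la.sq _ hx.1 with h2 | h2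
        · rw [h2, mul_one]
        · rw [h2, p.la.z_sq]
      rw [← pow_two, ← pow_two, ← pow_mul] at h4
      show ((x : Xg H g) : G) ^ 4 ∈ H.Q
      rw [show (4 : ℕ) = 2 * 2 from rfl, h4]
      exact H.Q.one_mem⟩
    apply Nat.card_le_card_of_injective F
    intro x y hxy
    apply Subtype.ext
    apply Subtype.ext
    exact congrArg (fun w : (H.Q ⊓ Qg H g : Subgroup G) => (w : G)) hxy
  have h1 := Subgroup.card_mul_index (fg H g).ker
  rw [Subgroup.index_ker] at h1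
  have h2 := card_Xg H p
  have h3 := card_Dg H p
  by_contra h4
  have h5 : Nat.card (fg H g).range ≤ 2 ^ 5 - 1 := by omega
  have h6 := Nat.mul_le_mul (hker.trans h3) h5
  have h7 : (2 : ℕ) ^ 7 * (2 ^ 5 - 1) < 2 ^ 12 := by norm_num
  omega

theorem fg_t (p : Pair H.Q H.z (Qg H g) (g * H.z * g⁻¹)) {x : Xg H g}
    (hx : (x : G) = 1 ∨ (x : G) = g * H.z * g⁻¹) : fg H g x = 1 := by
  rw [fg_apply]
  apply P_of_mem_Q
  rcases hx with h1 | h1
  · show (x : G) ∈ H.Q
    rw [h1]; exact H.Q.one_mem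
  · show (x : G) ∈ H.Q
    rw [h1]; exact p.a_mem

theorem range_elem (p : Pair H.Q H.z (Qg H g) (g * H.z * g⁻¹)) : IsElem2 (fg H g).range := by
  constructor
  · rintro _ ⟨x, rfl⟩
    rw [← map_mul]
    exact fg_t H p (p.la.sq _ (Subgroup.mem_inf.1 x.2).1)
  · rintro _ ⟨x, rfl⟩ _ ⟨y, rfl⟩
    have h1 : fg H g ((y * x)⁻¹ * (x * y)) = 1 := by
      apply fg_t H p
      rcases p.la.comm _ (Subgroup.mem_inf.1 x.2).1 _ (Subgroup.mem_inf.1 y.2).1 with h2 | h2
      · left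
        show ((y : G) * x)⁻¹ * (x * y) = 1
        rw [h2, inv_mul_cancel]
      · right
        show ((y : G) * x)⁻¹ * (x * y) = _
        rw [h2]; group
    rw [map_mul, map_inv, inv_mul_eq_one, map_mul, map_mul] at h1
    exact h1.symm

theorem range_le : (fg H g).range ≤ M22d := by
  rintro _ ⟨x, rfl⟩
  exact P_mem H.toCent _

/-- **Step 2**: `t` lies in some `E O`. -/
theorem exists_hex [Finite G] (hel : FactElem) (p : Pair H.Q H.z (Qg H g) (g * H.z * g⁻¹)) :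
    ∃ O, IsHex O ∧ g * H.z * g⁻¹ ∈ H.E O := by
  obtain ⟨O, hO, b, ⟨x, hx⟩, b', ⟨x', hx'⟩, hb, hb', hbb, hfix⟩ :=
    hel _ (range_le H) (range_elem H p) (card_range_fg H p)
  refine ⟨O, hO, ?_⟩
  set t := g * H.z * g⁻¹ with ht
  have key : ∀ (x : Xg H g) (b : Equiv.Perm GolayPt), fg H g x = b → (∀ p ∈ O, b p = p) → b ≠ 1 →
      ∃ a : Subgroup.centralizer ({H.z} : Set G), (a : G) ∈ H.E O ∧ H.P a = b ∧ (a : G) ∉ H.Q ∧
        ((a : G) * t = t * a ∨ (a : G) * t = H.z * (t * a)) := by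
    intro x b hxb hfix hb1
    have hbM : b ∈ M24 := by
      rw [← hxb]; exact (range_le H ⟨x, rfl⟩).1
    obtain ⟨a, ha, hPa⟩ := (H.E_map O hO b).2 ⟨hbM, hfix⟩
    have hxX := Subgroup.mem_inf.1 x.2
    have hd : ((⟨x, hxX.2⟩ : Subgroup.centralizer ({H.z} : Set G)) : G) * (a : G)⁻¹ ∈ H.Q := by
      apply div_mem_Q H.toCent
      · rw [hPa, ← hxb]; rfl
      · rw [hPa]; exact hfix _ (hO.2 (by simp [base]))
      · rcases p.la.sq _ hxX.1 with h1 | h1
        · show (x : G) * x ∈ H.Q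
          rw [h1]; exact H.Q.one_mem
        · show (x : G) * x ∈ H.Q
          rw [h1]; exact p.a_mem
      · rw [(H.E_elem O hO).1 a ha]; exact H.Q.one_mem
    refine ⟨a, ha, hPa, ?_, ?_⟩
    · intro haQ
      apply hb1
      rw [← hPa]
      exact P_of_mem_Q H.toCent _ haQ
    · -- `a = q⁻¹ x`
      have hd' : (x : G) * (a : G)⁻¹ ∈ H.Q := hd
      have hq : ((x : G) * (a : G)⁻¹)⁻¹ ∈ H.Q := H.Q.inv_mem hd'
      have hax : (a : G) = ((x : G) * (a : G)⁻¹)⁻¹ * x := by group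
      have hxt : (x : G) * t = t * x := p.la.comm_z _ hxX.1
      set q := ((x : G) * (a : G)⁻¹)⁻¹ with hqdef
      rcases (large H.toCent).comm q hq t p.a_mem with h1 | h1
      · left
        calc (a : G) * t = q * (x * t) := by rw [hax]; group
          _ = (q * t) * x := by rw [hxt]; group
          _ = t * (q * x) := by rw [h1]; group
          _ = t * a := by rw [← hax]
      · right
        have hz : (t * q) * H.z = H.z * (t * q) :=
          (large H.toCent).comm_z _ (H.Q.mul_mem p.a_mem hq)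
        calc (a : G) * t = q * (x * t) := by rw [hax]; group
          _ = (q * t) * x := by rw [hxt]; group
          _ = (t * q * H.z) * x := by rw [h1]
          _ = H.z * (t * (q * x)) := by rw [hz]; group
          _ = H.z * (t * a) := by rw [← hax]
  obtain ⟨a, ha, hPa, haQ, hat⟩ := key x b hx (fun p hp => (hfix p hp).1) hb
  obtain ⟨a', ha', hPa', haQ', hat'⟩ := key x' b' hx' (fun p hp => (hfix p hp).2) hb'
  refine H.V_inf O hO a ha a' ha' haQ haQ' ?_ t p.a_mem hat hat'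
  intro h1
  have h2 : H.P (a * a') = 1 := P_of_mem_Q H.toCent _ h1
  rw [map_mul, hPa, hPa'] at h2
  apply hbb
  have h3 : b * b = 1 := (range_elem H p).1 b ⟨x, hx⟩
  exact (mul_left_cancel (h3.trans h2.symm))

/-- `Q ^ g` normalises `E O` -/
theorem Qg_norm [Finite G] (hea : FactEA G)
    {O : Finset GolayPt} (hO : IsHex O) (ht : g * H.z * g⁻¹ ∈ H.E O) {c : G} (hc : c ∈ Qg H g)
    (a : G) : a ∈ H.E O ↔ c * a * c⁻¹ ∈ H.E O := by
  obtain ⟨O', hO', he⟩ := hea (H.conj g) (H.E O) (H.E_elem O hO) ht (H.E_card O hO).ge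
  rw [he]
  exact Q_norm (H.conj g) hO' hc a

/-- **Step 4**: `z` and `t` are conjugate in `N_G(E O)` -/
theorem exists_norm_conj [Finite G] (hea : FactEA G) (p : Pair H.Q H.z (Qg H g) (g * H.z * g⁻¹))
    {O : Finset GolayPt} (hO : IsHex O) (ht : g * H.z * g⁻¹ ∈ H.E O) :
    ∃ n : G, (∀ a, a ∈ H.E O ↔ n * a * n⁻¹ ∈ H.E O) ∧ n * H.z * n⁻¹ = g * H.z * g⁻¹ := by
  set t := g * H.z * g⁻¹ with htdef
  have hzt : H.z ≠ t := p.ne.symm
  obtain ⟨y, hy, hy'⟩ := exists_not_comm p.la p.z_mem p.lz.z_ne hzt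
  obtain ⟨q, hq, hq'⟩ := exists_not_comm p.lz p.a_mem p.la.z_ne p.ne
  -- `y z y⁻¹ = z t`, `q t q⁻¹ = t z`
  have h1 : y * H.z * y⁻¹ = H.z * t := by
    rw [hy', mul_assoc H.z y t, p.la.comm_z y hy]; group
  have h2 : q * t * q⁻¹ = t * H.z := by
    rw [hq', mul_assoc t q H.z, p.lz.comm_z q hq]; group
  have h3 : H.z * t = t * H.z := (p.lz.comm_z t p.a_mem).symm
  refine ⟨q⁻¹ * y, ?_, ?_⟩
  · intro a
    rw [Qg_norm H hea hO ht hy a, Q_norm H hO (H.Q.inv_mem hq)]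
    have e : q⁻¹ * (y * a * y⁻¹) * q⁻¹⁻¹ = q⁻¹ * y * a * (q⁻¹ * y)⁻¹ := by group
    rw [e]
  · calc q⁻¹ * y * H.z * (q⁻¹ * y)⁻¹ = q⁻¹ * (y * H.z * y⁻¹) * q := by group
      _ = q⁻¹ * (q * t * q⁻¹) * q := by rw [h1, h3, h2]
      _ = t := by group

/-- **no element of order 5** -/
theorem no_five [Finite G] (hea : FactEA G) (p : Pair H.Q H.z (Qg H g) (g * H.z * g⁻¹))
    {O : Finset GolayPt} (hO : IsHex O) (ht : g * H.z * g⁻¹ ∈ H.E O)
    (c : Subgroup.centralizer ({H.z} : Set G))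
    (hct : (c : G) * (g * H.z * g⁻¹) = (g * H.z * g⁻¹) * c)
    (hcE : ∀ a ∈ H.E O, (c : G) * a * (c : G)⁻¹ ∈ H.E O) (hc5 : (c : G) ^ 5 = 1) : (c : G) = 1 := by
  classical
  set t := g * H.z * g⁻¹ with htdef
  by_contra hc1
  have hc5' : c ^ 5 = 1 := Subtype.ext hc5
  set σ := H.P c with hσ
  have hσ5 : σ ^ 5 = 1 := by rw [hσ, ← map_pow, hc5', map_one]
  have hσ1 : σ ≠ 1 := by
    intro h1
    have h2 := mem_Q_of_pow H.toCent c h1 (n := 5) (by norm_num) (by rw [hc5]; exact H.Q.one_mem)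
    have h4 : ((c : G) * c) * ((c : G) * c) = 1 := by
      rcases H.Q_sq _ h2 with h3 | h3
      · rw [h3, mul_one]
      · rw [h3]; exact p.lz.z_sq
    apply hc1
    calc (c : G) = (c : G) ^ 5 * (((c : G) * c) * ((c : G) * c))⁻¹ := by
          rw [← pow_two, ← pow_two, ← pow_mul]; group
      _ = 1 := by rw [hc5, h4]; group
  have hσM : σ ∈ M22d := P_mem H.toCent c
  have hσO : σ • O = O := smul_eq_of_norm H hO c hcE
  -- `σ` fixes the two base points
  obtain ⟨hσ24, hσb⟩ := mem_M22d hσM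
  have hσb' : σ none = none ∧ σ (some 0) = some 0 := by
    rcases hσb with h1 | ⟨h1, h2⟩
    · exact h1
    · exfalso
      have h3 : (σ ^ 5) none = some 0 := by
        simp only [pow_succ, pow_zero, one_mul, Equiv.Perm.mul_apply, h1, h2]
      rw [hσ5] at h3
      simp at h3
  -- the six points
  set S := O \ base with hS
  have hScard : S.card = 6 := by
    rw [hS, Finset.card_sdiff_of_subset hO.2, HexMax.card_hex hO, HexMax.base_card]
  -- `B` stabilises `O`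
  have hBO : ∀ b ∈ (fg H g).range, b • O = O := by
    rintro _ ⟨x, rfl⟩
    rw [fg_apply]
    apply smul_eq_of_norm H hO
    intro a ha
    exact (Qg_norm H hea hO ht (Subgroup.mem_inf.1 x.2).1 a).1 ha
  have hsub : ∀ g' : Equiv.Perm GolayPt, g' ∈ M22d → g' • O = O → ∀ x ∈ S, g' x ∈ S := by
    intro g' hg' hg'O x hx
    rw [hS, Finset.mem_sdiff] at hx ⊢
    exact ⟨(FusionM24.mem_iff_of_smul_eq hg'O x).2 hx.1,
      fun h => hx.2 ((FusionM24.mem_iff_of_smul_eq (HexMax.smul_base hg') x).1 h)⟩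
  have hσS1 : ∃ x ∈ S, σ x ≠ x := by
    by_contra hcon
    push Not at hcon
    have hfix : ∀ x ∈ O, σ x = x := by
      intro x hx
      by_cases hxb : x ∈ base
      · simp only [base, Finset.mem_insert, Finset.mem_singleton] at hxb
        rcases hxb with rfl | rfl
        · exact hσb'.1
        · exact hσb'.2
      · exact hcon x (Finset.mem_sdiff.2 ⟨hx, hxb⟩)
    obtain ⟨a, ha, hPa⟩ := (H.E_map O hO σ).2 ⟨hσ24, hfix⟩
    have h2 : σ * σ = 1 := by
      rw [← hPa, ← map_mul]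
      have : a * a = 1 := Subtype.ext ((H.E_elem O hO).1 a ha)
      rw [this, map_one]
    apply hσ1
    calc σ = σ ^ 5 * ((σ * σ) * (σ * σ))⁻¹ := by
          rw [← pow_two, ← pow_two, ← pow_mul]; group
      _ = 1 := by rw [hσ5, h2]; group
  have hB2 : IsPGroup 2 (fg H g).range := by
    intro x
    refine ⟨1, Subtype.ext ?_⟩
    have := (range_elem H p).1 x x.2
    show (x : Equiv.Perm GolayPt) ^ (2 ^ 1) = 1
    rw [pow_one, pow_two]; exact this
  have hnorm : ∀ b ∈ (fg H g).range, σ⁻¹ * b * σ ∈ (fg H g).range := by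
    rintro _ ⟨x, rfl⟩
    have hcz : (c : G)⁻¹ * H.z = H.z * (c : G)⁻¹ :=
      (mem_cent H.toCent).1 (Subgroup.inv_mem _ c.2)
    have hct' : (c : G)⁻¹ * t = t * (c : G)⁻¹ := by
      rw [inv_mul_eq_iff_eq_mul, ← mul_assoc, hct, mul_assoc, mul_inv_cancel, mul_one]
    have hx := Subgroup.mem_inf.1 x.2
    have h1 : (c : G)⁻¹ * x * ((c : G)⁻¹)⁻¹ ∈ Xg H g :=
      Subgroup.mem_inf.2 ⟨p.la.conj_mem _ hct' _ hx.1, Subgroup.mul_mem _ (Subgroup.mul_mem _
        (Subgroup.inv_mem _ c.2) hx.2) (Subgroup.inv_mem _ (Subgroup.inv_mem _ c.2))⟩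
    refine ⟨⟨_, h1⟩, ?_⟩
    rw [fg_apply, fg_apply, hσ, ← map_inv, ← map_mul, ← map_mul]
    congr 1
    apply Subtype.ext
    show (c : G)⁻¹ * x * ((c : G)⁻¹)⁻¹ = (c : G)⁻¹ * x * c
    rw [inv_inv]
  have hfixS := FusionFive.six_fix (fg H g).range hB2 σ hσ5 S hScard
    (fun b hb => hsub b (range_le H hb) (hBO b hb)) (hsub σ hσM hσO) hσS1 hnorm
  -- so `B` fixes `O` pointwise
  have hfixO : ∀ b ∈ (fg H g).range, ∀ z ∈ O, b z = z := fun b hb =>
    FusionM24.fix_octad_of_six (range_le H hb).1 hO.1 (hBO b hb) Finset.sdiff_subset hScard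
      (hfixS b hb)
  -- the image of `E O` has order 16
  have h16 : Nat.card (fg H g).range ≤ 2 ^ 4 := by
    let f2 : H.E O →* Equiv.Perm GolayPt := H.P.comp (Subgroup.inclusion (by
      intro a ha
      rw [mem_cent]
      exact (H.E_elem O hO).2 a ha _ (H.z_mem_E O hO)))
    have hr : (fg H g).range ≤ f2.range := by
      intro b hb
      obtain ⟨a, ha, hPa⟩ := (H.E_map O hO b).2 ⟨(range_le H hb).1, hfixO b hb⟩
      exact ⟨⟨a, ha⟩, hPa⟩
    have h1 := Subgroup.card_mul_index f2.ker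
    rw [Subgroup.index_ker, H.E_card O hO] at h1
    have h2 : Nat.card (H.E O ⊓ H.Q : Subgroup G) ≤ Nat.card f2.ker := by
      let F : (H.E O ⊓ H.Q : Subgroup G) → f2.ker := fun x =>
        ⟨⟨x, (Subgroup.mem_inf.1 x.2).1⟩, P_of_mem_Q H.toCent _ (Subgroup.mem_inf.1 x.2).2⟩
      apply Nat.card_le_card_of_injective F
      intro x y hxy
      apply Subtype.ext
      exact congrArg (fun w : f2.ker => ((w : H.E O) : G)) hxy
    rw [H.A_card O hO] at h2
    have h3 := Subgroup.card_le_of_le hr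
    refine h3.trans ?_
    by_contra h4
    have h5 : 2 ^ 4 + 1 ≤ Nat.card f2.range := by omega
    have h6 := Nat.mul_le_mul h2 h5
    have h7 : (2 : ℕ) ^ 11 < 2 ^ 7 * (2 ^ 4 + 1) := by norm_num
    omega
  have h32 := card_range_fg H p
  have : (2 : ℕ) ^ 4 < 2 ^ 5 := by norm_num
  omega

end pair

end Cfsg.Agent.J4Type.FusionMain
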