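import Cfsg.Agent.J4Type.Setup
import Cfsg.Agent.Co2Type.Quad

/-!
# J₄ type, part (b): the space `V = Q / ⟨z⟩` of a `Cent` and its subspaces (R07, helper607)

* `large H : Large H.Q H.z`;
* `vsub h X` : the image of a subgroup `X` in `V`; `card_eq` : `|X| = 2 ^ (dim + 1)` if `z ∈ X ≤ Q`;
* `dim_le_of_abelian` : `X` abelian implies `2 dim ≤ dim V`;
* `bar` : the quotient `C → C/Q`; `eq_mul_of_sq` : an involution `x ∈ C` with `P x = P a`, `a` an inner involution,
  lies in `a Q`;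
* `dim_le_of_outer` : if `b` inverts `ρ` modulo `Q` and centralises `X / z ≤ U / z`, `U` `ρ`-invariant, then
  `2 dim X ≤ dim U`.
-/

set_option autoImplicit false

namespace Cfsg.Agent.J4Type.FusionV

open Cfsg Cfsg.Agent.J4Type Cfsg.Agent.Co2Type.Quad
open Module

/-! ### subspaces of `V` -/

section

variable {G : Type*} [Group G] {Q : Subgroup G} {z : G}

/-- the image of the subgroup `X` in `V = Q / ⟨z⟩` -/
noncomputable def vsub (h : Large Q z) (X : Subgroup G) : Submodule (ZMod 2) h.V :=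
  AddSubgroup.toZModSubmodule 2
    { carrier := {v | ∃ x : Q, (x : G) ∈ X ∧ h.pr x = v}
      zero_mem' := ⟨1, X.one_mem, h.pr_one⟩
      add_mem' := by
        rintro _ _ ⟨x, hx, rfl⟩ ⟨y, hy, rfl⟩
        exact ⟨x * y, X.mul_mem hx hy, h.pr_mul x y⟩
      neg_mem' := by
        rintro _ ⟨x, hx, rfl⟩
        exact ⟨x⁻¹, X.inv_mem hx, h.pr_inv x⟩ }

theorem mem_vsub {h : Large Q z} {X : Subgroup G} {v : h.V} :
    v ∈ vsub h X ↔ ∃ x : Q, (x : G) ∈ X ∧ h.pr x = v := Iff.rfl

theorem pr_mem_vsub {h : Large Q z} {X : Subgroup G} (hzX : z ∈ X) {x : Q} :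
    h.pr x ∈ vsub h X ↔ (x : G) ∈ X := by
  rw [mem_vsub]
  constructor
  · rintro ⟨y, hy, hxy⟩
    rcases h.pr_eq_pr.1 hxy with h1 | h1
    · rwa [← h1]
    · have h2 : (x : G) = y * z := by
        rw [h1, mul_assoc, h.z_sq, mul_one]
      rw [h2]
      exact X.mul_mem hy hzX
  · intro hx
    exact ⟨x, hx, rfl⟩

theorem card_vsub [Finite G] (h : Large Q z) {X : Subgroup G} (hzX : z ∈ X) (hXQ : X ≤ Q) :
    Nat.card X = 2 * Nat.card (vsub h X) := by
  let f : X →* Multiplicative h.V :=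
    { toFun := fun x => Multiplicative.ofAdd (h.pr ⟨x, hXQ x.2⟩)
      map_one' := rfl
      map_mul' := fun x y => rfl }
  have h1 : Nat.card f.ker = 2 := by
    rw [Nat.card_eq_two_iff]
    refine ⟨1, ⟨⟨z, hzX⟩, ?_⟩, ?_, ?_⟩
    · rw [MonoidHom.mem_ker]
      exact congrArg Multiplicative.ofAdd (h.pr_eq_zero.2 (Or.inr rfl))
    · intro he
      apply h.z_ne
      exact (congrArg (fun t : f.ker => ((t : X) : G)) he).symm
    · ext x
      simp only [Set.mem_insert_iff, Set.mem_singleton_iff, Set.mem_univ, iff_true]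
      have h2 : h.pr ⟨(x : X), hXQ (x : X).2⟩ = 0 := Multiplicative.ofAdd.injective x.2
      rcases h.pr_eq_zero.1 h2 with h3 | h3
      · left; exact Subtype.ext (Subtype.ext h3)
      · right; exact Subtype.ext (Subtype.ext h3)
  have h2 : Nat.card f.range = Nat.card (vsub h X) := by
    refine Nat.card_congr
      { toFun := fun v => ⟨Multiplicative.toAdd v.1, ?_⟩
        invFun := fun v => ⟨Multiplicative.ofAdd v.1, ?_⟩
        left_inv := fun v => rfl
        right_inv := fun v => rfl }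
    · obtain ⟨v, x, rfl⟩ := v
      exact ⟨⟨x, hXQ x.2⟩, x.2, rfl⟩
    · obtain ⟨v, x, hx, rfl⟩ := v
      exact ⟨⟨x, hx⟩, rfl⟩
  rw [← Subgroup.card_mul_index f.ker, Subgroup.index_ker, h1, h2]

theorem card_eq [Finite G] (h : Large Q z) {X : Subgroup G} (hzX : z ∈ X) (hXQ : X ≤ Q) :
    Nat.card X = 2 ^ (finrank (ZMod 2) (vsub h X) + 1) := by
  have : Module.Finite (ZMod 2) h.V := Module.Finite.of_finite
  rw [card_vsub h hzX hXQ, Module.natCard_eq_pow_finrank (K := ZMod 2), Nat.card_zmod, pow_succ, mul_comm]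

theorem card_V [Finite G] (h : Large Q z) : Nat.card Q = 2 ^ (finrank (ZMod 2) h.V + 1) := by
  have : Module.Finite (ZMod 2) h.V := Module.Finite.of_finite
  rw [h.card_eq, Module.natCard_eq_pow_finrank (K := ZMod 2), Nat.card_zmod, pow_succ, mul_comm]

/-- an abelian subgroup of `Q` is totally isotropic in `V` -/
theorem dim_le_of_abelian [Finite G] (h : Large Q z) {X : Subgroup G}
    (hab : ∀ a ∈ X, ∀ b ∈ X, a * b = b * a) :
    2 * finrank (ZMod 2) (vsub h X) ≤ finrank (ZMod 2) h.V := by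
  have : Module.Finite (ZMod 2) h.V := Module.Finite.of_finite
  have hle : vsub h X ≤ h.b.orthogonal (vsub h X) := by
    rintro _ ⟨x, hx, rfl⟩
    rw [LinearMap.BilinForm.mem_orthogonal_iff]
    rintro _ ⟨y, hy, rfl⟩
    exact (h.b_pr y x).2 (hab _ hy _ hx)
  have h1 := LinearMap.BilinForm.finrank_add_finrank_orthogonal' (B := h.b) (vsub h X)
  have h2 : (vsub h X ⊓ LinearMap.ker h.b : Submodule (ZMod 2) h.V) = ⊥ := by
    rw [eq_bot_iff]
    rintro v ⟨_, hv⟩
    rw [Submodule.mem_bot]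
    apply h.b_nondeg
    intro w
    have h3 : h.b v = 0 := hv
    rw [h3]
    rfl
  rw [h2, finrank_bot, add_zero] at h1
  have h3 := Submodule.finrank_mono hle
  omega

/-- the action of `c ∈ C(z)` on `V` fixes the image of `q` -/
theorem act_fix_iff (h : Large Q z) (c : Subgroup.centralizer ({z} : Set G)) (q : Q) :
    h.act c (h.pr q) = h.pr q ↔ ((c : G) * q = q * c ∨ (c : G) * q = z * (q * c)) := by
  rw [h.act_pr, h.pr_eq_pr, h.conjQ_coe, mul_inv_eq_iff_eq_mul, mul_inv_eq_iff_eq_mul]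
  refine or_congr_right ?_
  rw [h.comm_z q q.2, mul_assoc z]

end

/-! ### the quotient `C / Q` -/

section

variable {G : Type*} [Group G] (H : Cent G)

theorem z_ne : H.z ≠ 1 := by
  intro h
  have := H.z_order
  rw [h, orderOf_one] at this
  exact absurd this (by norm_num)

theorem z_sq : H.z * H.z = 1 := by
  rw [← pow_two, ← H.z_order]
  exact pow_orderOf_eq_one _

theorem large : Large H.Q H.z where
  z_mem := H.z_mem_Q
  z_ne := z_ne H
  z_sq := z_sq H
  comm_z := fun x hx => Subgroup.mem_centralizer_singleton_iff.1 (H.Q_le hx)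
  conj_mem := H.Q_conj
  sq := H.Q_sq
  comm := by
    intro x hx y hy
    rcases H.Q_comm x hx y hy with h | h
    · exact Or.inl h
    · right
      rw [h]
      have h1 : y * x * H.z = H.z * (y * x) :=
        Subgroup.mem_centralizer_singleton_iff.1 (H.Q_le (H.Q.mul_mem hy hx))
      exact h1.symm
  cent := fun x _ h => H.Q_cent x h
  self := by
    intro g _ h
    rcases H.Q_cent g h with h1 | h1
    · rw [h1]; exact H.Q.one_mem
    · rw [h1]; exact H.z_mem_Q

/-- `C = C_G(z)` -/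
abbrev CC : Subgroup G := Subgroup.centralizer ({H.z} : Set G)

theorem dim_V [Finite G] : finrank (ZMod 2) (large H).V = 12 := by
  have h1 := card_V (large H)
  rw [H.Q_card] at h1
  have h2 := Nat.pow_right_injective (le_refl 2) h1
  omega

instance QC_normal : (H.Q.subgroupOf (CC H)).Normal where
  conj_mem := by
    intro q hq c
    rw [Subgroup.mem_subgroupOf] at hq ⊢
    exact H.Q_conj c (Subgroup.mem_centralizer_singleton_iff.1 c.2) q hq

/-- the projection `C → C / Q` -/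
def bar : CC H →* CC H ⧸ H.Q.subgroupOf (CC H) := QuotientGroup.mk' _

theorem bar_eq_one {c : CC H} : bar H c = 1 ↔ (c : G) ∈ H.Q :=
  (QuotientGroup.eq_one_iff c).trans Subgroup.mem_subgroupOf

theorem act_of_bar_eq {c d : CC H} (h : bar H c = bar H d) : (large H).act c = (large H).act d := by
  have h1 : bar H (c⁻¹ * d) = 1 := by rw [map_mul, map_inv, h, inv_mul_cancel]
  have h2 := (large H).act_mem _ ((bar_eq_one H).1 h1)
  rw [map_mul, map_inv, inv_mul_eq_one] at h2
  exact h2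

theorem bar_eq_of_act [Finite G] {c d : CC H} (h : (large H).act c = (large H).act d) : bar H c = bar H d := by
  have h1 : (large H).act (c⁻¹ * d) = 1 := by rw [map_mul, map_inv, h, inv_mul_cancel]
  have h2 := (large H).mem_of_act _ h1
  have h3 := (bar_eq_one H).2 h2
  rwa [map_mul, map_inv, inv_mul_eq_one] at h3

/-- `ρ` as an element of `C` -/
def rC : CC H := ⟨H.ρ, Subgroup.mem_centralizer_singleton_iff.2 H.ρ_comm⟩

theorem rC_cube : rC H ^ 3 = 1 := by
  apply Subtype.ext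
  show H.ρ ^ 3 = 1
  rw [← H.ρ_order]
  exact pow_orderOf_eq_one _

theorem rho_notMem : H.ρ ∉ H.Q := by
  intro h
  have h4 : H.ρ ^ 4 = 1 := by
    have e : H.ρ ^ 4 = (H.ρ * H.ρ) * (H.ρ * H.ρ) := by
      rw [show 4 = 2 + 2 from rfl, pow_add, pow_two]
    rw [e]
    rcases H.Q_sq _ h with h1 | h1
    · rw [h1, one_mul]
    · rw [h1, z_sq H]
  have h3 : H.ρ ^ 3 = 1 := by rw [← H.ρ_order]; exact pow_orderOf_eq_one _
  have h1 : H.ρ = 1 := by
    rw [pow_succ, h3, one_mul] at h4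
    exact h4
  have := H.ρ_order
  rw [h1, orderOf_one] at this
  exact absurd this (by norm_num)

theorem bar_rC_cube : bar H (rC H) ^ 3 = 1 := by rw [← map_pow, rC_cube, map_one]

theorem bar_rC_ne : bar H (rC H) ≠ 1 := fun h => rho_notMem H ((bar_eq_one H).1 h)

theorem P_eq_one_iff {c : CC H} : H.P c = 1 ↔ ∃ i : ℕ, bar H c = bar H (rC H) ^ i := by
  rw [H.P_ker]
  constructor
  · rintro ⟨q, hq, i, h⟩
    refine ⟨i, ?_⟩
    have hc : c = ⟨q, H.Q_le hq⟩ * rC H ^ i := Subtype.ext h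
    have hq1 : bar H (⟨q, H.Q_le hq⟩ : CC H) = 1 := (bar_eq_one H).2 hq
    rw [hc, map_mul, map_pow, hq1, one_mul]
  · rintro ⟨i, h⟩
    have h1 : bar H (c * (rC H ^ i)⁻¹) = 1 := by
      rw [map_mul, map_inv, map_pow, h, mul_inv_cancel]
    refine ⟨_, (bar_eq_one H).1 h1, i, ?_⟩
    show (c : G) = c * (H.ρ ^ i)⁻¹ * H.ρ ^ i
    rw [inv_mul_cancel_right]

theorem P_of_bar_eq {c d : CC H} (h : bar H c = bar H d) : H.P c = H.P d := by
  have h1 : H.P (c⁻¹ * d) = 1 := by
    rw [P_eq_one_iff]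
    exact ⟨0, by rw [map_mul, map_inv, h, inv_mul_cancel, pow_zero]⟩
  rw [map_mul, map_inv, inv_mul_eq_one] at h1
  exact h1

theorem bar_comm {c : CC H} (hc : H.P c none = none) :
    bar H c * bar H (rC H) = bar H (rC H) * bar H c := by
  obtain ⟨q, hq, h⟩ := H.P_inner c hc
  have h1 : c * rC H * c⁻¹ = ⟨q, H.Q_le hq⟩ * rC H := Subtype.ext h
  have h2 := congrArg (bar H) h1
  have hq1 : bar H (⟨q, H.Q_le hq⟩ : CC H) = 1 := (bar_eq_one H).2 hq
  rw [map_mul, map_mul, map_inv, map_mul, hq1, one_mul, mul_inv_eq_iff_eq_mul] at h2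
  exact h2

theorem pow_eq_one_of_sq {X : Type*} [Group X] {r : X} (h3 : r ^ 3 = 1) {i : ℕ} (h : r ^ (2 * i) = 1) :
    r ^ i = 1 := by
  have h1 : r ^ (3 * i) = 1 := by rw [pow_mul, h3, one_pow]
  have h2 : 3 * i = 2 * i + i := by ring
  rw [h2, pow_add, h, one_mul] at h1
  exact h1

/-- An involution `x ∈ C` with `P x = P a`, `a` an inner involution: `x ≡ a` modulo `Q`. -/
theorem bar_eq_of_P_eq {x a : CC H} (hx : bar H x * bar H x = 1) (ha : bar H a * bar H a = 1)
    (hP : H.P x = H.P a) (hin : H.P a none = none) : bar H x = bar H a := by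
  have h1 : H.P (a⁻¹ * x) = 1 := by rw [map_mul, map_inv, hP, inv_mul_cancel]
  obtain ⟨i, hi⟩ := (P_eq_one_iff H).1 h1
  rw [map_mul, map_inv, inv_mul_eq_iff_eq_mul] at hi
  have hc : Commute (bar H a) (bar H (rC H)) := bar_comm H hin
  have h2 : bar H (rC H) ^ (2 * i) = 1 := by
    rw [hi] at hx
    have e : bar H a * bar H (rC H) ^ i * (bar H a * bar H (rC H) ^ i) =
        (bar H a * bar H a) * (bar H (rC H) ^ i * bar H (rC H) ^ i) := by
      rw [mul_assoc, ← mul_assoc (bar H (rC H) ^ i), ((hc.pow_right i).eq).symm, mul_assoc, mul_assoc]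
    rw [e, ha, one_mul, ← pow_add, ← two_mul] at hx
    exact hx
  rw [hi, pow_eq_one_of_sq (bar_rC_cube H) h2, mul_one]

theorem bar_eq_one_of_sq {x : CC H} (hx : bar H x * bar H x = 1) (hP : H.P x = 1) : bar H x = 1 := by
  have := bar_eq_of_P_eq H (a := 1) hx (by rw [map_one, one_mul]) (by rw [hP, map_one])
    (by rw [map_one]; rfl)
  rwa [map_one] at this

/-! ### the fixed points of `ρ` and of outer elements on `V` -/

theorem rho_free {v : (large H).V} (hv : (large H).act (rC H) v = v) : v = 0 := by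
  obtain ⟨q, rfl⟩ := (large H).pr_surjective v
  rw [act_fix_iff] at hv
  have hv' : H.ρ * q = q * H.ρ ∨ H.ρ * q = H.z * (q * H.ρ) := hv
  have hqz : (q : G) * H.z = H.z * q := Subgroup.mem_centralizer_singleton_iff.1 (H.Q_le q.2)
  rw [(large H).pr_eq_zero]
  rcases hv' with h | h
  · exact H.ρ_fix q q.2 h
  · exfalso
    -- `ρ q ρ⁻¹ = z q`, so `q = ρ³ q ρ⁻³ = z q`
    have h1 : H.ρ * q * H.ρ⁻¹ = H.z * q := by
      rw [h]; group
    have hz : H.ρ * H.z * H.ρ⁻¹ = H.z := by rw [H.ρ_comm]; group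
    have h2 : H.ρ ^ 2 * q * (H.ρ ^ 2)⁻¹ = q := by
      calc H.ρ ^ 2 * q * (H.ρ ^ 2)⁻¹ = H.ρ * (H.ρ * q * H.ρ⁻¹) * H.ρ⁻¹ := by rw [pow_two]; group
        _ = H.ρ * (H.z * q) * H.ρ⁻¹ := by rw [h1]
        _ = (H.ρ * H.z * H.ρ⁻¹) * (H.ρ * q * H.ρ⁻¹) := by group
        _ = q := by rw [hz, h1, ← mul_assoc, z_sq H, one_mul]
    have h3 : H.ρ ^ 3 = 1 := by rw [← H.ρ_order]; exact pow_orderOf_eq_one _
    have h4 : H.ρ * q * H.ρ⁻¹ = q := by
      have e : H.ρ = (H.ρ ^ 2) ^ 2 := by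
        rw [← pow_mul, show 2 * 2 = 3 + 1 from rfl, pow_succ, h3, one_mul]
      calc H.ρ * q * H.ρ⁻¹ = (H.ρ ^ 2) ^ 2 * q * ((H.ρ ^ 2) ^ 2)⁻¹ := by rw [← e]
        _ = H.ρ ^ 2 * (H.ρ ^ 2 * q * (H.ρ ^ 2)⁻¹) * (H.ρ ^ 2)⁻¹ := by group
        _ = q := by rw [h2, h2]
    rw [h1] at h4
    exact z_ne H (mul_eq_right.1 h4)

/-- If `b` inverts `ρ` modulo `Q` and centralises a subspace `X` of the `ρ`-invariant subspace `U`, then
`2 dim X ≤ dim U`. -/
theorem dim_le_of_outer [Finite G] {b : CC H}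
    (hb : bar H b * bar H (rC H) = (bar H (rC H))⁻¹ * bar H b)
    (U X : Submodule (ZMod 2) (large H).V) (hU : ∀ v ∈ U, (large H).act (rC H) v ∈ U) (hXU : X ≤ U)
    (hX : ∀ v ∈ X, (large H).act b v = v) : 2 * finrank (ZMod 2) X ≤ finrank (ZMod 2) U := by
  have : Module.Finite (ZMod 2) (large H).V := Module.Finite.of_finite
  let r := (large H).act (rC H)
  have hr3 : ∀ v, r (r (r v)) = v := by
    intro v
    have h1 : (large H).act (rC H ^ 3) v = v := by rw [rC_cube, map_one]; rfl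
    rw [map_pow] at h1
    exact h1
  have hbr : ∀ v, r ((large H).act b (r v)) = (large H).act b v := by
    intro v
    have h1 : bar H (rC H * b * rC H) = bar H b := by
      rw [map_mul, map_mul, mul_assoc, hb, mul_inv_cancel_left]
    have h2 := act_of_bar_eq H h1
    rw [map_mul, map_mul] at h2
    exact congrArg (fun f : (large H).V ≃ₗ[ZMod 2] (large H).V => f v) h2
  have hdisj : Disjoint X (X.map (r : (large H).V →ₗ[ZMod 2] (large H).V)) := by
    rw [Submodule.disjoint_def]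
    rintro _ h1 ⟨v, hv, rfl⟩
    have h1' : r v ∈ X := h1
    have h2 := hbr v
    rw [hX _ h1', hX _ hv] at h2
    -- `r (r v) = v`
    have h3 : r v = v := by
      have := hr3 v
      rw [h2] at this
      exact this
    have h4 := rho_free H h3
    show r v = 0
    rw [h4, map_zero]
  have h1 : finrank (ZMod 2) (X.map (r : (large H).V →ₗ[ZMod 2] (large H).V)) = finrank (ZMod 2) X :=
    LinearEquiv.finrank_map_eq r X
  have h2 := Submodule.finrank_sup_add_finrank_inf_eq X (X.map (r : (large H).V →ₗ[ZMod 2] (large H).V))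
  rw [hdisj.eq_bot, finrank_bot, add_zero, h1] at h2
  have h3 : X ⊔ X.map (r : (large H).V →ₗ[ZMod 2] (large H).V) ≤ U := by
    refine sup_le hXU ?_
    rintro _ ⟨v, hv, rfl⟩
    exact hU v (hXU hv)
  have h4 := Submodule.finrank_mono h3
  omega

end

end Cfsg.Agent.J4Type.FusionV
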