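import Cfsg.Agent.J4Type.PreHexOf

/-!
# The structure `Hex` together with coordinates

`HexCoord.exists_hex` : from `CentCoords H` and `P_outer`, a `Hex` with coordinates in which `ρ` is the
multiplication by `ω`, `E hex0 ∩ Q = {(a; 0)}` and `E hex1 ∩ Q = {(0; c)}`.
-/

set_option autoImplicit false

open scoped Pointwise

namespace Cfsg.Agent.J4Type.HexCoord

open Cfsg SporadicA.FieldFour VCoord CentCoords PreHexLin SporadicA.OctadFix PreHexA PreHexB PreHexC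
  PreHexOf

variable {G : Type*} [Group G]

/-! ### Replacing `ρ` by its inverse -/

theorem rho_cube (H : Cent G) : H.ρ ^ 3 = 1 := by
  rw [← H.ρ_order]
  exact pow_orderOf_eq_one _

theorem pow_inv (H : Cent G) (i : ℕ) : H.ρ⁻¹ ^ i = H.ρ ^ (2 * i) := by
  have h : H.ρ⁻¹ = H.ρ ^ 2 := by
    rw [inv_eq_iff_mul_eq_one, ← pow_succ']
    exact rho_cube H
  rw [h, ← pow_mul]

theorem pow_eq (H : Cent G) (i : ℕ) : H.ρ ^ i = H.ρ⁻¹ ^ (2 * i) := by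
  rw [pow_inv, ← mul_assoc, pow_mul, show 2 * 2 = 3 + 1 from rfl, pow_succ, rho_cube, one_mul]

/-- the same centraliser with `ρ⁻¹` -/
def inv (H : Cent G) : Cent G where
  z := H.z
  z_order := H.z_order
  Q := H.Q
  Q_le := H.Q_le
  Q_conj := H.Q_conj
  Q_card := H.Q_card
  z_mem_Q := H.z_mem_Q
  Q_sq := H.Q_sq
  Q_comm := H.Q_comm
  Q_cent := H.Q_cent
  ρ := H.ρ⁻¹
  ρ_order := by rw [orderOf_inv]; exact H.ρ_order
  ρ_comm := by
    have h : Commute H.ρ H.z := H.ρ_comm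
    exact h.inv_left
  ρ_fix := by
    intro q hq h
    refine H.ρ_fix q hq ?_
    have h1 : Commute H.ρ⁻¹ q := h
    exact (Commute.inv_left_iff.1 h1).eq
  P := H.P
  P_ker := by
    intro c
    rw [H.P_ker]
    constructor
    · rintro ⟨q, hq, i, h⟩
      exact ⟨q, hq, 2 * i, by rw [h, pow_eq]⟩
    · rintro ⟨q, hq, i, h⟩
      exact ⟨q, hq, 2 * i, by rw [h, pow_inv]⟩
  P_range := H.P_range
  P_inner := by
    intro c hc
    obtain ⟨q, hq, h⟩ := H.P_inner c hc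
    refine ⟨H.ρ⁻¹ * q⁻¹ * H.ρ, ?_, ?_⟩
    · have h1 := H.Q_conj H.ρ⁻¹ (show Commute H.ρ⁻¹ H.z from
        Commute.inv_left (show Commute H.ρ H.z from H.ρ_comm)) q⁻¹ (H.Q.inv_mem hq)
      rwa [inv_inv] at h1
    · have e : (c : G) * H.ρ⁻¹ * (c : G)⁻¹ = ((c : G) * H.ρ * (c : G)⁻¹)⁻¹ := by group
      rw [e, h]
      group

theorem inv_P_outer (H : Cent G) (hP : ∀ c : Subgroup.centralizer ({H.z} : Set G),
    H.P c none ≠ none → ∃ q ∈ H.Q, (c : G) * H.ρ * (c : G)⁻¹ = q * H.ρ⁻¹) :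
    ∀ c : Subgroup.centralizer ({(inv H).z} : Set G), (inv H).P c none ≠ none →
      ∃ q ∈ (inv H).Q, (c : G) * (inv H).ρ * (c : G)⁻¹ = q * (inv H).ρ⁻¹ := by
  intro c hc
  obtain ⟨q, hq, h⟩ := hP c hc
  refine ⟨H.ρ * q⁻¹ * H.ρ⁻¹, H.Q_conj H.ρ H.ρ_comm q⁻¹ (H.Q.inv_mem hq), ?_⟩
  show (c : G) * H.ρ⁻¹ * (c : G)⁻¹ = H.ρ * q⁻¹ * H.ρ⁻¹ * (H.ρ⁻¹)⁻¹
  have e : (c : G) * H.ρ⁻¹ * (c : G)⁻¹ = ((c : G) * H.ρ * (c : G)⁻¹)⁻¹ := by group
  rw [e, h]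
  group

/-- coordinates for the inverse -/
def invCoords {H : Cent G} (K : CentCoords H) : CentCoords (inv H) where
  co := K.co
  co_mul := K.co_mul
  co_z := K.co_z
  co_ker := K.co_ker
  co_surj := K.co_surj
  co_sq := K.co_sq
  om := K.om * K.om
  om_ne_zero := mul_ne_zero K.om_ne_zero K.om_ne_zero
  om_ne_one := by
    have h1 := K.om_ne_zero
    have h2 := K.om_ne_one
    generalize K.om = x at h1 h2
    revert x
    decide
  co_rho := by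
    intro q hq
    show K.co (H.ρ⁻¹ * q * H.ρ⁻¹⁻¹) = scm (K.om * K.om) (K.co q)
    have h1 := co_rho_pow K 2 hq
    have h2 : (r H : G) ^ 2 = H.ρ⁻¹ := by
      symm
      rw [inv_eq_iff_mul_eq_one]
      show H.ρ * H.ρ ^ 2 = 1
      rw [← pow_succ']
      exact rho_cube H
    rw [h2, pow_two] at h1
    exact h1
  lin_s := K.lin_s
  lin_s' := K.lin_s'
  lin_b01 := K.lin_b01
  lin_b45 := K.lin_b45
  lin_c1 := K.lin_c1
  lin_c2 := K.lin_c2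

/-! ### `A(hex1)` in coordinates -/

section

variable {H : Cent G} (K : CentCoords H)

theorem mem_A1 [Finite G] {q : G} : q ∈ AO K hex1 ↔ q ∈ H.Q ∧ (K.co q).1 = 0 := by
  have hle : ∀ x ∈ (AO K hex1 : Set G), x ∈ {q : G | q ∈ H.Q ∧ (K.co q).1 = 0} :=
    fun x hx => ⟨AO_le K _ hx, fst_of_mem_A1 K hx⟩
  have h1 := card_co K (fun v => v.1 = 0)
  have h2 : Nat.card {v : V6 // v.1 = 0} = 64 := by
    rw [← card_F43]
    refine Nat.card_congr ⟨fun v => v.1.2, fun a => ⟨(0, a), rfl⟩, ?_, fun a => rfl⟩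
    rintro ⟨⟨a, c⟩, hc⟩
    exact Subtype.ext (Prod.ext hc.symm rfl)
  rw [h2] at h1
  have h3 : (AO K hex1 : Set G) = {q : G | q ∈ H.Q ∧ (K.co q).1 = 0} := by
    refine Set.eq_of_subset_of_ncard_le hle ?_ (Set.toFinite _)
    have e1 : {q : G | q ∈ H.Q ∧ (K.co q).1 = 0}.ncard = 2 * 64 := h1
    have e2 : (AO K hex1 : Set G).ncard = 2 ^ 7 := AO_card K HexMax.hex1_isHex
    rw [e1, e2]
    norm_num
  exact Set.ext_iff.1 h3 q

theorem mem_E_iff [Finite G] (hP : ∀ c : Subgroup.centralizer ({H.z} : Set G), H.P c none ≠ none →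
    ∃ q ∈ H.Q, (c : G) * H.ρ * (c : G)⁻¹ = q * H.ρ⁻¹) {O : Finset GolayPt} (hO : IsHex O) {q : G}
    (hq : q ∈ H.Q) : q ∈ (preHex K hP).toHex.E O ↔ q ∈ AO K O := by
  constructor
  · intro h
    have h1 : q ∈ (preHex K hP).E O ⊓ H.Q := ⟨h, hq⟩
    have h2 := (preHex K hP).E_inf_Q hO
    have h3 : q ∈ (preHex K hP).A O := by
      rw [← h2]
      exact h1
    exact h3
  · intro h
    exact (preHex K hP).A_le_E hO h

end

/-- **`Hex` with coordinates.** -/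
theorem exists_hex [Finite G] {H : Cent G} (K : CentCoords H)
    (hP : ∀ c : Subgroup.centralizer ({H.z} : Set G), H.P c none ≠ none →
      ∃ q ∈ H.Q, (c : G) * H.ρ * (c : G)⁻¹ = q * H.ρ⁻¹) :
    ∃ (H' : Hex G) (K' : CentCoords H'.toCent), H'.z = H.z ∧ H'.Q = H.Q ∧ K'.om = .w ∧
      (∀ q ∈ H'.Q, q ∈ H'.E hex0 ↔ (K'.co q).2 = 0) ∧
      (∀ q ∈ H'.Q, q ∈ H'.E hex1 ↔ (K'.co q).1 = 0) := by
  have main : ∀ {H₁ : Cent G} (K₁ : CentCoords H₁)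
      (hP₁ : ∀ c : Subgroup.centralizer ({H₁.z} : Set G), H₁.P c none ≠ none →
        ∃ q ∈ H₁.Q, (c : G) * H₁.ρ * (c : G)⁻¹ = q * H₁.ρ⁻¹), K₁.om = .w →
      ∃ (H' : Hex G) (K' : CentCoords H'.toCent), H'.z = H₁.z ∧ H'.Q = H₁.Q ∧ K'.om = .w ∧
      (∀ q ∈ H'.Q, q ∈ H'.E hex0 ↔ (K'.co q).2 = 0) ∧
      (∀ q ∈ H'.Q, q ∈ H'.E hex1 ↔ (K'.co q).1 = 0) := by
    intro H₁ K₁ hP₁ hom
    refine ⟨(preHex K₁ hP₁).toHex, K₁, rfl, rfl, hom, fun q hq => ?_, fun q hq => ?_⟩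
    · rw [mem_E_iff K₁ hP₁ HexMax.hex0_isHex hq, mem_A0]
      exact ⟨fun h => h.2, fun h => ⟨hq, h⟩⟩
    · rw [mem_E_iff K₁ hP₁ HexMax.hex1_isHex hq, mem_A1]
      exact ⟨fun h => h.2, fun h => ⟨hq, h⟩⟩
  have hcase : K.om = .w ∨ K.om * K.om = .w := by
    have h1 := K.om_ne_zero
    have h2 := K.om_ne_one
    generalize K.om = x at h1 h2
    revert x
    decide
  rcases hcase with h | h
  · exact main K hP h
  · exact main (H₁ := inv H) (invCoords K) (inv_P_outer H hP) h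

end Cfsg.Agent.J4Type.HexCoord
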