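import Cfsg.Agent.J4Type.Setup
import Cfsg.Agent.J4Type.OctadFixTrans
import Cfsg.Agent.Lib.ClassTwoDuality

/-!
# From the subgroups `A(O)` of `Q` to the elementary abelian groups `E(O)` of order `2^11`

`PreHex` extends `Cent` by facts that only concern the action of `C = C_G(z)` on `V = Q/⟨z⟩`.
`PreHex.toHex : PreHex G → Hex G` with `E O = C_G(A O)`.
-/

set_option autoImplicit false

open scoped Pointwise

namespace Cfsg.Agent.J4Type

open Cfsg

/-- `Cent` together with the subgroups `A O ≤ Q` (`O` a hexad) and facts about the action on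
`V = Q/⟨z⟩`. -/
structure PreHex (G : Type*) [Group G] extends Cent G where
  P_outer : ∀ c : Subgroup.centralizer ({z} : Set G), P c none ≠ none →
    ∃ q ∈ Q, (c : G) * ρ * (c : G)⁻¹ = q * ρ⁻¹
  A : Finset GolayPt → Subgroup G
  A_le : ∀ O, IsHex O → A O ≤ Q
  z_mem_A : ∀ O, IsHex O → z ∈ A O
  A_card : ∀ O, IsHex O → Nat.card (A O) = 2 ^ 7
  A_sq : ∀ O, IsHex O → ∀ a ∈ A O, a * a = 1
  A_conj : ∀ O, IsHex O → ∀ (c : Subgroup.centralizer ({z} : Set G)) (a : G),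
    a ∈ A O ↔ (c : G) * a * (c : G)⁻¹ ∈ A (P c • O)
  /-- elements of `C` acting trivially on `A O / z` induce on the points elements of `2^4` -/
  A_fix : ∀ O, IsHex O → ∀ c : Subgroup.centralizer ({z} : Set G),
    (∀ a ∈ A O, (c : G) * a * (c : G)⁻¹ = a ∨ (c : G) * a * (c : G)⁻¹ = z * a) →
      ∀ p ∈ O, P c p = p
  A_lift : ∀ O, IsHex O → ∀ g : Equiv.Perm GolayPt, g ∈ M24 → (∀ p ∈ O, g p = p) →
    ∃ c : Subgroup.centralizer ({z} : Set G), P c = g ∧
      ∀ a ∈ A O, (c : G) * a * (c : G)⁻¹ = a ∨ (c : G) * a * (c : G)⁻¹ = z * a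
  A_inf_two : ∀ O O', IsHex O → IsHex O' → (O ∩ O').card = 2 → Nat.card (A O ⊓ A O' : Subgroup G) = 2
  A_inf_eight : ∀ O O', IsHex O → IsHex O' → (O ∩ O').card = 4 →
    Nat.card (A O ⊓ A O' : Subgroup G) = 8
  V_dim' : ∀ O, IsHex O → ∀ c : Subgroup.centralizer ({z} : Set G), P c ≠ 1 →
    (∀ a ∈ A O, (c : G) * a * (c : G)⁻¹ = a ∨ (c : G) * a * (c : G)⁻¹ = z * a) →
    Nat.card {q : G // q ∈ Q ∧ ((c : G) * q = q * c ∨ (c : G) * q = z * (q * c))} = 2 ^ 9
  V_inf' : ∀ O, IsHex O → ∀ c d : Subgroup.centralizer ({z} : Set G), P c ≠ 1 → P d ≠ 1 →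
    P c ≠ P d →
    (∀ a ∈ A O, (c : G) * a * (c : G)⁻¹ = a ∨ (c : G) * a * (c : G)⁻¹ = z * a) →
    (∀ a ∈ A O, (d : G) * a * (d : G)⁻¹ = a ∨ (d : G) * a * (d : G)⁻¹ = z * a) →
    ∀ q ∈ Q, ((c : G) * q = q * c ∨ (c : G) * q = z * (q * c)) →
      ((d : G) * q = q * d ∨ (d : G) * q = z * (q * d)) → q ∈ A O

namespace PreHex

open Cfsg.Agent.SporadicA.OctadFix

variable {G : Type*} [Group G] (H : PreHex G)

theorem zz : H.z * H.z = 1 := by
  have := pow_orderOf_eq_one H.z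
  rwa [H.z_order, pow_two] at this

theorem z_ne : H.z ≠ 1 := by
  intro h
  have := H.z_order
  rw [h, orderOf_one] at this
  omega

theorem ρ3 : H.ρ ^ 3 = 1 := by
  have := pow_orderOf_eq_one H.ρ
  rwa [H.ρ_order] at this

/-- elements acting trivially on `A O / z` -/
def R (O : Finset GolayPt) : Subgroup G where
  carrier := {g | g * H.z = H.z * g ∧ ∀ a ∈ H.A O, g * a * g⁻¹ = a ∨ g * a * g⁻¹ = H.z * a}
  one_mem' := ⟨by simp, fun a _ => Or.inl (by simp)⟩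
  mul_mem' := by
    rintro g h ⟨g1, g2⟩ ⟨h1, h2⟩
    refine ⟨by rw [mul_assoc, h1, ← mul_assoc, g1, mul_assoc], fun a ha => ?_⟩
    have e1 : g * h * a * (g * h)⁻¹ = g * (h * a * h⁻¹) * g⁻¹ := by group
    rw [e1]
    rcases h2 a ha with h3 | h3 <;> rw [h3]
    · exact g2 a ha
    · have e2 : g * (H.z * a) * g⁻¹ = H.z * (g * a * g⁻¹) := by
        rw [← mul_assoc g, g1]; group
      rw [e2]
      rcases g2 a ha with h4 | h4 <;> rw [h4]
      · exact Or.inr rfl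
      · rw [← mul_assoc, H.zz, one_mul]; exact Or.inl rfl
  inv_mem' := by
    rintro g ⟨g1, g2⟩
    have g1' : g⁻¹ * H.z = H.z * g⁻¹ := by
      rw [inv_mul_eq_iff_eq_mul, ← mul_assoc, g1, mul_assoc, mul_inv_cancel, mul_one]
    refine ⟨g1', fun a ha => ?_⟩
    rcases g2 a ha with h3 | h3
    · left
      calc g⁻¹ * a * g⁻¹⁻¹ = g⁻¹ * (g * a * g⁻¹) * g := by rw [h3, inv_inv]
        _ = a := by group
    · right
      have e1 : a = H.z * (g⁻¹ * a * g) := by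
        calc a = g⁻¹ * (g * a * g⁻¹) * g := by group
          _ = (g⁻¹ * H.z) * a * g := by rw [h3]; group
          _ = H.z * (g⁻¹ * a * g) := by rw [g1']; group
      rw [inv_inv]
      calc g⁻¹ * a * g = H.z * (H.z * (g⁻¹ * a * g)) := by rw [← mul_assoc, H.zz, one_mul]
        _ = H.z * a := by rw [← e1]

theorem mem_R {O : Finset GolayPt} {g : G} : g ∈ H.R O ↔ g * H.z = H.z * g ∧
    ∀ a ∈ H.A O, g * a * g⁻¹ = a ∨ g * a * g⁻¹ = H.z * a := Iff.rfl

theorem R_cent {O : Finset GolayPt} {g : G} (hg : g ∈ H.R O) :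
    g ∈ Subgroup.centralizer ({H.z} : Set G) := by
  rw [Subgroup.mem_centralizer_singleton_iff]
  exact hg.1

/-- `E O = C_G(A O)` -/
def E (O : Finset GolayPt) : Subgroup G := Subgroup.centralizer (H.A O : Set G)

theorem mem_E {O : Finset GolayPt} {g : G} : g ∈ H.E O ↔ ∀ a ∈ H.A O, a * g = g * a := by
  rw [E, Subgroup.mem_centralizer_iff]; rfl

variable {O : Finset GolayPt} (hO : IsHex O)

include hO

theorem A_comm : ∀ a ∈ H.A O, ∀ b ∈ H.A O, a * b = b * a := by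
  intro a ha b hb
  have h1 := H.A_sq O hO a ha
  have h2 := H.A_sq O hO b hb
  have h3 := H.A_sq O hO _ (mul_mem ha hb)
  have e1 : a⁻¹ = a := inv_eq_of_mul_eq_one_left h1
  have e2 : b⁻¹ = b := inv_eq_of_mul_eq_one_left h2
  have e3 : (a * b)⁻¹ = a * b := inv_eq_of_mul_eq_one_left h3
  rw [mul_inv_rev, e1, e2] at e3
  exact e3.symm

theorem E_le_R : H.E O ≤ H.R O := by
  intro g hg
  rw [mem_E] at hg
  refine ⟨(hg _ (H.z_mem_A O hO)).symm, fun a ha => Or.inl ?_⟩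
  rw [← hg a ha]; group

theorem A_le_E : H.A O ≤ H.E O := fun g hg => (H.mem_E).2 fun a ha => H.A_comm hO a ha g hg

theorem Q_le_R : H.Q ≤ H.R O := by
  intro q hq
  have h0 : q * H.z = H.z * q := by
    have := H.Q_le hq
    rwa [Subgroup.mem_centralizer_singleton_iff] at this
  refine ⟨h0, fun a ha => ?_⟩
  rcases H.Q_comm q hq a (H.A_le O hO ha) with h | h
  · left; rw [h]; group
  · right; rw [h]; group

omit hO in
open Classical in
/-- the sign of the action of `g` on `a` -/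
noncomputable def sg (g a : G) : ℂˣ := if g * a * g⁻¹ = a then 1 else -1

omit hO in
theorem sg_pos {g a : G} (h : g * a * g⁻¹ = a) : sg g a = 1 := if_pos h

omit hO in
theorem z_mul_ne (x : G) : H.z * x ≠ x := fun hx =>
  H.z_ne (mul_right_cancel (b := x) (hx.trans (one_mul x).symm))

omit hO in
theorem sg_neg {g a : G} (h : g * a * g⁻¹ = H.z * a) : sg g a = -1 :=
  if_neg (by rw [h]; exact H.z_mul_ne a)

omit hO in
theorem neg_one_ne : (-1 : ℂˣ) ≠ 1 := by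
  intro h
  have := congrArg Units.val h
  simp only [Units.val_neg, Units.val_one] at this
  norm_num at this

omit hO in
theorem sg_eq_one_iff {g a : G} : sg g a = 1 ↔ g * a * g⁻¹ = a := by
  constructor
  · intro h
    by_contra h'
    unfold sg at h
    rw [if_neg h'] at h
    exact neg_one_ne h
  · exact sg_pos

theorem sg_mul_right {g : G} (hg : g ∈ H.R O) {a b : G} (ha' : a ∈ H.A O) (hb' : b ∈ H.A O) :
    sg g (a * b) = sg g a * sg g b := by
  have hzc : a * H.z = H.z * a := H.A_comm hO _ ha' _ (H.z_mem_A O hO)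
  have hab : g * (a * b) * g⁻¹ = (g * a * g⁻¹) * (g * b * g⁻¹) := by group
  have e1 : a * (H.z * b) = H.z * (a * b) := by rw [← mul_assoc, hzc, mul_assoc]
  have e2 : H.z * a * b = H.z * (a * b) := mul_assoc _ _ _
  have e3 : H.z * a * (H.z * b) = a * b := by
    rw [mul_assoc, e1, ← mul_assoc, H.zz, one_mul]
  rcases hg.2 a ha' with ha | ha <;> rcases hg.2 b hb' with hb | hb <;> rw [ha, hb] at hab
  · rw [sg_pos hab, sg_pos ha, sg_pos hb, one_mul]
  · rw [H.sg_neg (hab.trans e1), sg_pos ha, H.sg_neg hb, one_mul]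
  · rw [H.sg_neg (hab.trans e2), H.sg_neg ha, sg_pos hb, mul_one]
  · rw [sg_pos (hab.trans e3), H.sg_neg ha, H.sg_neg hb]
    simp

theorem sg_mul_left {g h : G} (hg : g ∈ H.R O) (hh : h ∈ H.R O) {a : G} (ha' : a ∈ H.A O) :
    sg (g * h) a = sg g a * sg h a := by
  have hab : g * h * a * (g * h)⁻¹ = g * (h * a * h⁻¹) * g⁻¹ := by group
  have e2 : g * (H.z * a) * g⁻¹ = H.z * (g * a * g⁻¹) := by
    rw [← mul_assoc g, hg.1]; group
  rcases hg.2 a ha' with ha | ha <;> rcases hh.2 a ha' with hb | hb <;> rw [hb] at hab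
  · rw [ha] at hab
    rw [sg_pos hab, sg_pos ha, sg_pos hb, one_mul]
  · rw [e2, ha] at hab
    rw [H.sg_neg hab, sg_pos ha, H.sg_neg hb, one_mul]
  · rw [ha] at hab
    rw [H.sg_neg hab, H.sg_neg ha, sg_pos hb, mul_one]
  · rw [e2, ha, ← mul_assoc, H.zz, one_mul] at hab
    rw [sg_pos hab, H.sg_neg ha, H.sg_neg hb]
    simp

/-- the homomorphism `R O → Hom(A O, ℂˣ)` -/
noncomputable def sgn : H.R O →* (H.A O →* ℂˣ) where
  toFun g :=
    { toFun := fun a => sg (g : G) a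
      map_one' := sg_pos (by simp)
      map_mul' := fun a b => H.sg_mul_right hO g.2 a.2 b.2 }
  map_one' := by
    ext a
    have : sg (((1 : H.R O) : G)) (a : G) = 1 := sg_pos (by simp)
    exact congrArg Units.val this
  map_mul' g h := by
    ext a
    exact congrArg Units.val (H.sg_mul_left hO g.2 h.2 a.2)

theorem sgn_apply (g : H.R O) (a : H.A O) : H.sgn hO g a = sg (g : G) (a : G) := rfl

theorem sgn_eq_one_iff (g : H.R O) : H.sgn hO g = 1 ↔ (g : G) ∈ H.E O := by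
  rw [mem_E]
  constructor
  · intro h a ha
    have h1 := DFunLike.congr_fun h ⟨a, ha⟩
    rw [sgn_apply, MonoidHom.one_apply, sg_eq_one_iff] at h1
    simp only at h1
    calc a * (g : G) = ((g : G) * a * (g : G)⁻¹) * g := by rw [h1]
      _ = g * a := by group
  · intro h
    ext a
    have h1 : sg (g : G) (a : G) = 1 := sg_pos (by rw [← h a a.2]; group)
    exact congrArg Units.val h1

theorem sgn_ker : (H.sgn hO).ker = (H.E O).subgroupOf (H.R O) := by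
  ext g
  rw [MonoidHom.mem_ker, sgn_eq_one_iff, Subgroup.mem_subgroupOf]

variable [Finite G]

/-- the annihilator of `z` in the character group of `A O` -/
theorem range_le : (H.sgn hO).range ≤
    Cfsg.Agent.Lib.ClassTwoDuality.annihilator (Subgroup.zpowers (⟨H.z, H.z_mem_A O hO⟩ : H.A O)) := by
  rintro _ ⟨g, rfl⟩ x hx
  obtain ⟨k, rfl⟩ := Subgroup.mem_zpowers_iff.1 hx
  rw [map_zpow]
  have : H.sgn hO g ⟨H.z, H.z_mem_A O hO⟩ = 1 := by
    rw [sgn_apply]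
    apply sg_pos
    simp only
    rw [g.2.1]; group
  rw [this, one_zpow]

omit hO [Finite G] in
theorem center_Q : Subgroup.center H.Q = Subgroup.zpowers (⟨H.z, H.z_mem_Q⟩ : H.Q) := by
  ext x
  rw [Subgroup.mem_center_iff]
  constructor
  · intro h
    rcases H.Q_cent x (fun q hq => (congrArg Subtype.val (h ⟨q, hq⟩)).symm) with h1 | h1
    · have : x = 1 := Subtype.ext h1
      rw [this]; exact one_mem _
    · have : x = ⟨H.z, H.z_mem_Q⟩ := Subtype.ext h1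
      rw [this]; exact Subgroup.mem_zpowers _
  · intro h q
    obtain ⟨k, rfl⟩ := Subgroup.mem_zpowers_iff.1 h
    have h1 : Commute q (⟨H.z, H.z_mem_Q⟩ : H.Q) := by
      have := H.Q_le q.2
      rw [Subgroup.mem_centralizer_singleton_iff] at this
      exact Subtype.ext this
    exact h1.zpow_right k

omit hO [Finite G] in
theorem orderOf_zQ (S : Subgroup G) (h : H.z ∈ S) : orderOf (⟨H.z, h⟩ : S) = 2 := by
  rw [← Subgroup.orderOf_coe]; exact H.z_order

omit hO [Finite G] in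
theorem commutator_Q : commutator H.Q ≤ Subgroup.center H.Q := by
  rw [center_Q, commutator_def, Subgroup.commutator_le]
  intro a _ b _
  rw [commutatorElement_def]
  rcases H.Q_comm a a.2 b b.2 with h | h
  · have : a * b * a⁻¹ * b⁻¹ = 1 := by
      have h' : a * b = b * a := Subtype.ext h
      rw [h']; group
    rw [this]; exact one_mem _
  · have : a * b * a⁻¹ * b⁻¹ = ⟨H.z, H.z_mem_Q⟩ := by
      have h' : a * b = ⟨H.z, H.z_mem_Q⟩ * (b * a) := Subtype.ext h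
      rw [h']; group
    rw [this]; exact Subgroup.mem_zpowers _

/-- `C_Q(A O) = A O` -/
theorem cent_A {q : G} (hq : q ∈ H.Q) (h : ∀ a ∈ H.A O, q * a = a * q) : q ∈ H.A O := by
  have hcyc : IsCyclic (Subgroup.center H.Q) := by
    rw [center_Q]; infer_instance
  have hZ : Subgroup.center H.Q ≤ (H.A O).subgroupOf H.Q := by
    rw [center_Q, Subgroup.zpowers_le]
    exact H.z_mem_A O hO
  have h1 := Cfsg.Agent.Lib.ClassTwoDuality.card_centralizer_mul_card H.commutator_Q hcyc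
    ((H.A O).subgroupOf H.Q) hZ
  have h2 : Nat.card (Subgroup.center H.Q) = 2 := by
    rw [center_Q, Nat.card_zpowers, orderOf_zQ]
  have h3 : Nat.card ((H.A O).subgroupOf H.Q) = 2 ^ 7 := by
    rw [Nat.card_congr (Subgroup.subgroupOfEquivOfLe (H.A_le O hO)).toEquiv, H.A_card O hO]
  rw [h2, h3, H.Q_card] at h1
  have h4 : Nat.card (Subgroup.centralizer ((H.A O).subgroupOf H.Q : Set H.Q)) = 2 ^ 7 := by
    omega
  have h5 : (H.A O).subgroupOf H.Q ≤ Subgroup.centralizer ((H.A O).subgroupOf H.Q : Set H.Q) := by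
    intro x hx
    rw [Subgroup.mem_centralizer_iff]
    intro y hy
    exact Subtype.ext (H.A_comm hO _ hy _ hx)
  have h6 := Subgroup.eq_of_le_of_card_ge h5 (by rw [h3, h4])
  have h7 : (⟨q, hq⟩ : H.Q) ∈ Subgroup.centralizer ((H.A O).subgroupOf H.Q : Set H.Q) := by
    rw [Subgroup.mem_centralizer_iff]
    intro y hy
    exact Subtype.ext (h _ hy).symm
  rw [← h6] at h7
  exact h7

/-- the restriction of `sgn` to `Q` is onto the annihilator of `z` -/
theorem exists_Q (r : G) (hr : r ∈ H.R O) : ∃ q ∈ H.Q, q⁻¹ * r ∈ H.E O := by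
  set ι : H.Q →* H.R O := Subgroup.inclusion (H.Q_le_R hO) with hι
  set N := Cfsg.Agent.Lib.ClassTwoDuality.annihilator
    (Subgroup.zpowers (⟨H.z, H.z_mem_A O hO⟩ : H.A O)) with hN
  have hAcomm : commutator (H.A O) ≤ Subgroup.zpowers (⟨H.z, H.z_mem_A O hO⟩ : H.A O) := by
    rw [commutator_def, Subgroup.commutator_le]
    intro a _ b _
    rw [commutatorElement_def]
    have : a * b * a⁻¹ * b⁻¹ = 1 := by
      have h' : a * b = b * a := Subtype.ext (H.A_comm hO _ a.2 _ b.2)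
      rw [h']; group
    rw [this]; exact one_mem _
  have hcardN : Nat.card N = 2 ^ 6 := by
    rw [hN, Cfsg.Agent.Lib.ClassTwoDuality.card_annihilator _ hAcomm]
    have h1 := Subgroup.card_eq_card_quotient_mul_card_subgroup
      (Subgroup.zpowers (⟨H.z, H.z_mem_A O hO⟩ : H.A O))
    rw [H.A_card O hO, Nat.card_zpowers, orderOf_zQ] at h1
    omega
  have hker : ((H.sgn hO).comp ι).ker = (H.A O).subgroupOf H.Q := by
    ext q
    rw [MonoidHom.mem_ker, MonoidHom.comp_apply, sgn_eq_one_iff, Subgroup.mem_subgroupOf, mem_E]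
    constructor
    · intro h
      exact H.cent_A hO q.2 (fun a ha => (h a ha).symm)
    · intro h a ha
      exact H.A_comm hO a ha _ h
  have hrange : Nat.card ((H.sgn hO).comp ι).range = 2 ^ 6 := by
    rw [← Nat.card_congr (QuotientGroup.quotientKerEquivRange ((H.sgn hO).comp ι)).toEquiv, hker]
    have h1 := Subgroup.card_eq_card_quotient_mul_card_subgroup ((H.A O).subgroupOf H.Q)
    rw [Nat.card_congr (Subgroup.subgroupOfEquivOfLe (H.A_le O hO)).toEquiv, H.A_card O hO,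
      H.Q_card] at h1
    omega
  have hle : ((H.sgn hO).comp ι).range ≤ N := by
    rintro _ ⟨q, rfl⟩
    exact H.range_le hO ⟨ι q, rfl⟩
  have heq := Subgroup.eq_of_le_of_card_ge hle (by rw [hrange, hcardN])
  have h1 : H.sgn hO ⟨r, hr⟩ ∈ ((H.sgn hO).comp ι).range := by
    rw [heq]; exact H.range_le hO ⟨_, rfl⟩
  obtain ⟨q, hq⟩ := h1
  refine ⟨q, q.2, ?_⟩
  have h2 : H.sgn hO ((ι q)⁻¹ * ⟨r, hr⟩) = 1 := by
    rw [map_mul, map_inv, ← MonoidHom.comp_apply, hq, inv_mul_cancel]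
  rw [sgn_eq_one_iff] at h2
  exact h2

omit [Finite G] in
theorem ρ_not_R : H.ρ ∉ H.R O := by
  intro h
  have h1 : ∀ a ∈ H.A O, H.ρ * a * H.ρ⁻¹ = a := by
    intro a ha
    rcases h.2 a ha with h2 | h2
    · exact h2
    · exfalso
      have hc : H.ρ * H.z * H.ρ⁻¹ = H.z := by rw [H.ρ_comm]; group
      have s2 : H.ρ * (H.z * a) * H.ρ⁻¹ = a := by
        calc H.ρ * (H.z * a) * H.ρ⁻¹ = (H.ρ * H.z * H.ρ⁻¹) * (H.ρ * a * H.ρ⁻¹) := by group
          _ = H.z * (H.z * a) := by rw [hc, h2]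
          _ = a := by rw [← mul_assoc, H.zz, one_mul]
      have h3 : H.ρ * (H.ρ * (H.ρ * a * H.ρ⁻¹) * H.ρ⁻¹) * H.ρ⁻¹ = H.z * a := by
        rw [h2, s2, h2]
      have e3 : H.ρ * H.ρ * H.ρ = 1 := by rw [← pow_two, ← pow_succ, H.ρ3]
      have h4 : H.ρ * (H.ρ * (H.ρ * a * H.ρ⁻¹) * H.ρ⁻¹) * H.ρ⁻¹ = a := by
        calc H.ρ * (H.ρ * (H.ρ * a * H.ρ⁻¹) * H.ρ⁻¹) * H.ρ⁻¹
            = (H.ρ * H.ρ * H.ρ) * a * (H.ρ * H.ρ * H.ρ)⁻¹ := by group
          _ = a := by rw [e3]; group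
      exact H.z_mul_ne a (h3.symm.trans h4)
  have h2 : (H.A O : Set G) ⊆ {1, H.z} := by
    intro a ha
    rcases H.ρ_fix a (H.A_le O hO ha) (by
      calc H.ρ * a = (H.ρ * a * H.ρ⁻¹) * H.ρ := by group
        _ = a * H.ρ := by rw [h1 a ha]) with h3 | h3
    · exact Or.inl h3
    · exact Or.inr h3
  have h3 : Nat.card (H.A O) ≤ 2 := by
    have := Set.ncard_le_ncard h2 (Set.toFinite _)
    rw [← Nat.card_coe_set_eq] at this
    refine this.trans ?_
    exact (Set.ncard_insert_le _ _).trans (by rw [Set.ncard_singleton])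
  rw [H.A_card O hO] at h3
  norm_num at h3

omit [Finite G] in
theorem mem_Q_of_P_eq_one {g : G} (hg : g ∈ H.R O) (h : H.P ⟨g, H.R_cent hg⟩ = 1) : g ∈ H.Q := by
  obtain ⟨q, hq, i, hi⟩ := (H.P_ker _).1 h
  have hi : g = q * H.ρ ^ i := hi
  have h1 : H.ρ ^ i ∈ H.R O := by
    have : H.ρ ^ i = q⁻¹ * g := by rw [hi]; group
    rw [this]
    exact mul_mem (inv_mem (H.Q_le_R hO hq)) hg
  have h2 : i % 3 = 0 := by
    by_contra h3
    apply H.ρ_not_R hO
    have h4 : H.ρ ^ i = H.ρ ^ (i % 3) := by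
      conv_lhs => rw [← Nat.div_add_mod i 3, pow_add, pow_mul, H.ρ3, one_pow, one_mul]
    have h5 : i % 3 = 1 ∨ i % 3 = 2 := by omega
    rcases h5 with h5 | h5
    · rw [h4, h5, pow_one] at h1; exact h1
    · rw [h4, h5] at h1
      have h6 := mul_mem h1 h1
      rw [← pow_add, show 2 + 2 = 3 + 1 by norm_num, pow_succ, H.ρ3, one_mul] at h6
      exact h6
  have h3 : H.ρ ^ i = 1 := by
    obtain ⟨k, hk⟩ := Nat.dvd_of_mod_eq_zero h2
    rw [hk, pow_mul, H.ρ3, one_pow]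
  rw [hi, h3, mul_one]
  exact hq

omit [Finite G] in
theorem P_mem_fix {g : G} (hg : g ∈ H.R O) : H.P ⟨g, H.R_cent hg⟩ ∈ fixOct O := by
  rw [mem_fixOct]
  refine ⟨?_, H.A_fix O hO ⟨g, H.R_cent hg⟩ hg.2⟩
  have h1 : H.P ⟨g, H.R_cent hg⟩ ∈ H.P.range := ⟨_, rfl⟩
  rw [H.P_range] at h1
  exact h1.1

omit hO [Finite G] in
theorem P_Q {q : G} (hq : q ∈ H.Q) : H.P ⟨q, H.Q_le hq⟩ = 1 :=
  (H.P_ker _).2 ⟨q, hq, 0, by simp⟩

omit hO [Finite G] in
theorem ρ_cent : H.ρ ∈ Subgroup.centralizer ({H.z} : Set G) := by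
  rw [Subgroup.mem_centralizer_singleton_iff]; exact H.ρ_comm

omit hO [Finite G] in
theorem P_ρ : H.P ⟨H.ρ, H.ρ_cent⟩ = 1 :=
  (H.P_ker _).2 ⟨1, one_mem _, 1, by simp⟩

omit hO [Finite G] in
theorem P_congr {g h : G} {hg : g ∈ Subgroup.centralizer ({H.z} : Set G)} {hh} (e : g = h) :
    H.P ⟨g, hg⟩ = H.P ⟨h, hh⟩ := by subst e; rfl

theorem P_surj {k : Equiv.Perm GolayPt} (hk : k ∈ fixOct O) :
    ∃ g, ∃ hg : g ∈ H.E O, H.P ⟨g, H.R_cent (H.E_le_R hO hg)⟩ = k := by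
  rw [mem_fixOct] at hk
  obtain ⟨c, hc, hcA⟩ := H.A_lift O hO k hk.1 hk.2
  have hcR : (c : G) ∈ H.R O := by
    refine ⟨?_, hcA⟩
    have := c.2
    rwa [Subgroup.mem_centralizer_singleton_iff] at this
  obtain ⟨q, hq, hqc⟩ := H.exists_Q hO c hcR
  refine ⟨_, hqc, ?_⟩
  have h1 : (⟨q⁻¹ * (c : G), H.R_cent (H.E_le_R hO hqc)⟩ : Subgroup.centralizer ({H.z} : Set G)) =
      ⟨q, H.Q_le hq⟩⁻¹ * c := rfl
  rw [h1, map_mul, map_inv, H.P_Q hq, inv_one, one_mul, hc]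

/-- the homomorphism `R O → fixOct O` induced by `P` -/
noncomputable def PR : H.R O →* Equiv.Perm GolayPt :=
  H.P.comp (Subgroup.inclusion (fun g hg => H.R_cent hg))

omit hO [Finite G] in
theorem PR_apply (g : H.R O) : H.PR g = H.P ⟨g, H.R_cent g.2⟩ := rfl

theorem card_of {S : Subgroup G} (hS : S ≤ H.R O)
    (hsurj : ∀ k ∈ fixOct O, ∃ g, ∃ hg : g ∈ S, H.P ⟨g, H.R_cent (hS hg)⟩ = k) :
    Nat.card S = Nat.card (S ⊓ H.Q : Subgroup G) * 16 := by
  set f : S →* Equiv.Perm GolayPt := (H.PR (O := O)).comp (Subgroup.inclusion hS) with hf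
  have h1 : f.range = fixOct O := by
    ext k
    constructor
    · rintro ⟨g, rfl⟩
      exact H.P_mem_fix hO (hS g.2)
    · intro hk
      obtain ⟨g, hg, h⟩ := hsurj k hk
      exact ⟨⟨g, hg⟩, h⟩
  have h2 : f.ker = H.Q.subgroupOf S := by
    ext g
    rw [MonoidHom.mem_ker, Subgroup.mem_subgroupOf]
    constructor
    · intro h
      exact H.mem_Q_of_P_eq_one hO (hS g.2) h
    · intro h
      exact H.P_Q h
  have h3 := Subgroup.card_eq_card_quotient_mul_card_subgroup f.ker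
  rw [Nat.card_congr (QuotientGroup.quotientKerEquivRange f).toEquiv, h1, card_fixOct hO.1, h2] at h3
  have h4 : Nat.card (H.Q.subgroupOf S) = Nat.card (S ⊓ H.Q : Subgroup G) := by
    rw [← Subgroup.inf_subgroupOf_left, Nat.card_congr (Subgroup.subgroupOfEquivOfLe
      (inf_le_left : S ⊓ H.Q ≤ S)).toEquiv]
  rw [h3, h4, mul_comm]

theorem E_inf_Q : H.E O ⊓ H.Q = H.A O := by
  apply le_antisymm
  · rintro g ⟨hg, hgQ⟩
    refine H.cent_A hO hgQ (fun a ha => ?_)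
    exact ((H.mem_E).1 hg a ha).symm
  · exact le_inf (H.A_le_E hO) (H.A_le O hO)

theorem card_E : Nat.card (H.E O) = 2 ^ 11 := by
  rw [H.card_of hO (H.E_le_R hO) (fun k hk => H.P_surj hO hk), H.E_inf_Q hO, H.A_card O hO]
  norm_num

omit [Finite G] in
theorem P_eq_one_iff {g : G} (hg : g ∈ H.E O) (h1 : H.P ⟨g, H.R_cent (H.E_le_R hO hg)⟩ = 1)
    [Finite G] : g ∈ H.A O := by
  rw [← H.E_inf_Q hO]
  exact ⟨hg, H.mem_Q_of_P_eq_one hO (H.E_le_R hO hg) h1⟩

omit [Finite G] in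
/-- an element `c` of `C` with `P c • O = O` normalises `E O` -/
theorem conj_mem_E (c : Subgroup.centralizer ({H.z} : Set G)) (g : G) :
    g ∈ H.E O ↔ (c : G) * g * (c : G)⁻¹ ∈ H.E (H.P c • O) := by
  rw [mem_E, mem_E]
  constructor
  · intro h a ha
    have h1 : (c : G)⁻¹ * a * c ∈ H.A O := by
      rw [H.A_conj O hO c]
      have : (c : G) * ((c : G)⁻¹ * a * c) * (c : G)⁻¹ = a := by group
      rwa [this]
    have h2 := h _ h1
    calc a * ((c : G) * g * (c : G)⁻¹) = c * (((c : G)⁻¹ * a * c) * g) * (c : G)⁻¹ := by group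
      _ = c * (g * ((c : G)⁻¹ * a * c)) * (c : G)⁻¹ := by rw [h2]
      _ = (c : G) * g * (c : G)⁻¹ * a := by group
  · intro h a ha
    have h1 := (H.A_conj O hO c a).1 ha
    have h2 := h _ h1
    calc a * g = (c : G)⁻¹ * (((c : G) * a * (c : G)⁻¹) * ((c : G) * g * (c : G)⁻¹)) * c := by group
      _ = (c : G)⁻¹ * (((c : G) * g * (c : G)⁻¹) * ((c : G) * a * (c : G)⁻¹)) * c := by rw [h2]
      _ = g * a := by group

omit [Finite G] in
theorem ρ_conj_E {g : G} : g ∈ H.E O ↔ H.ρ * g * H.ρ⁻¹ ∈ H.E O := by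
  have := H.conj_mem_E hO ⟨H.ρ, H.ρ_cent⟩ g
  rw [H.P_ρ, one_smul] at this
  exact this

omit [Finite G] in
/-- `P` is invariant under conjugation by `ρ` -/
theorem P_conj_ρ {g : G} (hg : g ∈ Subgroup.centralizer ({H.z} : Set G))
    (hg' : H.ρ * g * H.ρ⁻¹ ∈ Subgroup.centralizer ({H.z} : Set G)) :
    H.P ⟨H.ρ * g * H.ρ⁻¹, hg'⟩ = H.P ⟨g, hg⟩ := by
  have h1 : (⟨H.ρ * g * H.ρ⁻¹, hg'⟩ : Subgroup.centralizer ({H.z} : Set G)) =
      ⟨H.ρ, H.ρ_cent⟩ * ⟨g, hg⟩ * ⟨H.ρ, H.ρ_cent⟩⁻¹ := rfl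
  rw [h1, map_mul, map_mul, map_inv, H.P_ρ, one_mul, inv_one, mul_one]

/-- two elements of `E O` with the same image differ by an element of `A O` -/
theorem exists_A {g h : G} (hg : g ∈ H.E O) (hh : h ∈ H.E O)
    (e : H.P ⟨g, H.R_cent (H.E_le_R hO hg)⟩ = H.P ⟨h, H.R_cent (H.E_le_R hO hh)⟩) :
    ∃ a ∈ H.A O, h = g * a := by
  refine ⟨g⁻¹ * h, H.P_eq_one_iff hO (mul_mem (inv_mem hg) hh) ?_, by group⟩
  have h1 : (⟨g⁻¹ * h, H.R_cent (H.E_le_R hO (mul_mem (inv_mem hg) hh))⟩ :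
      Subgroup.centralizer ({H.z} : Set G)) =
      (⟨g, H.R_cent (H.E_le_R hO hg)⟩ : Subgroup.centralizer ({H.z} : Set G))⁻¹ *
        ⟨h, H.R_cent (H.E_le_R hO hh)⟩ := rfl
  rw [h1, map_mul, map_inv, e, inv_mul_cancel]

theorem sq_mul {g a : G} (hg : g ∈ H.E O) (ha : a ∈ H.A O) : (g * a) * (g * a) = g * g := by
  have h1 := (H.mem_E).1 hg a ha
  calc (g * a) * (g * a) = g * (a * g) * a := by group
    _ = g * (g * a) * a := by rw [h1]
    _ = g * g * (a * a) := by group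
    _ = g * g := by rw [H.A_sq O hO a ha, mul_one]

/-- squares of elements of `E O` are `1` or `z` -/
theorem sq_E {g : G} (hg : g ∈ H.E O) : g * g = 1 ∨ g * g = H.z := by
  have hgR := H.E_le_R hO hg
  have h1 : g * g ∈ H.A O := by
    refine H.P_eq_one_iff hO (mul_mem hg hg) ?_
    have h2 : (⟨g * g, H.R_cent (H.E_le_R hO (mul_mem hg hg))⟩ :
        Subgroup.centralizer ({H.z} : Set G)) =
        ⟨g, H.R_cent hgR⟩ * ⟨g, H.R_cent hgR⟩ := rfl
    rw [h2, map_mul]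
    exact fixOct_sq hO.1 (H.P_mem_fix hO hgR)
  have h2 := (H.ρ_conj_E hO).1 hg
  obtain ⟨a, ha, hga⟩ := H.exists_A hO hg h2 (H.P_conj_ρ hO _ _).symm
  have h3 : H.ρ * (g * g) * H.ρ⁻¹ = g * g := by
    calc H.ρ * (g * g) * H.ρ⁻¹ = (H.ρ * g * H.ρ⁻¹) * (H.ρ * g * H.ρ⁻¹) := by group
      _ = g * g := by rw [hga, H.sq_mul hO hg ha]
  exact H.ρ_fix _ (H.A_le O hO h1) (by
    calc H.ρ * (g * g) = (H.ρ * (g * g) * H.ρ⁻¹) * H.ρ := by group
      _ = g * g * H.ρ := by rw [h3])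

theorem conj_fix {c : Subgroup.centralizer ({H.z} : Set G)} (hc : H.P c • O = O) {g : G}
    (hg : g ∈ H.E O) : (c : G) * g * (c : G)⁻¹ ∈ H.E O := by
  have := (H.conj_mem_E hO c g).1 hg
  rwa [hc] at this

/-- if one element of `E O \ A O` has square `z` then all have -/
theorem sq_all {e f : G} (he : e ∈ H.E O) (hf : f ∈ H.E O) (heA : e ∉ H.A O) (hfA : f ∉ H.A O)
    (h : e * e = H.z) : f * f = H.z := by
  have h1 : H.P ⟨e, H.R_cent (H.E_le_R hO he)⟩ ≠ 1 := fun h' => heA (H.P_eq_one_iff hO he h')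
  have h2 : H.P ⟨f, H.R_cent (H.E_le_R hO hf)⟩ ≠ 1 := fun h' => hfA (H.P_eq_one_iff hO hf h')
  have hx : (none : GolayPt) ∈ O := hO.2 (by simp [base])
  have hy : (some 0 : GolayPt) ∈ O := hO.2 (by simp [base])
  obtain ⟨k, hk, k1, k2, k3, k4⟩ := OctadFixTrans.fix_conj hO.1 hx hy (by simp)
    (H.P_mem_fix hO (H.E_le_R hO he)) (H.P_mem_fix hO (H.E_le_R hO hf)) h1 h2
  have hkM : k ∈ M22d := by
    refine ⟨hk, show k ∈ MulAction.stabilizer (Equiv.Perm GolayPt) base from ?_⟩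
    rw [MulAction.mem_stabilizer_iff, base, Finset.smul_finset_insert, Finset.smul_finset_singleton]
    show ({k none, k (some 0)} : Finset GolayPt) = {none, some 0}
    rw [k1, k2]
  rw [← H.P_range] at hkM
  obtain ⟨c, hc⟩ := hkM
  have hcO : H.P c • O = O := by rw [hc, k3]
  have h3 := H.conj_fix hO hcO he
  have h4 : H.P ⟨(c : G) * e * (c : G)⁻¹, H.R_cent (H.E_le_R hO h3)⟩ =
      H.P ⟨f, H.R_cent (H.E_le_R hO hf)⟩ := by
    have h5 : (⟨(c : G) * e * (c : G)⁻¹, H.R_cent (H.E_le_R hO h3)⟩ :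
        Subgroup.centralizer ({H.z} : Set G)) = c * ⟨e, H.R_cent (H.E_le_R hO he)⟩ * c⁻¹ := rfl
    rw [h5, map_mul, map_mul, map_inv, hc, k4]
  obtain ⟨a, ha, hfa⟩ := H.exists_A hO h3 hf h4
  have hcz : (c : G) * H.z * (c : G)⁻¹ = H.z := by
    have := c.2
    rw [Subgroup.mem_centralizer_singleton_iff] at this
    rw [this]; group
  calc f * f = ((c : G) * e * (c : G)⁻¹) * ((c : G) * e * (c : G)⁻¹) := by
        rw [hfa, H.sq_mul hO h3 ha]
    _ = (c : G) * (e * e) * (c : G)⁻¹ := by group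
    _ = H.z := by rw [h, hcz]

/-- `E O` has exponent 2 -/
theorem E_sq {e : G} (he : e ∈ H.E O) : e * e = 1 := by
  rcases H.sq_E hO he with h | h
  · exact h
  exfalso
  have hz1 := H.z_ne
  have hzE : ∀ x ∈ H.E O, H.z * x = x * H.z := fun x hx => (H.mem_E).1 hx _ (H.z_mem_A O hO)
  have heA : e ∉ H.A O := fun h' => hz1 (by rw [← h]; exact H.A_sq O hO e h')
  have hall : ∀ f ∈ H.E O, f ∉ H.A O → f * f = H.z := fun f hf hfA => H.sq_all hO he hf heA hfA h
  -- three independent elements of the pointwise stabiliser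
  have hcard : (fixOct O : Set (Equiv.Perm GolayPt)).ncard = 16 := by
    rw [← Nat.card_coe_set_eq]; exact card_fixOct hO.1
  have hpick : ∀ s : Finset (Equiv.Perm GolayPt), s.card < 16 → ∃ k ∈ fixOct O, k ∉ s := by
    intro s hs
    by_contra hcon
    push Not at hcon
    have h1 : (fixOct O : Set (Equiv.Perm GolayPt)) ⊆ (s : Set (Equiv.Perm GolayPt)) :=
      fun k hk => hcon k hk
    have h2 := Set.ncard_le_ncard h1 (Set.toFinite _)
    rw [hcard, Set.ncard_coe_finset] at h2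
    omega
  classical
  obtain ⟨x, hx, hxs⟩ := hpick {1} (by simp)
  obtain ⟨y, hy, hys⟩ := hpick {1, x} (lt_of_le_of_lt (Finset.card_le_two) (by norm_num))
  obtain ⟨w, hw, hws⟩ := hpick {1, x, y, x * y, y * x}
    (lt_of_le_of_lt Finset.card_le_five (by norm_num))
  simp only [Finset.mem_insert, Finset.mem_singleton, not_or] at hxs hys hws
  obtain ⟨a, ha, hPa⟩ := H.P_surj hO hx
  obtain ⟨b, hb, hPb⟩ := H.P_surj hO hy
  obtain ⟨c, hc, hPc⟩ := H.P_surj hO hw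
  have hP : ∀ (u v : G) (hu : u ∈ H.E O) (hv : v ∈ H.E O),
      H.P ⟨u * v, H.R_cent (H.E_le_R hO (mul_mem hu hv))⟩ =
        H.P ⟨u, H.R_cent (H.E_le_R hO hu)⟩ * H.P ⟨v, H.R_cent (H.E_le_R hO hv)⟩ := by
    intro u v hu hv
    rw [← map_mul]; rfl
  have hnA : ∀ (u : G) (hu : u ∈ H.E O), H.P ⟨u, H.R_cent (H.E_le_R hO hu)⟩ ≠ 1 → u ∉ H.A O := by
    intro u hu h1 h2
    exact h1 (H.P_Q (H.A_le O hO h2))
  have hsqx := fixOct_sq hO.1 hx
  have hsqy := fixOct_sq hO.1 hy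
  -- independent elements anticommute
  have anti : ∀ (u v : G) (hu : u ∈ H.E O) (hv : v ∈ H.E O),
      H.P ⟨u, H.R_cent (H.E_le_R hO hu)⟩ ≠ 1 → H.P ⟨v, H.R_cent (H.E_le_R hO hv)⟩ ≠ 1 →
      H.P ⟨u, H.R_cent (H.E_le_R hO hu)⟩ * H.P ⟨v, H.R_cent (H.E_le_R hO hv)⟩ ≠ 1 →
      u * v = H.z * (v * u) := by
    intro u v hu hv h1 h2 h3
    have e1 := hall u hu (hnA u hu h1)
    have e2 := hall v hv (hnA v hv h2)
    have e3 := hall (u * v) (mul_mem hu hv) (hnA _ (mul_mem hu hv) (by rw [hP u v hu hv]; exact h3))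
    have e4 : u * (v * u) * v = H.z := by rw [← e3]; group
    have e5 : u * (u * v) * v = H.z * H.z := by
      calc u * (u * v) * v = (u * u) * (v * v) := by group
        _ = H.z * H.z := by rw [e1, e2]
    have e6 : u * (u * v) * v = u * (H.z * (v * u)) * v := by
      rw [e5]
      calc H.z * H.z = H.z * (u * (v * u) * v) := by rw [e4]
        _ = (H.z * u) * (v * u) * v := by group
        _ = (u * H.z) * (v * u) * v := by rw [hzE u hu]
        _ = u * (H.z * (v * u)) * v := by group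
    exact mul_left_cancel (mul_right_cancel e6)
  have hyx : y * y = 1 := hsqy
  have hww := fixOct_sq hO.1 hw
  have inv_of : ∀ {s t : Equiv.Perm GolayPt}, s * s = 1 → s * t = 1 → t = s := by
    intro s t hs hst
    calc t = s * s * t := by rw [hs, one_mul]
      _ = s * (s * t) := by rw [mul_assoc]
      _ = s := by rw [hst, mul_one]
  have h_ab : H.P ⟨a, H.R_cent (H.E_le_R hO ha)⟩ * H.P ⟨b, H.R_cent (H.E_le_R hO hb)⟩ ≠ 1 := by
    rw [hPa, hPb]; intro h1; exact hys.2 (inv_of hsqx h1)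
  have h_bc : H.P ⟨b, H.R_cent (H.E_le_R hO hb)⟩ * H.P ⟨c, H.R_cent (H.E_le_R hO hc)⟩ ≠ 1 := by
    rw [hPb, hPc]; intro h1; exact hws.2.2.1 (inv_of hsqy h1)
  have h_ac : H.P ⟨a, H.R_cent (H.E_le_R hO ha)⟩ * H.P ⟨c, H.R_cent (H.E_le_R hO hc)⟩ ≠ 1 := by
    rw [hPa, hPc]; intro h1; exact hws.2.1 (inv_of hsqx h1)
  have h_abc : H.P ⟨a, H.R_cent (H.E_le_R hO ha)⟩ *
      H.P ⟨b * c, H.R_cent (H.E_le_R hO (mul_mem hb hc))⟩ ≠ 1 := by
    rw [hP b c hb hc, hPa, hPb, hPc]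
    intro h1
    have h2 : y * w = x := inv_of hsqx h1
    apply hws.2.2.2.2
    rw [← h2, ← mul_assoc, hsqy, one_mul]
  have n_a : H.P ⟨a, H.R_cent (H.E_le_R hO ha)⟩ ≠ 1 := by rw [hPa]; exact hxs
  have n_b : H.P ⟨b, H.R_cent (H.E_le_R hO hb)⟩ ≠ 1 := by rw [hPb]; exact hys.1
  have n_c : H.P ⟨c, H.R_cent (H.E_le_R hO hc)⟩ ≠ 1 := by rw [hPc]; exact hws.1
  have c1 := anti a b ha hb n_a n_b h_ab
  have c2 := anti a c ha hc n_a n_c h_ac
  have c3 := anti a (b * c) ha (mul_mem hb hc) n_a (by rw [hP b c hb hc]; exact h_bc) h_abc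
  have c4 : a * (b * c) = b * c * a := by
    calc a * (b * c) = (a * b) * c := by group
      _ = H.z * (b * a) * c := by rw [c1]
      _ = H.z * b * (a * c) := by group
      _ = H.z * b * (H.z * (c * a)) := by rw [c2]
      _ = (b * H.z) * (H.z * (c * a)) := by rw [hzE b hb]
      _ = b * (H.z * H.z) * (c * a) := by group
      _ = b * c * a := by rw [H.zz]; group
  rw [c4] at c3
  exact H.z_mul_ne _ c3.symm

theorem E_elem' : IsElem2 (H.E O) := by
  refine ⟨fun a ha => H.E_sq hO ha, fun a ha b hb => ?_⟩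
  have e1 : a⁻¹ = a := inv_eq_of_mul_eq_one_left (H.E_sq hO ha)
  have e2 : b⁻¹ = b := inv_eq_of_mul_eq_one_left (H.E_sq hO hb)
  have e3 : (a * b)⁻¹ = a * b := inv_eq_of_mul_eq_one_left (H.E_sq hO (mul_mem ha hb))
  rw [mul_inv_rev, e1, e2] at e3
  exact e3.symm

theorem F_card' : Nat.card (H.E O ⊓ Subgroup.centralizer ({H.ρ} : Set G) : Subgroup G) = 2 ^ 5 := by
  have hcomm := (H.E_elem' hO).2
  set F := H.E O ⊓ Subgroup.centralizer ({H.ρ} : Set G) with hF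
  have hFE : F ≤ H.E O := inf_le_left
  have h1 : F ⊓ H.Q = Subgroup.zpowers H.z := by
    apply le_antisymm
    · rintro g ⟨⟨-, h2⟩, h3⟩
      have h2' : g ∈ Subgroup.centralizer ({H.ρ} : Set G) := h2
      rw [Subgroup.mem_centralizer_singleton_iff] at h2'
      rcases H.ρ_fix g h3 h2'.symm with h4 | h4
      · rw [h4]; exact one_mem _
      · rw [h4]; exact Subgroup.mem_zpowers _
    · rw [Subgroup.zpowers_le]
      refine ⟨⟨H.A_le_E hO (H.z_mem_A O hO), ?_⟩, H.z_mem_Q⟩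
      show H.z ∈ Subgroup.centralizer ({H.ρ} : Set G)
      rw [Subgroup.mem_centralizer_singleton_iff]
      exact H.ρ_comm.symm
  have h2 := H.card_of hO (hFE.trans (H.E_le_R hO)) (by
    intro k hk
    obtain ⟨g, hg, hgk⟩ := H.P_surj hO hk
    have hg1 := (H.ρ_conj_E hO).1 hg
    have hg2 := (H.ρ_conj_E hO).1 hg1
    set g1 := H.ρ * g * H.ρ⁻¹ with hg1d
    set g2 := H.ρ * g1 * H.ρ⁻¹ with hg2d
    have hg3 : H.ρ * g2 * H.ρ⁻¹ = g := by
      have e3 : H.ρ * H.ρ * H.ρ = 1 := by rw [← pow_two, ← pow_succ, H.ρ3]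
      rw [hg2d, hg1d]
      calc H.ρ * (H.ρ * (H.ρ * g * H.ρ⁻¹) * H.ρ⁻¹) * H.ρ⁻¹
          = (H.ρ * H.ρ * H.ρ) * g * (H.ρ * H.ρ * H.ρ)⁻¹ := by group
        _ = g := by rw [e3]; group
    have hm : g * g1 * g2 ∈ H.E O := mul_mem (mul_mem hg hg1) hg2
    have hfix : H.ρ * (g * g1 * g2) * H.ρ⁻¹ = g * g1 * g2 := by
      calc H.ρ * (g * g1 * g2) * H.ρ⁻¹ = (H.ρ * g * H.ρ⁻¹) * (H.ρ * g1 * H.ρ⁻¹) *
            (H.ρ * g2 * H.ρ⁻¹) := by group
        _ = g1 * g2 * g := by rw [hg3]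
        _ = g * (g1 * g2) := hcomm _ (mul_mem hg1 hg2) _ hg
        _ = g * g1 * g2 := by group
    refine ⟨g * g1 * g2, ⟨hm, ?_⟩, ?_⟩
    · show g * g1 * g2 ∈ Subgroup.centralizer ({H.ρ} : Set G)
      rw [Subgroup.mem_centralizer_singleton_iff]
      calc g * g1 * g2 * H.ρ = (H.ρ * (g * g1 * g2) * H.ρ⁻¹) * H.ρ := by rw [hfix]
        _ = H.ρ * (g * g1 * g2) := by group
    · have e1 : H.P ⟨g1, H.R_cent (H.E_le_R hO hg1)⟩ = k := by
        rw [← hgk]; exact H.P_conj_ρ hO _ _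
      have e2 : H.P ⟨g2, H.R_cent (H.E_le_R hO hg2)⟩ = k := by
        rw [← e1]; exact H.P_conj_ρ hO _ _
      have e3 : (⟨g * g1 * g2, H.R_cent (H.E_le_R hO hm)⟩ :
          Subgroup.centralizer ({H.z} : Set G)) =
          ⟨g, H.R_cent (H.E_le_R hO hg)⟩ * ⟨g1, H.R_cent (H.E_le_R hO hg1)⟩ *
            ⟨g2, H.R_cent (H.E_le_R hO hg2)⟩ := rfl
      have e4 : H.P ⟨g * g1 * g2, H.R_cent (H.E_le_R hO hm)⟩ = k := by
        rw [e3, map_mul, map_mul, hgk, e1, e2, fixOct_sq hO.1 hk, one_mul]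
      exact e4)
  rw [h2, h1, Nat.card_zpowers, H.z_order]
  norm_num

theorem E_inf_eq {O' : Finset GolayPt} (hO' : IsHex O') (hne : O ≠ O') :
    H.E O ⊓ H.E O' = H.A O ⊓ H.A O' := by
  apply le_antisymm
  · intro x hx
    have h1 := H.P_mem_fix hO (H.E_le_R hO hx.1)
    have h2 := H.P_mem_fix hO' (H.E_le_R hO' hx.2)
    have h3 := OctadFixTrans.fix_inf hO.1 hO'.1 hne h1 h2
    exact ⟨H.P_eq_one_iff hO hx.1 h3, H.P_eq_one_iff hO' hx.2 h3⟩
  · exact inf_le_inf (H.A_le_E hO) (H.A_le_E hO')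

omit hO

/-- The hexad structure. -/
noncomputable def toHex : Hex G where
  toCent := H.toCent
  P_outer := H.P_outer
  E := H.E
  E_elem _ hO := H.E_elem' hO
  E_card _ hO := H.card_E hO
  z_mem_E _ hO := H.A_le_E hO (H.z_mem_A _ hO)
  E_conj _ hO c a := H.conj_mem_E hO c a
  E_map O hO g := by
    constructor
    · rintro ⟨a, ha, rfl⟩
      have := H.P_mem_fix hO (H.E_le_R hO ha)
      rw [mem_fixOct] at this
      exact this
    · intro hg
      obtain ⟨a, ha, h⟩ := H.P_surj hO (mem_fixOct.2 hg)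
      exact ⟨⟨a, H.R_cent (H.E_le_R hO ha)⟩, ha, h⟩
  A_card _ hO := by rw [H.E_inf_Q hO, H.A_card _ hO]
  A_cent O hO g hg := by
    rw [mem_E]
    intro a ha
    exact (hg a (H.A_le_E hO ha) (H.A_le O hO ha)).symm
  E_inf O O' hO hO' hne x hx := by
    have h1 := H.P_mem_fix hO (H.E_le_R hO hx.1)
    have h2 := H.P_mem_fix hO' (H.E_le_R hO' hx.2)
    have h3 := OctadFixTrans.fix_inf hO.1 hO'.1 hne h1 h2
    exact H.A_le O hO (H.P_eq_one_iff hO hx.1 h3)
  E_inf_two O O' hO hO' hc := by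
    rw [H.E_inf_eq hO hO' (by rintro rfl; rw [Finset.inter_self, hO.1.2] at hc; omega)]
    exact H.A_inf_two O O' hO hO' hc
  E_inf_eight O O' hO hO' hc := by
    rw [H.E_inf_eq hO hO' (by rintro rfl; rw [Finset.inter_self, hO.1.2] at hc; omega)]
    exact H.A_inf_eight O O' hO hO' hc
  F_card _ hO := H.F_card' hO
  V_dim O hO a ha haQ := by
    have haR := H.E_le_R hO ha
    exact H.V_dim' O hO ⟨a, H.R_cent haR⟩ (fun h => haQ (H.mem_Q_of_P_eq_one hO haR h)) haR.2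
  V_inf O hO a ha b hb haQ hbQ habQ q hq h1 h2 := by
    have haR := H.E_le_R hO ha
    have hbR := H.E_le_R hO hb
    refine H.A_le_E hO (H.V_inf' O hO ⟨a, H.R_cent haR⟩ ⟨b, H.R_cent hbR⟩
      (fun h => haQ (H.mem_Q_of_P_eq_one hO haR h)) (fun h => hbQ (H.mem_Q_of_P_eq_one hO hbR h))
      ?_ haR.2 hbR.2 q hq h1 h2)
    intro h
    apply habQ
    refine H.mem_Q_of_P_eq_one hO (mul_mem haR hbR) ?_
    have e : (⟨a * b, H.R_cent (mul_mem haR hbR)⟩ : Subgroup.centralizer ({H.z} : Set G)) =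
      ⟨a, H.R_cent haR⟩ * ⟨b, H.R_cent hbR⟩ := rfl
    rw [e, map_mul, h]
    exact fixOct_sq hO.1 (H.P_mem_fix hO hbR)

end PreHex

end Cfsg.Agent.J4Type
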