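import Cfsg.Agent.J4Type.Setup
import Cfsg.Agent.GolayOrbit.Flags
import Cfsg.Agent.SporadicA.GolayPerm
import Cfsg.Agent.SporadicA.M24Trans
import Cfsg.Agent.SporadicA.GolayCount

/-!
# The stabiliser of two points in `M24` and the 77 hexads

`M22d` (the group `M22:2`) is transitive on the 77 hexads and the stabiliser of `hex0` in it has
order `11520`.
-/

set_option autoImplicit false

namespace Cfsg.Agent.J4Type.HexStab

open Cfsg Cfsg.Agent.GolayOrbit.Flags
open scoped Pointwise

theorem mem_M22d {g : Equiv.Perm GolayPt} : g ∈ M22d ↔ g ∈ M24 ∧ g • base = base := Iff.rfl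

/-- `M24` is transitive on the flags (octad, ordered pair of distinct points of it). -/
theorem exists_flag {O O' : Finset GolayPt} (hO : O ∈ octads) (hO' : O' ∈ octads)
    {p q p' q' : GolayPt} (hp : p ∈ O) (hq : q ∈ O) (hpq : p ≠ q) (hp' : p' ∈ O') (hq' : q' ∈ O')
    (hpq' : p' ≠ q') : ∃ g ∈ M24, g • O = O' ∧ g p = p' ∧ g q = q' := by
  obtain ⟨g, hg, h1, h2, h3⟩ := flagIn hO hp hq hpq
  obtain ⟨k, hk, k1, k2, k3⟩ := flagIn hO' hp' hq' hpq'
  refine ⟨k * g⁻¹, M24.mul_mem hk (M24.inv_mem hg), ?_, ?_, ?_⟩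
  · rw [mul_smul, ← h1, inv_smul_smul, k1]
  · rw [← h2, ← k2, Equiv.Perm.mul_apply]
    exact congrArg k (Equiv.symm_apply_apply g _)
  · rw [← h3, ← k3, Equiv.Perm.mul_apply]
    exact congrArg k (Equiv.symm_apply_apply g _)

theorem none_mem_base : (none : GolayPt) ∈ base := Finset.mem_insert_self _ _

theorem zero_mem_base : (some 0 : GolayPt) ∈ base :=
  Finset.mem_insert_of_mem (Finset.mem_singleton_self _)

theorem none_ne_zero : (none : GolayPt) ≠ some 0 := by decide +kernel

theorem smul_base {g : Equiv.Perm GolayPt} (h1 : g none = none) (h2 : g (some 0) = some 0) :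
    g • base = base := by
  rw [base, Finset.smul_finset_insert, Finset.smul_finset_singleton, Equiv.Perm.smul_def,
    Equiv.Perm.smul_def, h1, h2]

/-- `M22` (the pointwise stabiliser of the base points) is transitive on the hexads. -/
theorem exists_fix_smul {O O' : Finset GolayPt} (hO : IsHex O) (hO' : IsHex O') :
    ∃ g ∈ M22d, g none = none ∧ g (some 0) = some 0 ∧ g • O = O' := by
  obtain ⟨g, hg, h1, h2, h3⟩ := exists_flag hO.1 hO'.1 (hO.2 none_mem_base) (hO.2 zero_mem_base)
    none_ne_zero (hO'.2 none_mem_base) (hO'.2 zero_mem_base) none_ne_zero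
  exact ⟨g, mem_M22d.2 ⟨hg, smul_base h2 h3⟩, h2, h3, h1⟩

theorem isHex_smul {g : Equiv.Perm GolayPt} (hg : g ∈ M22d) {O : Finset GolayPt}
    (hO : IsHex O) : IsHex (g • O) := by
  refine ⟨(GolayOrbit.Walk.smul_mem_octads_iff (mem_M22d.1 hg).1 O).2 hO.1, ?_⟩
  rw [← (mem_M22d.1 hg).2]
  exact Finset.smul_finset_subset_smul_finset hO.2

/-- The flags (octad, two points of it). -/
def flags : Set (Finset GolayPt × Finset GolayPt) := {x | x.1 ∈ octads ∧ x.2 ⊆ x.1 ∧ x.2.card = 2}

theorem ncard_flags : flags.ncard = 21252 := by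
  classical
  have hfin : octads.Finite := Set.toFinite _
  have h1 : flags = ↑(hfin.toFinset.biUnion fun O => (O.powersetCard 2).map
      ⟨fun D => (O, D), fun D D' h => (Prod.ext_iff.1 h).2⟩) := by
    ext ⟨O, D⟩
    simp only [flags, Set.mem_ofPred_eq, Finset.coe_biUnion, Set.mem_iUnion, Finset.mem_coe,
      Set.Finite.mem_toFinset, Finset.mem_map, Finset.mem_powersetCard]
    constructor
    · rintro ⟨hO, hD, h2⟩
      exact ⟨O, hO, D, ⟨hD, h2⟩, rfl⟩
    · rintro ⟨O', hO, D', ⟨hD, h2⟩, h⟩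
      obtain ⟨rfl, rfl⟩ := Prod.ext_iff.1 h
      exact ⟨hO, hD, h2⟩
  rw [h1, Set.ncard_coe_finset, Finset.card_biUnion]
  · rw [Finset.sum_congr rfl (g := fun _ => 28)]
    · rw [Finset.sum_const, ← Set.ncard_eq_toFinset_card octads hfin,
        SporadicA.GolayCount.octads_ncard]
      rfl
    · intro O hO
      rw [Finset.card_map, Finset.card_powersetCard, (hfin.mem_toFinset.1 hO).2]
      rfl
  · intro O _ O' _ hne
    rw [Function.onFun, Finset.disjoint_left]
    intro x hx hx'
    rw [Finset.mem_map] at hx hx'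
    obtain ⟨D, -, rfl⟩ := hx
    obtain ⟨D', -, h⟩ := hx'
    exact hne (Prod.ext_iff.1 h).1.symm

theorem mem_pair {p q : GolayPt} {D : Finset GolayPt} (h : D = {p, q}) : p ∈ D ∧ q ∈ D := by
  subst h
  exact ⟨Finset.mem_insert_self _ _, Finset.mem_insert_of_mem (Finset.mem_singleton_self _)⟩

theorem orbit_flag {O : Finset GolayPt} (hO : IsHex O) :
    MulAction.orbit M24 ((O, base) : Finset GolayPt × Finset GolayPt) = flags := by
  classical
  ext ⟨O', D⟩
  rw [MulAction.mem_orbit_iff]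
  constructor
  · rintro ⟨g, hg⟩
    obtain ⟨rfl, rfl⟩ := Prod.ext_iff.1 hg
    refine ⟨(GolayOrbit.Walk.smul_mem_octads_iff g.2 O).2 hO.1,
      Finset.smul_finset_subset_smul_finset hO.2, ?_⟩
    show ((g : Equiv.Perm GolayPt) • base).card = 2
    rw [Finset.card_smul_finset]
    exact Finset.card_pair none_ne_zero
  · rintro ⟨h1, h2, h3⟩
    dsimp only at h1 h2 h3
    obtain ⟨p, q, hpq, rfl⟩ := Finset.card_eq_two.1 h3
    obtain ⟨g, hg, k1, k2, k3⟩ := exists_flag hO.1 h1 (hO.2 none_mem_base) (hO.2 zero_mem_base)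
      none_ne_zero (h2 (mem_pair rfl).1) (h2 (mem_pair rfl).2) hpq
    refine ⟨⟨g, hg⟩, Prod.ext k1 ?_⟩
    show g • base = {p, q}
    rw [base, Finset.smul_finset_insert, Finset.smul_finset_singleton, Equiv.Perm.smul_def,
      Equiv.Perm.smul_def, k2, k3]

/-- The stabiliser of a hexad in `M22:2` has order `11520`. -/
theorem card_stab {O : Finset GolayPt} (hO : IsHex O) :
    Nat.card (M22d ⊓ MulAction.stabilizer (Equiv.Perm GolayPt) O : Subgroup _) = 11520 := by
  have h1 : Nat.card (MulAction.stabilizer M24 ((O, base) : Finset GolayPt × Finset GolayPt)) *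
      21252 = 244823040 := by
    rw [← ncard_flags, ← orbit_flag hO, ← MulAction.index_stabilizer,
      Subgroup.card_mul_index, SporadicA.M24Trans.card_M24]
  have h2 : (MulAction.stabilizer M24 ((O, base) : Finset GolayPt × Finset GolayPt)).map
      (Subgroup.subtype M24) = M22d ⊓ MulAction.stabilizer (Equiv.Perm GolayPt) O := by
    ext g
    rw [Subgroup.mem_map, Subgroup.mem_inf]
    constructor
    · rintro ⟨k, hk, rfl⟩
      obtain ⟨k1, k2⟩ := Prod.ext_iff.1 hk
      exact ⟨⟨k.2, k2⟩, k1⟩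
    · rintro ⟨hg1, hg2⟩
      exact ⟨⟨g, hg1.1⟩, Prod.ext hg2 hg1.2, rfl⟩
  rw [← h2, Nat.card_congr
    (Subgroup.equivMapOfInjective _ _ (Subgroup.subtype_injective M24)).symm.toEquiv]
  omega

theorem isHex_hex0 : IsHex hex0 := by
  refine ⟨?_, by decide +kernel⟩
  rw [SporadicA.GolayBase.mem_octads_iff]
  decide +kernel

theorem isHex_hex1 : IsHex hex1 := by
  refine ⟨?_, by decide +kernel⟩
  rw [SporadicA.GolayBase.mem_octads_iff]
  decide +kernel

end Cfsg.Agent.J4Type.HexStab
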