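import Cfsg.Agent.J4Type.Base
import Cfsg.Agent.J4Type.Aut22

/-!
# The action of `C_G(t)` on the 24 points (R07, helper855)
-/

set_option autoImplicit false

namespace Cfsg.Agent.J4Type.HomP

open Cfsg Cfsg.Agent.J4Type Cfsg.Agent.J4Type.Aut22

variable {G : Type*} [Group G] {t : G} {Q N M : Subgroup (Subgroup.centralizer ({t} : Set G))}

/-- **Hom P** : `C_G(t)` acts on the 24 points with kernel `N` and range the duad stabiliser
`D22 = M24 ⊓ stabilizer {none, some 0}`. -/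
theorem exists_hom (H : Hyp t Q N M) :
    ∃ P : Subgroup.centralizer ({t} : Set G) →* Equiv.Perm GolayPt, P.ker = N ∧ P.range = D22 ∧
      (∀ c, P c ∈ Cfsg.Spor.M22 ↔ c ∈ M) ∧ ∀ c, P c none = none ↔ c ∈ M := by
  have := H.Mn
  obtain ⟨π, hπ, hk⟩ := H.pi
  obtain ⟨P, h1, h2, -, h3, h4⟩ := Cfsg.Agent.J4Type.Aut22.exists_hom H.Nn H.NM H.index_M hπ hk H.out
  exact ⟨P, h1, h2, h3, h4⟩

end Cfsg.Agent.J4Type.HomP
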