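import Cfsg.Agent.J4Type.Rho

/-!
# J₄ type: lifts of two commuting 3-elements of `M22` do not commute (R07, helper856)

The image `Y` of `M` in `GL(V)` is a perfect group with `Y / ⟨ρ⟩ = M22`; by transfer its Sylow 3-subgroups are not
abelian.
-/

set_option autoImplicit false

namespace Cfsg.Agent.J4Type

open Cfsg.Agent.Co2Type.Quad NormMap
open scoped commutatorElement

/-- transfer: a central element of order 3 of a perfect group does not lie in an abelian subgroup of index coprime
to 3 -/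
theorem NonAb.transfer_false {Y : Type*} [Group Y] [Finite Y] (B : Subgroup Y)
    (hBc : ∀ a ∈ B, ∀ b ∈ B, a * b = b * a) (hB : ¬ 3 ∣ B.index) (z : Y)
    (hz : ∀ y, y * z = z * y) (hzB : z ∈ B) (hz3 : z ^ 3 = 1) (hz1 : z ≠ 1)
    (hperf : ∀ K : Subgroup Y, (∀ a b : Y, ⁅a, b⁆ ∈ K) → K = ⊤) : False := by
  have hcomm : IsMulCommutative B := ⟨⟨fun a b => Subtype.ext (hBc a a.2 b b.2)⟩⟩
  have : Fact (Nat.Prime 3) := ⟨Nat.prime_three⟩
  have hzo : orderOf z = 3 := orderOf_eq_prime hz3 hz1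
  letI : CommGroup B := { (inferInstance : Group B) with mul_comm := hcomm.1.1 }
  have key : ∀ (k : ℕ) (g₀ : Y), g₀⁻¹ * z ^ k * g₀ ∈ B → g₀⁻¹ * z ^ k * g₀ = z ^ k := by
    intro k g _
    have h : Commute g (z ^ k) := (show Commute g z from hz g).pow_right k
    rw [mul_assoc, ← h.eq, inv_mul_cancel_left]
  have h1 := MonoidHom.transfer_eq_pow (MonoidHom.id B) z key
  have h2 := hperf (MonoidHom.transfer (MonoidHom.id B)).ker (fun a b => by
    rw [MonoidHom.mem_ker, map_commutatorElement, commutatorElement_eq_one_iff_mul_comm, mul_comm])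
  have h3 : z ∈ (MonoidHom.transfer (MonoidHom.id B)).ker := by rw [h2]; trivial
  rw [MonoidHom.mem_ker, h1] at h3
  have h4 : z ^ B.index = 1 := congrArg Subtype.val h3
  exact hB (hzo ▸ orderOf_dvd_of_pow_eq_one h4)

/-- two commuting elements of order 3 generate a group of order divisible by 9 -/
theorem NonAb.nine_dvd {X : Type*} [Group X] [Finite X] {p p' : X} (h3 : p ^ 3 = 1) (h3' : p' ^ 3 = 1)
    (hcomm : p * p' = p' * p) (hp : p ≠ 1) (hn1 : p' ≠ 1) (hn2 : p' ≠ p) (hn3 : p' ≠ p ^ 2) :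
    9 ∣ Nat.card (Subgroup.closure ({p, p'} : Set X)) := by
  have : Fact (Nat.Prime 3) := ⟨Nat.prime_three⟩
  set S := Subgroup.closure ({p, p'} : Set X) with hS
  have hpS : p ∈ S := Subgroup.subset_closure (by simp)
  have hpS' : p' ∈ S := Subgroup.subset_closure (by simp)
  have hcm : IsMulCommutative S := by
    apply Subgroup.isMulCommutative_closure
    rintro x (rfl | rfl) y (rfl | rfl)
    · rfl
    · exact hcomm
    · exact hcomm.symm
    · rfl
  have hc : ∀ x ∈ S, ∀ y ∈ S, x * y = y * x := fun x hx y hy =>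
    congrArg Subtype.val (hcm.1.1 ⟨x, hx⟩ ⟨y, hy⟩)
  have hcube : ∀ x ∈ S, x ^ 3 = 1 := by
    intro x hx
    induction hx using Subgroup.closure_induction with
    | mem y hy => rcases hy with rfl | rfl <;> assumption
    | one => exact one_pow 3
    | mul y w hy hw h1 h2 =>
      have hyw : Commute y w := hc y hy w hw
      rw [hyw.mul_pow, h1, h2, one_mul]
    | inv y hy h1 => rw [inv_pow, h1, inv_one]
  have hpg : IsPGroup 3 S := fun x => ⟨1, Subtype.ext (by rw [pow_one]; exact hcube x x.2)⟩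
  obtain ⟨k, hk⟩ := IsPGroup.iff_card.1 hpg
  have hz : Subgroup.zpowers p ≤ S := by rw [Subgroup.zpowers_le]; exact hpS
  have hzc : Nat.card (Subgroup.zpowers p) = 3 := by
    rw [Nat.card_zpowers]; exact orderOf_eq_prime h3 hp
  have hne : ¬ Nat.card S ≤ 3 := by
    intro hle
    have h1 : Subgroup.zpowers p = S := Subgroup.eq_of_le_of_card_ge hz (by rw [hzc]; exact hle)
    rw [← h1] at hpS'
    obtain ⟨i, hi⟩ := Subgroup.mem_zpowers_iff.1 hpS'
    have h5 : p ^ i = p ^ (i % 3) := by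
      conv_lhs => rw [← Int.emod_add_mul_ediv i 3, zpow_add, zpow_mul]
      rw [show p ^ (3 : ℤ) = 1 from (zpow_ofNat p 3).trans h3, one_zpow, mul_one]
    rw [h5] at hi
    have h6 : 0 ≤ i % 3 := Int.emod_nonneg _ (by norm_num)
    have h7 : i % 3 < 3 := Int.emod_lt_of_pos _ (by norm_num)
    interval_cases h : i % 3
    · exact hn1 (by rw [← hi, zpow_zero])
    · exact hn2 (by rw [← hi, zpow_one])
    · exact hn3 (hi.symm.trans (zpow_ofNat p 2))
  rw [hk] at hne ⊢
  have : 2 ≤ k := by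
    by_contra hlt
    push Not at hlt
    interval_cases k <;> omega
  exact pow_dvd_pow 3 this

section

variable {G : Type*} [Group G] [Finite G] {t : G} {Q N M : Subgroup (Subgroup.centralizer ({t} : Set G))}

/-- Lifts of two commuting elements `P c`, `P c'` of `M22` generating a group of order 9 do not commute on `V`. -/
theorem Hyp.not_comm (H : Hyp t Q N M) {P : Subgroup.centralizer ({t} : Set G) →* Equiv.Perm Cfsg.GolayPt}
    (hP : P.ker = N) (hPM : M.map P = Cfsg.Spor.M22) {c c' : Subgroup.centralizer ({t} : Set G)}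
    (hc : c ∈ M) (hc' : c' ∈ M) (h3 : P c ^ 3 = 1) (h3' : P c' ^ 3 = 1) (hcomm : P c * P c' = P c' * P c)
    (hp : P c ≠ 1) (hn1 : P c' ≠ 1) (hn2 : P c' ≠ P c) (hn3 : P c' ≠ P c ^ 2) :
    H.large.act c * H.large.act c' ≠ H.large.act c' * H.large.act c := by
  intro hcc
  obtain ⟨r, hr, hrQ, hr3⟩ := H.exists_r
  set f : M →* (H.large.V ≃ₗ[ZMod 2] H.large.V) := H.large.act.comp M.subtype with hf
  set S := Subgroup.closure ({P c, P c'} : Set (Equiv.Perm Cfsg.GolayPt)) with hS
  set B₀ : Subgroup M := S.comap (P.comp M.subtype) with hB₀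
  have hSM : S ≤ Cfsg.Spor.M22 := by
    rw [hS, Subgroup.closure_le, ← hPM]
    rintro y (rfl | rfl)
    · exact ⟨c, hc, rfl⟩
    · exact ⟨c', hc', rfl⟩
  have h9 : 9 ∣ Nat.card S := NonAb.nine_dvd h3 h3' hcomm hp hn1 hn2 hn3
  have hidx : ¬ 3 ∣ B₀.index := by
    rw [hB₀, Subgroup.index_comap]
    have h1 : (P.comp M.subtype).range = Cfsg.Spor.M22 := by
      rw [MonoidHom.range_comp, Subgroup.range_subtype, hPM]
    rw [h1, Subgroup.relIndex]
    intro h
    have h2 := Subgroup.card_mul_index (S.subgroupOf Cfsg.Spor.M22)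
    rw [Nat.card_congr (Subgroup.subgroupOfEquivOfLe hSM).toEquiv,
      Cfsg.Agent.SporadicA.MathieuRecog.card_M22] at h2
    have h3 : 9 * 3 ∣ 443520 := by rw [← h2]; exact mul_dvd_mul h9 h
    omega
  -- elements over `S` act as elements of the group generated by the lifts and `ρ`
  set D := Subgroup.closure ({H.large.act c, H.large.act c', H.large.act r} : Set (H.large.V ≃ₗ[ZMod 2] H.large.V))
    with hD
  have hcD : H.large.act c ∈ D := Subgroup.subset_closure (by simp)
  have hcD' : H.large.act c' ∈ D := Subgroup.subset_closure (by simp)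
  have hrD : H.large.act r ∈ D := Subgroup.subset_closure (by simp)
  have hDc : ∀ x ∈ D, ∀ y ∈ D, x * y = y * x := by
    have hcm : IsMulCommutative D := by
      apply Subgroup.isMulCommutative_closure
      rintro x (rfl | rfl | rfl) y (rfl | rfl | rfl)
      · rfl
      · exact hcc
      · exact H.act_comm hc hr
      · exact hcc.symm
      · rfl
      · exact H.act_comm hc' hr
      · exact (H.act_comm hc hr).symm
      · exact (H.act_comm hc' hr).symm
      · rfl
    exact fun x hx y hy => congrArg Subtype.val (hcm.1.1 ⟨x, hx⟩ ⟨y, hy⟩)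
  have hND : ∀ n ∈ N, H.large.act n ∈ D := by
    intro n hn
    rcases H.act_N hr hrQ hr3 hn with h | h | h
    · rw [h]; exact one_mem _
    · rw [h]; exact hrD
    · rw [h]; exact D.pow_mem hrD 2
  have hBD : ∀ m : M, m ∈ B₀ → H.large.act m ∈ D := by
    intro m hm
    have h1 : S ≤ (D.comap f).map (P.comp M.subtype) := by
      rw [hS, Subgroup.closure_le]
      rintro y (rfl | rfl)
      · exact ⟨⟨c, hc⟩, hcD, rfl⟩
      · exact ⟨⟨c', hc'⟩, hcD', rfl⟩
    obtain ⟨k, hk, hkm⟩ := h1 hm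
    have h2 : (k : Subgroup.centralizer ({t} : Set G))⁻¹ * m ∈ N := by
      rw [← hP, MonoidHom.mem_ker, map_mul, map_inv, inv_mul_eq_one]
      exact hkm
    have h3 : H.large.act m = H.large.act k * H.large.act ((k : Subgroup.centralizer ({t} : Set G))⁻¹ * m) := by
      rw [← map_mul, mul_inv_cancel_left]
    rw [h3]
    exact D.mul_mem hk (hND _ h2)
  -- apply the transfer lemma to `f.range`
  have hfin : Finite f.range := Finite.of_surjective f.rangeRestrict f.rangeRestrict_surjective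
  refine NonAb.transfer_false (Y := f.range) (B₀.map f.rangeRestrict) ?_ ?_ ⟨H.large.act r, ⟨r, H.NM hr⟩, rfl⟩
    ?_ ?_ ?_ ?_ ?_
  · rintro _ ⟨a, ha, rfl⟩ _ ⟨b, hb, rfl⟩
    exact Subtype.ext (hDc _ (hBD a ha) _ (hBD b hb))
  · intro h
    exact hidx (h.trans (Subgroup.index_map_dvd _ f.rangeRestrict_surjective))
  · rintro ⟨_, ⟨m, rfl⟩⟩
    exact Subtype.ext (H.act_comm m.2 hr)
  · refine ⟨⟨r, H.NM hr⟩, ?_, rfl⟩
    show P r ∈ S
    rw [← hP, MonoidHom.mem_ker] at hr
    rw [hr]; exact one_mem _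
  · apply Subtype.ext
    show H.large.act r ^ 3 = 1
    rw [← map_pow, hr3, map_one]
  · intro h
    exact hrQ (H.act_eq_one.1 (congrArg Subtype.val h))
  · intro K hK
    rw [eq_top_iff]
    have h1 : M ≤ (K.comap f.rangeRestrict).map M.subtype := by
      refine H.M_le _ ?_ ?_
      · intro x hx
        refine ⟨⟨x, H.NM (H.QN hx)⟩, ?_, rfl⟩
        rw [SetLike.mem_coe, Subgroup.mem_comap]
        have : f.rangeRestrict ⟨x, H.NM (H.QN hx)⟩ = 1 := Subtype.ext (H.act_eq_one.2 hx)
        rw [this]; exact one_mem _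
      · intro m hm m' hm'
        refine ⟨⁅(⟨m, hm⟩ : M), ⟨m', hm'⟩⁆, ?_, rfl⟩
        rw [SetLike.mem_coe, Subgroup.mem_comap, map_commutatorElement]
        exact hK _ _
    rintro ⟨_, ⟨m, rfl⟩⟩ _
    obtain ⟨m', hm', e⟩ := h1 m.2
    have h2 : m' = m := Subtype.ext e
    rw [← h2]
    exact hm'

end

end Cfsg.Agent.J4Type
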