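import Cfsg.Agent.J4Type.HexStab

/-!
# `N_C(E(O))` for a hexad `O`

`C = C_G(z)` is transitive on the hexads, `E` is injective on hexads, and `N_C(E O)` is the
preimage under `P` of the stabiliser of `O`; it has order `2 ^ 13 * 3 * 11520`.
-/

set_option autoImplicit false

namespace Cfsg.Agent.J4Type.NormE

open Cfsg Cfsg.Agent.J4Type.HexStab
open scoped Pointwise

variable {G : Type*} [Group G]

section cent

variable (H : Cent G)

theorem P_mem (c : Subgroup.centralizer ({H.z} : Set G)) : H.P c ∈ M22d := by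
  rw [← H.P_range]
  exact ⟨c, rfl⟩

theorem exists_P {g : Equiv.Perm GolayPt} (hg : g ∈ M22d) :
    ∃ c : Subgroup.centralizer ({H.z} : Set G), H.P c = g := by
  rw [← H.P_range] at hg
  exact hg

theorem z_sq : H.z * H.z = 1 := by
  rw [← pow_two, ← H.z_order, pow_orderOf_eq_one]

theorem z_ne_one : H.z ≠ 1 := by
  intro h
  have := H.z_order
  rw [h, orderOf_one] at this
  omega

theorem pow_four {q : G} (hq : q ∈ H.Q) : q ^ 4 = 1 := by
  have h : q ^ 4 = (q * q) * (q * q) := by simp only [pow_succ, pow_zero, one_mul, mul_assoc]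
  rw [h]
  rcases H.Q_sq q hq with h1 | h1 <;> rw [h1]
  · exact one_mul 1
  · exact z_sq H

theorem ρ_notMem : H.ρ ∉ H.Q := by
  intro h
  have h1 := orderOf_dvd_of_pow_eq_one (pow_four H h)
  rw [H.ρ_order] at h1
  omega

theorem ρ_pow_three : H.ρ ^ 3 = 1 := by
  rw [← H.ρ_order, pow_orderOf_eq_one]

theorem ρ_mem : H.ρ ∈ Subgroup.centralizer ({H.z} : Set G) := by
  rw [Subgroup.mem_centralizer_singleton_iff]
  exact H.ρ_comm

theorem ρ_pow_mod (i : ℕ) : H.ρ ^ (i % 3) = H.ρ ^ i := by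
  conv_rhs => rw [← Nat.mod_add_div i 3, pow_add, pow_mul, ρ_pow_three, one_pow, mul_one]

theorem ρ_pow_mem_iff (i : ℕ) : H.ρ ^ i ∈ H.Q ↔ i % 3 = 0 := by
  constructor
  · intro h
    have h3 : i % 3 = 0 ∨ i % 3 = 1 ∨ i % 3 = 2 := by omega
    rw [← ρ_pow_mod] at h
    rcases h3 with h3 | h3 | h3
    · exact h3
    · rw [h3, pow_one] at h
      exact absurd h (ρ_notMem H)
    · rw [h3] at h
      have h4 : H.ρ ^ 2 * H.ρ ^ 2 ∈ H.Q := H.Q.mul_mem h h
      have h5 : H.ρ ^ 2 * H.ρ ^ 2 = H.ρ := by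
        rw [← pow_add, ← ρ_pow_mod]
        exact pow_one _
      rw [h5] at h4
      exact absurd h4 (ρ_notMem H)
  · intro h
    rw [← ρ_pow_mod, h, pow_zero]
    exact H.Q.one_mem

/-- The kernel of `P` has order `2 ^ 13 * 3`. -/
theorem card_ker : Nat.card H.P.ker = 2 ^ 13 * 3 := by
  have hmem : ∀ x : H.Q × Fin 3, (x.1 : G) * H.ρ ^ (x.2 : ℕ) ∈
      Subgroup.centralizer ({H.z} : Set G) := fun x =>
    Subgroup.mul_mem _ (H.Q_le x.1.2) (Subgroup.pow_mem _ (ρ_mem H) _)
  have hker : ∀ x : H.Q × Fin 3,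
      (⟨(x.1 : G) * H.ρ ^ (x.2 : ℕ), hmem x⟩ : Subgroup.centralizer ({H.z} : Set G)) ∈
        H.P.ker := fun x => by
    rw [MonoidHom.mem_ker, H.P_ker]
    exact ⟨x.1, x.1.2, x.2, rfl⟩
  have hbij : Function.Bijective (fun x : H.Q × Fin 3 => (⟨_, hker x⟩ : H.P.ker)) := by
    constructor
    · rintro ⟨q, i⟩ ⟨q', j⟩ h
      have h1 : (q : G) * H.ρ ^ (i : ℕ) = (q' : G) * H.ρ ^ (j : ℕ) :=
        congrArg (fun x : H.P.ker => ((x : Subgroup.centralizer ({H.z} : Set G)) : G)) h
      have h2 : H.ρ ^ ((i : ℕ) + 2 * j) = (q : G)⁻¹ * q' := by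
        have h3 : H.ρ ^ (i : ℕ) = (q : G)⁻¹ * q' * H.ρ ^ (j : ℕ) := by
          rw [mul_assoc, ← h1, inv_mul_cancel_left]
        rw [pow_add, h3, mul_assoc, ← pow_add, ← ρ_pow_mod H ((j : ℕ) + 2 * j)]
        have h4 : ((j : ℕ) + 2 * j) % 3 = 0 := by omega
        rw [h4, pow_zero, mul_one]
      have h5 : H.ρ ^ ((i : ℕ) + 2 * j) ∈ H.Q := by
        rw [h2]
        exact H.Q.mul_mem (H.Q.inv_mem q.2) q'.2
      rw [ρ_pow_mem_iff] at h5
      have h6 : i = j := by
        apply Fin.ext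
        have := i.2
        have := j.2
        omega
      subst h6
      have h7 : (q : G) = q' := mul_right_cancel h1
      rw [Subtype.ext h7]
    · rintro ⟨c, hc⟩
      rw [MonoidHom.mem_ker, H.P_ker] at hc
      obtain ⟨q, hq, i, h⟩ := hc
      refine ⟨(⟨q, hq⟩, ⟨i % 3, Nat.mod_lt _ (by norm_num)⟩), ?_⟩
      apply Subtype.ext
      apply Subtype.ext
      show q * H.ρ ^ (i % 3) = (c : G)
      rw [ρ_pow_mod, h]
  rw [← Nat.card_congr (Equiv.ofBijective _ hbij), Nat.card_prod, H.Q_card, Nat.card_fin]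

end cent

section hex

variable (H : Hex G)

/-- `C` is transitive on the hexads. -/
theorem exists_smul {O O' : Finset GolayPt} (hO : IsHex O) (hO' : IsHex O') :
    ∃ c : Subgroup.centralizer ({H.z} : Set G), H.P c • O = O' := by
  obtain ⟨g, hg, -, -, h⟩ := exists_fix_smul hO hO'
  obtain ⟨c, rfl⟩ := exists_P H.toCent hg
  exact ⟨c, h⟩

theorem isHex_P_smul (c : Subgroup.centralizer ({H.z} : Set G)) {O : Finset GolayPt}
    (hO : IsHex O) : IsHex (H.P c • O) := isHex_smul (P_mem H.toCent c) hO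

theorem E_not_le {O : Finset GolayPt} (hO : IsHex O) : ¬ H.E O ≤ H.Q := by
  intro h
  have h1 := H.A_card O hO
  rw [inf_eq_left.2 h, H.E_card O hO] at h1
  norm_num at h1

theorem E_inj {O O' : Finset GolayPt} (hO : IsHex O) (hO' : IsHex O') (h : H.E O = H.E O') :
    O = O' := by
  by_contra hne
  have h1 := H.E_inf O O' hO hO' hne
  rw [← h, inf_idem] at h1
  exact E_not_le H hO h1

theorem E_smul {O : Finset GolayPt} (hO : IsHex O)
    (c : Subgroup.centralizer ({H.z} : Set G)) :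
    H.E (H.P c • O) = (H.E O).map (MulAut.conj (c : G)).toMonoidHom := by
  ext a
  rw [Subgroup.mem_map]
  constructor
  · intro ha
    refine ⟨(c : G)⁻¹ * a * c, ?_, ?_⟩
    · rw [H.E_conj O hO c]
      have h1 : (c : G) * ((c : G)⁻¹ * a * c) * (c : G)⁻¹ = a := by group
      rw [h1]
      exact ha
    · show (c : G) * ((c : G)⁻¹ * a * c) * (c : G)⁻¹ = a
      group
  · rintro ⟨b, hb, rfl⟩
    exact (H.E_conj O hO c b).1 hb

/-- `c ∈ C` normalises `E O` iff `P c` fixes `O`. -/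
theorem mem_normalizer_iff {O : Finset GolayPt} (hO : IsHex O)
    (c : Subgroup.centralizer ({H.z} : Set G)) :
    (c : G) ∈ Subgroup.normalizer (H.E O : Set G) ↔ H.P c • O = O := by
  rw [Subgroup.mem_normalizer_iff]
  constructor
  · intro h
    apply E_inj H (isHex_P_smul H c hO) hO
    ext a
    have h1 := H.E_conj O hO c ((c : G)⁻¹ * a * c)
    have h2 := h ((c : G)⁻¹ * a * c)
    have h3 : (c : G) * ((c : G)⁻¹ * a * c) * (c : G)⁻¹ = a := by group
    rw [h3] at h1 h2
    exact h1.symm.trans h2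
  · intro h a
    have h1 := H.E_conj O hO c a
    rw [h] at h1
    exact h1

/-- The order of `N_C(E O)`. -/
theorem card_normalizer_inf [Finite G] {O : Finset GolayPt} (hO : IsHex O) :
    Nat.card (Subgroup.normalizer (H.E O : Set G) ⊓ Subgroup.centralizer ({H.z} : Set G) :
      Subgroup G) = 2 ^ 13 * 3 * 11520 := by
  set C := Subgroup.centralizer ({H.z} : Set G) with hC
  set K : Subgroup C := (M22d ⊓ MulAction.stabilizer (Equiv.Perm GolayPt) O).comap H.P with hK
  have h1 : K.map C.subtype = Subgroup.normalizer (H.E O : Set G) ⊓ C := by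
    ext g
    rw [Subgroup.mem_map, Subgroup.mem_inf]
    constructor
    · rintro ⟨c, hc, rfl⟩
      exact ⟨(mem_normalizer_iff H hO c).2 hc.2, c.2⟩
    · rintro ⟨h2, h3⟩
      exact ⟨⟨g, h3⟩, ⟨P_mem H.toCent _, (mem_normalizer_iff H hO ⟨g, h3⟩).1 h2⟩, rfl⟩
  have h2 : H.P.ker ≤ K := fun c hc => by
    rw [hK, Subgroup.mem_comap, (MonoidHom.mem_ker).1 hc]
    exact Subgroup.one_mem _
  have h3 : K.map H.P = M22d ⊓ MulAction.stabilizer (Equiv.Perm GolayPt) O := by
    rw [hK, Subgroup.map_comap_eq, H.P_range, ← inf_assoc, inf_idem]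
  rw [← h1, ← Nat.card_congr
    (Subgroup.equivMapOfInjective K _ (Subgroup.subtype_injective C)).toEquiv]
  have h4 := Subgroup.card_mul_index ((H.P.comp K.subtype).ker)
  rw [Subgroup.index_ker] at h4
  have h5 : (H.P.comp K.subtype).range = M22d ⊓ MulAction.stabilizer (Equiv.Perm GolayPt) O := by
    rw [MonoidHom.range_comp, Subgroup.range_subtype, h3]
  have h6 : Nat.card (H.P.comp K.subtype).ker = 2 ^ 13 * 3 := by
    rw [← card_ker H.toCent]
    have h7 : ((H.P.comp K.subtype).ker).map K.subtype = H.P.ker := by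
      ext c
      rw [Subgroup.mem_map]
      constructor
      · rintro ⟨k, hk, rfl⟩
        exact hk
      · intro hc
        exact ⟨⟨c, h2 hc⟩, hc, rfl⟩
    rw [← h7, ← Nat.card_congr
      (Subgroup.equivMapOfInjective _ _ (Subgroup.subtype_injective K)).toEquiv]
  rw [h5, h6, card_stab hO] at h4
  exact h4.symm

end hex

end Cfsg.Agent.J4Type.NormE
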