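import Cfsg.Agent.J4Type.Count

/-!
# Norm maps on an `F₂`-space; `no_fix` (R07, J₄ type, helper856)
-/

set_option autoImplicit false

namespace Cfsg.Agent.J4Type.NormMap

section

variable {V : Type*} [AddCommGroup V] [Module (ZMod 2) V]

/-- `S T n v = v + T v + ⋯ + T^(n-1) v` -/
def S (T : V ≃ₗ[ZMod 2] V) (n : ℕ) (v : V) : V := ∑ i ∈ Finset.range n, (T ^ i) v

theorem S_add (T : V ≃ₗ[ZMod 2] V) (n : ℕ) (v w : V) : S T n (v + w) = S T n v + S T n w := by
  simp [S, Finset.sum_add_distrib]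

theorem S_zero (T : V ≃ₗ[ZMod 2] V) (n : ℕ) : S T n 0 = 0 := by simp [S]

theorem two_smul' (v : V) : v + v = 0 := by
  have h : (2 : ZMod 2) • v = v + v := two_smul _ v
  rw [← h, show (2 : ZMod 2) = 0 from rfl, zero_smul]

theorem odd_smul {n : ℕ} (hn : Odd n) (v : V) : n • v = v := by
  obtain ⟨k, rfl⟩ := hn
  rw [add_smul, one_smul, mul_comm, mul_smul, two_smul, two_smul', smul_zero, zero_add]

theorem S_comm (T A : V ≃ₗ[ZMod 2] V) (n : ℕ) (h : A * T = T * A) (v : V) :
    S T n (A v) = A (S T n v) := by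
  rw [S, S, map_sum]
  refine Finset.sum_congr rfl fun i _ => ?_
  have h1 : Commute A (T ^ i) := Commute.pow_right h i
  exact (LinearEquiv.congr_fun h1.eq v).symm

theorem T_S (T : V ≃ₗ[ZMod 2] V) (n : ℕ) (hT : T ^ n = 1) (v : V) : T (S T n v) = S T n v := by
  rw [S, map_sum]
  have h1 : ∀ i, T ((T ^ i) v) = (T ^ (i + 1)) v := by
    intro i; rw [pow_succ']; rfl
  rw [Finset.sum_congr rfl fun i _ => h1 i]
  have h2 := Finset.sum_range_succ (fun i => (T ^ i) v) n
  rw [Finset.sum_range_succ'] at h2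
  have h3 : (T ^ n) v = (T ^ 0) v := by rw [hT, pow_zero]
  rw [h3] at h2
  exact add_right_cancel h2

theorem S_T (T : V ≃ₗ[ZMod 2] V) (n : ℕ) (hT : T ^ n = 1) (v : V) : S T n (T v) = S T n v := by
  rw [S_comm T T n rfl, T_S T n hT]

theorem S_of_fix (T : V ≃ₗ[ZMod 2] V) (n : ℕ) (hn : Odd n) {v : V} (hv : T v = v) : S T n v = v := by
  have h1 : ∀ i, (T ^ i) v = v := by
    intro i
    induction i with
    | zero => rfl
    | succ i ih => rw [pow_succ]; show (T ^ i) (T v) = v; rw [hv, ih]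
  rw [S, Finset.sum_congr rfl fun i _ => h1 i, Finset.sum_const, Finset.card_range, odd_smul hn]

theorem eq_zero_of_fix (T : V ≃ₗ[ZMod 2] V) (n : ℕ) (hn : Odd n) {v : V} (hv : T v = v)
    (hS : S T n v = 0) : v = 0 := by
  rw [← S_of_fix T n hn hv]; exact hS

theorem S_sub (T : V ≃ₗ[ZMod 2] V) (n : ℕ) (hT : T ^ n = 1) (v : V) : S T n (T v + v) = 0 := by
  rw [S_add, S_T T n hT, two_smul']

/-- projection onto the kernel of `S T n` -/
def pj (T : V ≃ₗ[ZMod 2] V) (n : ℕ) (v : V) : V := S T⁻¹ n v + v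

theorem pj_zero (T : V ≃ₗ[ZMod 2] V) (n : ℕ) : pj T n 0 = 0 := by simp [pj, S_zero]

theorem pj_comm (T A : V ≃ₗ[ZMod 2] V) (n : ℕ) (h : A * T = T * A) (v : V) :
    pj T n (A v) = A (pj T n v) := by
  have h1 : Commute A T⁻¹ := (show Commute A T from h).inv_right
  rw [pj, pj, S_comm T⁻¹ A n h1.eq, map_add]

theorem S_pj (T : V ≃ₗ[ZMod 2] V) (n : ℕ) (hn : Odd n) (hT : T ^ n = 1) (v : V) :
    S T n (pj T n v) = 0 := by
  have h1 : ∀ i : ℕ, S T n (((T⁻¹) ^ i) v) = S T n v := by
    intro i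
    induction i generalizing v with
    | zero => rfl
    | succ i ih =>
      rw [pow_succ]
      show S T n (((T⁻¹) ^ i) (T⁻¹ v)) = _
      rw [ih, ← S_T T n hT (T⁻¹ v)]
      congr 1
      show (T * T⁻¹) v = v
      rw [mul_inv_cancel]; rfl
  have h2 : S T n (S T⁻¹ n v) = S T n v := by
    have h3 : S T n (∑ i ∈ Finset.range n, ((T⁻¹) ^ i) v) = ∑ i ∈ Finset.range n, S T n (((T⁻¹) ^ i) v) := by
      have h4 : ∀ s : Finset ℕ, S T n (∑ i ∈ s, ((T⁻¹) ^ i) v) = ∑ i ∈ s, S T n (((T⁻¹) ^ i) v) := by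
        intro s
        induction s using Finset.induction_on with
        | empty => simp [S_zero]
        | insert a s ha ih => rw [Finset.sum_insert ha, Finset.sum_insert ha, S_add, ih]
      exact h4 _
    rw [show S T⁻¹ n v = ∑ i ∈ Finset.range n, ((T⁻¹) ^ i) v from rfl, h3,
      Finset.sum_congr rfl fun i _ => h1 i, Finset.sum_const, Finset.card_range, odd_smul hn]
  rw [pj, S_add, h2, two_smul']

theorem b_pj (b : V → V → ZMod 2) (hb : ∀ u v w, b (u + v) w = b u w + b v w)
    (hb' : ∀ u v w, b u (v + w) = b u v + b u w) (T : V ≃ₗ[ZMod 2] V) (n : ℕ)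
    (hT : ∀ v w, b (T v) (T w) = b v w) (v u : V) (hu : S T n u = 0) : b (pj T n v) u = b v u := by
  have h1 : ∀ i : ℕ, ∀ x y, b (((T⁻¹) ^ i) x) y = b x ((T ^ i) y) := by
    intro i
    induction i with
    | zero => intro x y; rfl
    | succ i ih =>
      intro x y
      rw [pow_succ, pow_succ']
      show b (((T⁻¹) ^ i) (T⁻¹ x)) y = b x (T ((T ^ i) y))
      rw [ih, ← hT]
      congr 1
      show (T * T⁻¹) x = x
      rw [mul_inv_cancel]; rfl
  have hb0 : ∀ w, b 0 w = 0 := by
    intro w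
    have := hb 0 0 w
    rw [add_zero] at this
    exact (left_eq_add.1 this)
  have hb0' : ∀ w, b w 0 = 0 := by
    intro w
    have := hb' w 0 0
    rw [add_zero] at this
    exact (left_eq_add.1 this)
  have h2 : b (S T⁻¹ n v) u = b v (S T n u) := by
    have h3 : ∀ s : Finset ℕ, b (∑ i ∈ s, ((T⁻¹) ^ i) v) u = b v (∑ i ∈ s, (T ^ i) u) := by
      intro s
      induction s using Finset.induction_on with
      | empty => simp [hb0, hb0']
      | insert a s ha ih => rw [Finset.sum_insert ha, Finset.sum_insert ha, hb, hb', ih, h1]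
    exact h3 _
  rw [pj, hb, h2, hu, hb0', zero_add]

/-- The subspace killed by two norm maps. -/
def U (T F : V ≃ₗ[ZMod 2] V) (m n : ℕ) : Submodule (ZMod 2) V where
  carrier := {v | S T m v = 0 ∧ S F n v = 0}
  add_mem' := by
    rintro a b ⟨h1, h2⟩ ⟨h3, h4⟩
    exact ⟨by rw [S_add, h1, h3, add_zero], by rw [S_add, h2, h4, add_zero]⟩
  zero_mem' := ⟨S_zero T m, S_zero F n⟩
  smul_mem' := by
    rintro c a ⟨h1, h2⟩
    have hc : ∀ c : ZMod 2, c = 0 ∨ c = 1 := by decide
    rcases hc c with rfl | rfl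
    · rw [zero_smul]; exact ⟨S_zero T m, S_zero F n⟩
    · rw [one_smul]; exact ⟨h1, h2⟩

/-- A nondegenerate quadratic space over `F₂` of dimension at most 12 with commuting isometries `T`, `F` of orders 3
and 7, with `T` having a non-zero fixed vector and `F` acting non-trivially on `[V, T]`: impossible. -/
theorem no_fix [Finite V] (q : V → ZMod 2) (b : V → V → ZMod 2)
    (hq : ∀ v w, q (v + w) = q v + q w + b v w)
    (hb : ∀ u v w, b (u + v) w = b u w + b v w)
    (hb' : ∀ u v w, b u (v + w) = b u v + b u w)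
    (hnd : ∀ u, u ≠ 0 → ∃ v, b v u ≠ 0) (T F : V ≃ₗ[ZMod 2] V)
    (hT : T ^ 3 = 1) (hF : F ^ 7 = 1) (hTF : F * T = T * F)
    (hqT : ∀ v, q (T v) = q v) (hqF : ∀ v, q (F v) = q v)
    (hcard : Nat.card V = 2 ^ 12) (v₀ : V) (hv₀ : v₀ ≠ 0) (hTv : T v₀ = v₀)
    (v₁ : V) (hv₁ : S T 3 v₁ = 0) (hFv : F v₁ ≠ v₁) : False := by
  classical
  have h3 : Odd 3 := by decide
  have h7 : Odd 7 := by decide
  have hbT : ∀ v w, b (T v) (T w) = b v w := by
    intro v w
    have h1 := hq v w
    have h2 := hq (T v) (T w)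
    rw [← map_add, hqT, hqT, hqT, h1] at h2
    exact (add_left_cancel h2).symm
  have hbF : ∀ v w, b (F v) (F w) = b v w := by
    intro v w
    have h1 := hq v w
    have h2 := hq (F v) (F w)
    rw [← map_add, hqF, hqF, hqF, h1] at h2
    exact (add_left_cancel h2).symm
  set W := U T F 3 7 with hW
  have hWT : ∀ v, v ∈ W → T v ∈ W := by
    rintro v ⟨h1, h2⟩
    exact ⟨by rw [S_T T 3 hT, h1], by rw [S_comm F T 7 hTF.symm, h2, map_zero]⟩
  have hWF : ∀ v, v ∈ W → F v ∈ W := by
    rintro v ⟨h1, h2⟩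
    exact ⟨by rw [S_comm T F 3 hTF, h1, map_zero], by rw [S_T F 7 hF, h2]⟩
  have hTT : ∀ v, T (T (T v)) = v := by
    intro v
    have := LinearEquiv.congr_fun hT v
    rw [pow_succ, pow_succ, pow_one] at this
    exact this
  have hFF : ∀ v, F^[7] v = v := by
    intro v
    have := LinearEquiv.congr_fun hF v
    have h : ∀ (n : ℕ) (w : V), F^[n] w = (F ^ n) w := by
      intro n
      induction n with
      | zero => intro w; rfl
      | succ n ih => intro w; rw [Function.iterate_succ_apply, ih, pow_succ]; rfl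
    rw [h]; exact this
  have hmem : F v₁ + v₁ ∈ W :=
    ⟨by rw [S_add, S_comm T F 3 hTF, hv₁, map_zero, add_zero], S_sub F 7 hF v₁⟩
  have hne : F v₁ + v₁ ≠ 0 := by
    intro h
    apply hFv
    rw [← add_right_cancel_iff (a := v₁), h, two_smul']
  have hfin : Module.Finite (ZMod 2) V := Module.Finite.of_finite
  have hWtop : W ≠ ⊤ := by
    intro h
    have : v₀ ∈ W := by rw [h]; trivial
    exact hv₀ (eq_zero_of_fix T 3 h3 hTv this.1)
  have hcardW : Nat.card W = 2 ^ Module.finrank (ZMod 2) W := by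
    have := Module.natCard_eq_pow_finrank (K := ZMod 2) (V := W)
    rw [this, Nat.card_zmod]
  have hfr : Module.finrank (ZMod 2) V = 12 := by
    have := Module.natCard_eq_pow_finrank (K := ZMod 2) (V := V)
    rw [hcard, Nat.card_zmod] at this
    exact (Nat.pow_right_injective le_rfl this).symm
  have hlt : Module.finrank (ZMod 2) W < 12 := by
    rw [← hfr]; exact Submodule.finrank_lt (lt_top_iff_ne_top.2 hWtop).ne
  have hpos : 0 < Module.finrank (ZMod 2) W := by
    rw [Nat.pos_iff_ne_zero]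
    intro h0
    have : W = ⊥ := Submodule.finrank_eq_zero.1 h0
    rw [this] at hmem
    exact hne ((Submodule.mem_bot _).1 hmem)
  refine Count.no_space (V := W) (fun v => q v) (fun v w => b v w) (fun v w => hq v w)
    (fun u v w => hb u v w) ?_ (fun v => ⟨T v, hWT v v.2⟩) (fun v => ⟨F v, hWF v v.2⟩)
    (fun v => Subtype.ext (hTT v)) ?_ (fun v => hqT v) (fun v => hqF v) ?_ ?_
    (Subtype.ext (map_zero T)) (Subtype.ext (map_zero F)) _ hpos hlt hcardW
  · intro u hu
    obtain ⟨w, hw⟩ := hnd u (fun h => hu (Subtype.ext h))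
    refine ⟨⟨pj T 3 (pj F 7 w), ?_, ?_⟩, ?_⟩
    · exact S_pj T 3 h3 hT _
    · have h1 : S F 7 (pj T 3 (pj F 7 w)) = pj T 3 (S F 7 (pj F 7 w)) := by
        have hc : Commute T⁻¹ F := (show Commute T F from hTF.symm).inv_left
        rw [pj, S_add]
        congr 1
        · rw [S, S]
          have h4 : ∀ s : Finset ℕ, S F 7 (∑ i ∈ s, ((T⁻¹) ^ i) (pj F 7 w))
              = ∑ i ∈ s, ((T⁻¹) ^ i) (S F 7 (pj F 7 w)) := by
            intro s
            induction s using Finset.induction_on with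
            | empty => simp [S_zero]
            | insert a s ha ih =>
              rw [Finset.sum_insert ha, Finset.sum_insert ha, S_add, ih, S_comm F _ 7 (hc.pow_left a).eq]
          exact h4 _
      rw [h1, S_pj F 7 h7 hF, pj_zero]
    · show b (pj T 3 (pj F 7 w)) u ≠ 0
      rw [b_pj b hb hb' T 3 hbT _ _ u.2.1, b_pj b hb hb' F 7 hbF _ _ u.2.2]
      exact hw
  · intro v
    apply Subtype.ext
    have : ∀ (n : ℕ) (w : W), (((fun v : W => (⟨F v, hWF v v.2⟩ : W))^[n] w : W) : V) = F^[n] w := by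
      intro n
      induction n with
      | zero => intro w; rfl
      | succ n ih => intro w; rw [Function.iterate_succ_apply, ih]; rfl
    rw [this]
    exact hFF v
  · intro v hv
    exact Subtype.ext (eq_zero_of_fix T 3 h3 (congrArg Subtype.val hv) v.2.1)
  · intro v hv
    exact Subtype.ext (eq_zero_of_fix F 7 h7 (congrArg Subtype.val hv) v.2.2)

end

end Cfsg.Agent.J4Type.NormMap
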