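import Cfsg.Agent.J4Type.DDataMain
import Cfsg.Agent.J4Type.FusionCount2
import Cfsg.Agent.J4Type.DuadEnd

/-!
# Parts (b) + (c) assembled: `Hex`, `VCoord` and the `Z*`-theorem give a `Frame`
-/

set_option autoImplicit false

namespace Cfsg.Agent.J4Type.PartC

variable {G : Type*} [Group G]

/-- **Parts (b) + (c).** -/
theorem exists_frame [Finite G] (H : Hex G) (V : VCoord H)
    (hZ : ∃ t, IsConj H.z t ∧ t * H.z = H.z * t ∧ t ≠ H.z) : ∃ F : Frame G, F.toHex = H := by
  obtain ⟨K⟩ := DDataMain.exists_ddata V.toECoord (FusionCount2.card_Om V.toECoord hZ)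
  exact DuadEnd.exists_frame K (FusionConj.E_unique H)

end Cfsg.Agent.J4Type.PartC
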