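import Cfsg.Agent.J4Type.CentCoords
import Cfsg.Agent.J4Type.HexMax
import Cfsg.Agent.J4Type.HexStab
import Cfsg.Agent.J4Type.OctadFixTrans

/-!
# Permutation facts for `PreHexOf`

* `pb x` (`x` four bits) : the sixteen elements of `fixOct hex0`, as products of `b01`, `b12`, `b45`,
  `b35`; `exists_pb`.
* `mem_fixOct_of_comm` : the centraliser of `fixOct hex0` in the stabiliser of `hex0`.
* `c1`, `c2` fix `hex1` pointwise, `hex0` and `c1 • hex0` meet in four points.
-/

set_option autoImplicit false

namespace Cfsg.Agent.J4Type.PreHexPerm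

open Cfsg Cfsg.Agent.J4Type CentCoords CocodeMask SporadicA.GolayBase
  SporadicA.OctadFix OctadFixTrans
open SporadicA.GolayPerm hiding pcomp papp_pcomp
open scoped Pointwise

/-! ### The six permutations -/

noncomputable def b01 : M24 := mk Tb01 (by decide +kernel)
noncomputable def b45 : M24 := mk Tb45 (by decide +kernel)
noncomputable def s : M24 := mk Ts (by decide +kernel)
noncomputable def s' : M24 := mk Ts' (by decide +kernel)
noncomputable def c1 : M24 := mk Tc1 (by decide +kernel)
noncomputable def c2 : M24 := mk Tc2 (by decide +kernel)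

theorem tab_b01 : IsTab b01 Tb01 := isTab_mk _ _
theorem tab_b45 : IsTab b45 Tb45 := isTab_mk _ _
theorem tab_s : IsTab s Ts := isTab_mk _ _
theorem tab_s' : IsTab s' Ts' := isTab_mk _ _
theorem tab_c1 : IsTab c1 Tc1 := isTab_mk _ _
theorem tab_c2 : IsTab c2 Tc2 := isTab_mk _ _

/-- `b12 = s' b01 s'⁻¹` -/
noncomputable def b12 : M24 := s' * (b01 * (s' * s'))
/-- `b35 = s b45 s⁻¹` -/
noncomputable def b35 : M24 := s * (b45 * (s * s))

def Tb12 : ℕ := 979236149903553240597937305795791488
def Tb35 : ℕ := 959823939071994704882402347086186784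

theorem tab_b12 : IsTab b12 Tb12 := by
  have h : pcomp Ts' (pcomp Tb01 (pcomp Ts' Ts')) = Tb12 := by decide +kernel
  rw [← h]
  exact tab_s'.mul (tab_b01.mul (tab_s'.mul tab_s'))

theorem tab_b35 : IsTab b35 Tb35 := by
  have h : pcomp Ts (pcomp Tb45 (pcomp Ts Ts)) = Tb35 := by decide +kernel
  rw [← h]
  exact tab_s.mul (tab_b45.mul (tab_s.mul tab_s))

theorem apply_eq_of_tab {g : M24} {P : ℕ} (hg : IsTab g P) {p : GolayPt}
    (h : papp P (idx p) = idx p) : (g : Equiv.Perm GolayPt) p = p :=
  idx_injective ((hg p).trans h)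

theorem mem_M22d_of_tab {g : M24} {P : ℕ} (hg : IsTab g P)
    (h : (Nat.beq (papp P 23) 23 && Nat.beq (papp P 0) 0) = true) :
    (g : Equiv.Perm GolayPt) ∈ M22d := by
  rw [Bool.and_eq_true] at h
  refine HexStab.mem_M22d.2 ⟨g.2, HexStab.smul_base ?_ ?_⟩
  · exact apply_eq_of_tab hg (Nat.eq_of_beq_eq_true h.1)
  · exact apply_eq_of_tab hg (Nat.eq_of_beq_eq_true h.2)

theorem b01_mem : (b01 : Equiv.Perm GolayPt) ∈ M22d := mem_M22d_of_tab tab_b01 (by decide +kernel)
theorem b12_mem : (b12 : Equiv.Perm GolayPt) ∈ M22d := mem_M22d_of_tab tab_b12 (by decide +kernel)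
theorem b45_mem : (b45 : Equiv.Perm GolayPt) ∈ M22d := mem_M22d_of_tab tab_b45 (by decide +kernel)
theorem b35_mem : (b35 : Equiv.Perm GolayPt) ∈ M22d := mem_M22d_of_tab tab_b35 (by decide +kernel)
theorem s_mem : (s : Equiv.Perm GolayPt) ∈ M22d := mem_M22d_of_tab tab_s (by decide +kernel)
theorem s'_mem : (s' : Equiv.Perm GolayPt) ∈ M22d := mem_M22d_of_tab tab_s' (by decide +kernel)
theorem c1_mem : (c1 : Equiv.Perm GolayPt) ∈ M22d := mem_M22d_of_tab tab_c1 (by decide +kernel)
theorem c2_mem : (c2 : Equiv.Perm GolayPt) ∈ M22d := mem_M22d_of_tab tab_c2 (by decide +kernel)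

/-! ### The sixteen elements of `fixOct hex0` -/

/-- four bits -/
abbrev X : Type := Bool × Bool × Bool × Bool

noncomputable def pb (x : X) : M24 :=
  cond x.1 b01 1 * (cond x.2.1 b12 1 * (cond x.2.2.1 b45 1 * cond x.2.2.2 b35 1))

/-- the packed tables of the sixteen elements -/
def Tpb : X → ℕ
  | (false, false, false, false) => 984818244535754528103549039458486304
  | (false, false, false, true) => 959823939071994704882402347086186784
  | (false, false, true, false) => 957028651706772161000819827381930688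
  | (false, false, true, true) => 967739223789245171407146504132003936
  | (false, true, false, false) => 979236149903553240597937305795791488
  | (false, true, false, true) => 980747918883362939279568022996060640
  | (false, true, true, false) => 981940260449521198767676458684353088
  | (false, true, true, true) => 975141542956546445243913353447475808
  | (true, false, false, false) => 976539006901119804582877792120867232
  | (true, false, false, true) => 965823287528192349793434105431984800
  | (true, false, true, false) => 972388651884523380316328689283009024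
  | (true, false, true, true) => 983553042649537266979977019204733184
  | (true, true, false, false) => 965094429999691373696704173595626016
  | (true, true, false, true) => 974394222122509349096603230276913536
  | (true, true, true, false) => 978241746458226444833005867658250464
  | (true, true, true, true) => 971700361611140356443901154824849856

theorem chk0 : ∀ b c d : Bool, pcomp Tb01 (Tpb (false, b, c, d)) = Tpb (true, b, c, d) := by
  decide +kernel

theorem chk1 : ∀ c d : Bool, pcomp Tb12 (Tpb (false, false, c, d)) = Tpb (false, true, c, d) := by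
  decide +kernel

theorem chk2 : ∀ d : Bool, pcomp Tb45 (Tpb (false, false, false, d)) = Tpb (false, false, true, d) := by
  decide +kernel

theorem chk3 : pone = Tpb (false, false, false, false) := by decide +kernel

theorem tab3 (d : Bool) : IsTab (cond d b35 1) (Tpb (false, false, false, d)) := by
  cases d
  · rw [← chk3]
    exact isTab_one
  · exact tab_b35

theorem tab2 (c d : Bool) : IsTab (cond c b45 1 * cond d b35 1) (Tpb (false, false, c, d)) := by
  cases c
  · rw [cond_false, one_mul]
    exact tab3 d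
  · rw [← chk2]
    exact tab_b45.mul (tab3 d)

theorem tab1 (b c d : Bool) : IsTab (cond b b12 1 * (cond c b45 1 * cond d b35 1))
    (Tpb (false, b, c, d)) := by
  cases b
  · rw [cond_false, one_mul]
    exact tab2 c d
  · rw [← chk1]
    exact tab_b12.mul (tab2 c d)

theorem tab_pb (x : X) : IsTab (pb x) (Tpb x) := by
  obtain ⟨a, b, c, d⟩ := x
  show IsTab (cond a b01 1 * (cond b b12 1 * (cond c b45 1 * cond d b35 1))) _
  cases a
  · rw [cond_false, one_mul]
    exact tab1 b c d
  · rw [← chk0]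
    exact tab_b01.mul (tab1 b c d)

theorem pb_zero : pb (false, false, false, false) = 1 := by
  show (1 : M24) * (1 * (1 * 1)) = 1
  simp

theorem Tpb_fix : ∀ x : X, ∀ p ∈ hex0, papp (Tpb x) (idx p) = idx p := by decide +kernel

theorem pb_mem_fixOct (x : X) : (pb x : Equiv.Perm GolayPt) ∈ fixOct hex0 :=
  mem_fixOct.2 ⟨(pb x).2, fun p hp => apply_eq_of_tab (tab_pb x) (Tpb_fix x p hp)⟩

theorem pb_mem (x : X) : (pb x : Equiv.Perm GolayPt) ∈ M22d := by
  have h : ∀ x : X, (Nat.beq (papp (Tpb x) 23) 23 && Nat.beq (papp (Tpb x) 0) 0) = true := by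
    decide +kernel
  exact mem_M22d_of_tab (tab_pb x) (h x)

theorem gp3_not_mem : gp 3 ∉ hex0 := by decide +kernel

theorem Tpb_surj : ∀ p : GolayPt, p ∉ hex0 → ∃ x : X, papp (Tpb x) 3 = idx p := by
  decide +kernel

/-- every element of `fixOct hex0` is one of the `pb x` -/
theorem exists_pb {g : Equiv.Perm GolayPt} (hg : g ∈ fixOct hex0) :
    ∃ x : X, (pb x : Equiv.Perm GolayPt) = g := by
  have h1 : g (gp 3) ∉ hex0 := by
    intro h
    have h2 := (mem_fixOct.1 hg).2 _ h
    exact gp3_not_mem ((g.injective h2) ▸ h)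
  obtain ⟨x, hx⟩ := Tpb_surj _ h1
  refine ⟨x, ?_⟩
  obtain ⟨u, -, hu⟩ := existsUnique_fixOct HexMax.hex0_isHex.1 gp3_not_mem h1
  have h3 : (pb x : Equiv.Perm GolayPt) (gp 3) = g (gp 3) := by
    apply idx_injective
    rw [← hx]
    exact tab_pb x (gp 3)
  rw [hu _ ⟨pb_mem_fixOct x, h3⟩, hu g ⟨hg, rfl⟩]

/-! ### The centraliser of `fixOct hex0` -/

/-- an octad disjoint from `hex0` -/
def octD : Finset GolayPt := gset [3, 8, 12, 15, 16, 17, 20, 22]

theorem octD_mem : octD ∈ octads := by
  rw [mem_octads_iff]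
  decide +kernel

theorem octD_disj : ∀ p ∈ octD, p ∉ hex0 := by decide +kernel

theorem gp14_not_mem : gp 14 ∉ octD ∧ gp 14 ∉ hex0 := by decide +kernel

theorem mem_fixOct_of_comm {g : Equiv.Perm GolayPt} (hg : g ∈ M24) (h0 : g • hex0 = hex0)
    (hc : ∀ b ∈ fixOct hex0, g * b = b * g) : g ∈ fixOct hex0 := by
  have hout : ∀ q, q ∉ hex0 → g q ∉ hex0 := by
    intro q hq h
    apply hq
    rw [← h0] at h
    rwa [mem_smul_iff] at h
  have hcomm : ∀ a ∈ fixOct hex0, ∀ b ∈ fixOct hex0, a * b = b * a := by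
    intro a ha b hb
    have h1 := fixOct_sq HexMax.hex0_isHex.1 ha
    have h2 := fixOct_sq HexMax.hex0_isHex.1 hb
    have h3 := fixOct_sq HexMax.hex0_isHex.1 (mul_mem ha hb)
    have e1 : a⁻¹ = a := inv_eq_of_mul_eq_one_left h1
    have e2 : b⁻¹ = b := inv_eq_of_mul_eq_one_left h2
    have e3 : (a * b)⁻¹ = a * b := inv_eq_of_mul_eq_one_left h3
    rw [mul_inv_rev, e1, e2] at e3
    exact e3.symm
  obtain ⟨b, ⟨hb, hbp⟩, -⟩ := existsUnique_fixOct HexMax.hex0_isHex.1 gp3_not_mem
    (hout _ gp3_not_mem)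
  have hall : ∀ q, q ∉ hex0 → g q = b q := by
    intro q hq
    obtain ⟨a, ⟨ha, haq⟩, -⟩ := existsUnique_fixOct HexMax.hex0_isHex.1 gp3_not_mem hq
    have h1 := congrArg (fun f : Equiv.Perm GolayPt => f (gp 3)) (hc a ha)
    have h2 := congrArg (fun f : Equiv.Perm GolayPt => f (gp 3)) (hcomm a ha b hb)
    simp only [Equiv.Perm.mul_apply] at h1 h2
    rw [haq] at h1 h2
    rw [h1, ← hbp, h2]
  have hk : b⁻¹ * g ∈ fixOct octD := by
    refine mem_fixOct.2 ⟨M24.mul_mem (M24.inv_mem (mem_fixOct.1 hb).1) hg, fun q hq => ?_⟩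
    rw [Equiv.Perm.mul_apply, Equiv.Perm.inv_eq_iff_eq]
    exact hall q (octD_disj q hq)
  have h1 : b⁻¹ * g = 1 := by
    refine OctadFixTrans.eq_one_of_fix octD_mem hk gp14_not_mem.1 ?_
    rw [Equiv.Perm.mul_apply, Equiv.Perm.inv_eq_iff_eq]
    exact hall _ gp14_not_mem.2
  rw [inv_mul_eq_one] at h1
  rw [← h1]
  exact hb

/-! ### `c1` and `c2` -/

theorem Tc_fix : ∀ p ∈ hex1, papp Tc1 (idx p) = idx p ∧ papp Tc2 (idx p) = idx p := by
  decide +kernel

theorem c1_fix : ∀ p ∈ hex1, (c1 : Equiv.Perm GolayPt) p = p :=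
  fun p hp => apply_eq_of_tab tab_c1 (Tc_fix p hp).1

theorem c2_fix : ∀ p ∈ hex1, (c2 : Equiv.Perm GolayPt) p = p :=
  fun p hp => apply_eq_of_tab tab_c2 (Tc_fix p hp).2

theorem inter01 : (hex0 ∩ hex1).card = 2 := by decide +kernel

/-- `hex0` as a mask -/
theorem hex0_eq : hex0 = fin 8391797 := by decide +kernel

theorem inter_c1 : (hex0 ∩ (c1 : Equiv.Perm GolayPt) • hex0).card = 4 := by
  have h : (c1 : Equiv.Perm GolayPt) • hex0 = fin (pimg Tc1 8391797) := by
    rw [hex0_eq]
    exact smul_fin (P := Tc1) (by decide +kernel) _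
  rw [h, hex0_eq, ← fin_and, card_fin]
  decide +kernel

end Cfsg.Agent.J4Type.PreHexPerm
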