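import Cfsg.Agent.J4Type.PreHexLin
import Cfsg.Agent.J4Type.PreHexPerm
import Cfsg.Agent.J4Type.FusionV

/-!
# The subgroups `A(O)` of `Q` from coordinates

`AO K O` : the elements of `Q` centralised modulo `z` by the elements `c ∈ C_G(z)` over the pointwise
stabiliser of `O` with `c²` trivial on `Q/⟨z⟩`.  `mem_A0` : `AO K hex0 = {(a; 0)}`.
-/

set_option autoImplicit false

open scoped Pointwise

namespace Cfsg.Agent.J4Type.PreHexA

open Cfsg SporadicA.FieldFour VCoord CentCoords PreHexLin SporadicA.OctadFix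

variable {G : Type*} [Group G] {H : Cent G}

/-! ### elementary facts -/

theorem mem_cc {g : G} : g ∈ Subgroup.centralizer ({H.z} : Set G) ↔ g * H.z = H.z * g :=
  Subgroup.mem_centralizer_singleton_iff

theorem zz (H : Cent G) : H.z * H.z = 1 := FusionV.z_sq H

theorem cz (c : Subgroup.centralizer ({H.z} : Set G)) : (c : G) * H.z = H.z * c := mem_cc.1 c.2

theorem conj_mem (c : Subgroup.centralizer ({H.z} : Set G)) {q : G} (hq : q ∈ H.Q) :
    (c : G) * q * (c : G)⁻¹ ∈ H.Q := H.Q_conj c (cz c) q hq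

theorem conj_mem' (c : Subgroup.centralizer ({H.z} : Set G)) {q : G} (hq : q ∈ H.Q) :
    (c : G)⁻¹ * q * (c : G) ∈ H.Q := by
  have := conj_mem c⁻¹ hq
  simpa using this

/-- trivial action modulo `z` -/
def Tr (H : Cent G) (g q : G) : Prop := g * q * g⁻¹ = q ∨ g * q * g⁻¹ = H.z * q

theorem Tr_iff {g q : G} : Tr H g q ↔ (g * q = q * g ∨ g * q = H.z * (q * g)) := by
  unfold Tr
  rw [mul_inv_eq_iff_eq_mul, mul_inv_eq_iff_eq_mul, mul_assoc H.z]

theorem Tr_conj {x q : G} (g : Subgroup.centralizer ({H.z} : Set G)) (h : Tr H x q) :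
    Tr H ((g : G) * x * (g : G)⁻¹) ((g : G) * q * (g : G)⁻¹) := by
  have e : (g : G) * x * (g : G)⁻¹ * ((g : G) * q * (g : G)⁻¹) * ((g : G) * x * (g : G)⁻¹)⁻¹ =
      (g : G) * (x * q * x⁻¹) * (g : G)⁻¹ := by group
  rcases h with h | h
  · left
    rw [e, h]
  · right
    rw [e, h, ← mul_assoc, cz g]
    group

variable (K : CentCoords H)

theorem co_one : K.co 1 = 0 := by
  have h := K.co_mul 1 H.Q.one_mem 1 H.Q.one_mem
  rw [mul_one] at h
  exact left_eq_add.1 h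

theorem co_inv {q : G} (hq : q ∈ H.Q) : K.co q⁻¹ = K.co q := by
  have h := K.co_mul q hq q⁻¹ (H.Q.inv_mem hq)
  rw [mul_inv_cancel, co_one] at h
  have h2 : K.co q + K.co q = K.co q + K.co q⁻¹ := by rw [add_self6, h]
  exact (add_left_cancel h2).symm

theorem co_zmul {q : G} (hq : q ∈ H.Q) : K.co (H.z * q) = K.co q := by
  rw [K.co_mul _ H.z_mem_Q _ hq, K.co_z, zero_add]

theorem co_eq_iff {q r : G} (hq : q ∈ H.Q) (hr : r ∈ H.Q) :
    K.co q = K.co r ↔ (q = r ∨ q = H.z * r) := by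
  constructor
  · intro h
    have h1 : K.co (q * r⁻¹) = 0 := by
      rw [K.co_mul q hq _ (H.Q.inv_mem hr), co_inv K hr, h, add_self6]
    rcases K.co_ker _ (H.Q.mul_mem hq (H.Q.inv_mem hr)) h1 with h2 | h2
    · left
      exact mul_inv_eq_one.1 h2
    · right
      exact mul_inv_eq_iff_eq_mul.1 h2
  · rintro (rfl | rfl)
    · rfl
    · exact co_zmul K hr

theorem Tr_iff_co (c : Subgroup.centralizer ({H.z} : Set G)) {q : G} (hq : q ∈ H.Q) :
    Tr H (c : G) q ↔ K.co ((c : G) * q * (c : G)⁻¹) = K.co q :=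
  (co_eq_iff K (conj_mem c hq) hq).symm

theorem co_conj_congr (c : Subgroup.centralizer ({H.z} : Set G)) {q r : G} (hq : q ∈ H.Q)
    (hr : r ∈ H.Q) (h : K.co q = K.co r) :
    K.co ((c : G) * q * (c : G)⁻¹) = K.co ((c : G) * r * (c : G)⁻¹) := by
  rw [co_eq_iff K (conj_mem c hq) (conj_mem c hr)]
  rcases (co_eq_iff K hq hr).1 h with h | h
  · left; rw [h]
  · right
    rw [h, ← mul_assoc, cz c]
    group

theorem co_conj_inj (c : Subgroup.centralizer ({H.z} : Set G)) {q r : G} (hq : q ∈ H.Q)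
    (hr : r ∈ H.Q) (h : K.co ((c : G) * q * (c : G)⁻¹) = K.co ((c : G) * r * (c : G)⁻¹)) :
    K.co q = K.co r := by
  have h1 := co_conj_congr K c⁻¹ (conj_mem c hq) (conj_mem c hr) h
  have e : ∀ x : G, ((c⁻¹ : Subgroup.centralizer ({H.z} : Set G)) : G) *
      ((c : G) * x * (c : G)⁻¹) * ((c⁻¹ : Subgroup.centralizer ({H.z} : Set G)) : G)⁻¹ = x := by
    intro x
    show (c : G)⁻¹ * ((c : G) * x * (c : G)⁻¹) * ((c : G)⁻¹)⁻¹ = x
    group
  rwa [e, e] at h1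

/-! ### lifts -/

theorem exists_lift {p : Equiv.Perm GolayPt} (hp : p ∈ M22d) :
    ∃ c : Subgroup.centralizer ({H.z} : Set G), H.P c = p := by
  rw [← H.P_range] at hp
  exact hp

theorem P_mem (c : Subgroup.centralizer ({H.z} : Set G)) : H.P c ∈ M22d := by
  rw [← H.P_range]
  exact ⟨c, rfl⟩

/-- `ρ` as an element of the centraliser -/
abbrev r (H : Cent G) : Subgroup.centralizer ({H.z} : Set G) := FusionV.rC H

theorem co_rho_pow (i : ℕ) {q : G} (hq : q ∈ H.Q) :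
    K.co ((r H : G) ^ i * q * ((r H : G) ^ i)⁻¹) = scm (K.om ^ i) (K.co q) := by
  induction i with
  | zero => rw [pow_zero, pow_zero, one_mul, inv_one, mul_one, scm_one]
  | succ i ih =>
    have e : (r H : G) ^ (i + 1) * q * ((r H : G) ^ (i + 1))⁻¹ =
        H.ρ * ((r H : G) ^ i * q * ((r H : G) ^ i)⁻¹) * H.ρ⁻¹ := by
      rw [pow_succ']
      show H.ρ * (r H : G) ^ i * q * (H.ρ * (r H : G) ^ i)⁻¹ = _
      group
    have hm : (r H : G) ^ i * q * ((r H : G) ^ i)⁻¹ ∈ H.Q := conj_mem ((r H) ^ i) hq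
    rw [e, K.co_rho _ hm, ih, scm_scm, pow_succ']

theorem P_r_pow (i : ℕ) : H.P ((r H) ^ i) = 1 := by
  rw [H.P_ker]
  exact ⟨1, H.Q.one_mem, i, by rw [one_mul]; rfl⟩

theorem exists_pow {K : CentCoords H} {γ : F4} (hγ : γ ≠ 0) : ∃ i : ℕ, K.om ^ i = γ := by
  have h1 := K.om_ne_zero
  have h2 := K.om_ne_one
  have h : ∀ a b : F4, a ≠ 0 → a ≠ 1 → b ≠ 0 → a ^ 0 = b ∨ a ^ 1 = b ∨ a ^ 2 = b := by
    decide +kernel
  rcases h _ _ h1 h2 hγ with h | h | h
  · exact ⟨_, h⟩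
  · exact ⟨_, h⟩
  · exact ⟨_, h⟩

/-- a lift with scalar 1 -/
theorem exists_lift_one {p : Equiv.Perm GolayPt} (hp : p ∈ M22d) {M : V6 → V6}
    (h : Lin H K.co p M) : ∃ c : Subgroup.centralizer ({H.z} : Set G), H.P c = p ∧
      ∀ q ∈ H.Q, K.co ((c : G) * q * (c : G)⁻¹) = M (K.co q) := by
  obtain ⟨c, hc⟩ := exists_lift (H := H) hp
  obtain ⟨γ, hγ, h1⟩ := h c hc
  obtain ⟨i, hi⟩ := exists_pow (K := K) (inv_ne_zero hγ)
  refine ⟨(r H) ^ i * c, by rw [map_mul, P_r_pow, one_mul, hc], fun q hq => ?_⟩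
  have e : (((r H) ^ i * c : Subgroup.centralizer ({H.z} : Set G)) : G) * q *
      (((r H) ^ i * c : Subgroup.centralizer ({H.z} : Set G)) : G)⁻¹ =
      (r H : G) ^ i * ((c : G) * q * (c : G)⁻¹) * ((r H : G) ^ i)⁻¹ := by
    show (r H : G) ^ i * (c : G) * q * ((r H : G) ^ i * (c : G))⁻¹ = _
    group
  rw [e, co_rho_pow K i (conj_mem c hq), hi, h1 q hq, scm_scm, inv_mul_cancel₀ hγ, scm_one]

theorem lin_one : Lin H K.co 1 id := by
  intro c hc
  obtain ⟨q0, hq0, i, h⟩ := (H.P_ker c).1 hc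
  refine ⟨K.om ^ i, pow_ne_zero _ K.om_ne_zero, fun q hq => ?_⟩
  have hm : (r H : G) ^ i * q * ((r H : G) ^ i)⁻¹ ∈ H.Q := conj_mem ((r H) ^ i) hq
  have e : (c : G) * q * (c : G)⁻¹ = q0 * ((r H : G) ^ i * q * ((r H : G) ^ i)⁻¹) * q0⁻¹ := by
    rw [h]
    show q0 * (r H : G) ^ i * q * (q0 * (r H : G) ^ i)⁻¹ = _
    group
  have h0 : K.co (q0⁻¹) = K.co q0 := co_inv K hq0
  rw [e, K.co_mul _ (H.Q.mul_mem hq0 hm) _ (H.Q.inv_mem hq0), K.co_mul _ hq0 _ hm, h0,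
    co_rho_pow K i hq, add_right_comm, add_self6, zero_add]
  rfl

theorem lin_mul {p p' : Equiv.Perm GolayPt} {M M' : V6 → V6} (hp : p ∈ M22d)
    (h : Lin H K.co p M) (h' : Lin H K.co p' M') (hM : ∀ γ v, M (scm γ v) = scm γ (M v)) :
    Lin H K.co (p * p') (M ∘ M') := by
  intro c hc
  obtain ⟨d, hd⟩ := exists_lift (H := H) hp
  obtain ⟨γ, hγ, h1⟩ := h d hd
  have he : H.P (d⁻¹ * c) = p' := by rw [map_mul, map_inv, hd, hc, inv_mul_cancel_left]
  obtain ⟨γ', hγ', h1'⟩ := h' _ he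
  refine ⟨γ * γ', mul_ne_zero hγ hγ', fun q hq => ?_⟩
  have e : (c : G) * q * (c : G)⁻¹ = (d : G) *
      (((d⁻¹ * c : Subgroup.centralizer ({H.z} : Set G)) : G) * q *
        ((d⁻¹ * c : Subgroup.centralizer ({H.z} : Set G)) : G)⁻¹) * (d : G)⁻¹ := by
    show (c : G) * q * (c : G)⁻¹ =
      (d : G) * (((d : G)⁻¹ * (c : G)) * q * ((d : G)⁻¹ * (c : G))⁻¹) * (d : G)⁻¹
    group
  rw [e, h1 _ (conj_mem _ hq), h1' q hq, hM, scm_scm]
  rfl

theorem lin_b12 : Lin H K.co (PreHexPerm.b12 : Equiv.Perm GolayPt) MB12 := by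
  have h1 := K.lin_s' _ PreHexPerm.tab_s'
  have h2 := K.lin_b01 _ PreHexPerm.tab_b01
  have h3 := lin_mul K PreHexPerm.s'_mem h1 h1 scm_MSh
  have h4 := lin_mul K PreHexPerm.b01_mem h2 h3 scm_MB01
  have h5 := lin_mul K PreHexPerm.s'_mem h1 h4 scm_MSh
  rw [MB12_eq] at h5
  exact h5

theorem lin_b35 : Lin H K.co (PreHexPerm.b35 : Equiv.Perm GolayPt) MB35 := by
  have h1 := K.lin_s _ PreHexPerm.tab_s
  have h2 := K.lin_b45 _ PreHexPerm.tab_b45
  have h3 := lin_mul K PreHexPerm.s_mem h1 h1 scm_MDg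
  have h4 := lin_mul K PreHexPerm.b45_mem h2 h3 scm_MB45
  have h5 := lin_mul K PreHexPerm.s_mem h1 h4 scm_MDg
  rw [MB35_eq] at h5
  exact h5

theorem scm_MB12 (γ : F4) (v : V6) : MB12 (scm γ v) = scm γ (MB12 v) := by
  refine Prod.ext ?_ rfl
  show sc γ v.1 + B12 (sc γ v.2) = sc γ (v.1 + B12 v.2)
  rw [sc_add, sc_B12]

theorem lin_cond {p : M24} {M : V6 → V6} (h : Lin H K.co (p : Equiv.Perm GolayPt) M) (b : Bool) :
    Lin H K.co ((cond b p 1 : M24) : Equiv.Perm GolayPt) (cond b M id) := by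
  cases b
  · exact lin_one K
  · exact h

theorem cond_mem {p : M24} (h : (p : Equiv.Perm GolayPt) ∈ M22d) (b : Bool) :
    ((cond b p 1 : M24) : Equiv.Perm GolayPt) ∈ M22d := by
  cases b
  · exact M22d.one_mem
  · exact h

theorem scm_cond {M : V6 → V6} (h : ∀ γ v, M (scm γ v) = scm γ (M v)) (b : Bool) (γ : F4) (v : V6) :
    (cond b M id) (scm γ v) = scm γ ((cond b M id) v) := by
  cases b
  · rfl
  · exact h γ v

theorem Mx_eq (a b c d : Bool) : (cond a MB01 id) ∘ ((cond b MB12 id) ∘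
    ((cond c MB45 id) ∘ (cond d MB35 id))) = Mx (a, b, c, d) := by
  funext v
  cases a <;> cases b <;> cases c <;> cases d <;>
  simp [Mx, Bm, MB01, MB12, MB45, MB35] <;> abel

theorem lin_pb (x : X) : Lin H K.co (PreHexPerm.pb x : Equiv.Perm GolayPt) (Mx x) := by
  obtain ⟨a, b, c, d⟩ := x
  have h1 := lin_cond K (K.lin_b01 _ PreHexPerm.tab_b01) a
  have h2 := lin_cond K (lin_b12 K) b
  have h3 := lin_cond K (K.lin_b45 _ PreHexPerm.tab_b45) c
  have h4 := lin_cond K (lin_b35 K) d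
  have h5 := lin_mul K (cond_mem PreHexPerm.b45_mem c) h3 h4 (scm_cond scm_MB45 c)
  have h6 := lin_mul K (cond_mem PreHexPerm.b12_mem b) h2 h5 (scm_cond scm_MB12 b)
  have h7 := lin_mul K (cond_mem PreHexPerm.b01_mem a) h1 h6 (scm_cond scm_MB01 a)
  rw [Mx_eq] at h7
  exact h7

end Cfsg.Agent.J4Type.PreHexA
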