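import Cfsg.Agent.J4Type.PreHexA

/-!
# The subgroups `A(O)` : definition, conjugation, the case of `hex0`
-/

set_option autoImplicit false

open scoped Pointwise

namespace Cfsg.Agent.J4Type.PreHexB

open Cfsg SporadicA.FieldFour VCoord CentCoords PreHexLin SporadicA.OctadFix PreHexA

variable {G : Type*} [Group G] {H : Cent G} (K : CentCoords H)

/-- `A(O)` -/
def AO (O : Finset GolayPt) : Subgroup G where
  carrier := {q | q ∈ H.Q ∧ ∀ c : Subgroup.centralizer ({H.z} : Set G),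
    (∀ p ∈ O, H.P c p = p) →
    (∀ r ∈ H.Q, K.co ((c : G) * ((c : G) * r * (c : G)⁻¹) * (c : G)⁻¹) = K.co r) →
    K.co ((c : G) * q * (c : G)⁻¹) = K.co q}
  one_mem' := ⟨H.Q.one_mem, fun c _ _ => by rw [mul_one, mul_inv_cancel]⟩
  mul_mem' := by
    rintro a b ⟨ha, ha'⟩ ⟨hb, hb'⟩
    refine ⟨H.Q.mul_mem ha hb, fun c h1 h2 => ?_⟩
    have e : (c : G) * (a * b) * (c : G)⁻¹ =
        ((c : G) * a * (c : G)⁻¹) * ((c : G) * b * (c : G)⁻¹) := by group
    rw [e, K.co_mul _ (conj_mem c ha) _ (conj_mem c hb), ha' c h1 h2, hb' c h1 h2,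
      K.co_mul a ha b hb]
  inv_mem' := by
    rintro a ⟨ha, ha'⟩
    refine ⟨H.Q.inv_mem ha, fun c h1 h2 => ?_⟩
    have e : (c : G) * a⁻¹ * (c : G)⁻¹ = ((c : G) * a * (c : G)⁻¹)⁻¹ := by group
    rw [e, co_inv K (conj_mem c ha), co_inv K ha]
    exact ha' c h1 h2

theorem mem_AO {O : Finset GolayPt} {q : G} : q ∈ AO K O ↔ q ∈ H.Q ∧
    ∀ c : Subgroup.centralizer ({H.z} : Set G), (∀ p ∈ O, H.P c p = p) →
    (∀ r ∈ H.Q, K.co ((c : G) * ((c : G) * r * (c : G)⁻¹) * (c : G)⁻¹) = K.co r) →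
    K.co ((c : G) * q * (c : G)⁻¹) = K.co q := Iff.rfl

theorem AO_le (O : Finset GolayPt) : AO K O ≤ H.Q := fun _ h => h.1

theorem z_mem_AO (O : Finset GolayPt) : H.z ∈ AO K O := by
  refine ⟨H.z_mem_Q, fun c _ _ => ?_⟩
  rw [cz c, mul_inv_cancel_right]

theorem conj_mem_AO {O : Finset GolayPt} (g : Subgroup.centralizer ({H.z} : Set G)) {a : G}
    (ha : a ∈ AO K O) : (g : G) * a * (g : G)⁻¹ ∈ AO K (H.P g • O) := by
  obtain ⟨ha1, ha2⟩ := ha
  refine ⟨conj_mem g ha1, fun c h1 h2 => ?_⟩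
  have h3 := ha2 (g⁻¹ * c * g) ?_ ?_
  · have h4 := co_conj_congr K g (conj_mem (g⁻¹ * c * g) ha1) ha1 h3
    have e : (g : G) * (((g⁻¹ * c * g : Subgroup.centralizer ({H.z} : Set G)) : G) * a *
        ((g⁻¹ * c * g : Subgroup.centralizer ({H.z} : Set G)) : G)⁻¹) * (g : G)⁻¹ =
        (c : G) * ((g : G) * a * (g : G)⁻¹) * (c : G)⁻¹ := by
      show (g : G) * (((g : G)⁻¹ * (c : G) * (g : G)) * a *
        ((g : G)⁻¹ * (c : G) * (g : G))⁻¹) * (g : G)⁻¹ = _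
      group
    rw [e] at h4
    exact h4
  · intro p hp
    have h5 := h1 (H.P g p) ((SporadicA.GolayPerm.mem_smul_iff _ _ _).2 hp)
    rw [map_mul, map_mul, map_inv, Equiv.Perm.mul_apply, Equiv.Perm.mul_apply, h5,
      Equiv.Perm.inv_eq_iff_eq]
  · intro s hs
    have h5 := co_conj_congr K g⁻¹ (conj_mem c (conj_mem c (conj_mem g hs))) (conj_mem g hs)
      (h2 _ (conj_mem g hs))
    have e1 : ((g⁻¹ * c * g : Subgroup.centralizer ({H.z} : Set G)) : G) *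
        (((g⁻¹ * c * g : Subgroup.centralizer ({H.z} : Set G)) : G) * s *
        ((g⁻¹ * c * g : Subgroup.centralizer ({H.z} : Set G)) : G)⁻¹) *
        ((g⁻¹ * c * g : Subgroup.centralizer ({H.z} : Set G)) : G)⁻¹ =
        ((g⁻¹ : Subgroup.centralizer ({H.z} : Set G)) : G) * ((c : G) * ((c : G) *
          ((g : G) * s * (g : G)⁻¹) * (c : G)⁻¹) * (c : G)⁻¹) *
          ((g⁻¹ : Subgroup.centralizer ({H.z} : Set G)) : G)⁻¹ := by
      show ((g : G)⁻¹ * (c : G) * (g : G)) * (((g : G)⁻¹ * (c : G) * (g : G)) * s *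
        ((g : G)⁻¹ * (c : G) * (g : G))⁻¹) * ((g : G)⁻¹ * (c : G) * (g : G))⁻¹ =
        (g : G)⁻¹ * ((c : G) * ((c : G) * ((g : G) * s * (g : G)⁻¹) * (c : G)⁻¹) * (c : G)⁻¹) *
          ((g : G)⁻¹)⁻¹
      group
    have e2 : ((g⁻¹ : Subgroup.centralizer ({H.z} : Set G)) : G) * ((g : G) * s * (g : G)⁻¹) *
          ((g⁻¹ : Subgroup.centralizer ({H.z} : Set G)) : G)⁻¹ = s := by
      show (g : G)⁻¹ * ((g : G) * s * (g : G)⁻¹) * ((g : G)⁻¹)⁻¹ = s
      group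
    rw [e1, h5, e2]

theorem AO_conj (O : Finset GolayPt) (g : Subgroup.centralizer ({H.z} : Set G)) (a : G) :
    a ∈ AO K O ↔ (g : G) * a * (g : G)⁻¹ ∈ AO K (H.P g • O) := by
  refine ⟨conj_mem_AO K g, fun h => ?_⟩
  have h1 := conj_mem_AO K g⁻¹ h
  have e2 : ((g⁻¹ : Subgroup.centralizer ({H.z} : Set G)) : G) * ((g : G) * a * (g : G)⁻¹) *
      ((g⁻¹ : Subgroup.centralizer ({H.z} : Set G)) : G)⁻¹ = a := by
    show (g : G)⁻¹ * ((g : G) * a * (g : G)⁻¹) * ((g : G)⁻¹)⁻¹ = a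
    group
  rw [e2, map_inv, inv_smul_smul] at h1
  exact h1

/-! ### the action of the elements over `fixOct hex0` -/

theorem exists_vec (v : V6) : ∃ q ∈ H.Q, K.co q = v := K.co_surj v

/-- an element over `fixOct hex0` whose scalar is 1 -/
theorem act_of_scalar {c : Subgroup.centralizer ({H.z} : Set G)} (h : H.P c ∈ fixOct hex0)
    (h1 : ∀ γ : F4, (∀ q ∈ H.Q, (K.co q).2 = 0 → K.co ((c : G) * q * (c : G)⁻¹) = scm γ (K.co q)) →
      γ ≠ 0 → γ = 1) :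
    ∃ x : X, (PreHexPerm.pb x : Equiv.Perm GolayPt) = H.P c ∧
      ∀ q ∈ H.Q, K.co ((c : G) * q * (c : G)⁻¹) = Mx x (K.co q) := by
  obtain ⟨x, hx⟩ := PreHexPerm.exists_pb h
  obtain ⟨γ, hγ, h2⟩ := lin_pb K x c hx.symm
  have h3 : γ = 1 := by
    refine h1 γ (fun q hq hq0 => ?_) hγ
    rw [h2 q hq]
    congr 1
    unfold Mx
    rw [hq0, Bm_zero, add_zero, ← hq0]
  refine ⟨x, hx, fun q hq => ?_⟩
  rw [h2 q hq, h3, scm_one]

theorem act_of_sq {c : Subgroup.centralizer ({H.z} : Set G)} (h : H.P c ∈ fixOct hex0)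
    (h1 : ∀ r ∈ H.Q, K.co ((c : G) * ((c : G) * r * (c : G)⁻¹) * (c : G)⁻¹) = K.co r) :
    ∃ x : X, (PreHexPerm.pb x : Equiv.Perm GolayPt) = H.P c ∧
      ∀ q ∈ H.Q, K.co ((c : G) * q * (c : G)⁻¹) = Mx x (K.co q) := by
  refine act_of_scalar K h fun γ hγ h0 => ?_
  obtain ⟨q, hq, hv⟩ := K.co_surj (e0, 0)
  obtain ⟨q', hq', hv'⟩ := K.co_surj (scm γ (e0, 0))
  have h2 := h1 q hq
  have h3 := hγ q hq (by rw [hv])
  have h4 : K.co ((c : G) * q * (c : G)⁻¹) = K.co q' := by rw [h3, hv', hv]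
  have h5 := co_conj_congr K c (conj_mem c hq) hq' h4
  have h6 := hγ q' hq' (by rw [hv']; exact sc_zero γ)
  rw [h5, h6, hv', hv, scm_scm] at h2
  have h7 : sc (γ * γ) e0 = e0 := congrArg Prod.fst h2
  have h8 := eq_one_of_sc h7
  have h9 : ∀ γ : F4, γ * γ = 1 → γ = 1 := by decide
  exact h9 γ h8

theorem act_of_triv {c : Subgroup.centralizer ({H.z} : Set G)} (h : H.P c ∈ fixOct hex0)
    (h1 : ∀ q ∈ H.Q, (K.co q).2 = 0 → K.co ((c : G) * q * (c : G)⁻¹) = K.co q) :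
    ∃ x : X, (PreHexPerm.pb x : Equiv.Perm GolayPt) = H.P c ∧
      ∀ q ∈ H.Q, K.co ((c : G) * q * (c : G)⁻¹) = Mx x (K.co q) := by
  refine act_of_scalar K h fun γ hγ h0 => ?_
  obtain ⟨q, hq, hv⟩ := K.co_surj (e0, 0)
  have h3 := hγ q hq (by rw [hv])
  rw [h1 q hq (by rw [hv]), hv] at h3
  have h7 : e0 = sc γ e0 := congrArg Prod.fst h3
  exact eq_one_of_sc h7.symm

theorem lift_x (x : X) : ∃ c : Subgroup.centralizer ({H.z} : Set G),
    H.P c = (PreHexPerm.pb x : Equiv.Perm GolayPt) ∧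
      ∀ q ∈ H.Q, K.co ((c : G) * q * (c : G)⁻¹) = Mx x (K.co q) :=
  exists_lift_one K (PreHexPerm.pb_mem x) (lin_pb K x)

theorem sq_of_act {c : Subgroup.centralizer ({H.z} : Set G)} {M : V6 → V6} (hM : ∀ v, M (M v) = v)
    (h : ∀ q ∈ H.Q, K.co ((c : G) * q * (c : G)⁻¹) = M (K.co q)) :
    ∀ q ∈ H.Q, K.co ((c : G) * ((c : G) * q * (c : G)⁻¹) * (c : G)⁻¹) = K.co q := by
  intro q hq
  rw [h _ (conj_mem c hq), h q hq, hM]

theorem mem_fixOct_of {c : Subgroup.centralizer ({H.z} : Set G)} {O : Finset GolayPt}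
    (h : ∀ p ∈ O, H.P c p = p) : H.P c ∈ fixOct O :=
  mem_fixOct.2 ⟨HexMax.mem_M24 (P_mem c), h⟩

/-- `A(hex0)` in coordinates -/
theorem mem_A0 {q : G} : q ∈ AO K hex0 ↔ q ∈ H.Q ∧ (K.co q).2 = 0 := by
  constructor
  · rintro ⟨hq, h⟩
    refine ⟨hq, ?_⟩
    have hb : ∀ x : X, Bm x (K.co q).2 = 0 := by
      intro x
      obtain ⟨c, hc, hc'⟩ := lift_x K x
      have h1 := h c (by rw [hc]; exact (mem_fixOct.1 (PreHexPerm.pb_mem_fixOct x)).2)
        (sq_of_act K (Mx_Mx x) hc')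
      rw [hc' q hq] at h1
      exact (add_eq_self3 _ _).1 (congrArg Prod.fst h1)
    have h1 := hb (true, false, false, false)
    have h2 := hb (false, true, false, false)
    refine B_ker ?_ ?_
    · simpa [Bm] using h1
    · simpa [Bm] using h2
  · rintro ⟨hq, h⟩
    refine ⟨hq, fun c h1 h2 => ?_⟩
    obtain ⟨x, -, hx⟩ := act_of_sq K (mem_fixOct_of h1) h2
    rw [hx q hq]
    unfold Mx
    rw [h, Bm_zero, add_zero, ← h]

theorem MC1_MC1 (v : V6) : MC1 (MC1 v) = v := by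
  refine Prod.ext rfl ?_
  show v.2 + C1 v.1 + C1 v.1 = v.2
  rw [add_assoc, add_self3, add_zero]

theorem MC2_MC2 (v : V6) : MC2 (MC2 v) = v := by
  refine Prod.ext rfl ?_
  show v.2 + C2 v.1 + C2 v.1 = v.2
  rw [add_assoc, add_self3, add_zero]

/-- `A(hex1)` is contained in `{(0; c)}` -/
theorem fst_of_mem_A1 {q : G} (h : q ∈ AO K hex1) : (K.co q).1 = 0 := by
  obtain ⟨hq, h⟩ := h
  obtain ⟨c, hc, hc'⟩ := exists_lift_one K PreHexPerm.c1_mem (K.lin_c1 _ PreHexPerm.tab_c1)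
  obtain ⟨d, hd, hd'⟩ := exists_lift_one K PreHexPerm.c2_mem (K.lin_c2 _ PreHexPerm.tab_c2)
  have h1 := h c (by rw [hc]; exact PreHexPerm.c1_fix) (sq_of_act K MC1_MC1 hc')
  have h2 := h d (by rw [hd]; exact PreHexPerm.c2_fix) (sq_of_act K MC2_MC2 hd')
  rw [hc' q hq] at h1
  rw [hd' q hq] at h2
  exact C_ker ((add_eq_self3 _ _).1 (congrArg Prod.snd h1))
    ((add_eq_self3 _ _).1 (congrArg Prod.snd h2))

/-! ### counting -/

theorem card_co (S : V6 → Prop) :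
    Nat.card {q : G // q ∈ H.Q ∧ S (K.co q)} = 2 * Nat.card {v : V6 // S v} := by
  classical
  choose f hf hf' using K.co_surj
  have hz : ∀ b : Bool, (cond b H.z 1 : G) ∈ H.Q := by
    intro b
    cases b
    · exact H.Q.one_mem
    · exact H.z_mem_Q
  have hco : ∀ (b : Bool) (v : V6), K.co (cond b H.z 1 * f v) = v := by
    intro b v
    cases b
    · rw [cond_false, one_mul, hf']
    · rw [cond_true, co_zmul K (hf v), hf']
  have h2 : Nat.card Bool = 2 := by rw [Nat.card_eq_fintype_card, Fintype.card_bool]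
  rw [← h2, ← Nat.card_prod]
  symm
  refine Nat.card_congr (Equiv.ofBijective (fun x : Bool × {v : V6 // S v} =>
    (⟨cond x.1 H.z 1 * f x.2, H.Q.mul_mem (hz _) (hf _), by rw [hco]; exact x.2.2⟩ :
      {q : G // q ∈ H.Q ∧ S (K.co q)})) ⟨?_, ?_⟩)
  · rintro ⟨b, v⟩ ⟨b', v'⟩ h
    have h1 : cond b H.z 1 * f v = cond b' H.z 1 * f v' := congrArg Subtype.val h
    have h3 : (v : V6) = v' := by rw [← hco b v, h1, hco]
    rw [h3] at h1
    have h4 := mul_right_cancel h1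
    have h5 : b = b' := by
      have hne := FusionV.z_ne H
      cases b <;> cases b'
      · rfl
      · exact absurd h4.symm hne
      · exact absurd h4 hne
      · rfl
    exact Prod.ext h5 (Subtype.ext h3)
  · rintro ⟨q, hq, hS⟩
    rcases (co_eq_iff K hq (hf (K.co q))).1 (hf' (K.co q)).symm with h | h
    · refine ⟨(false, ⟨K.co q, hS⟩), Subtype.ext ?_⟩
      show cond false H.z 1 * f (K.co q) = q
      rw [cond_false, one_mul, ← h]
    · refine ⟨(true, ⟨K.co q, hS⟩), Subtype.ext ?_⟩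
      show cond true H.z 1 * f (K.co q) = q
      rw [cond_true, ← h]

theorem card_A0 : Nat.card (AO K hex0) = 2 ^ 7 := by
  have h1 := card_co K (fun v => v.2 = 0)
  have h2 : Nat.card {v : V6 // v.2 = 0} = 64 := by
    rw [← card_F43]
    refine Nat.card_congr ⟨fun v => v.1.1, fun a => ⟨(a, 0), rfl⟩, ?_, fun a => rfl⟩
    rintro ⟨⟨a, c⟩, hc⟩
    exact Subtype.ext (Prod.ext rfl hc.symm)
  rw [h2] at h1
  have h3 : Nat.card (AO K hex0) = Nat.card {q : G // q ∈ H.Q ∧ (K.co q).2 = 0} :=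
    Nat.card_congr (Equiv.subtypeEquivRight fun q => mem_A0 K)
  rw [h3, h1]
  norm_num

theorem sq_A0 {q : G} (h : q ∈ AO K hex0) : q * q = 1 := by
  obtain ⟨hq, h0⟩ := (mem_A0 K).1 h
  rw [K.co_sq q hq, h0, hp3_zero_right]
  rfl

end Cfsg.Agent.J4Type.PreHexB
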