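import Cfsg.Agent.J4Type.PreHexB

/-!
# The subgroups `A(O)` : transport to all hexads, intersections, elements acting trivially
-/

set_option autoImplicit false

open scoped Pointwise

namespace Cfsg.Agent.J4Type.PreHexC

open Cfsg SporadicA.FieldFour VCoord CentCoords PreHexLin SporadicA.OctadFix PreHexA PreHexB

variable {G : Type*} [Group G] {H : Cent G} (K : CentCoords H)

/-- conjugation by `g` -/
def cg (g : G) : G →* G := (MulAut.conj g).toMonoidHom

theorem cg_apply (g a : G) : cg g a = g * a * g⁻¹ := rfl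

theorem cg_inj (g : G) : Function.Injective (cg g) := (MulAut.conj g).injective

theorem AO_smul (O : Finset GolayPt) (g : Subgroup.centralizer ({H.z} : Set G)) :
    AO K (H.P g • O) = (AO K O).map (cg (g : G)) := by
  ext a
  rw [Subgroup.mem_map]
  constructor
  · intro h
    refine ⟨(g : G)⁻¹ * a * (g : G), ?_, ?_⟩
    · rw [AO_conj K O g]
      have e : (g : G) * ((g : G)⁻¹ * a * (g : G)) * (g : G)⁻¹ = a := by group
      rwa [e]
    · rw [cg_apply]
      group
  · rintro ⟨b, hb, rfl⟩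
    exact (AO_conj K O g b).1 hb

theorem card_AO_smul (O : Finset GolayPt) (g : Subgroup.centralizer ({H.z} : Set G)) :
    Nat.card (AO K (H.P g • O)) = Nat.card (AO K O) := by
  rw [AO_smul]
  exact (Nat.card_congr ((AO K O).equivMapOfInjective _ (cg_inj (g : G))).toEquiv).symm

theorem card_inf_smul (O O' : Finset GolayPt) (g : Subgroup.centralizer ({H.z} : Set G)) :
    Nat.card (AO K (H.P g • O) ⊓ AO K (H.P g • O') : Subgroup G) =
      Nat.card (AO K O ⊓ AO K O' : Subgroup G) := by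
  rw [AO_smul, AO_smul, ← Subgroup.map_inf_eq _ _ _ (cg_inj (g : G))]
  exact (Nat.card_congr
    ((AO K O ⊓ AO K O' : Subgroup G).equivMapOfInjective _ (cg_inj (g : G))).toEquiv).symm

/-- every hexad is an image of `hex0` -/
theorem exists_move {O : Finset GolayPt} (hO : IsHex O) :
    ∃ g : Subgroup.centralizer ({H.z} : Set G), H.P g • hex0 = O := by
  obtain ⟨p, hp, -, -, h⟩ := HexStab.exists_fix_smul HexMax.hex0_isHex hO
  obtain ⟨g, hg⟩ := exists_lift (H := H) hp
  exact ⟨g, by rw [hg, h]⟩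

theorem AO_card {O : Finset GolayPt} (hO : IsHex O) : Nat.card (AO K O) = 2 ^ 7 := by
  obtain ⟨g, rfl⟩ := exists_move (H := H) hO
  rw [card_AO_smul, card_A0]

theorem AO_sq {O : Finset GolayPt} (hO : IsHex O) : ∀ a ∈ AO K O, a * a = 1 := by
  obtain ⟨g, rfl⟩ := exists_move (H := H) hO
  intro a ha
  rw [AO_smul] at ha
  obtain ⟨b, hb, rfl⟩ := ha
  rw [← map_mul, sq_A0 K hb, map_one]

/-- a pair of hexads is an image of the pair `(hex0, O')` -/
theorem exists_move_two {O O' : Finset GolayPt} (hO : IsHex O) (hO' : IsHex O')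
    (h : (O ∩ O').card = 2) :
    ∃ g : Subgroup.centralizer ({H.z} : Set G), H.P g • hex0 = O ∧ H.P g • hex1 = O' := by
  obtain ⟨g, rfl⟩ := exists_move (H := H) hO
  have h1 : IsHex ((H.P g)⁻¹ • O') := HexMax.smul_isHex (M22d.inv_mem (P_mem g)) hO'
  have h2 : (hex0 ∩ (H.P g)⁻¹ • O').card = 2 := by
    rw [← Finset.card_smul_finset (H.P g), Finset.smul_finset_inter, smul_inv_smul, h]
  obtain ⟨p, hp, hp0, hp1⟩ := HexMax.trans_two HexMax.hex0_isHex HexMax.hex1_isHex h1
    PreHexPerm.inter01 h2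
  obtain ⟨k, hk⟩ := exists_lift (H := H) hp
  refine ⟨g * k, ?_, ?_⟩
  · rw [map_mul, mul_smul, hk, hp0]
  · rw [map_mul, mul_smul, hk, hp1, smul_inv_smul]

theorem exists_move_four {O O' : Finset GolayPt} (hO : IsHex O) (hO' : IsHex O')
    (h : (O ∩ O').card = 4) :
    ∃ g : Subgroup.centralizer ({H.z} : Set G), H.P g • hex0 = O ∧
      H.P g • ((PreHexPerm.c1 : Equiv.Perm GolayPt) • hex0) = O' := by
  obtain ⟨g, rfl⟩ := exists_move (H := H) hO
  have h1 : IsHex ((H.P g)⁻¹ • O') := HexMax.smul_isHex (M22d.inv_mem (P_mem g)) hO'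
  have h2 : (hex0 ∩ (H.P g)⁻¹ • O').card = 4 := by
    rw [← Finset.card_smul_finset (H.P g), Finset.smul_finset_inter, smul_inv_smul, h]
  obtain ⟨p, hp, hp0, hp1⟩ := HexMax.trans_four HexMax.hex0_isHex
    (HexMax.smul_isHex PreHexPerm.c1_mem HexMax.hex0_isHex) h1 PreHexPerm.inter_c1 h2
  obtain ⟨k, hk⟩ := exists_lift (H := H) hp
  refine ⟨g * k, ?_, ?_⟩
  · rw [map_mul, mul_smul, hk, hp0]
  · rw [map_mul, mul_smul, hk, hp1, smul_inv_smul]

theorem card_inf01 : Nat.card (AO K hex0 ⊓ AO K hex1 : Subgroup G) = 2 := by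
  have h1 : ∀ q : G, q ∈ (AO K hex0 ⊓ AO K hex1 : Subgroup G) ↔ (q = 1 ∨ q = H.z) := by
    intro q
    constructor
    · rintro ⟨ha, hb⟩
      obtain ⟨hq, h2⟩ := (mem_A0 K).1 ha
      exact K.co_ker q hq (Prod.ext (fst_of_mem_A1 K hb) h2)
    · rintro (rfl | rfl)
      · exact one_mem _
      · exact ⟨z_mem_AO K _, z_mem_AO K _⟩
  have h2 : ((AO K hex0 ⊓ AO K hex1 : Subgroup G) : Set G) = {1, H.z} := by
    ext q
    exact h1 q
  have h3 : Nat.card (AO K hex0 ⊓ AO K hex1 : Subgroup G) =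
      ((AO K hex0 ⊓ AO K hex1 : Subgroup G) : Set G).ncard := rfl
  rw [h3, h2, Set.ncard_pair (FusionV.z_ne H).symm]

theorem card_inf_c1 : Nat.card (AO K hex0 ⊓
    AO K ((PreHexPerm.c1 : Equiv.Perm GolayPt) • hex0) : Subgroup G) = 8 := by
  obtain ⟨c, hc, hc'⟩ := exists_lift_one K PreHexPerm.c1_mem (K.lin_c1 _ PreHexPerm.tab_c1)
  have h1 : ∀ q : G, q ∈ (AO K hex0 ⊓ AO K ((PreHexPerm.c1 : Equiv.Perm GolayPt) • hex0) :
      Subgroup G) ↔ q ∈ H.Q ∧ ((K.co q).2 = 0 ∧ C1 (K.co q).1 = 0) := by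
    intro q
    rw [← hc, Subgroup.mem_inf, mem_A0]
    have h2 : ∀ (hq : q ∈ H.Q), q ∈ AO K (H.P c • hex0) ↔ (K.co q).2 = C1 (K.co q).1 := by
      intro hq
      have hr := conj_mem' c hq
      have e : (c : G) * ((c : G)⁻¹ * q * (c : G)) * (c : G)⁻¹ = q := by group
      have h3 := hc' _ hr
      rw [e] at h3
      have h4 := AO_conj K hex0 c ((c : G)⁻¹ * q * (c : G))
      rw [e] at h4
      rw [← h4, mem_A0]
      have h5 : (K.co q).1 = (K.co ((c : G)⁻¹ * q * (c : G))).1 := by rw [h3]; rfl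
      have h6 : (K.co q).2 = (K.co ((c : G)⁻¹ * q * (c : G))).2 +
        C1 (K.co ((c : G)⁻¹ * q * (c : G))).1 := by rw [h3]; rfl
      rw [h6, h5]
      constructor
      · rintro ⟨-, h7⟩
        rw [h7, zero_add]
      · intro h7
        refine ⟨hr, ?_⟩
        exact add_right_cancel (h7.trans (zero_add _).symm)
    constructor
    · rintro ⟨⟨hq, h3⟩, h4⟩
      exact ⟨hq, h3, by rw [← (h2 hq).1 h4, h3]⟩
    · rintro ⟨hq, h3, h4⟩
      exact ⟨⟨hq, h3⟩, (h2 hq).2 (by rw [h3, h4])⟩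
  have h2 : Nat.card (AO K hex0 ⊓ AO K ((PreHexPerm.c1 : Equiv.Perm GolayPt) • hex0) :
      Subgroup G) = Nat.card {q : G // q ∈ H.Q ∧ ((K.co q).2 = 0 ∧ C1 (K.co q).1 = 0)} :=
    Nat.card_congr (Equiv.subtypeEquivRight h1)
  have h3 : Nat.card {v : V6 // v.2 = 0 ∧ C1 v.1 = 0} = 4 := by
    rw [← card_kerC]
    refine Nat.card_congr ⟨fun v => ⟨v.1.1, v.2.2⟩, fun a => ⟨(a.1, 0), rfl, a.2⟩, ?_, fun a => rfl⟩
    rintro ⟨⟨a, c⟩, hc, ha⟩
    exact Subtype.ext (Prod.ext rfl hc.symm)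
  rw [h2, card_co K (fun v => v.2 = 0 ∧ C1 v.1 = 0), h3]

theorem AO_inf_two (O O' : Finset GolayPt) (hO : IsHex O) (hO' : IsHex O')
    (h : (O ∩ O').card = 2) : Nat.card (AO K O ⊓ AO K O' : Subgroup G) = 2 := by
  obtain ⟨g, rfl, rfl⟩ := exists_move_two (H := H) hO hO' h
  rw [card_inf_smul, card_inf01]

theorem AO_inf_eight (O O' : Finset GolayPt) (hO : IsHex O) (hO' : IsHex O')
    (h : (O ∩ O').card = 4) : Nat.card (AO K O ⊓ AO K O' : Subgroup G) = 8 := by
  obtain ⟨g, rfl, rfl⟩ := exists_move_four (H := H) hO hO' h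
  rw [card_inf_smul, card_inf_c1]

/-! ### elements acting trivially on `A(hex0)/z` -/

theorem smul_hex0_of_triv {c : Subgroup.centralizer ({H.z} : Set G)}
    (h : ∀ a ∈ AO K hex0, Tr H (c : G) a) : H.P c • hex0 = hex0 := by
  by_contra hne
  have hO' : IsHex (H.P c • hex0) := HexMax.smul_isHex (P_mem c) HexMax.hex0_isHex
  have hle : AO K hex0 ≤ AO K (H.P c • hex0) := by
    intro a ha
    have h1 := (AO_conj K hex0 c a).1 ha
    rcases h a ha with h2 | h2
    · rwa [h2] at h1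
    · rw [h2] at h1
      exact ((AO K (H.P c • hex0)).mul_mem_cancel_left (z_mem_AO K _)).1 h1
  have h1 : (AO K hex0 ⊓ AO K (H.P c • hex0) : Subgroup G) = AO K hex0 := inf_eq_left.2 hle
  have h2 := card_A0 K
  rw [← h1] at h2
  rcases HexMax.card_inter HexMax.hex0_isHex hO' (fun h => hne h.symm) with h3 | h3
  · rw [AO_inf_two K _ _ HexMax.hex0_isHex hO' h3] at h2
    omega
  · rw [AO_inf_eight K _ _ HexMax.hex0_isHex hO' h3] at h2
    omega

theorem zmod2_eq {x y : ZMod 2} (h : x = 0 ↔ y = 0) : x = y := by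
  revert x y
  decide

theorem zmod2_add {x y : ZMod 2} : x + y = 0 ↔ x = y := by
  revert x y
  decide

/-- the quadratic form -/
def qf (v : V6) : ZMod 2 := tr (hp3 v.1 v.2)

theorem qf_eq_zero {q : G} (hq : q ∈ H.Q) (h : q * q = 1) : qf (K.co q) = 0 := (K.co_sq q hq).1 h

theorem qf_eq_one {q : G} (hq : q ∈ H.Q) (h : q * q = H.z) : qf (K.co q) = 1 := by
  have h1 : qf (K.co q) ≠ 0 := by
    intro h2
    have h3 := (K.co_sq q hq).2 h2
    exact FusionV.z_ne H (h.symm.trans h3)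
  generalize qf (K.co q) = x at h1
  revert x
  decide

theorem sq_mul_iff {q s : G} (hq : q ∈ H.Q) (hs : s ∈ H.Q) :
    (q * q) * (s * s) = 1 ↔ qf (K.co q) + qf (K.co s) = 0 := by
  have hne := FusionV.z_ne H
  have hzz := zz H
  have e0 : ¬ ((0 : ZMod 2) + 1 = 0) := by decide
  have e1 : ¬ ((1 : ZMod 2) + 0 = 0) := by decide
  have e2 : (1 : ZMod 2) + 1 = 0 := by decide
  rcases H.Q_sq q hq with h1 | h1 <;> rcases H.Q_sq s hs with h2 | h2
  · rw [h1, h2, qf_eq_zero K hq h1, qf_eq_zero K hs h2]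
    simp
  · rw [h1, h2, qf_eq_zero K hq h1, qf_eq_one K hs h2, one_mul]
    exact iff_of_false hne e0
  · rw [h1, h2, qf_eq_one K hq h1, qf_eq_zero K hs h2, mul_one]
    exact iff_of_false hne e1
  · rw [h1, h2, qf_eq_one K hq h1, qf_eq_one K hs h2]
    exact iff_of_true hzz e2

/-- the commutator form in coordinates -/
def bf (v w : V6) : ZMod 2 := tr (hp3 v.1 w.2) + tr (hp3 w.1 v.2)

theorem qf_add (v w : V6) : qf (v + w) = qf v + qf w + bf v w := by
  show tr (hp3 (v.1 + w.1) (v.2 + w.2)) = tr (hp3 v.1 v.2) + tr (hp3 w.1 w.2) +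
    (tr (hp3 v.1 w.2) + tr (hp3 w.1 v.2))
  rw [hp3_add_left, hp3_add_right, hp3_add_right, tr_add, tr_add, tr_add]
  abel

/-- the commutator in coordinates -/
theorem comm_iff {q s : G} (hq : q ∈ H.Q) (hs : s ∈ H.Q) :
    q * s = s * q ↔ bf (K.co q) (K.co s) = 0 := by
  have hf : (q * s) * (q * s) = 1 ↔ qf (K.co (q * s)) = 0 := K.co_sq (q * s) (H.Q.mul_mem hq hs)
  rw [K.co_mul q hq s hs, qf_add] at hf
  have hm := sq_mul_iff K hq hs
  have hqz : q * H.z = H.z * q := Subgroup.mem_centralizer_singleton_iff.1 (H.Q_le hq)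
  rcases H.Q_comm q hq s hs with h | h
  · have e : (q * s) * (q * s) = (q * q) * (s * s) := by
      calc (q * s) * (q * s) = q * (s * q) * s := by group
        _ = (q * q) * (s * s) := by rw [← h]; group
    rw [e, hm] at hf
    refine iff_of_true h ?_
    generalize bf (K.co q) (K.co s) = y at hf
    generalize qf (K.co q) + qf (K.co s) = x at hf
    revert x y
    decide
  · have h' : s * q = H.z * (q * s) := by rw [h, ← mul_assoc, zz H, one_mul]
    have e : (q * s) * (q * s) = H.z * ((q * q) * (s * s)) := by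
      calc (q * s) * (q * s) = q * (s * q) * s := by group
        _ = (q * H.z) * (q * s) * s := by rw [h']; group
        _ = H.z * ((q * q) * (s * s)) := by rw [hqz]; group
    have h1 : (q * s) * (q * s) = 1 ↔ ¬ ((q * q) * (s * s) = 1) := by
      rw [e]
      have hmem : (q * q) * (s * s) = 1 ∨ (q * q) * (s * s) = H.z := by
        rcases H.Q_sq q hq with h1 | h1 <;> rcases H.Q_sq s hs with h2 | h2 <;> rw [h1, h2]
        · left; simp
        · right; simp
        · right; simp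
        · left; exact zz H
      rcases hmem with h2 | h2 <;> rw [h2]
      · simp [FusionV.z_ne H]
      · rw [zz H]
        simp [FusionV.z_ne H]
    rw [h1, hm] at hf
    refine iff_of_false ?_ ?_
    · intro h3
      rw [h3] at h
      exact FusionV.z_ne H (mul_right_cancel (b := s * q) (h.symm.trans (one_mul _).symm))
    · generalize bf (K.co q) (K.co s) = y at hf
      generalize qf (K.co q) + qf (K.co s) = x at hf
      revert x y
      decide

theorem bf_right_zero {v : V6} {w : V6} (h : v.2 = 0) : bf v w = tr (hp3 v.1 w.2) := by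
  unfold bf
  rw [h, hp3_zero_right, tr_zero, add_zero]

/-- an element trivial on `A(hex0)/z` is trivial on `Q/A(hex0)` -/
theorem snd_of_triv {c : Subgroup.centralizer ({H.z} : Set G)}
    (h : ∀ a ∈ AO K hex0, Tr H (c : G) a) {q : G} (hq : q ∈ H.Q) :
    (K.co ((c : G) * q * (c : G)⁻¹)).2 = (K.co q).2 := by
  have hq' := conj_mem c hq
  have key : ∀ a : F43, tr (hp3 a (K.co ((c : G) * q * (c : G)⁻¹)).2) = tr (hp3 a (K.co q).2) := by
    intro a
    obtain ⟨x, hx, hxv⟩ := K.co_surj (a, 0)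
    have hxA : x ∈ AO K hex0 := (mem_A0 K).2 ⟨hx, by rw [hxv]⟩
    have hx' := conj_mem c hx
    have h1 : x * q = q * x ↔ ((c : G) * x * (c : G)⁻¹) * ((c : G) * q * (c : G)⁻¹) =
        ((c : G) * q * (c : G)⁻¹) * ((c : G) * x * (c : G)⁻¹) := by
      have e1 : ((c : G) * x * (c : G)⁻¹) * ((c : G) * q * (c : G)⁻¹) =
        (c : G) * (x * q) * (c : G)⁻¹ := by group
      have e2 : ((c : G) * q * (c : G)⁻¹) * ((c : G) * x * (c : G)⁻¹) =
        (c : G) * (q * x) * (c : G)⁻¹ := by group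
      rw [e1, e2]
      exact ⟨fun h => by rw [h], fun h => mul_left_cancel (mul_right_cancel h)⟩
    rw [comm_iff K hx hq, comm_iff K hx' hq', (Tr_iff_co K c hx).1 (h x hxA),
      bf_right_zero (by rw [hxv]), bf_right_zero (by rw [hxv]), hxv] at h1
    exact (zmod2_eq h1).symm
  have h0 : (K.co ((c : G) * q * (c : G)⁻¹)).2 + (K.co q).2 = 0 := by
    apply tr_nondeg
    intro a
    rw [hp3_add_right, tr_add, key a]
    generalize tr (hp3 a (K.co q).2) = x
    revert x
    decide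
  exact (add_eq_zero_iff3 _ _).1 h0

/-- an element acting trivially on `Q/z` lies in `Q` -/
theorem P_of_triv [Finite G] {e : Subgroup.centralizer ({H.z} : Set G)}
    (h : ∀ q ∈ H.Q, K.co ((e : G) * q * (e : G)⁻¹) = K.co q) : H.P e = 1 := by
  have h1 : (FusionV.large H).act e = 1 := by
    ext v
    obtain ⟨x, rfl⟩ := (FusionV.large H).pr_surjective v
    show (FusionV.large H).act e ((FusionV.large H).pr x) = (FusionV.large H).pr x
    rw [FusionV.act_fix_iff, ← Tr_iff, Tr_iff_co K e x.2]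
    exact h x x.2
  have h2 := (FusionV.large H).mem_of_act e h1
  rw [H.P_ker]
  exact ⟨e, h2, 0, by rw [pow_zero, mul_one]⟩

theorem fixOct_of_triv [Finite G] {c : Subgroup.centralizer ({H.z} : Set G)}
    (h : ∀ a ∈ AO K hex0, Tr H (c : G) a) : H.P c ∈ fixOct hex0 := by
  refine PreHexPerm.mem_fixOct_of_comm (HexMax.mem_M24 (P_mem c)) (smul_hex0_of_triv K h) ?_
  intro b hb
  obtain ⟨x, rfl⟩ := PreHexPerm.exists_pb hb
  obtain ⟨d, hd, hd'⟩ := lift_x K x
  -- `c d` and `d c` act in the same way on `Q/z`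
  have key : ∀ q ∈ H.Q, K.co ((c : G) * ((d : G) * q * (d : G)⁻¹) * (c : G)⁻¹) =
      K.co ((d : G) * ((c : G) * q * (c : G)⁻¹) * (d : G)⁻¹) := by
    intro q hq
    obtain ⟨a, ha, hav⟩ := K.co_surj (Bm x (K.co q).2, 0)
    have haA : a ∈ AO K hex0 := (mem_A0 K).2 ⟨ha, by rw [hav]⟩
    have h1 : K.co ((d : G) * q * (d : G)⁻¹) = K.co (q * a) := by
      rw [hd' q hq, K.co_mul q hq a ha, hav]
      exact Prod.ext rfl (add_zero _).symm
    have h2 := co_conj_congr K c (conj_mem d hq) (H.Q.mul_mem hq ha) h1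
    have e : (c : G) * (q * a) * (c : G)⁻¹ = ((c : G) * q * (c : G)⁻¹) * ((c : G) * a * (c : G)⁻¹) := by
      group
    rw [h2, e, K.co_mul _ (conj_mem c hq) _ (conj_mem c ha), (Tr_iff_co K c ha).1 (h a haA), hav,
      hd' _ (conj_mem c hq)]
    unfold Mx
    rw [snd_of_triv K h hq]
    exact Prod.ext rfl (by rw [← snd_of_triv K h hq]; exact add_zero _)
  have h3 : H.P ((d * c)⁻¹ * (c * d)) = 1 := by
    refine P_of_triv K fun q hq => ?_
    refine co_conj_inj K (d * c) (conj_mem _ hq) hq ?_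
    have e1 : ((d * c : Subgroup.centralizer ({H.z} : Set G)) : G) *
        ((((d * c)⁻¹ * (c * d) : Subgroup.centralizer ({H.z} : Set G)) : G) * q *
        (((d * c)⁻¹ * (c * d) : Subgroup.centralizer ({H.z} : Set G)) : G)⁻¹) *
        ((d * c : Subgroup.centralizer ({H.z} : Set G)) : G)⁻¹ =
        (c : G) * ((d : G) * q * (d : G)⁻¹) * (c : G)⁻¹ := by
      show ((d : G) * (c : G)) * ((((d : G) * (c : G))⁻¹ * ((c : G) * (d : G))) * q *
        (((d : G) * (c : G))⁻¹ * ((c : G) * (d : G)))⁻¹) * ((d : G) * (c : G))⁻¹ = _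
      group
    have e2 : ((d * c : Subgroup.centralizer ({H.z} : Set G)) : G) * q *
        ((d * c : Subgroup.centralizer ({H.z} : Set G)) : G)⁻¹ =
        (d : G) * ((c : G) * q * (c : G)⁻¹) * (d : G)⁻¹ := by
      show ((d : G) * (c : G)) * q * ((d : G) * (c : G))⁻¹ = _
      group
    rw [e1, e2, key q hq]
  rw [map_mul, map_inv, map_mul, map_mul, inv_mul_eq_one, hd] at h3
  exact h3.symm

end Cfsg.Agent.J4Type.PreHexC
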