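import Cfsg.Agent.J4Type.CentCoords

/-!
# Linear algebra over `F₄` for `PreHexOf`

`Bm x` (`x` four bits) : the form of the element `pb x` of `fixOct hex0`; kernels of these forms and
of the forms `C1`, `C2`.
-/

set_option autoImplicit false

namespace Cfsg.Agent.J4Type.PreHexLin

open Cfsg SporadicA.FieldFour VCoord CentCoords

/-! ### `F₄³` -/

theorem add_self (x : F4) : x + x = 0 := by revert x; decide

theorem add_self3 (a : F43) : a + a = 0 := funext fun k => add_self (a k)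

theorem add_self6 (v : V6) : v + v = 0 := Prod.ext (add_self3 v.1) (add_self3 v.2)

theorem add_eq_zero_iff3 (a b : F43) : a + b = 0 ↔ a = b := by
  constructor
  · intro h
    have h1 : a + b + b = 0 + b := by rw [h]
    rwa [add_assoc, add_self3, add_zero, zero_add] at h1
  · rintro rfl
    exact add_self3 a

theorem add_eq_self3 (a b : F43) : a + b = a ↔ b = 0 := by
  constructor
  · intro h
    exact add_left_cancel (a := a) (by rw [h, add_zero])
  · rintro rfl
    exact add_zero a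

theorem eq_vec (a : F43) : a = ![a 0, a 1, a 2] := by
  funext k
  fin_cases k <;> rfl

theorem forall_F43 {p : F43 → Prop} : (∀ a, p a) ↔ ∀ x y t : F4, p ![x, y, t] :=
  ⟨fun h x y t => h _, fun h a => by rw [eq_vec a]; exact h _ _ _⟩

theorem sc_add (γ : F4) (a b : F43) : sc γ (a + b) = sc γ a + sc γ b :=
  funext fun k => mul_add γ (a k) (b k)

theorem sc_sc (γ δ : F4) (a : F43) : sc γ (sc δ a) = sc (γ * δ) a :=
  funext fun k => (mul_assoc γ δ (a k)).symm

theorem sc_one (a : F43) : sc 1 a = a := funext fun k => one_mul (a k)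

theorem sc_zero (γ : F4) : sc γ 0 = 0 := funext fun _ => mul_zero γ

theorem scm_scm (γ δ : F4) (v : V6) : scm γ (scm δ v) = scm (γ * δ) v :=
  Prod.ext (sc_sc _ _ _) (sc_sc _ _ _)

theorem scm_one (v : V6) : scm 1 v = v := Prod.ext (sc_one _) (sc_one _)

/-- a nonzero vector -/
def e0 : F43 := ![.o, .z, .z]

theorem e0_ne : e0 ≠ 0 := by decide +kernel

theorem eq_one_of_sc {γ : F4} (h : sc γ e0 = e0) : γ = 1 := by
  have h1 := congrFun h 0
  have h2 : γ * 1 = 1 := h1
  rwa [mul_one] at h2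

/-! ### the forms -/

/-- the form of `b12` -/
def B12 (c : F43) : F43 := ![.z, c 1, c 2]
/-- the form of `b35` -/
def B35 (c : F43) : F43 := ![.v * c 1 + .w * c 2, .w * c 0 + .v * c 2, .v * c 0 + .w * c 1]

/-- four bits -/
abbrev X : Type := Bool × Bool × Bool × Bool

/-- the form of `pb x` -/
def Bm (x : X) (c : F43) : F43 :=
  cond x.1 (B01 c) 0 + (cond x.2.1 (B12 c) 0 + (cond x.2.2.1 (B45 c) 0 + cond x.2.2.2 (B35 c) 0))

/-- the map of `pb x` -/
def Mx (x : X) (v : V6) : V6 := (v.1 + Bm x v.2, v.2)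

theorem Sh3 (a : F43) : Sh (Sh (Sh a)) = a := by
  funext k
  fin_cases k <;> rfl

theorem Sh_add (a b : F43) : Sh (a + b) = Sh a + Sh b := by
  funext k
  fin_cases k <;> rfl

theorem Dg3 : ∀ a : F43, Dg (Dg (Dg a)) = a := by
  rw [forall_F43]
  decide +kernel

theorem Dg_add (a b : F43) : Dg (a + b) = Dg a + Dg b := by
  funext k
  fin_cases k
  · rfl
  · exact mul_add _ _ _
  · exact mul_add _ _ _

theorem Sh_B01 (c : F43) : Sh (B01 (Sh (Sh c))) = B12 c := by
  funext k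
  fin_cases k <;> rfl

theorem Dg_B45 : ∀ c : F43, Dg (B45 (Dg (Dg c))) = B35 c := by
  rw [forall_F43]
  decide +kernel

theorem sc_B01 : ∀ (γ : F4) (c : F43), B01 (sc γ c) = sc γ (B01 c) := by
  intro γ
  rw [forall_F43]
  revert γ
  decide +kernel

theorem sc_B12 : ∀ (γ : F4) (c : F43), B12 (sc γ c) = sc γ (B12 c) := by
  intro γ
  rw [forall_F43]
  revert γ
  decide +kernel

theorem sc_B45 : ∀ (γ : F4) (c : F43), B45 (sc γ c) = sc γ (B45 c) := by
  intro γ
  rw [forall_F43]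
  revert γ
  decide +kernel

theorem sc_B35 : ∀ (γ : F4) (c : F43), B35 (sc γ c) = sc γ (B35 c) := by
  intro γ
  rw [forall_F43]
  revert γ
  decide +kernel

theorem sc_Dg : ∀ (γ : F4) (c : F43), Dg (sc γ c) = sc γ (Dg c) := by
  intro γ
  rw [forall_F43]
  revert γ
  decide +kernel

theorem sc_Sh (γ : F4) (c : F43) : Sh (sc γ c) = sc γ (Sh c) := by
  funext k
  fin_cases k <;> rfl

theorem C1_zero : C1 0 = 0 := by decide +kernel
theorem C2_zero : C2 0 = 0 := by decide +kernel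

theorem sc_cond (γ : F4) (b : Bool) (f : F43 → F43) (hf : ∀ c, f (sc γ c) = sc γ (f c)) (c : F43) :
    cond b (f (sc γ c)) 0 = sc γ (cond b (f c) 0) := by
  cases b
  · exact (sc_zero γ).symm
  · exact hf c

theorem sc_Bm (x : X) (γ : F4) (c : F43) : Bm x (sc γ c) = sc γ (Bm x c) := by
  unfold Bm
  rw [sc_add, sc_add, sc_add, sc_cond γ _ _ (sc_B01 γ), sc_cond γ _ _ (sc_B12 γ),
    sc_cond γ _ _ (sc_B45 γ), sc_cond γ _ _ (sc_B35 γ)]

theorem Bm_zero (x : X) : Bm x 0 = 0 := by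
  have h := sc_Bm x 0 0
  rw [sc_zero] at h
  rw [h]
  exact funext fun _ => zero_mul _

theorem Mx_Mx (x : X) (v : V6) : Mx x (Mx x v) = v := by
  unfold Mx
  refine Prod.ext ?_ rfl
  show v.1 + Bm x v.2 + Bm x v.2 = v.1
  rw [add_assoc, add_self3, add_zero]

theorem scm_MDg (γ : F4) (v : V6) : MDg (scm γ v) = scm γ (MDg v) :=
  Prod.ext (sc_Dg _ _) (sc_Dg _ _)

theorem scm_MSh (γ : F4) (v : V6) : MSh (scm γ v) = scm γ (MSh v) :=
  Prod.ext (sc_Sh _ _) (sc_Sh _ _)

theorem scm_MB01 (γ : F4) (v : V6) : MB01 (scm γ v) = scm γ (MB01 v) := by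
  refine Prod.ext ?_ rfl
  show sc γ v.1 + B01 (sc γ v.2) = sc γ (v.1 + B01 v.2)
  rw [sc_add, sc_B01]

theorem scm_MB45 (γ : F4) (v : V6) : MB45 (scm γ v) = scm γ (MB45 v) := by
  refine Prod.ext ?_ rfl
  show sc γ v.1 + B45 (sc γ v.2) = sc γ (v.1 + B45 v.2)
  rw [sc_add, sc_B45]

/-- the map of `b12` -/
def MB12 (v : V6) : V6 := (v.1 + B12 v.2, v.2)
/-- the map of `b35` -/
def MB35 (v : V6) : V6 := (v.1 + B35 v.2, v.2)

theorem MB12_eq : MSh ∘ (MB01 ∘ (MSh ∘ MSh)) = MB12 := by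
  funext v
  refine Prod.ext ?_ (Sh3 v.2)
  show Sh (Sh (Sh v.1) + B01 (Sh (Sh v.2))) = v.1 + B12 v.2
  rw [Sh_add, Sh3, Sh_B01]

theorem MB35_eq : MDg ∘ (MB45 ∘ (MDg ∘ MDg)) = MB35 := by
  funext v
  refine Prod.ext ?_ (Dg3 v.2)
  show Dg (Dg (Dg v.1) + B45 (Dg (Dg v.2))) = v.1 + B35 v.2
  rw [Dg_add, Dg3, Dg_B45]

/-! ### kernels -/

/-- a vector spanning the kernel of `Bm x`, `x ≠ 0` -/
def kv : X → F43
  | (false, false, false, false) => 0
  | (false, false, false, true) => ![.o, .w, .v]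
  | (false, false, true, false) => ![.o, .o, .o]
  | (false, false, true, true) => ![.o, .v, .w]
  | (false, true, false, false) => ![.o, .z, .z]
  | (false, true, false, true) => ![.z, .o, .w]
  | (false, true, true, false) => ![.z, .o, .o]
  | (false, true, true, true) => ![.z, .o, .v]
  | (true, false, false, false) => ![.z, .z, .o]
  | (true, false, false, true) => ![.o, .w, .z]
  | (true, false, true, false) => ![.o, .o, .z]
  | (true, false, true, true) => ![.o, .v, .z]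
  | (true, true, false, false) => ![.z, .o, .z]
  | (true, true, false, true) => ![.o, .z, .v]
  | (true, true, true, false) => ![.o, .z, .o]
  | (true, true, true, true) => ![.o, .z, .w]

theorem kv_ker : ∀ x : X, Bm x (kv x) = 0 := by decide +kernel

theorem kv_ne : ∀ x : X, x = (false, false, false, false) ∨ kv x ≠ 0 := by decide +kernel

theorem ker_aux : ∀ x : X, ∀ a b c : F4, x = (false, false, false, false) ∨
    Bm x ![a, b, c] ≠ 0 ∨ ∃ γ : F4, ![a, b, c] = sc γ (kv x) := by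
  decide +kernel

theorem kv_inj : ∀ x y : X, x = (false, false, false, false) ∨ x = y ∨
    ∀ γ : F4, kv x ≠ sc γ (kv y) := by
  decide +kernel

theorem ker_line {x : X} (hx : x ≠ (false, false, false, false)) {c : F43} (hc : Bm x c = 0) :
    ∃ γ : F4, c = sc γ (kv x) := by
  rw [eq_vec c] at hc ⊢
  rcases ker_aux x (c 0) (c 1) (c 2) with h | h | h
  · exact absurd h hx
  · exact absurd hc h
  · exact h

theorem ker_line_iff {x : X} (hx : x ≠ (false, false, false, false)) {c : F43} :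
    Bm x c = 0 ↔ ∃ γ : F4, c = sc γ (kv x) := by
  refine ⟨ker_line hx, ?_⟩
  rintro ⟨γ, rfl⟩
  rw [sc_Bm, kv_ker, sc_zero]

theorem sc_inj {a : F43} (ha : a ≠ 0) {γ δ : F4} (h : sc γ a = sc δ a) : γ = δ := by
  obtain ⟨k, hk⟩ := Function.ne_iff.1 ha
  have h1 : γ * a k = δ * a k := congrFun h k
  exact mul_right_cancel₀ hk h1

theorem ker_two {x y : X} (hx : x ≠ (false, false, false, false))
    (hy : y ≠ (false, false, false, false)) (hxy : x ≠ y) {c : F43} (h1 : Bm x c = 0)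
    (h2 : Bm y c = 0) : c = 0 := by
  obtain ⟨γ, hγ⟩ := ker_line hx h1
  obtain ⟨δ, hδ⟩ := ker_line hy h2
  by_cases h0 : γ = 0
  · rw [hγ, h0]
    exact funext fun _ => zero_mul _
  · exfalso
    have h3 : kv x = sc (γ⁻¹ * δ) (kv y) := by
      rw [← sc_sc, ← hδ, hγ, sc_sc, inv_mul_cancel₀ h0, sc_one]
    rcases kv_inj x y with h | h | h
    · exact hx h
    · exact hxy h
    · exact h _ h3

theorem card_ker {x : X} (hx : x ≠ (false, false, false, false)) :
    Nat.card {c : F43 // Bm x c = 0} = 4 := by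
  have hk : kv x ≠ 0 := (kv_ne x).resolve_left hx
  have h4 : Nat.card F4 = 4 := by rw [Nat.card_eq_fintype_card]; rfl
  rw [← h4]
  symm
  refine Nat.card_congr (Equiv.ofBijective
    (fun γ : F4 => (⟨sc γ (kv x), (ker_line_iff hx).2 ⟨γ, rfl⟩⟩ : {c : F43 // Bm x c = 0})) ⟨?_, ?_⟩)
  · intro γ δ h
    exact sc_inj hk (congrArg Subtype.val h)
  · rintro ⟨c, hc⟩
    obtain ⟨γ, hγ⟩ := ker_line hx hc
    exact ⟨γ, Subtype.ext hγ.symm⟩

theorem B_ker {c : F43} (h1 : B01 c = 0) (h2 : B12 c = 0) : c = 0 := by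
  have a0 : c 0 = 0 := congrFun h1 0
  have a1 : c 1 = 0 := congrFun h1 1
  have a2 : c 2 = 0 := congrFun h2 2
  rw [eq_vec c, a0, a1, a2]
  decide +kernel

/-- a vector spanning the kernel of `C1` -/
def kC : F43 := ![.v, .o, .o]

theorem kC_ne : kC ≠ 0 := by decide +kernel

theorem kC_ker : ∀ γ : F4, C1 (sc γ kC) = 0 := by decide +kernel

theorem C1_aux : ∀ a b c : F4, C1 ![a, b, c] ≠ 0 ∨ ∃ γ : F4, ![a, b, c] = sc γ kC := by
  decide +kernel

theorem C2_aux : ∀ γ : F4, C2 (sc γ kC) ≠ 0 ∨ γ = 0 := by decide +kernel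

theorem C1_line {a : F43} (h : C1 a = 0) : ∃ γ : F4, a = sc γ kC := by
  rw [eq_vec a] at h ⊢
  exact (C1_aux _ _ _).resolve_left (fun h' => h' h)

theorem C_ker {a : F43} (h1 : C1 a = 0) (h2 : C2 a = 0) : a = 0 := by
  obtain ⟨γ, rfl⟩ := C1_line h1
  rcases C2_aux γ with h | h
  · exact absurd h2 h
  · rw [h]
    exact funext fun _ => zero_mul _

theorem card_kerC : Nat.card {a : F43 // C1 a = 0} = 4 := by
  have h4 : Nat.card F4 = 4 := by rw [Nat.card_eq_fintype_card]; rfl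
  rw [← h4]
  symm
  refine Nat.card_congr (Equiv.ofBijective
    (fun γ : F4 => (⟨sc γ kC, kC_ker γ⟩ : {a : F43 // C1 a = 0})) ⟨?_, ?_⟩)
  · intro γ δ h
    exact sc_inj kC_ne (congrArg Subtype.val h)
  · rintro ⟨c, hc⟩
    obtain ⟨γ, hγ⟩ := C1_line hc
    exact ⟨γ, Subtype.ext hγ.symm⟩

theorem card_F43 : Nat.card F43 = 64 := by
  have h4 : Nat.card F4 = 4 := by rw [Nat.card_eq_fintype_card]; rfl
  rw [Nat.card_fun, h4, Nat.card_eq_fintype_card, Fintype.card_fin]
  norm_num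

/-! ### the form -/

theorem tr_add (x y : F4) : tr (x + y) = tr x + tr y := by revert x y; decide

theorem cj_add (x y : F4) : cj (x + y) = cj x + cj y := by revert x y; decide

theorem hp3_add_left (a b c : F43) : hp3 (a + b) c = hp3 a c + hp3 b c := by
  simp only [hp3, Pi.add_apply, add_mul]
  abel

theorem hp3_add_right (a b c : F43) : hp3 a (b + c) = hp3 a b + hp3 a c := by
  simp only [hp3, Pi.add_apply, cj_add, mul_add]
  abel

theorem hp3_zero_right (a : F43) : hp3 a 0 = 0 := by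
  have h : cj 0 = 0 := rfl
  simp [hp3, h]

theorem hp3_zero_left (a : F43) : hp3 0 a = 0 := by
  simp [hp3]

theorem tr_zero : tr 0 = 0 := rfl

theorem tr_nondeg_aux : ∀ x : F4, tr (.o * cj x) = 0 → tr (.w * cj x) = 0 → x = 0 := by
  decide

theorem tr_nondeg {d : F43} (h : ∀ a, tr (hp3 a d) = 0) : d = 0 := by
  have h1 : ∀ γ : F4, tr (γ * cj (d 0)) = 0 := by
    intro γ
    have := h ![γ, 0, 0]
    simpa [hp3] using this
  have h2 : ∀ γ : F4, tr (γ * cj (d 1)) = 0 := by
    intro γ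
    have := h ![0, γ, 0]
    simpa [hp3] using this
  have h3 : ∀ γ : F4, tr (γ * cj (d 2)) = 0 := by
    intro γ
    have := h ![0, 0, γ]
    simpa [hp3] using this
  rw [eq_vec d, tr_nondeg_aux _ (h1 _) (h1 _), tr_nondeg_aux _ (h2 _) (h2 _),
    tr_nondeg_aux _ (h3 _) (h3 _)]
  decide +kernel

end Cfsg.Agent.J4Type.PreHexLin
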