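import Cfsg.Agent.J4Type.PreHexC
import Cfsg.Agent.J4Type.HexOf

/-!
# From coordinates of `Q/⟨z⟩` to `PreHex`

`PreHexOf.preHex K hP : PreHex G` for `K : CentCoords H` and `hP` the statement `P_outer`.
-/

set_option autoImplicit false

open scoped Pointwise

namespace Cfsg.Agent.J4Type.PreHexOf

open Cfsg SporadicA.FieldFour VCoord CentCoords PreHexLin SporadicA.OctadFix PreHexA PreHexB PreHexC

variable {G : Type*} [Group G] {H : Cent G} (K : CentCoords H)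

theorem mem_smul {g : Equiv.Perm GolayPt} {O : Finset GolayPt} {p : GolayPt} :
    p ∈ g • O ↔ g⁻¹ p ∈ O := by
  have h := SporadicA.GolayPerm.mem_smul_iff g O (g⁻¹ p)
  rwa [show g (g⁻¹ p) = p from Equiv.apply_symm_apply g p] at h

/-- transport of triviality on `A(O)/z` -/
theorem triv_move {O : Finset GolayPt} (g c : Subgroup.centralizer ({H.z} : Set G))
    (h : ∀ a ∈ AO K (H.P g • O), Tr H (c : G) a) :
    ∀ a ∈ AO K O, Tr H ((g⁻¹ * c * g : Subgroup.centralizer ({H.z} : Set G)) : G) a := by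
  intro a ha
  have h1 := Tr_conj g⁻¹ (h _ ((AO_conj K O g a).1 ha))
  have e1 : ((g⁻¹ : Subgroup.centralizer ({H.z} : Set G)) : G) * (c : G) *
      ((g⁻¹ : Subgroup.centralizer ({H.z} : Set G)) : G)⁻¹ =
      ((g⁻¹ * c * g : Subgroup.centralizer ({H.z} : Set G)) : G) := by
    show (g : G)⁻¹ * (c : G) * ((g : G)⁻¹)⁻¹ = (g : G)⁻¹ * (c : G) * (g : G)
    group
  have e2 : ((g⁻¹ : Subgroup.centralizer ({H.z} : Set G)) : G) * ((g : G) * a * (g : G)⁻¹) *
      ((g⁻¹ : Subgroup.centralizer ({H.z} : Set G)) : G)⁻¹ = a := by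
    show (g : G)⁻¹ * ((g : G) * a * (g : G)⁻¹) * ((g : G)⁻¹)⁻¹ = a
    group
  rw [e1, e2] at h1
  exact h1

theorem A_fix [Finite G] (O : Finset GolayPt) (hO : IsHex O)
    (c : Subgroup.centralizer ({H.z} : Set G)) (h : ∀ a ∈ AO K O, Tr H (c : G) a) :
    ∀ p ∈ O, H.P c p = p := by
  obtain ⟨g, rfl⟩ := exists_move (H := H) hO
  have h1 := fixOct_of_triv K (triv_move K g c h)
  intro p hp
  have h2 := (mem_fixOct.1 h1).2 _ (mem_smul.1 hp)
  rw [map_mul, map_mul, map_inv, Equiv.Perm.mul_apply, Equiv.Perm.mul_apply,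
    show H.P g ((H.P g)⁻¹ p) = p from Equiv.apply_symm_apply _ p] at h2
  exact (H.P g)⁻¹.injective h2

theorem A_lift (O : Finset GolayPt) (hO : IsHex O) (f : Equiv.Perm GolayPt) (hf : f ∈ M24)
    (hfix : ∀ p ∈ O, f p = p) :
    ∃ c : Subgroup.centralizer ({H.z} : Set G), H.P c = f ∧ ∀ a ∈ AO K O, Tr H (c : G) a := by
  obtain ⟨g, rfl⟩ := exists_move (H := H) hO
  have h1 : (H.P g)⁻¹ * f * H.P g ∈ fixOct hex0 := by
    refine mem_fixOct.2 ⟨M24.mul_mem (M24.mul_mem (M24.inv_mem (HexMax.mem_M24 (P_mem g))) hf)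
      (HexMax.mem_M24 (P_mem g)), fun p hp => ?_⟩
    rw [Equiv.Perm.mul_apply, Equiv.Perm.mul_apply, Equiv.Perm.inv_eq_iff_eq]
    exact hfix _ ((SporadicA.GolayPerm.mem_smul_iff _ _ _).2 hp)
  obtain ⟨x, hx⟩ := PreHexPerm.exists_pb h1
  obtain ⟨d, hd, hd'⟩ := lift_x K x
  refine ⟨g * d * g⁻¹, ?_, fun a ha => ?_⟩
  · rw [map_mul, map_mul, map_inv, hd, hx]
    group
  · rw [AO_smul] at ha
    obtain ⟨b, hb, rfl⟩ := ha
    have hbQ := AO_le K _ hb
    have h2 : Tr H (d : G) b := by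
      rw [Tr_iff_co K d hbQ, hd' b hbQ]
      unfold Mx
      rw [((mem_A0 K).1 hb).2, Bm_zero, add_zero, ← ((mem_A0 K).1 hb).2]
    exact Tr_conj g h2

/-- an element acting trivially on `A(hex0)/z` -/
theorem act_triv [Finite G] {c : Subgroup.centralizer ({H.z} : Set G)}
    (h : ∀ a ∈ AO K hex0, Tr H (c : G) a) :
    ∃ x : X, (PreHexPerm.pb x : Equiv.Perm GolayPt) = H.P c ∧
      ∀ q ∈ H.Q, (Tr H (c : G) q ↔ Bm x (K.co q).2 = 0) := by
  obtain ⟨x, hx, hx'⟩ := act_of_triv K (fixOct_of_triv K h) fun q hq hq0 =>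
    (Tr_iff_co K c hq).1 (h q ((mem_A0 K).2 ⟨hq, hq0⟩))
  refine ⟨x, hx, fun q hq => ?_⟩
  rw [Tr_iff_co K c hq, hx' q hq]
  constructor
  · intro h1
    exact (add_eq_self3 _ _).1 (congrArg Prod.fst h1)
  · intro h1
    exact Prod.ext ((add_eq_self3 _ _).2 h1) rfl

theorem ne_zero_of {x : X} {f : Equiv.Perm GolayPt} (hx : (PreHexPerm.pb x : Equiv.Perm GolayPt) = f)
    (h : f ≠ 1) : x ≠ (false, false, false, false) := by
  rintro rfl
  apply h
  rw [← hx, PreHexPerm.pb_zero]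
  rfl

theorem card_S {x : X} (hx : x ≠ (false, false, false, false)) :
    Nat.card {v : V6 // Bm x v.2 = 0} = 256 := by
  have h : Nat.card {v : V6 // Bm x v.2 = 0} = Nat.card (F43 × {c : F43 // Bm x c = 0}) :=
    Nat.card_congr ⟨fun v => (v.1.1, ⟨v.1.2, v.2⟩), fun w => ⟨(w.1, w.2.1), w.2.2⟩,
      fun v => rfl, fun w => rfl⟩
  rw [h, Nat.card_prod, card_F43, card_ker hx]

theorem V_dim' [Finite G] (O : Finset GolayPt) (hO : IsHex O)
    (c : Subgroup.centralizer ({H.z} : Set G)) (hc : H.P c ≠ 1)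
    (h : ∀ a ∈ AO K O, Tr H (c : G) a) :
    Nat.card {q : G // q ∈ H.Q ∧ ((c : G) * q = q * c ∨ (c : G) * q = H.z * (q * c))} = 2 ^ 9 := by
  obtain ⟨g, rfl⟩ := exists_move (H := H) hO
  obtain ⟨x, hx, hx'⟩ := act_triv K (triv_move K g c h)
  have hx0 : x ≠ (false, false, false, false) := by
    refine ne_zero_of hx fun h1 => hc ?_
    rw [map_mul, map_mul, map_inv] at h1
    have h2 : H.P c = H.P g * ((H.P g)⁻¹ * H.P c * H.P g) * (H.P g)⁻¹ := by group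
    rw [h2, h1]
    group
  have h1 : Nat.card {q : G // q ∈ H.Q ∧ ((c : G) * q = q * c ∨ (c : G) * q = H.z * (q * c))} =
      Nat.card {q : G // q ∈ H.Q ∧ Bm x (K.co q).2 = 0} := by
    refine Nat.card_congr ((MulAut.conj (g : G)⁻¹).toEquiv.subtypeEquiv fun q => ?_)
    show q ∈ H.Q ∧ ((c : G) * q = q * c ∨ (c : G) * q = H.z * (q * c)) ↔
      (g : G)⁻¹ * q * ((g : G)⁻¹)⁻¹ ∈ H.Q ∧ Bm x (K.co ((g : G)⁻¹ * q * ((g : G)⁻¹)⁻¹)).2 = 0
    rw [← Tr_iff]
    have hmem : q ∈ H.Q ↔ (g : G)⁻¹ * q * ((g : G)⁻¹)⁻¹ ∈ H.Q := by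
      constructor
      · intro hq
        exact conj_mem g⁻¹ hq
      · intro hq
        have h2 := conj_mem g hq
        have e : (g : G) * ((g : G)⁻¹ * q * ((g : G)⁻¹)⁻¹) * (g : G)⁻¹ = q := by group
        rwa [e] at h2
    have hTr : Tr H (c : G) q ↔
        Tr H ((g⁻¹ * c * g : Subgroup.centralizer ({H.z} : Set G)) : G)
          ((g : G)⁻¹ * q * ((g : G)⁻¹)⁻¹) := by
      constructor
      · intro hq
        have h2 := Tr_conj g⁻¹ hq
        have e1 : ((g⁻¹ : Subgroup.centralizer ({H.z} : Set G)) : G) * (c : G) *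
            ((g⁻¹ : Subgroup.centralizer ({H.z} : Set G)) : G)⁻¹ =
            ((g⁻¹ * c * g : Subgroup.centralizer ({H.z} : Set G)) : G) := by
          show (g : G)⁻¹ * (c : G) * ((g : G)⁻¹)⁻¹ = (g : G)⁻¹ * (c : G) * (g : G)
          group
        rw [e1] at h2
        exact h2
      · intro hq
        have h2 := Tr_conj g hq
        have e1 : (g : G) * ((g⁻¹ * c * g : Subgroup.centralizer ({H.z} : Set G)) : G) *
            (g : G)⁻¹ = c := by
          show (g : G) * ((g : G)⁻¹ * (c : G) * (g : G)) * (g : G)⁻¹ = c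
          group
        have e2 : (g : G) * ((g : G)⁻¹ * q * ((g : G)⁻¹)⁻¹) * (g : G)⁻¹ = q := by group
        rw [e1, e2] at h2
        exact h2
    rw [hmem]
    constructor
    · rintro ⟨hq, h2⟩
      exact ⟨hq, (hx' _ hq).1 (hTr.1 h2)⟩
    · rintro ⟨hq, h2⟩
      exact ⟨hq, hTr.2 ((hx' _ hq).2 h2)⟩
  rw [h1, card_co K (fun v => Bm x v.2 = 0), card_S hx0]
  norm_num

theorem V_inf' [Finite G] (O : Finset GolayPt) (hO : IsHex O)
    (c d : Subgroup.centralizer ({H.z} : Set G)) (hc : H.P c ≠ 1) (hd : H.P d ≠ 1)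
    (hcd : H.P c ≠ H.P d) (h : ∀ a ∈ AO K O, Tr H (c : G) a) (h' : ∀ a ∈ AO K O, Tr H (d : G) a)
    (q : G) (hq : q ∈ H.Q) (h1 : Tr H (c : G) q) (h2 : Tr H (d : G) q) : q ∈ AO K O := by
  obtain ⟨g, rfl⟩ := exists_move (H := H) hO
  obtain ⟨x, hx, hx'⟩ := act_triv K (triv_move K g c h)
  obtain ⟨y, hy, hy'⟩ := act_triv K (triv_move K g d h')
  have hP : ∀ c : Subgroup.centralizer ({H.z} : Set G),
      H.P c = H.P g * H.P (g⁻¹ * c * g) * (H.P g)⁻¹ := by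
    intro c
    rw [map_mul, map_mul, map_inv]
    group
  have hx0 : x ≠ (false, false, false, false) := by
    refine ne_zero_of hx fun h3 => hc ?_
    rw [hP, h3]
    group
  have hy0 : y ≠ (false, false, false, false) := by
    refine ne_zero_of hy fun h3 => hd ?_
    rw [hP, h3]
    group
  have hxy : x ≠ y := by
    rintro rfl
    apply hcd
    rw [hP c, hP d, ← hx, ← hy]
  have hr : (g : G)⁻¹ * q * ((g : G)⁻¹)⁻¹ ∈ H.Q := conj_mem g⁻¹ hq
  have hTr : ∀ c : Subgroup.centralizer ({H.z} : Set G), Tr H (c : G) q →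
      Tr H ((g⁻¹ * c * g : Subgroup.centralizer ({H.z} : Set G)) : G)
        ((g : G)⁻¹ * q * ((g : G)⁻¹)⁻¹) := by
    intro c hq
    have h2 := Tr_conj g⁻¹ hq
    have e1 : ((g⁻¹ : Subgroup.centralizer ({H.z} : Set G)) : G) * (c : G) *
        ((g⁻¹ : Subgroup.centralizer ({H.z} : Set G)) : G)⁻¹ =
        ((g⁻¹ * c * g : Subgroup.centralizer ({H.z} : Set G)) : G) := by
      show (g : G)⁻¹ * (c : G) * ((g : G)⁻¹)⁻¹ = (g : G)⁻¹ * (c : G) * (g : G)
      group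
    rw [e1] at h2
    exact h2
  have h3 : (K.co ((g : G)⁻¹ * q * ((g : G)⁻¹)⁻¹)).2 = 0 :=
    ker_two hx0 hy0 hxy ((hx' _ hr).1 (hTr c h1)) ((hy' _ hr).1 (hTr d h2))
  have h4 := (AO_conj K hex0 g _).1 ((mem_A0 K).2 ⟨hr, h3⟩)
  have e2 : (g : G) * ((g : G)⁻¹ * q * ((g : G)⁻¹)⁻¹) * (g : G)⁻¹ = q := by group
  rwa [e2] at h4

/-- **`PreHex` from coordinates.** -/
def preHex [Finite G] (hP : ∀ c : Subgroup.centralizer ({H.z} : Set G), H.P c none ≠ none →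
    ∃ q ∈ H.Q, (c : G) * H.ρ * (c : G)⁻¹ = q * H.ρ⁻¹) : PreHex G where
  toCent := H
  P_outer := hP
  A := AO K
  A_le O _ := AO_le K O
  z_mem_A O _ := z_mem_AO K O
  A_card _ hO := AO_card K hO
  A_sq _ hO := AO_sq K hO
  A_conj O _ := AO_conj K O
  A_fix := A_fix K
  A_lift := A_lift K
  A_inf_two := AO_inf_two K
  A_inf_eight := AO_inf_eight K
  V_dim' := V_dim' K
  V_inf' O hO c d hc hd hcd h h' q hq h1 h2 :=
    V_inf' K O hO c d hc hd hcd h h' q hq (Tr_iff.2 h1) (Tr_iff.2 h2)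

end Cfsg.Agent.J4Type.PreHexOf
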