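import Cfsg.Agent.J4Type.Rel2Crit
import Cfsg.Agent.J4Type.FinalGen

/-!
# R07 (J₄ type), part (f): the second printed relator involving `t` (helper378)

`relator2 : Tau G → ` the printed relator (the field `r2` of `FinalEmb.TauFam`).
-/

set_option autoImplicit false

open scoped Pointwise

namespace Cfsg.Agent.J4Type.Rel2

open Cfsg Cfsg.Agent.J4Type Cfsg.Agent.J4Type.Rel2Data Cfsg.Agent.J4Type.Rel2Crit
open Cfsg.Agent.J4.M24Pres Cfsg.Agent.J4.M24Hom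
open Cfsg.Agent.J4Type.HexMax (hex0_isHex hex1_isHex)

variable {G : Type*} [Group G] (S : Tau G)

theorem conjT {g : M24} {T U : Finset (Finset GolayPt)} (hT : T ∈ trios)
    (h : (g : Equiv.Perm GolayPt) • T = U) : S.φ g * S.t T * (S.φ g)⁻¹ = S.t U := by
  rw [S.t_conj T hT g, h]

theorem t_inv {T : Finset (Finset GolayPt)} (hT : T ∈ trios) : (S.t T)⁻¹ = S.t T :=
  inv_eq_of_mul_eq_one_left (S.t_sq T hT)

theorem line {T₁ T₂ T₃ Y : Finset (Finset GolayPt)} {O : Finset GolayPt} (h1 : T₁ ∈ trios)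
    (h2 : T₂ ∈ trios) (h3 : T₃ ∈ trios) (h12 : T₁ ≠ T₂) (h13 : T₁ ≠ T₃) (h23 : T₂ ≠ T₃)
    (hY : Y ∈ sextets) (r1 : Refines Y T₁) (r2 : Refines Y T₂) (r3 : Refines Y T₃)
    (o1 : O ∈ T₁) (o2 : O ∈ T₂) (o3 : O ∈ T₃) :
    S.t T₁ * S.t T₂ = S.t T₃ ∧ S.t T₂ * S.t T₁ = S.t T₃ := by
  have h := S.rel1 T₁ h1 T₂ h2 T₃ h3 h12 h13 h23 Y hY r1 r2 r3 O o1 o2 o3
  have h4 : S.t T₁ * S.t T₂ = S.t T₃ := by
    rw [← t_inv S h3]
    exact eq_inv_of_mul_eq_one_left h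
  refine ⟨h4, ?_⟩
  have h5 := congrArg (·⁻¹) h4
  simp only [mul_inv_rev, t_inv S h1, t_inv S h2, t_inv S h3] at h5
  exact h5

theorem zsq : S.z * S.z = 1 := by
  have := pow_orderOf_eq_one S.z
  rwa [S.z_order, pow_two] at this

theorem zinv : S.z⁻¹ = S.z := inv_eq_of_mul_eq_one_left (zsq S)

/-- commuting with `z` -/
theorem z_comm {a : G} (ha : a ∈ S.E hex1) : S.z * a = a * S.z :=
  (S.E_elem hex1 hex1_isHex).2 _ (S.z_mem_E hex1 hex1_isHex) _ ha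

theorem phi_m : S.φ e_m * S.z * (S.φ e_m)⁻¹ = S.z := by
  rw [← S.ε_tet 0, FinalGen.Compl.conj_ε S.toCompl e_m (by rw [CloseInst.tet_card]; decide), m_tet]

theorem prodP : S.t P1 * S.t P1b * S.t P1c = S.z := by
  have h := congrArg (fun x => S.φ e_m * x * (S.φ e_m)⁻¹) S.z_prod
  simp only [phi_m] at h
  rw [← h, ← conjT S TM_mem m_TM_P1, ← conjT S TM'_mem m_TMq_P1b, ← conjT S TM''_mem m_TMqq_P1c]
  group

theorem hTM : S.t TM ∈ S.E hex1 := (S.t_hex1 TM TM_mem ref_S0_TM).1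
theorem hP1 : S.t P1 ∈ S.E hex1 := (S.t_hex1 P1 P1_mem ref_S0_P1).1
theorem hP1b : S.t P1b ∈ S.E hex1 := (S.t_hex1 P1b P1b_mem ref_S0_P1b).1
theorem hP1c : S.t P1c ∈ S.E hex1 := (S.t_hex1 P1c P1c_mem ref_S0_P1c).1

/-! ### conjugates of `z` -/

theorem eps_x1 : S.φ e_s * S.z * (S.φ e_s)⁻¹ = S.ε x1 := by
  rw [← S.ε_tet 0, FinalGen.Compl.conj_ε S.toCompl e_s (by rw [CloseInst.tet_card]; decide), s_tet]

theorem eps_x2 : S.φ e_h2 * S.z * (S.φ e_h2)⁻¹ = S.ε x2 := by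
  rw [← S.ε_tet 2, FinalGen.Compl.conj_ε S.toCompl e_h2 (by rw [CloseInst.tet_card]; decide),
    h2_tet]

theorem eps_x12 : S.ε x1 * S.ε x2 = S.ε x3 := by
  rw [← S.ε_mul x1 x2 (by rw [x1_card]; decide) (by rw [x2_card]; decide), x1_x2]

theorem nc1 : S.ε x1 * S.t P1 ≠ S.t P1 * S.ε x1 := ncomm S P1_mem S1_sext x1_mem nref_S1
theorem nc2 : S.ε x2 * S.t P1 ≠ S.t P1 * S.ε x2 := ncomm S P1_mem S2_sext x2_mem nref_S2
theorem nc3 : S.ε x3 * S.t P1 ≠ S.t P1 * S.ε x3 := ncomm S P1_mem S3_sext x3_mem nref_S3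

section

variable {S} {k : G} (hk : k * S.z * k⁻¹ = S.t TM)

include hk

theorem z0 : (S.toHex.conj k).z = S.t TM := hk

theorem Q0_conj {c : G} (hc : c * S.t TM = S.t TM * c) {q : G} (hq : q ∈ (S.toHex.conj k).Q) :
    c * q * c⁻¹ ∈ (S.toHex.conj k).Q :=
  (S.toHex.conj k).Q_conj c (by rw [z0 hk]; exact hc) q hq

theorem Q0_conj_phi {g : M24} (hg : (g : Equiv.Perm GolayPt) • TM = TM) {q : G}
    (hq : q ∈ (S.toHex.conj k).Q) : S.φ g * q * (S.φ g)⁻¹ ∈ (S.toHex.conj k).Q := by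
  apply Q0_conj hk _ hq
  have := conjT S TM_mem hg
  rw [mul_inv_eq_iff_eq_mul] at this
  exact this

/-- Step D -/
theorem stepD : S.t P1 * S.t P1b ∈ (S.toHex.conj k).Q := by
  obtain ⟨O, hO, hE⟩ := hexOf S.toFrame k 1 (by rw [z0 hk, inv_one, one_mul, mul_one]; exact hTM S)
  have h1 : S.t P1 * S.t P1b = S.t P1c * S.z := by
    rw [← prodP S, ← mul_assoc]
    have hcomm : S.t P1c * (S.t P1 * S.t P1b) = (S.t P1 * S.t P1b) * S.t P1c :=
      (S.E_elem hex1 hex1_isHex).2 _ (hP1c S) _ ((S.E hex1).mul_mem (hP1 S) (hP1b S))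
    rw [hcomm, mul_assoc, S.t_sq P1c P1c_mem, mul_one]
  rw [h1]
  apply crit' S.toFrame k hO
  · rw [← hE, inv_one, one_mul, mul_one]
    exact (S.E hex1).mul_mem (hP1c S) (S.z_mem_E hex1 hex1_isHex)
  · intro h
    apply (S.t_hex1 P1c P1c_mem ref_S0_P1c).2.2
    rw [eq_inv_of_mul_eq_one_left h]
    exact S.Q.inv_mem S.z_mem_Q
  · exact S.tz_not_isConj P1c P1c_mem ref_S0_P1c
  · rw [z0 hk, mul_assoc, z_comm S (hTM S), ← mul_assoc,
      (line S TM_mem P1c_mem P1c'_mem ne_TM_P1c ne_TM_P1cq ne_P1c_P1cq S0_sext ref_S0_TM ref_S0_P1c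
        ref_S0_P1cq oC_mem_TM oC_mem_P1c oC_mem_P1cq).2]
    exact S.tz_not_isConj P1c' P1c'_mem ref_S0_P1cq

theorem stepD' : S.t R1 * S.t P2 ∈ (S.toHex.conj k).Q := by
  have h := Q0_conj_phi hk s_TM_TM (stepD hk)
  rw [← conjT S P1_mem s_P1_R1, ← conjT S P1b_mem s_P1b_P2]
  have h1 : S.φ e_s * S.t P1 * (S.φ e_s)⁻¹ * (S.φ e_s * S.t P1b * (S.φ e_s)⁻¹) =
      S.φ e_s * (S.t P1 * S.t P1b) * (S.φ e_s)⁻¹ := by group
  rw [h1]
  exact h

/-- Step E -/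
theorem stepE : S.t P1 ∉ (S.toHex.conj k).Q := by
  intro h
  have hb : S.t P1b ∈ (S.toHex.conj k).Q := by
    rw [← conjT S P1_mem gb_P1_P1b]
    exact Q0_conj_phi hk gb_TM_TM h
  have hc : S.t P1c ∈ (S.toHex.conj k).Q := by
    rw [← conjT S P1_mem gc_P1_P1c]
    exact Q0_conj_phi hk gc_TM_TM h
  have hz : S.z ∈ (S.toHex.conj k).Q := by
    rw [← prodP S]
    exact (S.toHex.conj k).Q.mul_mem ((S.toHex.conj k).Q.mul_mem h hb) hc
  have h1 : S.ε x1 ∈ (S.toHex.conj k).Q := by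
    rw [← eps_x1]; exact Q0_conj_phi hk s_TM_TM hz
  have h2 : S.ε x2 ∈ (S.toHex.conj k).Q := by
    rw [← eps_x2]; exact Q0_conj_phi hk h2_TM_TM hz
  have c1 : S.ε x1 * S.t P1 = S.t TM * (S.t P1 * S.ε x1) := by
    rcases (S.toHex.conj k).Q_comm _ h1 _ h with h3 | h3
    · exact absurd h3 (nc1 S)
    · rw [z0 hk] at h3; exact h3
  have c2 : S.ε x2 * S.t P1 = S.t TM * (S.t P1 * S.ε x2) := by
    rcases (S.toHex.conj k).Q_comm _ h2 _ h with h3 | h3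
    · exact absurd h3 (nc2 S)
    · rw [z0 hk] at h3; exact h3
  have hx1 : S.ε x1 * S.t TM = S.t TM * S.ε x1 := by
    have h3 := (S.toHex.conj k).Q_le h1
    rw [Subgroup.mem_centralizer_singleton_iff, z0 hk] at h3
    exact h3
  apply nc3 S
  rw [← eps_x12]
  calc S.ε x1 * S.ε x2 * S.t P1 = S.ε x1 * (S.ε x2 * S.t P1) := by group
    _ = (S.ε x1 * S.t TM) * S.t P1 * S.ε x2 := by rw [c2]; group
    _ = S.t TM * (S.ε x1 * S.t P1) * S.ε x2 := by rw [hx1]; group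
    _ = (S.t TM * S.t TM) * (S.t P1 * (S.ε x1 * S.ε x2)) := by rw [c1]; group
    _ = S.t P1 * (S.ε x1 * S.ε x2) := by rw [S.t_sq TM TM_mem, one_mul]

end

/-! ### lines of trios -/

theorem P1_P2 : S.t P1 * S.t P2 = S.t P2 * S.t P1 := by
  have h := line S P1_mem P2_mem P3_mem ne_P1_P2 ne_P1_P3 ne_P2_P3 Sx_sext ref_Sx_P1 ref_Sx_P2
    ref_Sx_P3 oA_mem_P1 oA_mem_P2 oA_mem_P3
  rw [h.1, h.2]

theorem TM_R1 : S.t TM * S.t R1 = S.t R1' ∧ S.t R1 * S.t TM = S.t R1' :=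
  line S TM_mem R1_mem R1'_mem ne_TM_R1 ne_TM_R1q ne_R1_R1q S1_sext ref_S1_TM ref_S1_R1
    ref_S1_R1q oB_mem_TM oB_mem_R1 oB_mem_R1q

theorem R1_R2 : S.t R1 * S.t R2 = S.t R3 ∧ S.t R2 * S.t R1 = S.t R3 :=
  line S R1_mem R2_mem R3_mem ne_R1_R2 ne_R1_R3 ne_R2_R3 Sy_sext ref_Sy_R1 ref_Sy_R2
    ref_Sy_R3 oB_mem_R1 oB_mem_R2 oB_mem_R3

theorem TM_P1 : S.t TM * S.t P1 = S.t P1 * S.t TM :=
  (S.E_elem hex1 hex1_isHex).2 _ (hTM S) _ (hP1 S)

section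

variable [Finite G]

/-- Step F: `t R1` normalises `E hex1` -/
theorem stepF {v : G} (hv : v ∈ S.E hex1) : S.t R1 * v * (S.t R1)⁻¹ ∈ S.E hex1 := by
  obtain ⟨k, hk⟩ := isConj_iff.1 (S.t_isConj TM TM_mem)
  obtain ⟨O, hO, hE⟩ := hexOf S.toFrame k 1 (by rw [z0 hk, inv_one, one_mul, mul_one]; exact hTM S)
  have hE' : ∀ v : G, v ∈ S.E hex1 ↔ v ∈ (S.toHex.conj k).E O := by
    intro v
    have := hE v
    rwa [inv_one, one_mul, mul_one] at this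
  have hR1 : S.t R1 ∈ Subgroup.centralizer ({(S.toHex.conj k).z} : Set G) := by
    rw [Subgroup.mem_centralizer_singleton_iff, z0 hk, (TM_R1 S).1, (TM_R1 S).2]
  have hq := stepD' hk
  have hqC := (S.toHex.conj k).Q_le hq
  have hP2 : S.t P2 ∈ Subgroup.centralizer ({(S.toHex.conj k).z} : Set G) := by
    have h := Subgroup.mul_mem _ (Subgroup.inv_mem _ hR1) hqC
    rwa [inv_mul_cancel_left] at h
  have h1 := octad_of_comm (S.toHex.conj k) hO ((hE' _).1 (hP1 S)) (stepE hk) hP2 (P1_P2 S).symm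
  have h2 : (S.toHex.conj k).P ⟨S.t R1, hR1⟩ = (S.toHex.conj k).P ⟨S.t P2, hP2⟩ := by
    have h3 : (⟨S.t R1, hR1⟩ : Subgroup.centralizer ({(S.toHex.conj k).z} : Set G)) =
        ⟨S.t R1 * S.t P2, hqC⟩ * ⟨S.t P2, hP2⟩ := by
      apply Subtype.ext
      change S.t R1 = S.t R1 * S.t P2 * S.t P2
      rw [mul_assoc, S.t_sq P2 P2_mem, mul_one]
    rw [h3, map_mul, ((S.toHex.conj k).P_ker ⟨S.t R1 * S.t P2, hqC⟩).2 ⟨_, hq, 0, by simp⟩, one_mul]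
  have h4 := ((S.toHex.conj k).E_conj O hO ⟨S.t R1, hR1⟩ v).1 ((hE' v).1 hv)
  rw [h2, h1] at h4
  exact (hE' _).2 h4

/-- the commutator -/
def w : G := S.t P1 * S.t R1 * S.t P1 * S.t R1

theorem w_mem : w S ∈ S.E hex1 := by
  have h := stepF S (hP1 S)
  rw [t_inv S R1_mem] at h
  have h2 := (S.E hex1).mul_mem (hP1 S) h
  have h3 : S.t P1 * (S.t R1 * S.t P1 * S.t R1) = w S := by rw [w]; group
  rwa [h3] at h2

theorem w_sq : w S * w S = 1 := (S.E_elem hex1 hex1_isHex).1 _ (w_mem S)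

theorem w_conj_s : S.φ e_s * w S * (S.φ e_s)⁻¹ = w S := by
  have h1 : S.φ e_s * w S * (S.φ e_s)⁻¹ = S.t R1 * S.t P1 * S.t R1 * S.t P1 := by
    have e1 := conjT S P1_mem s_P1_R1
    have e2 := conjT S R1_mem s_R1_P1
    rw [w]
    calc S.φ e_s * (S.t P1 * S.t R1 * S.t P1 * S.t R1) * (S.φ e_s)⁻¹
        = (S.φ e_s * S.t P1 * (S.φ e_s)⁻¹) * (S.φ e_s * S.t R1 * (S.φ e_s)⁻¹) *
          (S.φ e_s * S.t P1 * (S.φ e_s)⁻¹) * (S.φ e_s * S.t R1 * (S.φ e_s)⁻¹) := by group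
      _ = _ := by rw [e1, e2]
  rw [h1]
  have h2 : S.t R1 * S.t P1 * S.t R1 * S.t P1 = (w S)⁻¹ := by
    rw [w, mul_inv_rev, mul_inv_rev, mul_inv_rev, t_inv S P1_mem, t_inv S R1_mem]
    group
  rw [h2]
  exact inv_eq_of_mul_eq_one_left (w_sq S)

/-! ### Step G : the possible values of `w` -/

/-- the four elements `1, ka, kb, kc` -/
def kap : Fin 4 → M24 := ![1, e_ka, e_kb, e_kc]

omit [Finite G] in
theorem kap_mem (i : Fin 4) : S.φ (kap i) ∈ S.E hex1 ∧ S.φ (kap i) ∈ S.Q := by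
  fin_cases i
  · change S.φ 1 ∈ _ ∧ S.φ 1 ∈ _
    rw [map_one]
    exact ⟨one_mem _, one_mem _⟩
  · exact (S.φ_Q e_ka ka_tet ka_ka).symm
  · exact (S.φ_Q e_kb kb_tet kb_kb).symm
  · exact (S.φ_Q e_kc kc_tet kc_kc).symm

omit [Finite G] in
theorem phi_inj : Function.Injective S.φ := by
  intro a b h
  rw [← S.π_φ a, ← S.π_φ b]
  congr 1
  exact Subtype.ext h

theorem kap_inj : Function.Injective kap := by
  intro i j h
  have h1 := ne_ka_1
  have h2 := ne_kb_1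
  have h3 := ne_kc_1
  have h4 := ne_ka_kb
  have h5 := ne_ka_kc
  have h6 := ne_kb_kc
  fin_cases i <;> fin_cases j <;> first | rfl | (exfalso; first
    | exact h1 h | exact h1 h.symm | exact h2 h | exact h2 h.symm | exact h3 h | exact h3 h.symm
    | exact h4 h | exact h4 h.symm | exact h5 h | exact h5 h.symm | exact h6 h | exact h6 h.symm)

/-- conjugation by `s` on the four elements -/
theorem kap_s (i : Fin 4) : ∃ j, (e_s : M24)⁻¹ * kap i * e_s = kap j := by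
  have hs : (e_s : M24)⁻¹ = e_s := inv_eq_of_mul_eq_one_left s_s
  rw [hs]
  have h1 : ∀ a b : M24, e_s * a = b * e_s → e_s * a * e_s = b := by
    intro a b h
    rw [h, mul_assoc, s_s, mul_one]
  fin_cases i
  · exact ⟨0, h1 1 1 (by rw [mul_one, one_mul])⟩
  · exact ⟨2, h1 _ _ s_ka⟩
  · exact ⟨1, h1 _ _ s_kb⟩
  · exact ⟨3, h1 _ _ s_kc⟩

/-- `V ∩ V'` consists of the eight elements `t0 ^ i * κ` -/
theorem stepG : ∃ (b : Bool) (i : Fin 4), w S = (if b then S.t TM else 1) * S.φ (kap i) := by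
  classical
  obtain ⟨k, hk⟩ := isConj_iff.1 (S.t_isConj TM TM_mem)
  obtain ⟨O, hO, hE⟩ := hexOf S.toFrame k 1 (by rw [z0 hk, inv_one, one_mul, mul_one]; exact hTM S)
  have hE' : ∀ v : G, v ∈ S.E hex1 ↔ v ∈ (S.toHex.conj k).E O := by
    intro v
    have := hE v
    rwa [inv_one, one_mul, mul_one] at this
  have hsT : (S.φ e_s)⁻¹ * S.t TM * S.φ e_s = S.t TM := by
    have h := conjT S TM_mem s_TM_TM
    rw [mul_inv_eq_iff_eq_mul] at h
    rw [mul_assoc, ← h, inv_mul_cancel_left]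
  obtain ⟨O', hO', hF⟩ := hexOf S.toFrame k (S.φ e_s) (by rw [z0 hk, hsT]; exact hTM S)
  have hne : O ≠ O' := by
    rintro rfl
    apply nc1 S
    have h1 : S.ε x1 ∈ S.E hex1 := by
      rw [hE', ← hF, ← eps_x1]
      have : (S.φ e_s)⁻¹ * (S.φ e_s * S.z * (S.φ e_s)⁻¹) * S.φ e_s = S.z := by group
      rw [this]
      exact S.z_mem_E hex1 hex1_isHex
    exact (S.E_elem hex1 hex1_isHex).2 _ h1 _ (hP1 S)
  set K : Subgroup G := (S.toHex.conj k).E O ⊓ (S.toHex.conj k).E O' with hKdef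
  have hK : Nat.card K ≤ 8 := by
    rcases HexMax.card_inter hO hO' hne with h | h
    · rw [hKdef, (S.toHex.conj k).E_inf_two O O' hO hO' h]; norm_num
    · rw [hKdef, (S.toHex.conj k).E_inf_eight O O' hO hO' h]
  have hmem : ∀ v : G, v ∈ K ↔ v ∈ S.E hex1 ∧ (S.φ e_s)⁻¹ * v * S.φ e_s ∈ S.E hex1 := by
    intro v
    rw [hKdef, Subgroup.mem_inf, ← hE' v, ← hF v]
  have hwK : w S ∈ K := by
    rw [hmem]
    refine ⟨w_mem S, ?_⟩
    have h := w_conj_s S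
    rw [mul_inv_eq_iff_eq_mul] at h
    rw [mul_assoc, ← h, inv_mul_cancel_left]
    exact w_mem S
  have hTK : S.t TM ∈ K := by
    rw [hmem, hsT]
    exact ⟨hTM S, hTM S⟩
  have hkK : ∀ i, S.φ (kap i) ∈ K := by
    intro i
    rw [hmem]
    refine ⟨(kap_mem S i).1, ?_⟩
    obtain ⟨j, hj⟩ := kap_s i
    rw [← map_inv, ← map_mul, ← map_mul, hj]
    exact (kap_mem S j).1
  let f : Bool × Fin 4 → K := fun x => ⟨(if x.1 then S.t TM else 1) * S.φ (kap x.2), by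
    apply K.mul_mem _ (hkK _)
    split_ifs
    · exact hTK
    · exact K.one_mem⟩
  have hTQ : S.t TM ∉ S.Q := (S.t_hex1 TM TM_mem ref_S0_TM).2.2
  have hTQ' : ∀ i j, S.t TM * S.φ (kap i) ≠ 1 * S.φ (kap j) := by
    intro i j h
    apply hTQ
    rw [one_mul, ← eq_mul_inv_iff_mul_eq] at h
    rw [h]
    exact S.Q.mul_mem (kap_mem S j).2 (S.Q.inv_mem (kap_mem S i).2)
  have hf : Function.Injective f := by
    rintro ⟨b, i⟩ ⟨b', j⟩ h
    have h1 := congrArg Subtype.val h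
    have h2 : (if b then S.t TM else 1) * S.φ (kap i) =
        (if b' then S.t TM else 1) * S.φ (kap j) := h1
    cases b <;> cases b'
    · simp only [Bool.false_eq_true, if_false, one_mul] at h2
      rw [kap_inj (phi_inj S h2)]
    · exfalso
      simp only [Bool.false_eq_true, if_false, if_true] at h2
      exact hTQ' j i h2.symm
    · exfalso
      simp only [Bool.false_eq_true, if_false, if_true] at h2
      exact hTQ' i j h2
    · simp only [if_true] at h2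
      rw [kap_inj (phi_inj S (mul_left_cancel h2))]
  have hc : Nat.card (Bool × Fin 4) = 8 := by
    rw [Nat.card_eq_fintype_card]; rfl
  have hbij := hf.bijective_of_nat_card_le (by rw [hc]; exact hK)
  obtain ⟨⟨b, i⟩, hbi⟩ := hbij.2 ⟨w S, hwK⟩
  exact ⟨b, i, (congrArg Subtype.val hbi).symm⟩

/-! ### Step H : exclusion of all but one value -/

omit [Finite G] in
theorem TM_ne_one : S.t TM ≠ 1 := by
  intro h
  apply (S.t_hex1 TM TM_mem ref_S0_TM).2.2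
  rw [h]
  exact S.Q.one_mem

omit [Finite G] in
theorem prodR : S.t R1 * S.t P2 * S.t sP1c = S.ε x1 := by
  rw [← eps_x1, ← prodP S, ← conjT S P1_mem s_P1_R1, ← conjT S P1b_mem s_P1b_P2,
    ← conjT S P1c_mem s_P1c_sP1c]
  group

omit [Finite G] in
theorem w_ne_one : w S ≠ 1 := by
  intro h
  have h1 : S.t P1 * S.t R1 = S.t R1 * S.t P1 := by
    have h2 : (S.t P1 * S.t R1) * (S.t P1 * S.t R1) = 1 := by
      rw [← h, w]; group
    have h3 := eq_inv_of_mul_eq_one_left h2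
    rwa [mul_inv_rev, t_inv S P1_mem, t_inv S R1_mem] at h3
  have e1 := conjT S P1_mem gJ_P1_P1
  have e2 := conjT S R1_mem gJ_R1_sP1c
  have h2 : S.t P1 * S.t sP1c = S.t sP1c * S.t P1 := by
    have h3 := congrArg (fun x => S.φ e_gJ * x * (S.φ e_gJ)⁻¹) h1
    have h4 : S.φ e_gJ * (S.t P1 * S.t R1) * (S.φ e_gJ)⁻¹ = S.t P1 * S.t sP1c := by
      conv_rhs => rw [← e2, ← e1]
      group
    have h5 : S.φ e_gJ * (S.t R1 * S.t P1) * (S.φ e_gJ)⁻¹ = S.t sP1c * S.t P1 := by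
      conv_rhs => rw [← e2, ← e1]
      group
    rw [h4, h5] at h3
    exact h3
  apply nc1 S
  rw [← prodR S]
  calc S.t R1 * S.t P2 * S.t sP1c * S.t P1 = S.t R1 * S.t P2 * (S.t P1 * S.t sP1c) := by
        rw [h2]; group
    _ = S.t R1 * (S.t P1 * S.t P2) * S.t sP1c := by rw [P1_P2]; group
    _ = (S.t P1 * S.t R1) * S.t P2 * S.t sP1c := by rw [h1]; group
    _ = S.t P1 * (S.t R1 * S.t P2 * S.t sP1c) := by group

omit [Finite G] in
theorem w_g2 : S.φ e_g2 * w S * (S.φ e_g2)⁻¹ = S.t P1 * S.t R2 * S.t P1 * S.t R2 := by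
  have e1 := conjT S P1_mem g2_P1_P1
  have e2 := conjT S R1_mem g2_R1_R2
  rw [w]
  calc S.φ e_g2 * (S.t P1 * S.t R1 * S.t P1 * S.t R1) * (S.φ e_g2)⁻¹
      = (S.φ e_g2 * S.t P1 * (S.φ e_g2)⁻¹) * (S.φ e_g2 * S.t R1 * (S.φ e_g2)⁻¹) *
        (S.φ e_g2 * S.t P1 * (S.φ e_g2)⁻¹) * (S.φ e_g2 * S.t R1 * (S.φ e_g2)⁻¹) := by group
    _ = _ := by rw [e1, e2]

omit [Finite G] in
theorem w_g3 : S.φ e_g3 * w S * (S.φ e_g3)⁻¹ = S.t P1 * S.t R3 * S.t P1 * S.t R3 := by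
  have e1 := conjT S P1_mem g3_P1_P1
  have e2 := conjT S R1_mem g3_R1_R3
  rw [w]
  calc S.φ e_g3 * (S.t P1 * S.t R1 * S.t P1 * S.t R1) * (S.φ e_g3)⁻¹
      = (S.φ e_g3 * S.t P1 * (S.φ e_g3)⁻¹) * (S.φ e_g3 * S.t R1 * (S.φ e_g3)⁻¹) *
        (S.φ e_g3 * S.t P1 * (S.φ e_g3)⁻¹) * (S.φ e_g3 * S.t R1 * (S.φ e_g3)⁻¹) := by group
    _ = _ := by rw [e1, e2]

omit [Finite G] in
theorem w_three : S.φ e_g3 * w S * (S.φ e_g3)⁻¹ =
    w S * (S.t R1 * (S.φ e_g2 * w S * (S.φ e_g2)⁻¹) * S.t R1) := by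
  rw [w_g2, w_g3]
  have hR := S.t_sq R1 R1_mem
  have hP := S.t_sq P1 P1_mem
  have e3 := R1_R2 S
  rw [w]
  calc S.t P1 * S.t R3 * S.t P1 * S.t R3
      = S.t P1 * (S.t R1 * S.t R2) * S.t P1 * (S.t R2 * S.t R1) := by rw [e3.1, e3.2]
    _ = S.t P1 * S.t R1 * 1 * S.t R2 * S.t P1 * S.t R2 * S.t R1 := by group
    _ = S.t P1 * S.t R1 * (S.t P1 * S.t P1) * S.t R2 * S.t P1 * S.t R2 * S.t R1 := by rw [hP]
    _ = S.t P1 * S.t R1 * S.t P1 * 1 * S.t P1 * S.t R2 * S.t P1 * S.t R2 * S.t R1 := by group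
    _ = S.t P1 * S.t R1 * S.t P1 * (S.t R1 * S.t R1) * S.t P1 * S.t R2 * S.t P1 * S.t R2 *
        S.t R1 := by rw [hR]
    _ = _ := by group

omit [Finite G] in
theorem w_ne_TM : w S ≠ S.t TM := by
  intro h
  have h3 := w_three S
  rw [h, conjT S TM_mem g3_TM_TM, conjT S TM_mem g2_TM_TM] at h3
  have h4 : S.t R1 * S.t TM * S.t R1 = 1 := by
    have := mul_left_cancel (a := S.t TM) (h3.symm.trans (mul_one _).symm)
    exact this
  apply TM_ne_one S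
  rw [(TM_R1 S).2, ← (TM_R1 S).1, mul_assoc, S.t_sq R1 R1_mem, mul_one] at h4
  exact h4

omit [Finite G] in
theorem w_ne_kc : w S ≠ S.φ e_kc := by
  intro h
  have h3 := w_three S
  have e2 : S.φ e_g2 * S.φ e_kc * (S.φ e_g2)⁻¹ = S.φ e_k2 := by
    rw [← map_mul, g2_kc, map_mul, mul_inv_cancel_right]
  have e3 : S.φ e_g3 * S.φ e_kc * (S.φ e_g3)⁻¹ = S.φ e_kc * S.φ e_k2 := by
    rw [← map_mul, g3_kc, map_mul, mul_inv_cancel_right, ← k3_eq, map_mul]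
  rw [h, e2, e3] at h3
  have h4 := mul_left_cancel h3
  have h5 : S.φ e_k2 * S.t R1 = S.t R1 * S.φ e_k2 := by
    calc S.φ e_k2 * S.t R1 = S.t R1 * S.φ e_k2 * S.t R1 * S.t R1 := by rw [← h4]
      _ = S.t R1 * S.φ e_k2 * (S.t R1 * S.t R1) := by group
      _ = _ := by rw [S.t_sq R1 R1_mem, mul_one]
  have h6 := conjT S R1_mem k2_R1_R1q
  rw [h5, mul_inv_cancel_right, ← (TM_R1 S).1] at h6
  exact TM_ne_one S (mul_eq_right.1 h6.symm)

theorem w_not_swap {c c' : M24} (h1 : e_s * c = c' * e_s) (hne : c ≠ c') (b : Bool) :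
    w S ≠ (if b then S.t TM else 1) * S.φ c := by
  intro h
  have h2 := w_conj_s S
  have h3 : S.φ e_s * S.φ c * (S.φ e_s)⁻¹ = S.φ c' := by
    rw [← map_mul, h1, map_mul, mul_inv_cancel_right]
  have h4 : S.φ e_s * (if b then S.t TM else 1) * (S.φ e_s)⁻¹ = if b then S.t TM else 1 := by
    split_ifs
    · exact conjT S TM_mem s_TM_TM
    · group
  have h5 : S.φ e_s * w S * (S.φ e_s)⁻¹ = (if b then S.t TM else 1) * S.φ c' := by
    conv_rhs => rw [← h3, ← h4]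
    rw [h]; group
  rw [h5, h] at h2
  exact hne (phi_inj S (mul_left_cancel h2)).symm

theorem w_eq : w S = S.t TM * S.φ e_kc := by
  obtain ⟨b, i, h⟩ := stepG S
  have hi : i = 0 ∨ i = 1 ∨ i = 2 ∨ i = 3 := by
    fin_cases i <;> simp
  rcases hi with rfl | rfl | rfl | rfl
  · exfalso
    have h0 : S.φ (kap 0) = 1 := map_one _
    rw [h0, mul_one] at h
    cases b
    · exact w_ne_one S h
    · exact w_ne_TM S h
  · exact absurd h (w_not_swap S s_ka ne_ka_kb b)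
  · exact absurd h (w_not_swap S s_kb ne_ka_kb.symm b)
  · cases b
    · exfalso
      have h2 : w S = 1 * S.φ e_kc := h
      rw [one_mul] at h2
      exact w_ne_kc S h2
    · exact h

/-! ### Step I : the printed relator -/

theorem key : (S.φ e_A1 * S.t P1 * S.t R1) * (S.φ e_A1 * S.t P1 * S.t R1) = 1 := by
  have e1 : S.t P1 * S.φ e_A1 = S.φ e_A1 * S.t P1 := by
    have h := conjT S P1_mem A1_P1_P1
    rw [mul_inv_eq_iff_eq_mul] at h
    exact h.symm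
  have e2 : S.t R1 * S.φ e_A1 = S.φ e_A1 * S.t R1' := by
    have h := conjT S R1'_mem A1_R1q_R1
    rw [mul_inv_eq_iff_eq_mul] at h
    exact h.symm
  have e3 : S.φ e_A1 * S.φ e_A1 = S.φ e_kc := by rw [← map_mul, A1_A1]
  have e4 := w_eq S
  have e5 : S.φ e_kc * S.φ e_kc = 1 := by rw [← map_mul, kc_kc, map_one]
  have e6 : S.t P1 * S.t R1' * S.t P1 * S.t R1 = S.t TM * w S := by
    rw [← (TM_R1 S).1, w, ← mul_assoc (S.t P1) (S.t TM), ← TM_P1]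
    group
  calc S.φ e_A1 * S.t P1 * S.t R1 * (S.φ e_A1 * S.t P1 * S.t R1)
      = S.φ e_A1 * S.t P1 * (S.t R1 * S.φ e_A1) * S.t P1 * S.t R1 := by group
    _ = S.φ e_A1 * (S.t P1 * S.φ e_A1) * S.t R1' * S.t P1 * S.t R1 := by rw [e2]; group
    _ = (S.φ e_A1 * S.φ e_A1) * (S.t P1 * S.t R1' * S.t P1 * S.t R1) := by rw [e1]; group
    _ = S.φ e_kc * (S.t TM * (S.t TM * S.φ e_kc)) := by rw [e3, e6, e4]
    _ = S.φ e_kc * (S.t TM * S.t TM) * S.φ e_kc := by group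
    _ = 1 := by rw [S.t_sq TM TM_mem, mul_one, e5]

/-- **The second printed relator involving `t`.** -/
theorem relator2 : (((S.φ YM * S.φ XM * S.φ YM * S.φ XM * S.φ YM * S.φ XM * S.φ YM) ^ 3) *
    S.t FinalRel.T0 *
      ((((S.φ XM * S.φ YM) ^ 3) * S.φ YM * ((S.φ XM * S.φ YM) ^ 6) * S.φ YM)⁻¹ * S.t FinalRel.T0 *
      (((S.φ XM * S.φ YM) ^ 3) * S.φ YM * ((S.φ XM * S.φ YM) ^ 6) * S.φ YM))) ^ 2 = 1 := by
  have hA : (S.φ YM * S.φ XM * S.φ YM * S.φ XM * S.φ YM * S.φ XM * S.φ YM) ^ 3 = S.φ wA := by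
    simp only [wA, map_mul, map_pow]
  have hB : ((S.φ XM * S.φ YM) ^ 3) * S.φ YM * ((S.φ XM * S.φ YM) ^ 6) * S.φ YM = S.φ wB := by
    simp only [wB, map_mul, map_pow]
  rw [hA, hB]
  have h1 : (S.φ wB)⁻¹ * S.t FinalRel.T0 * S.φ wB = S.t Rp := by
    rw [← conjT S Rp_mem wB_Rp]; group
  rw [h1, pow_two]
  have h2 : S.φ e_g0 * (S.φ wA * S.t FinalRel.T0 * S.t Rp) * (S.φ e_g0)⁻¹ =
      S.φ e_A1 * S.t P1 * S.t R1 := by
    have h3 : S.φ e_g0 * S.φ wA * (S.φ e_g0)⁻¹ = S.φ e_A1 := by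
      rw [← map_mul, g0_wA, map_mul, mul_inv_cancel_right]
    rw [← h3, ← conjT S FinalRel.T0_mem g0_T0, ← conjT S Rp_mem g0_Rp]
    group
  have h3 := key S
  rw [← h2] at h3
  have h4 : ∀ a b : G, a * b * a⁻¹ * (a * b * a⁻¹) = 1 → b * b = 1 := by
    intro a b h
    have h5 : a * (b * b) * a⁻¹ = 1 := by
      rw [← h]; group
    rw [mul_inv_eq_one] at h5
    exact mul_eq_left.1 h5
  exact h4 _ _ h3

end

end Cfsg.Agent.J4Type.Rel2

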