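import Cfsg.Agent.J4Type.Rel2Data
import Cfsg.Agent.J4Type.CloseInst
import Cfsg.Agent.J4Type.FusionEA
import Cfsg.Agent.J4Type.HexStab
import Cfsg.Agent.J4Type.OctadFixTrans
import Cfsg.Agent.SporadicStructure.SextetAction

/-!
# R07 (J₄ type), part (f): criteria (helper378)

* `crit` : an element `a ≠ 1` of a hexad subgroup `E O` such that neither `a` nor `a z` is conjugate
  to `z` lies in `Q`.
* `hexOf` : for a conjugate `z' = k z k⁻¹` of `z`, every conjugate of `E` containing `z'` is one of the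
  groups `E O` of the structure `Hex.conj k`.
* `ncomm` : `t T` does not commute with the sextets not refining `T`.
* `octad_of_comm` : if `a ∈ E O \ Q` and `c ∈ C(z)` commutes with `a`, then `P c` fixes `O`.
-/

set_option autoImplicit false

open scoped Pointwise

namespace Cfsg.Agent.J4Type.Rel2Crit

open Cfsg Cfsg.Agent.J4Type Cfsg.Agent.J4Type.CloseInst
open Cfsg.Agent.SporadicStructure.SextetAction
open Cfsg.Agent.SporadicA.OctadFix

variable {G : Type*} [Group G]

theorem tet_total : ∀ p : GolayPt, ∃ i, p ∈ tet i := by decide +kernel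

theorem tet_index : ∀ p : GolayPt, ∀ i j : Fin 6, p ∈ tet i → p ∈ tet j → i = j := by
  decide +kernel

theorem crit0 (K : Frame G) {a : G} (ha : a ∈ K.E hex0) (h1 : a ≠ 1) (h2 : ¬ IsConj K.z a)
    (h3 : ¬ IsConj K.z (a * K.z)) : a ∈ K.Q := by
  classical
  rcases E_cases K ha with h | ⟨p, q, hpq, rfl⟩ | ⟨S, hS, rfl⟩
  · exact absurd h h1
  · obtain ⟨i, hi⟩ := tet_total p
    obtain ⟨j, hj⟩ := tet_total q
    have hev : Even ({p, q} : Finset GolayPt).card := by rw [Finset.card_pair hpq]; decide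
    by_cases hij : i = j
    · subst hij
      rw [K.A_iff _ hev]
      left
      intro k
      by_cases hk : k = i
      · subst hk
        have : ({p, q} : Finset GolayPt) ∩ tet k = {p, q} := by
          rw [Finset.inter_eq_left, Finset.insert_subset_iff, Finset.singleton_subset_iff]
          exact ⟨hi, hj⟩
        rw [this]
        exact hev
      · have : ({p, q} : Finset GolayPt) ∩ tet k = ∅ := by
          ext x
          simp only [Finset.mem_inter, Finset.mem_insert, Finset.mem_singleton,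
            Finset.notMem_empty, iff_false, not_and]
          rintro (rfl | rfl) h
          · exact hk (tet_index _ _ _ h hi)
          · exact hk (tet_index _ _ _ h hj)
        rw [this]
        decide
    · exfalso
      apply h3
      have hq : q ∉ tet i := fun h => hij (tet_index _ _ _ h hj)
      have h4 : K.ε {p, q} * K.z = K.ε (symmDiff {p, q} (tet i)) := by
        rw [K.ε_mul _ _ hev (by rw [tet_card]; decide), K.ε_tet]
      have h5 : (symmDiff ({p, q} : Finset GolayPt) (tet i)) = insert q ((tet i).erase p) := by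
        ext x
        simp only [Finset.mem_symmDiff, Finset.mem_insert, Finset.mem_singleton, Finset.mem_erase]
        constructor
        · rintro (⟨rfl | rfl, h⟩ | ⟨h, h'⟩)
          · exact absurd hi h
          · exact Or.inl rfl
          · exact Or.inr ⟨fun hh => h' (Or.inl hh), h⟩
        · rintro (rfl | ⟨h, h'⟩)
          · exact Or.inl ⟨Or.inr rfl, hq⟩
          · refine Or.inr ⟨h', ?_⟩
            rintro (rfl | rfl)
            · exact h rfl
            · exact hq h'
      have h6 : (symmDiff ({p, q} : Finset GolayPt) (tet i)).card = 4 := by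
        rw [h5, Finset.card_insert_of_notMem (fun h => hq (Finset.mem_of_mem_erase h)),
          Finset.card_erase_of_mem hi, tet_card]
      obtain ⟨n, -, hn⟩ := conj_sextet K _ h6
      rw [h4]
      exact isConj_iff.2 ⟨n, hn⟩
  · exfalso
    apply h2
    obtain ⟨n, -, hn⟩ := conj_sextet K S hS
    exact isConj_iff.2 ⟨n, hn⟩

/-- transport to `hex0` -/
theorem exists_cent (H : Hex G) {O O' : Finset GolayPt} (hO : IsHex O) (hO' : IsHex O') :
    ∃ c : Subgroup.centralizer ({H.z} : Set G), H.P c • O = O' := by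
  obtain ⟨g, hg, -, -, hgO⟩ := HexStab.exists_fix_smul hO hO'
  rw [← H.P_range] at hg
  obtain ⟨c, rfl⟩ := hg
  exact ⟨c, hgO⟩

theorem crit (K : Frame G) {O : Finset GolayPt} (hO : IsHex O) {a : G} (ha : a ∈ K.E O)
    (h1 : a ≠ 1) (h2 : ¬ IsConj K.z a) (h3 : ¬ IsConj K.z (a * K.z)) : a ∈ K.Q := by
  obtain ⟨c, hc⟩ := exists_cent K.toHex hO HexMax.hex0_isHex
  have hcz : (c : G) * K.z = K.z * c := Subgroup.mem_centralizer_singleton_iff.1 c.2
  have hcz' : (c : G)⁻¹ * K.z = K.z * (c : G)⁻¹ := by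
    rw [inv_mul_eq_iff_eq_mul, ← mul_assoc, hcz, mul_inv_cancel_right]
  have h4 := (K.E_conj O hO c a).1 ha
  rw [hc] at h4
  have key : (c : G) * a * (c : G)⁻¹ ∈ K.Q := by
    apply crit0 K h4
    · intro h
      rw [mul_inv_eq_one] at h
      exact h1 (mul_eq_left.1 h)
    · intro h
      apply h2
      refine h.trans (isConj_iff.2 ⟨(c : G)⁻¹, by group⟩)
    · intro h
      apply h3
      refine h.trans (isConj_iff.2 ⟨(c : G)⁻¹, ?_⟩)
      calc (c : G)⁻¹ * ((c : G) * a * (c : G)⁻¹ * K.z) * ((c : G)⁻¹)⁻¹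
          = a * ((c : G)⁻¹ * K.z) * c := by group
        _ = a * K.z := by rw [hcz']; group
  have h5 := K.Q_conj (c : G)⁻¹ hcz' _ key
  have h6 : (c : G)⁻¹ * ((c : G) * a * (c : G)⁻¹) * ((c : G)⁻¹)⁻¹ = a := by group
  rwa [h6] at h5

theorem isConj_conj {a b k : G} : IsConj a (k⁻¹ * b * k) ↔ IsConj a b := by
  constructor
  · intro h
    refine h.trans (isConj_iff.2 ⟨k, by group⟩)
  · intro h
    refine h.trans (isConj_iff.2 ⟨k⁻¹, by group⟩)

/-- `crit` for the conjugate structure -/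
theorem crit' (K : Frame G) (k : G) {O : Finset GolayPt} (hO : IsHex O) {a : G}
    (ha : a ∈ (K.toHex.conj k).E O)
    (h1 : a ≠ 1) (h2 : ¬ IsConj K.z a) (h3 : ¬ IsConj K.z (a * (K.toHex.conj k).z)) :
    a ∈ (K.toHex.conj k).Q := by
  rw [Hex.conj_mem_E] at ha
  rw [Hex.conj_mem_Q]
  apply crit K hO ha
  · intro h
    apply h1
    have : a = k * (k⁻¹ * a * k) * k⁻¹ := by group
    rw [this, h]; group
  · rwa [isConj_conj]
  · rw [Hex.conj_z] at h3
    have : k⁻¹ * a * k * K.z = k⁻¹ * (a * (k * K.z * k⁻¹)) * k := by group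
    rw [this, isConj_conj]
    exact h3

/-- the conjugates of `E hex1` containing `k z k⁻¹` -/
theorem hexOf (K : Frame G) (k x : G) (h : x⁻¹ * (K.toHex.conj k).z * x ∈ K.E hex1) :
    ∃ O, IsHex O ∧ ∀ v : G, x⁻¹ * v * x ∈ K.E hex1 ↔ v ∈ (K.toHex.conj k).E O := by
  obtain ⟨c, hc⟩ := exists_cent K.toHex HexMax.hex0_isHex HexMax.hex1_isHex
  have key : ∀ y : G, y ∈ K.E hex1 ↔ (c : G)⁻¹ * y * c ∈ K.E hex0 := by
    intro y
    rw [K.E_conj hex0 HexMax.hex0_isHex c]
    rw [hc]
    have : (c : G) * ((c : G)⁻¹ * y * c) * (c : G)⁻¹ = y := by group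
    rw [this]
  rw [Hex.conj_z] at h
  obtain ⟨O, hO, hE⟩ := K.E_unique (k⁻¹ * x * c) (by
    rw [key] at h
    have : (k⁻¹ * x * (c : G))⁻¹ * K.z * (k⁻¹ * x * c) = (c : G)⁻¹ * (x⁻¹ * (k * K.z * k⁻¹) * x) * c := by
      group
    rw [this]; exact h)
  refine ⟨O, hO, fun v => ?_⟩
  rw [Hex.conj_mem_E, ← hE, key]
  have : (k⁻¹ * x * (c : G))⁻¹ * (k⁻¹ * v * k) * (k⁻¹ * x * c) = (c : G)⁻¹ * (x⁻¹ * v * x) * c := by
    group
  rw [this]

/-- `t T` does not commute with a sextet not refining `T` -/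
theorem ncomm (S : Tau G) {T Y : Finset (Finset GolayPt)} {X : Finset GolayPt} (hT : T ∈ trios)
    (hY : Y ∈ sextets) (hX : X ∈ Y) (hR : ¬ Refines Y T) :
    S.ε X * S.t T ≠ S.t T * S.ε X := by
  classical
  intro h
  have h4 : X.card = 4 := hY.2.1 X hX
  have hev : Even X.card := by rw [h4]; decide
  rcases (S.t_cent T hT X hev).1 h with h1 | ⟨Y', hY', hR', X', hX', h1⟩
  · rw [S.ε_ker X hev] at h1
    have := Cfsg.Agent.SporadicA.GolayBase.card_of_mem_supports h1
    omega
  · have h4' : X'.card = 4 := hY'.2.1 X' hX'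
    have hev' : Even X'.card := by rw [h4']; decide
    have h2 : S.ε (symmDiff X X') = 1 := by
      rw [S.ε_mul X X' hev hev', h1]
      exact (S.E_elem hex0 HexMax.hex0_isHex).1 _ (S.ε_mem X' hev')
    have hev2 : Even (symmDiff X X').card := by
      rw [Nat.even_iff, DuadStab.card_symmDiff_parity, h4, h4']
    rw [S.ε_ker _ hev2] at h2
    have h3 := sextetOf_eq h4 h4' h2
    rw [← eq_sextetOf hY hX, ← eq_sextetOf hY' hX'] at h3
    exact hR (h3 ▸ hR')

theorem fix_mem_iff {O : Finset GolayPt} (hO : O ∈ octads) {g : Equiv.Perm GolayPt}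
    (hg : g ∈ fixOct O) (h1 : g ≠ 1) (p : GolayPt) : g p = p ↔ p ∈ O := by
  constructor
  · intro h
    by_contra hp
    exact h1 (OctadFixTrans.eq_one_of_fix hO hg hp h)
  · intro h
    exact (mem_fixOct.1 hg).2 p h

/-- if `c ∈ C(z)` commutes with `a ∈ E O \ Q` then `P c` fixes `O` -/
theorem octad_of_comm [Finite G] (H : Hex G) {O : Finset GolayPt} (hO : IsHex O) {a c : G}
    (ha : a ∈ H.E O) (haQ : a ∉ H.Q) (hc : c ∈ Subgroup.centralizer ({H.z} : Set G))
    (hac : c * a = a * c) : H.P ⟨c, hc⟩ • O = O := by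
  have hEC : H.E O ≤ Subgroup.centralizer ({H.z} : Set G) := by
    intro x hx
    rw [Subgroup.mem_centralizer_singleton_iff]
    exact (H.E_elem O hO).2 x hx _ (H.z_mem_E O hO)
  have haC := hEC ha
  set g := H.P ⟨a, haC⟩ with hg
  set d := H.P ⟨c, hc⟩ with hd
  have hgf : g ∈ fixOct O := by
    have := (H.E_map O hO g).1 ⟨⟨a, haC⟩, ha, rfl⟩
    exact mem_fixOct.2 this
  have hg1 : g ≠ 1 := by
    intro h
    apply haQ
    exact (FusionEA.mem_Q_iff H (H.E_elem O hO) hEC ⟨a, ha⟩).1 h
  have hcomm : d * g = g * d := by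
    rw [hg, hd, ← map_mul, ← map_mul]
    congr 1
    exact Subtype.ext hac
  have key : ∀ p, p ∈ O ↔ d p ∈ O := by
    intro p
    rw [← fix_mem_iff hO.1 hgf hg1 p, ← fix_mem_iff hO.1 hgf hg1 (d p)]
    have h1 : g (d p) = d (g p) := by
      have := congrArg (fun f : Equiv.Perm GolayPt => f p) hcomm
      exact this.symm
    rw [h1]
    exact d.injective.eq_iff.symm
  ext x
  rw [Finset.mem_smul_finset]
  constructor
  · rintro ⟨y, hy, rfl⟩
    exact (key y).1 hy
  · intro hx
    refine ⟨d⁻¹ x, ?_, ?_⟩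
    · rw [key]
      change d (d.symm x) ∈ O
      rwa [Equiv.apply_symm_apply]
    · exact d.apply_symm_apply x

end Cfsg.Agent.J4Type.Rel2Crit
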