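import Mathlib
import Cfsg.Agent.J4Type.Tau
import Cfsg.Agent.J4Type.FinalRel

/-!
# R07 (J₄ type), part (f): explicit elements of `M24`, trios and sextets for the second `t`-relator

Generated file (python), everything is checked by the kernel.
-/

set_option autoImplicit false

open Cfsg
open scoped Pointwise

namespace Cfsg.Agent.J4Type.Rel2Data

open Cfsg.Agent.J4.M24Pres Cfsg.Agent.J4.M24Hom Cfsg.Agent.SporadicA
open Cfsg.Agent.SporadicA.GolayBase

/-- a permutation of the 24 points with given tables -/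
def mkP (t ti : List ℕ) (h1 : ∀ p, fn ti (fn t p) = p) (h2 : ∀ p, fn t (fn ti p) = p) :
    Equiv.Perm GolayPt := ⟨fn t, fn ti, h1, h2⟩

theorem perm_ext {a b : Equiv.Perm GolayPt} (h : ∀ p, a p = b p) : a = b := Equiv.ext h

theorem m24_ext {a b : M24} (h : ∀ p, (a : Equiv.Perm GolayPt) p = (b : Equiv.Perm GolayPt) p) : a = b :=
  Subtype.ext (Equiv.ext h)


/-- a family of sets given by bit masks -/
def FF (l : List ℕ) : Finset (Finset GolayPt) := (l.map fin).toFinset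

theorem mem_FF {l : List ℕ} {x : Finset GolayPt} : x ∈ FF l ↔ ∃ a ∈ l, fin a = x := by
  rw [FF, List.mem_toFinset, List.mem_map]

theorem refines_of {ls lt : List ℕ}
    (h : ls.all (fun a => lt.any (fun b => Nat.beq (a &&& b) a)) = true) :
    Refines (FF ls) (FF lt) := by
  intro x hx
  obtain ⟨a, ha, rfl⟩ := mem_FF.1 hx
  have h1 := List.all_eq_true.1 h a ha
  obtain ⟨b, hb, h2⟩ := List.any_eq_true.1 h1
  refine ⟨fin b, mem_FF.2 ⟨b, hb, rfl⟩, ?_⟩
  have h3 := Nat.eq_of_beq_eq_true h2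
  rw [← Finset.inter_eq_left, ← fin_and, h3]

/-- bounds -/
def bd (l : List ℕ) : Bool := l.all (fun a => Nat.blt a 16777216)

theorem lt_of_bd {l : List ℕ} (h : bd l = true) {a : ℕ} (ha : a ∈ l) : a < 2 ^ 24 := by
  have h1 := List.all_eq_true.1 h a ha
  rw [Nat.blt_eq] at h1
  norm_num
  exact h1

theorem not_refines_of {ls lt : List ℕ} (hs : bd ls = true)
    (h : ls.any (fun a => lt.all (fun b => !Nat.beq (a &&& b) a)) = true) :
    ¬ Refines (FF ls) (FF lt) := by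
  intro hR
  obtain ⟨a, ha, h1⟩ := List.any_eq_true.1 h
  obtain ⟨y, hy, hay⟩ := hR (fin a) (mem_FF.2 ⟨a, ha, rfl⟩)
  obtain ⟨b, hb, rfl⟩ := mem_FF.1 hy
  have h2 := List.all_eq_true.1 h1 b hb
  rw [← Finset.inter_eq_left, ← fin_and] at hay
  have hlt := lt_of_bd hs ha
  have h3 := fin_injective (lt_of_le_of_lt Nat.and_le_left hlt) hlt hay
  rw [h3] at h2
  simp at h2

theorem ne_of {ls lt : List ℕ} (hs : bd ls = true) (ht : bd lt = true)
    (h : ls.any (fun a => lt.all (fun b => !Nat.beq a b)) = true) : FF ls ≠ FF lt := by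
  intro hE
  obtain ⟨a, ha, h1⟩ := List.any_eq_true.1 h
  have h2 : fin a ∈ FF lt := hE ▸ mem_FF.2 ⟨a, ha, rfl⟩
  obtain ⟨b, hb, h3⟩ := mem_FF.1 h2
  have h4 := fin_injective (lt_of_bd ht hb) (lt_of_bd hs ha) h3
  have h5 := List.all_eq_true.1 h1 b hb
  rw [h4] at h5
  simp at h5

theorem mem_of {lt : List ℕ} {a : ℕ} (h : lt.any (fun b => Nat.beq a b) = true) :
    fin a ∈ FF lt := by
  obtain ⟨b, hb, h1⟩ := List.any_eq_true.1 h
  exact mem_FF.2 ⟨b, hb, by rw [Nat.eq_of_beq_eq_true h1]⟩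


/-- table -/
def l_s : List ℕ := [11, 22, 16, 18, 14, 12, 19, 15, 23, 21, 20, 0, 5, 17, 4, 7, 2, 13, 3, 6, 10, 9, 1, 8]
def li_s : List ℕ := [11, 22, 16, 18, 14, 12, 19, 15, 23, 21, 20, 0, 5, 17, 4, 7, 2, 13, 3, 6, 10, 9, 1, 8]
def p_s : Equiv.Perm GolayPt := mkP l_s li_s (by decide +kernel) (by decide +kernel)
theorem p_s_mem : p_s ∈ M24 :=
  GolayWalk.mem_M24_of_table p_s l_s rfl (by decide +kernel) (by decide +kernel)
def e_s : M24 := ⟨p_s, p_s_mem⟩

/-- table -/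
def l_ka : List ℕ := [0, 1, 2, 3, 13, 5, 19, 21, 11, 15, 20, 8, 18, 4, 14, 9, 22, 17, 12, 6, 10, 7, 16, 23]
def li_ka : List ℕ := [0, 1, 2, 3, 13, 5, 19, 21, 11, 15, 20, 8, 18, 4, 14, 9, 22, 17, 12, 6, 10, 7, 16, 23]
def p_ka : Equiv.Perm GolayPt := mkP l_ka li_ka (by decide +kernel) (by decide +kernel)
theorem p_ka_mem : p_ka ∈ M24 :=
  GolayWalk.mem_M24_of_table p_ka l_ka rfl (by decide +kernel) (by decide +kernel)
def e_ka : M24 := ⟨p_ka, p_ka_mem⟩

/-- table -/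
def l_kb : List ℕ := [23, 2, 1, 5, 4, 3, 19, 21, 8, 15, 20, 11, 12, 13, 17, 9, 16, 14, 18, 6, 10, 7, 22, 0]
def li_kb : List ℕ := [23, 2, 1, 5, 4, 3, 19, 21, 8, 15, 20, 11, 12, 13, 17, 9, 16, 14, 18, 6, 10, 7, 22, 0]
def p_kb : Equiv.Perm GolayPt := mkP l_kb li_kb (by decide +kernel) (by decide +kernel)
theorem p_kb_mem : p_kb ∈ M24 :=
  GolayWalk.mem_M24_of_table p_kb l_kb rfl (by decide +kernel) (by decide +kernel)
def e_kb : M24 := ⟨p_kb, p_kb_mem⟩

/-- table -/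
def l_kc : List ℕ := [23, 2, 1, 5, 13, 3, 6, 7, 11, 9, 10, 8, 18, 4, 17, 15, 22, 14, 12, 19, 20, 21, 16, 0]
def li_kc : List ℕ := [23, 2, 1, 5, 13, 3, 6, 7, 11, 9, 10, 8, 18, 4, 17, 15, 22, 14, 12, 19, 20, 21, 16, 0]
def p_kc : Equiv.Perm GolayPt := mkP l_kc li_kc (by decide +kernel) (by decide +kernel)
theorem p_kc_mem : p_kc ∈ M24 :=
  GolayWalk.mem_M24_of_table p_kc l_kc rfl (by decide +kernel) (by decide +kernel)
def e_kc : M24 := ⟨p_kc, p_kc_mem⟩

/-- table -/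
def l_m : List ℕ := [0, 1, 2, 3, 4, 14, 15, 10, 21, 8, 12, 19, 7, 22, 17, 18, 13, 5, 6, 20, 11, 9, 16, 23]
def li_m : List ℕ := [0, 1, 2, 3, 4, 17, 18, 12, 9, 21, 7, 20, 10, 16, 5, 6, 22, 14, 15, 11, 19, 8, 13, 23]
def p_m : Equiv.Perm GolayPt := mkP l_m li_m (by decide +kernel) (by decide +kernel)
theorem p_m_mem : p_m ∈ M24 :=
  GolayWalk.mem_M24_of_table p_m l_m rfl (by decide +kernel) (by decide +kernel)
def e_m : M24 := ⟨p_m, p_m_mem⟩

/-- table -/
def l_gb : List ℕ := [4, 13, 16, 8, 0, 18, 10, 20, 14, 21, 7, 5, 3, 1, 12, 19, 2, 11, 17, 9, 6, 15, 23, 22]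
def li_gb : List ℕ := [4, 13, 16, 12, 0, 11, 20, 10, 3, 19, 6, 17, 14, 1, 8, 21, 2, 18, 5, 15, 7, 9, 23, 22]
def p_gb : Equiv.Perm GolayPt := mkP l_gb li_gb (by decide +kernel) (by decide +kernel)
theorem p_gb_mem : p_gb ∈ M24 :=
  GolayWalk.mem_M24_of_table p_gb l_gb rfl (by decide +kernel) (by decide +kernel)
def e_gb : M24 := ⟨p_gb, p_gb_mem⟩

/-- table -/
def l_gc : List ℕ := [6, 7, 21, 9, 0, 15, 16, 13, 14, 11, 12, 17, 3, 23, 20, 8, 2, 10, 5, 22, 18, 4, 1, 19]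
def li_gc : List ℕ := [4, 22, 16, 12, 21, 18, 0, 1, 15, 3, 17, 9, 10, 7, 8, 5, 6, 11, 20, 23, 14, 2, 19, 13]
def p_gc : Equiv.Perm GolayPt := mkP l_gc li_gc (by decide +kernel) (by decide +kernel)
theorem p_gc_mem : p_gc ∈ M24 :=
  GolayWalk.mem_M24_of_table p_gc l_gc rfl (by decide +kernel) (by decide +kernel)
def e_gc : M24 := ⟨p_gc, p_gc_mem⟩

/-- table -/
def l_g2 : List ℕ := [14, 5, 17, 1, 11, 23, 20, 15, 4, 6, 7, 16, 13, 18, 2, 21, 8, 0, 22, 9, 19, 10, 12, 3]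
def li_g2 : List ℕ := [17, 3, 14, 23, 8, 1, 9, 10, 16, 19, 21, 4, 22, 12, 0, 7, 11, 2, 13, 20, 6, 15, 18, 5]
def p_g2 : Equiv.Perm GolayPt := mkP l_g2 li_g2 (by decide +kernel) (by decide +kernel)
theorem p_g2_mem : p_g2 ∈ M24 :=
  GolayWalk.mem_M24_of_table p_g2 l_g2 rfl (by decide +kernel) (by decide +kernel)
def e_g2 : M24 := ⟨p_g2, p_g2_mem⟩

/-- table -/
def l_g3 : List ℕ := [0, 2, 23, 5, 8, 14, 9, 20, 4, 7, 19, 22, 13, 18, 3, 6, 11, 17, 16, 10, 21, 15, 12, 1]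
def li_g3 : List ℕ := [0, 23, 1, 14, 8, 3, 15, 9, 4, 6, 19, 16, 22, 12, 5, 21, 18, 17, 13, 10, 7, 20, 11, 2]
def p_g3 : Equiv.Perm GolayPt := mkP l_g3 li_g3 (by decide +kernel) (by decide +kernel)
theorem p_g3_mem : p_g3 ∈ M24 :=
  GolayWalk.mem_M24_of_table p_g3 l_g3 rfl (by decide +kernel) (by decide +kernel)
def e_g3 : M24 := ⟨p_g3, p_g3_mem⟩

/-- table -/
def l_gJ : List ℕ := [0, 1, 2, 3, 7, 5, 22, 4, 15, 11, 12, 9, 10, 21, 14, 8, 19, 17, 20, 16, 18, 13, 6, 23]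
def li_gJ : List ℕ := [0, 1, 2, 3, 7, 5, 22, 4, 15, 11, 12, 9, 10, 21, 14, 8, 19, 17, 20, 16, 18, 13, 6, 23]
def p_gJ : Equiv.Perm GolayPt := mkP l_gJ li_gJ (by decide +kernel) (by decide +kernel)
theorem p_gJ_mem : p_gJ ∈ M24 :=
  GolayWalk.mem_M24_of_table p_gJ l_gJ rfl (by decide +kernel) (by decide +kernel)
def e_gJ : M24 := ⟨p_gJ, p_gJ_mem⟩

/-- table -/
def l_h2 : List ℕ := [0, 1, 3, 2, 4, 5, 9, 10, 13, 6, 7, 11, 12, 8, 14, 20, 18, 23, 16, 21, 15, 19, 22, 17]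
def li_h2 : List ℕ := [0, 1, 3, 2, 4, 5, 9, 10, 13, 6, 7, 11, 12, 8, 14, 20, 18, 23, 16, 21, 15, 19, 22, 17]
def p_h2 : Equiv.Perm GolayPt := mkP l_h2 li_h2 (by decide +kernel) (by decide +kernel)
theorem p_h2_mem : p_h2 ∈ M24 :=
  GolayWalk.mem_M24_of_table p_h2 l_h2 rfl (by decide +kernel) (by decide +kernel)
def e_h2 : M24 := ⟨p_h2, p_h2_mem⟩

/-- table -/
def l_g0 : List ℕ := [3, 11, 20, 14, 10, 9, 23, 21, 6, 7, 19, 16, 18, 2, 22, 5, 0, 4, 1, 13, 15, 12, 17, 8]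
def li_g0 : List ℕ := [16, 18, 13, 0, 17, 15, 8, 9, 23, 5, 4, 1, 21, 19, 3, 20, 11, 22, 12, 10, 2, 7, 14, 6]
def p_g0 : Equiv.Perm GolayPt := mkP l_g0 li_g0 (by decide +kernel) (by decide +kernel)
theorem p_g0_mem : p_g0 ∈ M24 :=
  GolayWalk.mem_M24_of_table p_g0 l_g0 rfl (by decide +kernel) (by decide +kernel)
def e_g0 : M24 := ⟨p_g0, p_g0_mem⟩

/-- table -/
def l_k2 : List ℕ := [2, 23, 0, 14, 16, 17, 6, 7, 12, 9, 10, 18, 8, 22, 3, 15, 4, 5, 11, 19, 20, 21, 13, 1]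
def li_k2 : List ℕ := [2, 23, 0, 14, 16, 17, 6, 7, 12, 9, 10, 18, 8, 22, 3, 15, 4, 5, 11, 19, 20, 21, 13, 1]
def p_k2 : Equiv.Perm GolayPt := mkP l_k2 li_k2 (by decide +kernel) (by decide +kernel)
theorem p_k2_mem : p_k2 ∈ M24 :=
  GolayWalk.mem_M24_of_table p_k2 l_k2 rfl (by decide +kernel) (by decide +kernel)
def e_k2 : M24 := ⟨p_k2, p_k2_mem⟩

/-- table -/
def l_k3 : List ℕ := [1, 0, 23, 17, 22, 14, 6, 7, 18, 9, 10, 12, 11, 16, 5, 15, 13, 3, 8, 19, 20, 21, 4, 2]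
def li_k3 : List ℕ := [1, 0, 23, 17, 22, 14, 6, 7, 18, 9, 10, 12, 11, 16, 5, 15, 13, 3, 8, 19, 20, 21, 4, 2]
def p_k3 : Equiv.Perm GolayPt := mkP l_k3 li_k3 (by decide +kernel) (by decide +kernel)
theorem p_k3_mem : p_k3 ∈ M24 :=
  GolayWalk.mem_M24_of_table p_k3 l_k3 rfl (by decide +kernel) (by decide +kernel)
def e_k3 : M24 := ⟨p_k3, p_k3_mem⟩

/-- table -/
def l_A1 : List ℕ := [14, 3, 5, 2, 11, 1, 15, 10, 4, 19, 7, 13, 22, 8, 23, 6, 12, 0, 16, 9, 21, 20, 18, 17]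
def li_A1 : List ℕ := [17, 5, 3, 1, 8, 2, 15, 10, 13, 19, 7, 4, 16, 11, 0, 6, 18, 23, 22, 9, 21, 20, 12, 14]
def p_A1 : Equiv.Perm GolayPt := mkP l_A1 li_A1 (by decide +kernel) (by decide +kernel)
theorem p_A1_mem : p_A1 ∈ M24 :=
  GolayWalk.mem_M24_of_table p_A1 l_A1 rfl (by decide +kernel) (by decide +kernel)
def e_A1 : M24 := ⟨p_A1, p_A1_mem⟩

def P1 : Finset (Finset GolayPt) :=
  {gset [4, 6, 7, 13, 16, 19, 21, 22], gset [0, 1, 2, 3, 5, 14, 17, 23],
    gset [8, 9, 10, 11, 12, 15, 18, 20]}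
theorem P1_mem : P1 ∈ trios := by trio_tac 6889680 8536111 1351424

def P1b : Finset (Finset GolayPt) :=
  {gset [3, 5, 6, 7, 14, 17, 19, 21], gset [4, 8, 11, 12, 13, 16, 18, 22],
    gset [0, 1, 2, 9, 10, 15, 20, 23]}
theorem P1b_mem : P1b ∈ trios := by trio_tac 2769128 4536592 9471495

def P1c : Finset (Finset GolayPt) :=
  {gset [3, 5, 8, 11, 12, 14, 17, 18], gset [6, 7, 9, 10, 15, 19, 20, 21],
    gset [0, 1, 2, 4, 13, 16, 22, 23]}
theorem P1c_mem : P1c ∈ trios := by trio_tac 416040 3704512 12656663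

def P1c' : Finset (Finset GolayPt) :=
  {gset [3, 4, 5, 13, 14, 16, 17, 22], gset [6, 7, 9, 10, 15, 19, 20, 21],
    gset [0, 1, 2, 8, 11, 12, 18, 23]}
theorem P1c'_mem : P1c' ∈ trios := by trio_tac 4415544 3704512 8657159

def P2 : Finset (Finset GolayPt) :=
  {gset [4, 6, 9, 12, 13, 15, 18, 19], gset [0, 1, 2, 3, 5, 14, 17, 23],
    gset [7, 8, 10, 11, 16, 20, 21, 22]}
theorem P2_mem : P2 ∈ trios := by trio_tac 832080 8536111 7409024

def P3 : Finset (Finset GolayPt) :=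
  {gset [7, 9, 12, 15, 16, 18, 21, 22], gset [0, 1, 2, 3, 5, 14, 17, 23],
    gset [4, 6, 8, 10, 11, 13, 19, 20]}
theorem P3_mem : P3 ∈ trios := by trio_tac 6656640 8536111 1584464

def R1 : Finset (Finset GolayPt) :=
  {gset [1, 2, 6, 9, 14, 15, 17, 19], gset [4, 8, 11, 12, 13, 16, 18, 22],
    gset [0, 3, 5, 7, 10, 20, 21, 23]}
theorem R1_mem : R1 ∈ trios := by trio_tac 705094 4536592 11535529

def R1' : Finset (Finset GolayPt) :=
  {gset [4, 8, 11, 12, 13, 16, 18, 22], gset [0, 3, 5, 6, 9, 15, 19, 23],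
    gset [1, 2, 7, 10, 14, 17, 20, 21]}
theorem R1'_mem : R1' ∈ trios := by trio_tac 4536592 8946281 3294342

def R2 : Finset (Finset GolayPt) :=
  {gset [1, 3, 7, 10, 14, 15, 19, 23], gset [4, 8, 11, 12, 13, 16, 18, 22],
    gset [0, 2, 5, 6, 9, 17, 20, 21]}
theorem R2_mem : R2 ∈ trios := by trio_tac 8963210 4536592 3277413

def R3 : Finset (Finset GolayPt) :=
  {gset [0, 1, 5, 14, 15, 19, 20, 21], gset [4, 8, 11, 12, 13, 16, 18, 22],
    gset [2, 3, 6, 7, 9, 10, 17, 23]}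
theorem R3_mem : R3 ∈ trios := by trio_tac 3719203 4536592 8521420

def sP1c : Finset (Finset GolayPt) :=
  {gset [0, 3, 4, 5, 12, 13, 18, 23], gset [6, 7, 9, 10, 15, 19, 20, 21],
    gset [1, 2, 8, 11, 14, 16, 17, 22]}
theorem sP1c_mem : sP1c ∈ trios := by trio_tac 8663097 3704512 4409606

def ms_P1 : List ℕ := [6889680, 8536111, 1351424]
theorem eq_P1 : P1 = FF ms_P1 := by decide +kernel

def ms_P1b : List ℕ := [2769128, 4536592, 9471495]
theorem eq_P1b : P1b = FF ms_P1b := by decide +kernel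

def ms_P1c : List ℕ := [416040, 3704512, 12656663]
theorem eq_P1c : P1c = FF ms_P1c := by decide +kernel

def ms_P1cq : List ℕ := [4415544, 3704512, 8657159]
theorem eq_P1cq : P1c' = FF ms_P1cq := by decide +kernel

def ms_P2 : List ℕ := [832080, 8536111, 7409024]
theorem eq_P2 : P2 = FF ms_P2 := by decide +kernel

def ms_P3 : List ℕ := [6656640, 8536111, 1584464]
theorem eq_P3 : P3 = FF ms_P3 := by decide +kernel

def ms_R1 : List ℕ := [705094, 4536592, 11535529]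
theorem eq_R1 : R1 = FF ms_R1 := by decide +kernel

def ms_R1q : List ℕ := [4536592, 8946281, 3294342]
theorem eq_R1q : R1' = FF ms_R1q := by decide +kernel

def ms_R2 : List ℕ := [8963210, 4536592, 3277413]
theorem eq_R2 : R2 = FF ms_R2 := by decide +kernel

def ms_R3 : List ℕ := [3719203, 4536592, 8521420]
theorem eq_R3 : R3 = FF ms_R3 := by decide +kernel

def ms_sP1c : List ℕ := [8663097, 3704512, 4409606]
theorem eq_sP1c : sP1c = FF ms_sP1c := by decide +kernel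

def TMx : Finset (Finset GolayPt) :=
  {gset [0, 1, 2, 3, 5, 14, 17, 23], gset [4, 8, 11, 12, 13, 16, 18, 22],
    gset [6, 7, 9, 10, 15, 19, 20, 21]}
theorem TMx_mem : TMx ∈ trios := by trio_tac 8536111 4536592 3704512

theorem TM_eq : TM = TMx := by decide +kernel
theorem TM_mem : TM ∈ trios := by rw [TM_eq]; exact TMx_mem

def TM'x : Finset (Finset GolayPt) :=
  {gset [3, 5, 8, 11, 12, 14, 17, 18], gset [4, 9, 10, 13, 15, 16, 20, 22],
    gset [0, 1, 2, 6, 7, 19, 21, 23]}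
theorem TM'x_mem : TM'x ∈ trios := by trio_tac 416040 5350928 11010247

theorem TM'_eq : TM' = TM'x := by decide +kernel
theorem TM'_mem : TM' ∈ trios := by rw [TM'_eq]; exact TM'x_mem

def TM''x : Finset (Finset GolayPt) :=
  {gset [0, 1, 2, 4, 13, 16, 22, 23], gset [6, 7, 8, 11, 12, 18, 19, 21],
    gset [3, 5, 9, 10, 14, 15, 17, 20]}
theorem TM''x_mem : TM''x ∈ trios := by trio_tac 12656663 2890176 1230376

theorem TM''_eq : TM'' = TM''x := by decide +kernel
theorem TM''_mem : TM'' ∈ trios := by rw [TM''_eq]; exact TM''x_mem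

def ms_TM : List ℕ := [8536111, 4536592, 3704512]
theorem eq_TM : TM = FF ms_TM := by decide +kernel

def Sx : Finset (Finset GolayPt) :=
  {gset [4, 6, 13, 19], gset [7, 16, 21, 22], gset [0, 2, 3, 17], gset [9, 12, 15, 18], gset [1, 5, 14, 23],
    gset [8, 10, 11, 20]}

def Sy : Finset (Finset GolayPt) :=
  {gset [2, 6, 9, 17], gset [0, 5, 20, 21], gset [12, 13, 16, 22], gset [3, 7, 10, 23], gset [4, 8, 11, 18],
    gset [1, 14, 15, 19]}

def S1 : Finset (Finset GolayPt) :=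
  {gset [4, 12, 13, 18], gset [8, 11, 16, 22], gset [7, 10, 20, 21], gset [0, 3, 5, 23], gset [1, 2, 14, 17],
    gset [6, 9, 15, 19]}

def S2 : Finset (Finset GolayPt) :=
  {gset [11, 12, 13, 16], gset [0, 1, 3, 17], gset [2, 5, 14, 23], gset [4, 8, 18, 22], gset [6, 7, 15, 20],
    gset [9, 10, 19, 21]}

def S3 : Finset (Finset GolayPt) :=
  {gset [7, 9, 19, 20], gset [0, 2, 3, 14], gset [1, 5, 17, 23], gset [4, 11, 16, 18], gset [6, 10, 15, 21],
    gset [8, 12, 13, 22]}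

def S0x : Finset (Finset GolayPt) :=
  {gset [8, 11, 12, 18], gset [9, 10, 15, 20], gset [4, 13, 16, 22], gset [3, 5, 14, 17], gset [6, 7, 19, 21],
    gset [0, 1, 2, 23]}


/-- check that a list of masks is a sextet -/
def chk (l : List ℕ) : Bool :=
  Nat.beq l.length 6 && decide l.Nodup &&
  l.all (fun a => Nat.blt a 16777216 && Nat.beq (popcount a) 4 &&
    l.all (fun b => Nat.beq a b || (isCode (a ||| b) && Nat.beq (popcount (a ||| b)) 8)))

theorem sext_of_chk {l : List ℕ} (h : chk l = true) : (l.map fin).toFinset ∈ sextets := by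
  unfold chk at h
  simp only [Bool.and_eq_true, List.all_eq_true, Bool.or_eq_true, decide_eq_true_eq] at h
  obtain ⟨⟨h6, hnd⟩, h⟩ := h
  have h6 := Nat.eq_of_beq_eq_true h6
  refine ⟨?_, ?_, ?_⟩
  · rw [List.toFinset_card_of_nodup, List.length_map, h6]
    refine List.Nodup.map_on ?_ hnd
    intro a ha b hb hab
    have h1 := (h a ha).1.1
    have h2 := (h b hb).1.1
    have h1' : a < 16777216 := by
      rw [Nat.blt_eq] at h1; exact h1
    have h2' : b < 16777216 := by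
      rw [Nat.blt_eq] at h2; exact h2
    exact fin_injective (by norm_num; exact h1') (by norm_num; exact h2') hab
  · intro t ht
    rw [List.mem_toFinset, List.mem_map] at ht
    obtain ⟨a, ha, rfl⟩ := ht
    rw [card_fin]
    exact Nat.eq_of_beq_eq_true (h a ha).1.2
  · intro t ht u hu htu
    rw [List.mem_toFinset, List.mem_map] at ht hu
    obtain ⟨a, ha, rfl⟩ := ht
    obtain ⟨b, hb, rfl⟩ := hu
    have h1' : a < 16777216 := by
      have h1 := (h a ha).1.1
      rw [Nat.blt_eq] at h1; exact h1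
    have h2' : b < 16777216 := by
      have h2 := (h b hb).1.1
      rw [Nat.blt_eq] at h2; exact h2
    rw [← fin_or, fin_mem_octads_iff (Nat.or_lt_two_pow (n := 24) (by norm_num; exact h1') (by norm_num; exact h2'))]
    rcases (h a ha).2 b hb with h3 | h3
    · exact absurd (congrArg fin (Nat.eq_of_beq_eq_true h3)) htu
    · exact ⟨h3.1, Nat.eq_of_beq_eq_true h3.2⟩


def ms_S0 : List ℕ := [268544, 1082880, 4268048, 147496, 2621632, 8388615]
theorem eq_S0 : S0 = FF ms_S0 := by decide +kernel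
theorem S0_sext : S0 ∈ sextets := by
  rw [eq_S0]
  exact sext_of_chk (by decide +kernel)

def ms_Sx : List ℕ := [532560, 6357120, 131085, 299520, 8405026, 1051904]
theorem eq_Sx : Sx = FF ms_Sx := by decide +kernel
theorem Sx_sext : Sx ∈ sextets := by
  rw [eq_Sx]
  exact sext_of_chk (by decide +kernel)

def ms_Sy : List ℕ := [131652, 3145761, 4272128, 8389768, 264464, 573442]
theorem eq_Sy : Sy = FF ms_Sy := by decide +kernel
theorem Sy_sext : Sy ∈ sextets := by
  rw [eq_Sy]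
  exact sext_of_chk (by decide +kernel)

def ms_S1 : List ℕ := [274448, 4262144, 3146880, 8388649, 147462, 557632]
theorem eq_S1 : S1 = FF ms_S1 := by decide +kernel
theorem S1_sext : S1 ∈ sextets := by
  rw [eq_S1]
  exact sext_of_chk (by decide +kernel)

def ms_S2 : List ℕ := [79872, 131083, 8405028, 4456720, 1081536, 2622976]
theorem eq_S2 : S2 = FF ms_S2 := by decide +kernel
theorem S2_sext : S2 ∈ sextets := by
  rw [eq_S2]
  exact sext_of_chk (by decide +kernel)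

def ms_S3 : List ℕ := [1573504, 16397, 8519714, 329744, 2131008, 4206848]
theorem eq_S3 : S3 = FF ms_S3 := by decide +kernel
theorem S3_sext : S3 ∈ sextets := by
  rw [eq_S3]
  exact sext_of_chk (by decide +kernel)




theorem s_TM_TM : (e_s : Equiv.Perm GolayPt) • TM = TM := by
  change p_s • TM = TM
  decide +kernel

theorem s_P1_R1 : (e_s : Equiv.Perm GolayPt) • P1 = R1 := by
  change p_s • P1 = R1
  decide +kernel

theorem s_R1_P1 : (e_s : Equiv.Perm GolayPt) • R1 = P1 := by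
  change p_s • R1 = P1
  decide +kernel

theorem s_P1b_P2 : (e_s : Equiv.Perm GolayPt) • P1b = P2 := by
  change p_s • P1b = P2
  decide +kernel

theorem s_P1c_sP1c : (e_s : Equiv.Perm GolayPt) • P1c = sP1c := by
  change p_s • P1c = sP1c
  decide +kernel

theorem ka_TM_TM : (e_ka : Equiv.Perm GolayPt) • TM = TM := by
  change p_ka • TM = TM
  decide +kernel

theorem kb_TM_TM : (e_kb : Equiv.Perm GolayPt) • TM = TM := by
  change p_kb • TM = TM
  decide +kernel

theorem kc_TM_TM : (e_kc : Equiv.Perm GolayPt) • TM = TM := by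
  change p_kc • TM = TM
  decide +kernel

theorem m_TM_P1 : (e_m : Equiv.Perm GolayPt) • TM = P1 := by
  change p_m • TM = P1
  decide +kernel

theorem m_TMq_P1b : (e_m : Equiv.Perm GolayPt) • TM' = P1b := by
  change p_m • TM' = P1b
  decide +kernel

theorem m_TMqq_P1c : (e_m : Equiv.Perm GolayPt) • TM'' = P1c := by
  change p_m • TM'' = P1c
  decide +kernel

theorem gb_TM_TM : (e_gb : Equiv.Perm GolayPt) • TM = TM := by
  change p_gb • TM = TM
  decide +kernel

theorem gb_P1_P1b : (e_gb : Equiv.Perm GolayPt) • P1 = P1b := by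
  change p_gb • P1 = P1b
  decide +kernel

theorem gc_TM_TM : (e_gc : Equiv.Perm GolayPt) • TM = TM := by
  change p_gc • TM = TM
  decide +kernel

theorem gc_P1_P1c : (e_gc : Equiv.Perm GolayPt) • P1 = P1c := by
  change p_gc • P1 = P1c
  decide +kernel

theorem g2_TM_TM : (e_g2 : Equiv.Perm GolayPt) • TM = TM := by
  change p_g2 • TM = TM
  decide +kernel

theorem g2_P1_P1 : (e_g2 : Equiv.Perm GolayPt) • P1 = P1 := by
  change p_g2 • P1 = P1
  decide +kernel

theorem g2_R1_R2 : (e_g2 : Equiv.Perm GolayPt) • R1 = R2 := by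
  change p_g2 • R1 = R2
  decide +kernel

theorem g3_TM_TM : (e_g3 : Equiv.Perm GolayPt) • TM = TM := by
  change p_g3 • TM = TM
  decide +kernel

theorem g3_P1_P1 : (e_g3 : Equiv.Perm GolayPt) • P1 = P1 := by
  change p_g3 • P1 = P1
  decide +kernel

theorem g3_R1_R3 : (e_g3 : Equiv.Perm GolayPt) • R1 = R3 := by
  change p_g3 • R1 = R3
  decide +kernel

theorem gJ_TM_TM : (e_gJ : Equiv.Perm GolayPt) • TM = TM := by
  change p_gJ • TM = TM
  decide +kernel

theorem gJ_P1_P1 : (e_gJ : Equiv.Perm GolayPt) • P1 = P1 := by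
  change p_gJ • P1 = P1
  decide +kernel

theorem gJ_R1_sP1c : (e_gJ : Equiv.Perm GolayPt) • R1 = sP1c := by
  change p_gJ • R1 = sP1c
  decide +kernel

theorem h2_TM_TM : (e_h2 : Equiv.Perm GolayPt) • TM = TM := by
  change p_h2 • TM = TM
  decide +kernel

theorem k2_R1_R1q : (e_k2 : Equiv.Perm GolayPt) • R1 = R1' := by
  change p_k2 • R1 = R1'
  decide +kernel

theorem A1_P1_P1 : (e_A1 : Equiv.Perm GolayPt) • P1 = P1 := by
  change p_A1 • P1 = P1
  decide +kernel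

theorem A1_R1q_R1 : (e_A1 : Equiv.Perm GolayPt) • R1' = R1 := by
  change p_A1 • R1' = R1
  decide +kernel

theorem ref_S0_TM : Refines S0 TM := by
  rw [eq_S0, eq_TM]
  exact refines_of (by decide +kernel)

theorem ref_S0_P1 : Refines S0 P1 := by
  rw [eq_S0, eq_P1]
  exact refines_of (by decide +kernel)

theorem ref_S0_P1b : Refines S0 P1b := by
  rw [eq_S0, eq_P1b]
  exact refines_of (by decide +kernel)

theorem ref_S0_P1c : Refines S0 P1c := by
  rw [eq_S0, eq_P1c]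
  exact refines_of (by decide +kernel)

theorem ref_S0_P1cq : Refines S0 P1c' := by
  rw [eq_S0, eq_P1cq]
  exact refines_of (by decide +kernel)

theorem ref_Sx_P1 : Refines Sx P1 := by
  rw [eq_Sx, eq_P1]
  exact refines_of (by decide +kernel)

theorem ref_Sx_P2 : Refines Sx P2 := by
  rw [eq_Sx, eq_P2]
  exact refines_of (by decide +kernel)

theorem ref_Sx_P3 : Refines Sx P3 := by
  rw [eq_Sx, eq_P3]
  exact refines_of (by decide +kernel)

theorem ref_Sy_R1 : Refines Sy R1 := by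
  rw [eq_Sy, eq_R1]
  exact refines_of (by decide +kernel)

theorem ref_Sy_R2 : Refines Sy R2 := by
  rw [eq_Sy, eq_R2]
  exact refines_of (by decide +kernel)

theorem ref_Sy_R3 : Refines Sy R3 := by
  rw [eq_Sy, eq_R3]
  exact refines_of (by decide +kernel)

theorem ref_S1_TM : Refines S1 TM := by
  rw [eq_S1, eq_TM]
  exact refines_of (by decide +kernel)

theorem ref_S1_R1 : Refines S1 R1 := by
  rw [eq_S1, eq_R1]
  exact refines_of (by decide +kernel)

theorem ref_S1_R1q : Refines S1 R1' := by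
  rw [eq_S1, eq_R1q]
  exact refines_of (by decide +kernel)

theorem nref_S1 : ¬ Refines S1 P1 := by
  rw [eq_S1, eq_P1]
  exact not_refines_of (by decide +kernel) (by decide +kernel)

theorem nref_S2 : ¬ Refines S2 P1 := by
  rw [eq_S2, eq_P1]
  exact not_refines_of (by decide +kernel) (by decide +kernel)

theorem nref_S3 : ¬ Refines S3 P1 := by
  rw [eq_S3, eq_P1]
  exact not_refines_of (by decide +kernel) (by decide +kernel)

theorem ne_P1_P2 : P1 ≠ P2 := by
  rw [eq_P1, eq_P2]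
  exact ne_of (by decide +kernel) (by decide +kernel) (by decide +kernel)

theorem ne_P1_P3 : P1 ≠ P3 := by
  rw [eq_P1, eq_P3]
  exact ne_of (by decide +kernel) (by decide +kernel) (by decide +kernel)

theorem ne_P2_P3 : P2 ≠ P3 := by
  rw [eq_P2, eq_P3]
  exact ne_of (by decide +kernel) (by decide +kernel) (by decide +kernel)

theorem ne_TM_R1 : TM ≠ R1 := by
  rw [eq_TM, eq_R1]
  exact ne_of (by decide +kernel) (by decide +kernel) (by decide +kernel)

theorem ne_TM_R1q : TM ≠ R1' := by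
  rw [eq_TM, eq_R1q]
  exact ne_of (by decide +kernel) (by decide +kernel) (by decide +kernel)

theorem ne_R1_R1q : R1 ≠ R1' := by
  rw [eq_R1, eq_R1q]
  exact ne_of (by decide +kernel) (by decide +kernel) (by decide +kernel)

theorem ne_R1_R2 : R1 ≠ R2 := by
  rw [eq_R1, eq_R2]
  exact ne_of (by decide +kernel) (by decide +kernel) (by decide +kernel)

theorem ne_R1_R3 : R1 ≠ R3 := by
  rw [eq_R1, eq_R3]
  exact ne_of (by decide +kernel) (by decide +kernel) (by decide +kernel)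

theorem ne_R2_R3 : R2 ≠ R3 := by
  rw [eq_R2, eq_R3]
  exact ne_of (by decide +kernel) (by decide +kernel) (by decide +kernel)

theorem ne_TM_P1c : TM ≠ P1c := by
  rw [eq_TM, eq_P1c]
  exact ne_of (by decide +kernel) (by decide +kernel) (by decide +kernel)

theorem ne_TM_P1cq : TM ≠ P1c' := by
  rw [eq_TM, eq_P1cq]
  exact ne_of (by decide +kernel) (by decide +kernel) (by decide +kernel)

theorem ne_P1c_P1cq : P1c ≠ P1c' := by
  rw [eq_P1c, eq_P1cq]
  exact ne_of (by decide +kernel) (by decide +kernel) (by decide +kernel)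

def oA : Finset GolayPt := fin 8536111

theorem oA_mem_P1 : oA ∈ P1 := by
  rw [eq_P1]
  exact mem_of (by decide +kernel)

theorem oA_mem_P2 : oA ∈ P2 := by
  rw [eq_P2]
  exact mem_of (by decide +kernel)

theorem oA_mem_P3 : oA ∈ P3 := by
  rw [eq_P3]
  exact mem_of (by decide +kernel)

def oB : Finset GolayPt := fin 4536592

theorem oB_mem_TM : oB ∈ TM := by
  rw [eq_TM]
  exact mem_of (by decide +kernel)

theorem oB_mem_R1 : oB ∈ R1 := by
  rw [eq_R1]
  exact mem_of (by decide +kernel)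

theorem oB_mem_R1q : oB ∈ R1' := by
  rw [eq_R1q]
  exact mem_of (by decide +kernel)

theorem oB_mem_R2 : oB ∈ R2 := by
  rw [eq_R2]
  exact mem_of (by decide +kernel)

theorem oB_mem_R3 : oB ∈ R3 := by
  rw [eq_R3]
  exact mem_of (by decide +kernel)

def oC : Finset GolayPt := fin 3704512

theorem oC_mem_TM : oC ∈ TM := by
  rw [eq_TM]
  exact mem_of (by decide +kernel)

theorem oC_mem_P1c : oC ∈ P1c := by
  rw [eq_P1c]
  exact mem_of (by decide +kernel)

theorem oC_mem_P1cq : oC ∈ P1c' := by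
  rw [eq_P1cq]
  exact mem_of (by decide +kernel)

theorem ka_kb : e_ka * e_kb = e_kc := by
  apply m24_ext
  change ∀ p, (p_ka * p_kb : Equiv.Perm GolayPt) p = (p_kc : Equiv.Perm GolayPt) p
  decide +kernel

theorem s_ka : e_s * e_ka = e_kb * e_s := by
  apply m24_ext
  change ∀ p, (p_s * p_ka : Equiv.Perm GolayPt) p = (p_kb * p_s : Equiv.Perm GolayPt) p
  decide +kernel

theorem s_kb : e_s * e_kb = e_ka * e_s := by
  apply m24_ext
  change ∀ p, (p_s * p_kb : Equiv.Perm GolayPt) p = (p_ka * p_s : Equiv.Perm GolayPt) p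
  decide +kernel

theorem s_kc : e_s * e_kc = e_kc * e_s := by
  apply m24_ext
  change ∀ p, (p_s * p_kc : Equiv.Perm GolayPt) p = (p_kc * p_s : Equiv.Perm GolayPt) p
  decide +kernel

theorem s_s : e_s * e_s = (1 : M24) := by
  apply m24_ext
  change ∀ p, (p_s * p_s : Equiv.Perm GolayPt) p = (1 : Equiv.Perm GolayPt) p
  decide +kernel

theorem ka_ka : e_ka * e_ka = (1 : M24) := by
  apply m24_ext
  change ∀ p, (p_ka * p_ka : Equiv.Perm GolayPt) p = (1 : Equiv.Perm GolayPt) p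
  decide +kernel

theorem kb_kb : e_kb * e_kb = (1 : M24) := by
  apply m24_ext
  change ∀ p, (p_kb * p_kb : Equiv.Perm GolayPt) p = (1 : Equiv.Perm GolayPt) p
  decide +kernel

theorem kc_kc : e_kc * e_kc = (1 : M24) := by
  apply m24_ext
  change ∀ p, (p_kc * p_kc : Equiv.Perm GolayPt) p = (1 : Equiv.Perm GolayPt) p
  decide +kernel

theorem g2_kc : e_g2 * e_kc = e_k2 * e_g2 := by
  apply m24_ext
  change ∀ p, (p_g2 * p_kc : Equiv.Perm GolayPt) p = (p_k2 * p_g2 : Equiv.Perm GolayPt) p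
  decide +kernel

theorem g3_kc : e_g3 * e_kc = e_k3 * e_g3 := by
  apply m24_ext
  change ∀ p, (p_g3 * p_kc : Equiv.Perm GolayPt) p = (p_k3 * p_g3 : Equiv.Perm GolayPt) p
  decide +kernel

theorem k3_eq : e_kc * e_k2 = e_k3 := by
  apply m24_ext
  change ∀ p, (p_kc * p_k2 : Equiv.Perm GolayPt) p = (p_k3 : Equiv.Perm GolayPt) p
  decide +kernel

theorem A1_A1 : e_A1 * e_A1 = e_kc := by
  apply m24_ext
  change ∀ p, (p_A1 * p_A1 : Equiv.Perm GolayPt) p = (p_kc : Equiv.Perm GolayPt) p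
  decide +kernel

theorem ne_ka_1 : e_ka ≠ (1 : M24) := by
  intro h
  have h1 : (p_ka : Equiv.Perm GolayPt) (gp 4) = (1 : Equiv.Perm GolayPt) (gp 4) := congrArg (fun g : M24 => (g : Equiv.Perm GolayPt) (gp 4)) h
  exact absurd h1 (by decide +kernel)

theorem ne_kb_1 : e_kb ≠ (1 : M24) := by
  intro h
  have h1 : (p_kb : Equiv.Perm GolayPt) (gp 0) = (1 : Equiv.Perm GolayPt) (gp 0) := congrArg (fun g : M24 => (g : Equiv.Perm GolayPt) (gp 0)) h
  exact absurd h1 (by decide +kernel)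

theorem ne_kc_1 : e_kc ≠ (1 : M24) := by
  intro h
  have h1 : (p_kc : Equiv.Perm GolayPt) (gp 0) = (1 : Equiv.Perm GolayPt) (gp 0) := congrArg (fun g : M24 => (g : Equiv.Perm GolayPt) (gp 0)) h
  exact absurd h1 (by decide +kernel)

theorem ne_ka_kb : e_ka ≠ e_kb := by
  intro h
  have h1 : (p_ka : Equiv.Perm GolayPt) (gp 0) = (p_kb : Equiv.Perm GolayPt) (gp 0) := congrArg (fun g : M24 => (g : Equiv.Perm GolayPt) (gp 0)) h
  exact absurd h1 (by decide +kernel)

theorem ne_ka_kc : e_ka ≠ e_kc := by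
  intro h
  have h1 : (p_ka : Equiv.Perm GolayPt) (gp 0) = (p_kc : Equiv.Perm GolayPt) (gp 0) := congrArg (fun g : M24 => (g : Equiv.Perm GolayPt) (gp 0)) h
  exact absurd h1 (by decide +kernel)

theorem ne_kb_kc : e_kb ≠ e_kc := by
  intro h
  have h1 : (p_kb : Equiv.Perm GolayPt) (gp 4) = (p_kc : Equiv.Perm GolayPt) (gp 4) := congrArg (fun g : M24 => (g : Equiv.Perm GolayPt) (gp 4)) h
  exact absurd h1 (by decide +kernel)

theorem ka_tet : ∀ i, (e_ka : Equiv.Perm GolayPt) • tet i = tet i := by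
  change ∀ i, p_ka • tet i = tet i
  decide +kernel

theorem kb_tet : ∀ i, (e_kb : Equiv.Perm GolayPt) • tet i = tet i := by
  change ∀ i, p_kb • tet i = tet i
  decide +kernel

theorem kc_tet : ∀ i, (e_kc : Equiv.Perm GolayPt) • tet i = tet i := by
  change ∀ i, p_kc • tet i = tet i
  decide +kernel

theorem m_tet : (e_m : Equiv.Perm GolayPt) • tet 0 = tet 0 := by
  change p_m • tet 0 = tet 0
  decide +kernel

def x1 : Finset GolayPt := gset [8, 11, 16, 22]
def x2 : Finset GolayPt := gset [4, 8, 18, 22]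
def x3 : Finset GolayPt := gset [4, 11, 16, 18]

theorem s_tet : (e_s : Equiv.Perm GolayPt) • tet 0 = x1 := by
  change p_s • tet 0 = x1
  decide +kernel

theorem h2_tet : (e_h2 : Equiv.Perm GolayPt) • tet 2 = x2 := by
  change p_h2 • tet 2 = x2
  decide +kernel

theorem x1_x2 : symmDiff x1 x2 = x3 := by decide +kernel

theorem x1_mem : x1 ∈ S1 := by
  have h : x1 = fin 4262144 := by decide +kernel
  rw [h, eq_S1]
  exact mem_of (by decide +kernel)

theorem x1_card : x1.card = 4 := by decide +kernel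

theorem x2_mem : x2 ∈ S2 := by
  have h : x2 = fin 4456720 := by decide +kernel
  rw [h, eq_S2]
  exact mem_of (by decide +kernel)

theorem x2_card : x2.card = 4 := by decide +kernel

theorem x3_mem : x3 ∈ S3 := by
  have h : x3 = fin 329744 := by decide +kernel
  rw [h, eq_S3]
  exact mem_of (by decide +kernel)

theorem x3_card : x3.card = 4 := by decide +kernel

def Rp : Finset (Finset GolayPt) :=
  {gset [3, 5, 8, 10, 13, 18, 20, 22], gset [1, 11, 12, 14, 17, 19, 21, 23],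
    gset [0, 2, 4, 6, 7, 9, 15, 16]}
theorem Rp_mem : Rp ∈ trios := by trio_tac 5514536 11163650 99029

def wA : M24 := (YM * XM * YM * XM * YM * XM * YM) ^ 3
def wB : M24 := (XM * YM) ^ 3 * YM * (XM * YM) ^ 6 * YM

theorem wB_Rp : (wB : Equiv.Perm GolayPt) • Rp = FinalRel.T0 := by
  change ((X * Y) ^ 3 * Y * (X * Y) ^ 6 * Y) • Rp = FinalRel.T0
  decide +kernel

theorem g0_T0 : (e_g0 : Equiv.Perm GolayPt) • FinalRel.T0 = P1 := by
  change p_g0 • FinalRel.T0 = P1
  decide +kernel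

theorem g0_Rp : (e_g0 : Equiv.Perm GolayPt) • Rp = R1 := by
  change p_g0 • Rp = R1
  decide +kernel

theorem g0_wA : e_g0 * wA = e_A1 * e_g0 := by
  apply m24_ext
  change ∀ p, (p_g0 * (Y * X * Y * X * Y * X * Y) ^ 3 : Equiv.Perm GolayPt) p = (p_A1 * p_g0 : Equiv.Perm GolayPt) p
  decide +kernel

end Cfsg.Agent.J4Type.Rel2Data
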