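import Cfsg.Agent.J4Type.Base
import Cfsg.Agent.J4Type.NormMap

/-!
# J₄ type: the element `ρ` of order 3 (R07, helper856)

* `Hyp.exists_r` : `r ∈ N`, `r ∉ Q`, `r ^ 3 = 1`;
* `Hyp.act_N` : the action of `N` on `V` is `{1, ρ, ρ²}`;
* `Hyp.act_M_comm`: `act (⁅M, M⁆) = act M` (perfectness of the image `Y` of `M`);
* `Hyp.rho_free` : `ρ v = v → v = 0`, `Hyp.rho_sum` : `v + ρ v + ρ² v = 0`.
-/

set_option autoImplicit false

namespace Cfsg.Agent.J4Type

open Cfsg.Agent.Co2Type.Quad NormMap
open scoped commutatorElement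

section

variable {G : Type*} [Group G] [Finite G] {t : G} {Q N M : Subgroup (Subgroup.centralizer ({t} : Set G))}

theorem Hyp.exists_r (H : Hyp t Q N M) :
    ∃ r : Subgroup.centralizer ({t} : Set G), r ∈ N ∧ r ∉ Q ∧ r ^ 3 = 1 := by
  have : Fact (Nat.Prime 3) := ⟨Nat.prime_three⟩
  obtain ⟨r, hr⟩ := exists_prime_orderOf_dvd_card' (G := N) 3 (by rw [H.card_N]; exact dvd_mul_right _ _)
  refine ⟨r, r.2, ?_, ?_⟩
  · intro h
    have h1 : orderOf (⟨(r : Subgroup.centralizer ({t} : Set G)), h⟩ : Q) = 3 := by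
      rw [Subgroup.orderOf_mk, Subgroup.orderOf_coe, hr]
    have h2 := orderOf_dvd_natCard (⟨(r : Subgroup.centralizer ({t} : Set G)), h⟩ : Q)
    rw [h1, H.card_Q] at h2
    have := (Nat.prime_dvd_prime_iff_eq Nat.prime_three Nat.prime_two).1 (Nat.prime_three.dvd_of_dvd_pow h2)
    omega
  · have h1 := pow_orderOf_eq_one r
    rw [hr] at h1
    exact congrArg Subtype.val h1

/-- `r` generates `N` modulo `Q` -/
theorem Hyp.act_N (H : Hyp t Q N M) {r : Subgroup.centralizer ({t} : Set G)} (hr : r ∈ N) (hrQ : r ∉ Q)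
    (hr3 : r ^ 3 = 1) {n : Subgroup.centralizer ({t} : Set G)} (hn : n ∈ N) :
    H.large.act n = 1 ∨ H.large.act n = H.large.act r ∨ H.large.act n = H.large.act r ^ 2 := by
  have hQ := H.Qn
  have h1 : (Q.subgroupOf N).index = 3 := by
    have h2 := Subgroup.card_mul_index (Q.subgroupOf N)
    rw [H.card_N, Nat.card_congr (Subgroup.subgroupOfEquivOfLe H.QN).toEquiv, H.card_Q] at h2
    have : (0 : ℕ) < 2 ^ 13 := by positivity
    rw [mul_comm 3] at h2
    exact Nat.eq_of_mul_eq_mul_left this h2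
  have hne : (⟨r, hr⟩ : N) ∉ Q.subgroupOf N := hrQ
  have hcard : Nat.card (N ⧸ Q.subgroupOf N) = 3 := h1
  have hgen : (QuotientGroup.mk (⟨n, hn⟩ : N) : N ⧸ Q.subgroupOf N) ∈
      Subgroup.zpowers (QuotientGroup.mk (⟨r, hr⟩ : N) : N ⧸ Q.subgroupOf N) := by
    have : Fact (Nat.Prime 3) := ⟨Nat.prime_three⟩
    rw [zpowers_eq_top_of_prime_card hcard (fun h => hne ((QuotientGroup.eq_one_iff _).1 h))]
    trivial
  obtain ⟨k, hk⟩ := Subgroup.mem_zpowers_iff.1 hgen
  have hk' : ((⟨r, hr⟩ : N) ^ k)⁻¹ * ⟨n, hn⟩ ∈ Q.subgroupOf N := by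
    rw [← QuotientGroup.eq]; exact hk
  have h3 : H.large.act n = H.large.act r ^ k := by
    rw [← map_zpow, H.act_eq_act]
    exact hk'
  have h4 : H.large.act r ^ 3 = 1 := by rw [← map_pow, hr3, map_one]
  have h5 : H.large.act r ^ k = H.large.act r ^ (k % 3) := by
    conv_lhs => rw [← Int.emod_add_mul_ediv k 3, zpow_add, zpow_mul]
    rw [show H.large.act r ^ (3 : ℤ) = 1 from h4, one_zpow, mul_one]
  rw [h3, h5]
  have h6 : 0 ≤ k % 3 := Int.emod_nonneg _ (by norm_num)
  have h7 : k % 3 < 3 := Int.emod_lt_of_pos _ (by norm_num)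
  interval_cases h : k % 3
  · left; rw [zpow_zero]
  · right; left; rw [zpow_one]
  · right; right; rfl

/-- a subgroup containing `Q` and all commutators of `M` contains `M` -/
theorem Hyp.M_le (H : Hyp t Q N M) (K : Subgroup (Subgroup.centralizer ({t} : Set G))) (hQ : Q ≤ K)
    (hK : ∀ m ∈ M, ∀ m' ∈ M, ⁅m, m'⁆ ∈ K) : M ≤ K :=
  H.perf.trans (sup_le (Subgroup.commutator_le.2 hK) hQ)

theorem Hyp.rho_ne (H : Hyp t Q N M) {r : Subgroup.centralizer ({t} : Set G)} (hrQ : r ∉ Q) :
    ∃ v, H.large.act r v ≠ v := by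
  by_contra h
  push Not at h
  exact hrQ (H.act_eq_one.1 (LinearEquiv.ext h))

/-- a normal subgroup of `M` not contained in `N` covers `M / N` -/
theorem Hyp.cover (H : Hyp t Q N M) (K : Subgroup M) [K.Normal] (π : M →* Cfsg.Spor.M22)
    (hs : Function.Surjective π) {k : M} (hk : k ∈ K) (hk1 : π k ≠ 1) (m : M) : ∃ k ∈ K, π k = π m := by
  have hn : (K.map π).Normal := Subgroup.Normal.map inferInstance π hs
  have : IsSimpleGroup Cfsg.Spor.M22 := Cfsg.Agent.SporadicA.MathieuRecog.simple_M22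
  have h1 : K.map π = ⊤ := by
    rcases hn.eq_bot_or_eq_top with h | h
    · exfalso
      apply hk1
      have : π k ∈ K.map π := ⟨k, hk, rfl⟩
      rw [h] at this
      exact Subgroup.mem_bot.1 this
    · exact h
  have h2 : π m ∈ K.map π := by rw [h1]; trivial
  obtain ⟨k, hk, e⟩ := h2
  exact ⟨k, hk, e⟩

/-- the element of order 3 acts without fixed points -/
theorem Hyp.rho_free (H : Hyp t Q N M) {r : Subgroup.centralizer ({t} : Set G)} (hr : r ∈ N) (hrQ : r ∉ Q)
    (hr3 : r ^ 3 = 1) {v : H.large.V} (hv : H.large.act r v = v) : v = 0 := by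
  by_contra hv0
  set ρ := H.large.act r with hρ
  have hρ3 : ρ ^ 3 = 1 := by rw [hρ, ← map_pow, hr3, map_one]
  obtain ⟨π, hs, hker⟩ := H.pi
  -- an element of order 7
  have : Fact (Nat.Prime 7) := ⟨by norm_num⟩
  have : Finite Cfsg.Spor.M22 := inferInstance
  obtain ⟨g, hg⟩ := exists_prime_orderOf_dvd_card' (G := Cfsg.Spor.M22) 7
    (by rw [Cfsg.Agent.SporadicA.MathieuRecog.card_M22]; norm_num)
  obtain ⟨m, hm⟩ := hs g
  have hg7 : g ^ 7 = 1 := by rw [← hg]; exact pow_orderOf_eq_one g
  have hg3 : g ^ 3 ≠ 1 := by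
    intro h
    have := orderOf_dvd_of_pow_eq_one h
    rw [hg] at this
    omega
  have hm7 : (m : Subgroup.centralizer ({t} : Set G)) ^ 7 ∈ N := by
    have := (hker (m ^ 7)).1 (by rw [map_pow, hm, hg7])
    exact this
  set F := H.large.act ((m : Subgroup.centralizer ({t} : Set G)) ^ 3) with hF
  have hF7 : F ^ 7 = 1 := by
    rw [hF, ← map_pow, ← pow_mul, show 3 * 7 = 7 * 3 from rfl, pow_mul, map_pow]
    rcases H.act_N hr hrQ hr3 hm7 with h | h | h
    · rw [h, one_pow]
    · rw [h, hρ3]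
    · rw [h, ← pow_mul, mul_comm, pow_mul, hρ3, one_pow]
  have hFρ : F * ρ = ρ * F := H.act_comm (M.pow_mem m.2 3) hr
  -- `F` acts trivially on the kernel of the norm
  have hFix : ∀ v₁, S ρ 3 v₁ = 0 → F v₁ = v₁ := by
    intro v₁ hv₁
    by_contra hne
    have hfin : Finite H.large.V := inferInstance
    refine no_fix H.large.q (fun v w => H.large.b v w) (fun v w => H.large.q_add' v w) ?_ ?_ ?_ ρ F hρ3 hF7 hFρ
      (fun v => H.large.q_act r v) (fun v => H.large.q_act _ v) H.card_V v hv0 hv v₁ hv₁ hne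
    · intro u v w; simp
    · intro u v w; simp
    · intro u hu
      by_contra h
      push Not at h
      exact hu (H.large.b_nondeg fun w => by rw [H.large.b_comm]; exact h w)
  -- the subgroup acting trivially on the kernel of the norm
  have hSc : ∀ c ∈ M, ∀ w, S ρ 3 w = 0 → S ρ 3 (H.large.act c w) = 0 := by
    intro c hc w hw
    rw [S_comm ρ _ 3 (H.act_comm hc hr), hw, map_zero]
  let K' : Subgroup (Subgroup.centralizer ({t} : Set G)) :=
    { carrier := {c | ∀ w, S ρ 3 w = 0 → H.large.act c w = w}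
      mul_mem' := by
        intro a b ha hb w hw
        rw [map_mul]
        show H.large.act a (H.large.act b w) = w
        rw [hb w hw, ha w hw]
      one_mem' := by intro w _; rw [map_one]; rfl
      inv_mem' := by
        intro a ha w hw
        rw [map_inv]
        have h1 := ha w hw
        have h2 : (H.large.act a)⁻¹ (H.large.act a w) = w := (H.large.act a).symm_apply_apply w
        rw [h1] at h2
        exact h2 }
  have hK' : ∀ c, c ∈ K' ↔ ∀ w, S ρ 3 w = 0 → H.large.act c w = w := fun c => Iff.rfl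
  have hKn : (K'.subgroupOf M).Normal := by
    refine ⟨fun k hk m => ?_⟩
    rw [Subgroup.mem_subgroupOf, hK'] at hk ⊢
    intro w hw
    have h1 := hSc (m⁻¹ : M) (M.inv_mem m.2) w hw
    have h2 := hk _ h1
    show H.large.act ((m : Subgroup.centralizer ({t} : Set G)) * k * (m : Subgroup.centralizer ({t} : Set G))⁻¹) w = w
    rw [map_mul, map_mul]
    show H.large.act m (H.large.act k (H.large.act (m : Subgroup.centralizer ({t} : Set G))⁻¹ w)) = w
    have h3 : H.large.act k (H.large.act (m : Subgroup.centralizer ({t} : Set G))⁻¹ w) =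
      H.large.act (m : Subgroup.centralizer ({t} : Set G))⁻¹ w := h2
    rw [h3, map_inv]
    exact (H.large.act m).apply_symm_apply w
  have hcov := H.cover (K'.subgroupOf M) π hs (k := m ^ 3) (by
    rw [Subgroup.mem_subgroupOf, hK']
    exact hFix) (by rw [map_pow, hm]; exact hg3)
  have hsplit : ∀ m ∈ M, ∃ k ∈ K', k ∈ M ∧ ∃ n ∈ N, m = k * n := by
    intro m hm
    obtain ⟨k, hk, e⟩ := hcov ⟨m, hm⟩
    refine ⟨k, hk, k.2, (k : Subgroup.centralizer ({t} : Set G))⁻¹ * m, ?_, by group⟩
    have := (hker (k⁻¹ * ⟨m, hm⟩)).1 (by rw [map_mul, map_inv, e, inv_mul_cancel])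
    exact this
  have hMK : M ≤ K' := by
    refine H.M_le K' ?_ ?_
    · intro x hx w _
      rw [H.act_eq_one.2 hx]; rfl
    · intro m hm m' hm'
      obtain ⟨k, hk, hkM, n, hn, rfl⟩ := hsplit m hm
      obtain ⟨k', hk', hkM', n', hn', rfl⟩ := hsplit m' hm'
      have h1 : H.large.act ⁅k * n, k' * n'⁆ = H.large.act ⁅k, k'⁆ := by
        rw [commutatorElement_def, commutatorElement_def]
        simp only [map_mul, mul_inv_rev, map_inv]
        have c1 : Commute (H.large.act k) (H.large.act n) := H.act_comm hkM hn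
        have c2 : Commute (H.large.act k') (H.large.act n) := H.act_comm hkM' hn
        have c3 : Commute (H.large.act k) (H.large.act n') := H.act_comm hkM hn'
        have c4 : Commute (H.large.act k') (H.large.act n') := H.act_comm hkM' hn'
        have c5 : Commute (H.large.act n) (H.large.act n') := H.act_comm (H.NM hn) hn'
        have c5' := c5
        have e1 : H.large.act k * H.large.act n * (H.large.act k' * H.large.act n') *
            ((H.large.act n)⁻¹ * (H.large.act k)⁻¹) * ((H.large.act n')⁻¹ * (H.large.act k')⁻¹)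
            = H.large.act k * (H.large.act n * (H.large.act k' * H.large.act n') * (H.large.act n)⁻¹) *
              (H.large.act k)⁻¹ * ((H.large.act n')⁻¹ * (H.large.act k')⁻¹) := by group
        have e2 : H.large.act n * (H.large.act k' * H.large.act n') * (H.large.act n)⁻¹
            = H.large.act k' * H.large.act n' := by
          rw [mul_inv_eq_iff_eq_mul]
          exact ((c2.mul_left c5.symm).eq).symm
        rw [e1, e2]
        have e3 : H.large.act k * (H.large.act k' * H.large.act n') * (H.large.act k)⁻¹ *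
            ((H.large.act n')⁻¹ * (H.large.act k')⁻¹) = H.large.act k * H.large.act k' *
              (H.large.act n' * (H.large.act k)⁻¹ * (H.large.act n')⁻¹) * (H.large.act k')⁻¹ := by group
        have e4 : H.large.act n' * (H.large.act k)⁻¹ * (H.large.act n')⁻¹ = (H.large.act k)⁻¹ := by
          rw [mul_inv_eq_iff_eq_mul]
          exact (c3.inv_left).symm.eq
        rw [e3, e4]
      intro w hw
      rw [h1]
      exact (K'.mul_mem (K'.mul_mem (K'.mul_mem hk hk') (K'.inv_mem hk)) (K'.inv_mem hk')) w hw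
  obtain ⟨w, hw⟩ := H.rho_ne hrQ
  apply hw
  have h1 : S ρ 3 (ρ w + w) = 0 := S_sub ρ 3 hρ3 w
  have h2 : ρ (ρ w + w) = ρ w + w := hMK (H.NM hr) _ h1
  have h3 := eq_zero_of_fix ρ 3 (by decide) h2 h1
  rw [← add_right_cancel_iff (a := w), h3, two_smul']

theorem Hyp.rho_sum (H : Hyp t Q N M) {r : Subgroup.centralizer ({t} : Set G)} (hr : r ∈ N) (hrQ : r ∉ Q)
    (hr3 : r ^ 3 = 1) (v : H.large.V) :
    v + H.large.act r v + H.large.act r (H.large.act r v) = 0 := by
  have hρ3 : H.large.act r ^ 3 = 1 := by rw [← map_pow, hr3, map_one]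
  have h := H.rho_free hr hrQ hr3 (T_S (H.large.act r) 3 hρ3 v)
  rw [S, Finset.sum_range_succ, Finset.sum_range_succ, Finset.sum_range_one, pow_zero, pow_one, pow_two] at h
  exact h

end

end Cfsg.Agent.J4Type
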