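import Cfsg.Agent.J4Type.SplitData
import Cfsg.Agent.Solvable.Gaschutz
import Cfsg.Agent.S0364

/-!
Part (d): the extension by the even cocode splits (Gaschütz, from a Sylow 2-subgroup).
-/

set_option autoImplicit false

namespace Cfsg.Agent.J4Type.Split

open Cfsg Cfsg.Agent.SporadicA.GolayBase
open Cfsg.Agent.J4Type.CocodeMask Cfsg.Agent.J4Type.CocodeExt Cfsg.Agent.J4Type.SplitData

/-! ### Words in `s0`, `t0` -/

/-- the letters `s0, t0, t0⁻¹` -/
noncomputable def letter : ℕ → M24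
  | 0 => s0
  | 1 => t0
  | _ => t0⁻¹

/-- tables of the letters -/
def letterT : ℕ → ℕ
  | 0 => Ts
  | 1 => Tt
  | _ => Tt'

theorem tab_letter (n : ℕ) : IsTab (letter n) (letterT n) := by
  match n with
  | 0 => exact tab_s
  | 1 => exact tab_t
  | n + 2 => exact tab_t'

/-- the value of a word -/
noncomputable def wE : List ℕ → M24
  | [] => 1
  | a :: w => letter a * wE w

/-- the table of a word -/
def wT : List ℕ → ℕ
  | [] => pone
  | a :: w => pcomp (letterT a) (wT w)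

theorem tab_w (w : List ℕ) : IsTab (wE w) (wT w) := by
  induction w with
  | nil => exact isTab_one
  | cons a w ih => exact (tab_letter a).mul ih

theorem wE_mul_eq {u v w : List ℕ} (h : pcomp (wT u) (wT v) = wT w) : wE u * wE v = wE w :=
  ((tab_w u).mul (tab_w v)).eq (by rw [h]; exact tab_w w)

/-- `(0 2)(1 3)` -/
def wj : List ℕ := [1, 1, 1, 0, 1, 0, 2, 2, 0, 1, 0, 1]
/-- conjugates `s0` to an involution inducing `(4 5)` -/
def wl3 : List ℕ := [1, 1, 0, 1, 1]
def wl3' : List ℕ := [2, 2, 0, 2, 2]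
/-- conjugates `j k3` to `k1 k2 k3` -/
def wl : List ℕ := [2, 0, 2]
def wk2 : List ℕ := wj ++ 0 :: wj
def wk3 : List ℕ := wl3 ++ 0 :: wl3'

theorem wE_append (u v : List ℕ) : wE (u ++ v) = wE u * wE v := by
  induction u with
  | nil => exact (one_mul _).symm
  | cons a u ih => rw [List.cons_append, wE, ih, wE, mul_assoc]

theorem wj_sq : wE wj * wE wj = 1 := by
  rw [← wE_append]
  exact ((tab_w _).eq (by rw [show wT (wj ++ wj) = pone by decide +kernel]; exact isTab_one))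

theorem wl3_inv : (wE wl3)⁻¹ = wE wl3' := (tab_w _).inv_eq (tab_w _) (by decide +kernel)

/-- an element conjugating `s0` to `r0` -/
def Tm : ℕ := 518624387229737461226778840747551987

noncomputable def m0 : M24 := mk Tm (by decide +kernel)

theorem tab_m : IsTab m0 Tm := isTab_mk _ _

theorem m0_s0 : m0 * s0 = r0 * m0 :=
  (tab_m.mul tab_s).eq (by
    rw [show pcomp Tm Ts = pcomp Tr Tm by decide +kernel]
    exact tab_r.mul tab_m)

theorem check_z : allR 12 0 (fun a => !ev a || !Nat.beq (a ^^^ actT Tr a) (actT Tm zm)) = true := by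
  decide +kernel

theorem not_z {a : ℕ} (ha : ev a = true) : a ^^^ actT Tr a ≠ actT Tm zm := by
  intro h
  have h1 := allR_zero_spec check_z a ((ev_iff a).1 ha).1
  rw [ha, h, Bool.not_true, Bool.false_or, Bool.not_eq_true', Nat.beq_refl] at h1
  exact Bool.noConfusion h1

theorem sq_eq {g : M24} {P : ℕ} (hg : IsTab g P) (h : pcomp P P = pone) : g * g = 1 :=
  (hg.mul hg).eq (by rw [h]; exact isTab_one)

section main

variable {N : Type*} [Group N] {f : N →* M24} {c : ℕ → N} {Y R : Subgroup N} {ρ : N}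
  (H : Input f c Y R ρ)

include H

theorem cz_ne : c zm ≠ 1 := by
  intro h
  have := H.ext.inj zm ev_zm h
  exact absurd this (by decide)

theorem central_z {y : N} (hy : y ∈ Y) : y * c zm = c zm * y := by
  have h1 : y * c zm * y⁻¹ ∈ Y := Y.mul_mem (Y.mul_mem hy H.z_mem) (Y.inv_mem hy)
  have h2 : f (y * c zm * y⁻¹) = 1 := by
    rw [map_mul, map_mul, H.ext.map_c ev_zm, mul_one, map_inv, mul_inv_cancel]
  rcases H.Y_ker _ h1 h2 with h | h
  · exfalso
    apply cz_ne H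
    have h3 : y * c zm = y := by rw [← mul_inv_eq_one]; exact h
    exact mul_eq_left.1 h3
  · conv_rhs => rw [← h]
    rw [inv_mul_cancel_right]

theorem z_sq : c zm * c zm = 1 := H.ext.sq ev_zm

theorem eq_or {x y : N} (hx : x ∈ Y) (hy : y ∈ Y) (h : f x = f y) : x = y ∨ x = y * c zm := by
  have h1 : f (y⁻¹ * x) = 1 := by rw [map_mul, map_inv, h, inv_mul_cancel]
  rcases H.Y_ker _ (Y.mul_mem (Y.inv_mem hy) hx) h1 with h2 | h2
  · left
    rw [inv_mul_eq_one] at h2
    exact h2.symm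
  · right
    rw [← h2, mul_inv_cancel_left]

theorem word_mem (w : List ℕ) : ∃ y ∈ Y, f y = wE w := by
  induction w with
  | nil => exact ⟨1, Y.one_mem, map_one f⟩
  | cons a w ih =>
    obtain ⟨y, hy, h⟩ := ih
    have h1 : ∃ x ∈ Y, f x = letter a := by
      match a with
      | 0 => exact H.s_mem
      | 1 => exact H.t_mem
      | n + 2 =>
        obtain ⟨x, hx, h2⟩ := H.t_mem
        exact ⟨x⁻¹, Y.inv_mem hx, by rw [map_inv, h2]; rfl⟩
    obtain ⟨x, hx, h2⟩ := h1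
    exact ⟨x * y, Y.mul_mem hx hy, by rw [map_mul, h2, h]; rfl⟩

/-- Elements of `Y` mapping to `s0` are involutions. -/
theorem sq_of_s0 {K : N} (hK : K ∈ Y) (h : f K = s0) : K * K = 1 := by
  have h0 : f (K * K) = 1 := by rw [map_mul, h]; exact sq_eq tab_s (by decide +kernel)
  rcases H.Y_ker _ (Y.mul_mem hK hK) h0 with h1 | h1
  · exact h1
  exfalso
  obtain ⟨n, hn⟩ := H.ext.surj m0
  obtain ⟨u, hu, hur⟩ := H.R_r0
  have hu2 : u * u = 1 := by
    apply H.R_ker _ (R.mul_mem hu hu)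
    rw [map_mul, hur]
    exact sq_eq tab_r (by decide +kernel)
  have h2 : f (n * K * n⁻¹) = f u := by
    rw [map_mul, map_mul, hn, h, hur, m0_s0, map_inv, hn, mul_inv_cancel_right]
  obtain ⟨a, ha, h3⟩ := H.ext.exists_mul' h2
  have h4 : n * (K * K) * n⁻¹ = c (a ^^^ act r0 a) := by
    have : n * (K * K) * n⁻¹ = (n * K * n⁻¹) * (n * K * n⁻¹) := by group
    rw [this, h3, H.ext.xor a _ ha (ev_act _ ha), ← hur, ← H.ext.conj u a ha]
    calc c a * u * (c a * u) = c a * (u * c a * u⁻¹) * (u * u) := by group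
      _ = _ := by rw [hu2, mul_one]
  rw [h1, H.ext.conj n zm ev_zm, hn] at h4
  have h5 := H.ext.injOn (ev_act _ ev_zm) (ev_xor ha (ev_act _ ha)) h4
  rw [act_eq tab_m, act_eq tab_r] at h5
  exact not_z ha h5.symm

theorem sq_mul_z {x : N} (hx : x ∈ Y) (h : x * x = 1) : (x * c zm) * (x * c zm) = 1 := by
  calc x * c zm * (x * c zm) = x * (c zm * x) * c zm := by group
    _ = x * (x * c zm) * c zm := by rw [central_z H hx]
    _ = x * x * (c zm * c zm) := by group
    _ = 1 := by rw [h, z_sq H, one_mul]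

omit H in
/-- Commuting of involutions with involutory product. -/
theorem comm_of_sq {x y : N} (hx : x * x = 1) (hy : y * y = 1) (hxy : (x * y) * (x * y) = 1) :
    x * y = y * x := by
  have h1 : (x * y)⁻¹ = x * y := inv_eq_of_mul_eq_one_right hxy
  rw [← h1, mul_inv_rev, inv_eq_of_mul_eq_one_right hx, inv_eq_of_mul_eq_one_right hy]

omit H in
theorem sq_conj {x y : N} (hx : x * x = 1) : (y * x * y⁻¹) * (y * x * y⁻¹) = 1 := by
  have : (y * x * y⁻¹) * (y * x * y⁻¹) = y * (x * x) * y⁻¹ := by group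
  rw [this, hx, mul_one, mul_inv_cancel]

theorem sq_of_word {y : N} (hy : y ∈ Y) {w : List ℕ} (h : f y = wE w)
    (h1 : pcomp (wT w) Tρ = pcomp Tρ (wT w)) (h2 : pcomp (wT w) (wT w) = pone) : y * y = 1 := by
  apply H.Y_inv y hy
  · rw [h]
    exact ((tab_w w).mul tab_ρ).eq (by rw [h1]; exact tab_ρ.mul (tab_w w))
  · rw [h]
    exact sq_eq (tab_w w) h2

/-- Elements of `Y` generating a group `2 × D8`. -/
theorem exists_gens : ∃ K1 ∈ Y, ∃ K2 ∈ Y, ∃ K3 ∈ Y, ∃ J ∈ Y,
    f K1 = wE [0] ∧ f K2 = wE wk2 ∧ f K3 = wE wk3 ∧ f J = wE wj ∧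
    K1 * K1 = 1 ∧ K2 * K2 = 1 ∧ K3 * K3 = 1 ∧ J * J = 1 ∧ K1 * K2 = K2 * K1 ∧
    K1 * K3 = K3 * K1 ∧ K2 * K3 = K3 * K2 ∧ J * K1 = K2 * J ∧ J * K2 = K1 * J ∧
    J * K3 = K3 * J := by
  obtain ⟨K1, hK1, fK1⟩ := H.s_mem
  obtain ⟨J, hJ, fJ⟩ := word_mem H wj
  obtain ⟨L3, hL3, fL3⟩ := word_mem H wl3
  obtain ⟨L, hL, fL⟩ := word_mem H wl
  have k1 : K1 * K1 = 1 := sq_of_s0 H hK1 fK1
  have jj : J * J = 1 := sq_of_word H hJ fJ (by decide +kernel) (by decide +kernel)
  have hJi : J⁻¹ = J := inv_eq_of_mul_eq_one_right jj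
  obtain ⟨K2, eK2⟩ : ∃ K2, K2 = J * K1 * J⁻¹ := ⟨_, rfl⟩
  obtain ⟨K3, eK3⟩ : ∃ K3, K3 = L3 * K1 * L3⁻¹ := ⟨_, rfl⟩
  have hK2 : K2 ∈ Y := by
    rw [eK2]; exact Y.mul_mem (Y.mul_mem hJ hK1) (Y.inv_mem hJ)
  have fK2 : f K2 = wE wk2 := by
    rw [eK2, hJi, map_mul, map_mul, fJ, fK1, wk2, wE_append, mul_assoc]
    rfl
  have k2 : K2 * K2 = 1 := by rw [eK2]; exact sq_conj k1
  have hK3 : K3 ∈ Y := by
    rw [eK3]; exact Y.mul_mem (Y.mul_mem hL3 hK1) (Y.inv_mem hL3)
  have fK3 : f K3 = wE wk3 := by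
    rw [eK3, map_mul, map_mul, map_inv, fL3, fK1, wl3_inv, wk3, wE_append, mul_assoc]
    rfl
  have k3 : K3 * K3 = 1 := by rw [eK3]; exact sq_conj k1
  have fK1' : f K1 = wE [0] := by rw [fK1, wE, wE, mul_one]; rfl
  have c12 : K1 * K2 = K2 * K1 := by
    apply comm_of_sq k1 k2
    apply sq_of_word H (Y.mul_mem hK1 hK2) (w := [0] ++ wk2)
    · rw [map_mul, fK1', fK2, wE_append]
    · decide +kernel
    · decide +kernel
  have c13 : K1 * K3 = K3 * K1 := by
    apply comm_of_sq k1 k3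
    apply sq_of_word H (Y.mul_mem hK1 hK3) (w := [0] ++ wk3)
    · rw [map_mul, fK1', fK3, wE_append]
    · decide +kernel
    · decide +kernel
  have c23 : K2 * K3 = K3 * K2 := by
    apply comm_of_sq k2 k3
    apply sq_of_word H (Y.mul_mem hK2 hK3) (w := wk2 ++ wk3)
    · rw [map_mul, fK2, fK3, wE_append]
    · decide +kernel
    · decide +kernel
  have j1 : J * K1 = K2 * J := by rw [eK2, inv_mul_cancel_right]
  have j2 : J * K2 = K1 * J := by
    rw [eK2, hJi]
    calc J * (J * K1 * J) = (J * J) * K1 * J := by group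
      _ = K1 * J := by rw [jj, one_mul]
  have j3 : J * K3 = K3 * J := by
    apply comm_of_sq jj k3
    -- conjugate to `K1 K2 K3`
    have h1 : (K1 * K2 * K3) * (K1 * K2 * K3) = 1 := by
      calc (K1 * K2 * K3) * (K1 * K2 * K3) = K1 * K2 * (K3 * K1) * K2 * K3 := by group
        _ = K1 * K2 * K1 * (K3 * K2) * K3 := by rw [← c13]; group
        _ = K1 * (K2 * K1) * K2 * (K3 * K3) := by rw [← c23]; group
        _ = (K1 * K1) * (K2 * K2) * (K3 * K3) := by rw [← c12]; group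
        _ = 1 := by rw [k1, k2, k3, one_mul, one_mul]
    have h2 : f (L * (J * K3) * L⁻¹) = f (K1 * K2 * K3) := by
      have h3 : wE wl * (wE wj * wE wk3) = (wE [0] * wE wk2 * wE wk3) * wE wl := by
        rw [← wE_append, ← wE_append, ← wE_append, ← wE_append, ← wE_append]
        exact (tab_w _).eq (by
          rw [show wT (wl ++ (wj ++ wk3)) = wT ([0] ++ wk2 ++ wk3 ++ wl) by decide +kernel]
          exact tab_w _)
      rw [map_mul, map_mul, map_mul, map_inv, fL, fJ, fK3, map_mul, map_mul, fK1', fK2, fK3, h3,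
        mul_inv_cancel_right]
    have hx : L * (J * K3) * L⁻¹ ∈ Y :=
      Y.mul_mem (Y.mul_mem hL (Y.mul_mem hJ hK3)) (Y.inv_mem hL)
    have hy : K1 * K2 * K3 ∈ Y := Y.mul_mem (Y.mul_mem hK1 hK2) hK3
    have h4 : (L * (J * K3) * L⁻¹) * (L * (J * K3) * L⁻¹) = 1 := by
      rcases eq_or H hx hy h2 with h5 | h5
      · rw [h5]; exact h1
      · rw [h5]; exact sq_mul_z H hy h1
    have h6 : J * K3 * (J * K3) = L⁻¹ * ((L * (J * K3) * L⁻¹) * (L * (J * K3) * L⁻¹)) * L := by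
      group
    rw [h6, h4, mul_one, inv_mul_cancel]
  exact ⟨K1, hK1, K2, hK2, K3, hK3, J, hJ, fK1', fK2, fK3, fJ, k1, k2, k3, jj, c12, c13, c23,
    j1, j2, j3⟩

end main

end Cfsg.Agent.J4Type.Split
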