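import Cfsg.Agent.J4Type.Split

/-!
Part (d): existence of a complement of the even cocode (Gaschütz).
-/

set_option autoImplicit false

namespace Cfsg.Agent.J4Type.Split2

open Cfsg Cfsg.Agent.SporadicA.GolayBase
open Cfsg.Agent.J4Type.CocodeMask Cfsg.Agent.J4Type.CocodeExt Cfsg.Agent.J4Type.SplitData
open Cfsg.Agent.J4Type.Split
open Cfsg.Agent.SporadicA.GolayPerm (papp)

section gens

variable {N : Type*} [Group N]

/-- normal forms -/
def nf (K1 K2 K3 J : N) (k : ℕ) : N :=
  K1 ^ (k % 2) * K2 ^ (k / 2 % 2) * K3 ^ (k / 4 % 2) * J ^ (k / 8 % 2)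

theorem exists_nf {K1 K2 K3 J : N} (k1 : K1 * K1 = 1) (k2 : K2 * K2 = 1) (k3 : K3 * K3 = 1)
    (jj : J * J = 1) (c12 : K1 * K2 = K2 * K1) (c13 : K1 * K3 = K3 * K1)
    (c23 : K2 * K3 = K3 * K2) (j1 : J * K1 = K2 * J) (j2 : J * K2 = K1 * J)
    (j3 : J * K3 = K3 * J) {x : N} (hx : x ∈ Subgroup.closure ({K1, K2, K3, J} : Set N)) :
    ∃ k, k < 16 ∧ x = nf K1 K2 K3 J k := by
  have key : ∀ a b c d : ℕ, ∃ k, k < 16 ∧ K1 ^ a * K2 ^ b * K3 ^ c * J ^ d = nf K1 K2 K3 J k := by
    intro a b c d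
    refine ⟨a % 2 + 2 * (b % 2) + 4 * (c % 2) + 8 * (d % 2), by omega, ?_⟩
    have hp : ∀ {y : N}, y * y = 1 → ∀ n, y ^ n = y ^ (n % 2) := by
      intro y hy n
      conv_lhs => rw [← Nat.div_add_mod n 2]
      rw [pow_add, pow_mul, pow_two, hy, one_pow, one_mul]
    unfold nf
    rw [show (a % 2 + 2 * (b % 2) + 4 * (c % 2) + 8 * (d % 2)) % 2 = a % 2 by omega,
      show (a % 2 + 2 * (b % 2) + 4 * (c % 2) + 8 * (d % 2)) / 2 % 2 = b % 2 by omega,
      show (a % 2 + 2 * (b % 2) + 4 * (c % 2) + 8 * (d % 2)) / 4 % 2 = c % 2 by omega,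
      show (a % 2 + 2 * (b % 2) + 4 * (c % 2) + 8 * (d % 2)) / 8 % 2 = d % 2 by omega,
      ← hp k1, ← hp k2, ← hp k3, ← hp jj]
  have hcomm : ∀ {y w : N}, y * w = w * y → ∀ n, y * w ^ n = w ^ n * y := by
    intro y w h n
    exact (Commute.pow_right (show Commute y w from h) n)
  have hmul : ∀ g ∈ ({K1, K2, K3, J} : Set N), ∀ a b c d : ℕ, ∃ a' b' c' d' : ℕ,
      g * (K1 ^ a * K2 ^ b * K3 ^ c * J ^ d) = K1 ^ a' * K2 ^ b' * K3 ^ c' * J ^ d' := by
    intro g hg a b c d
    rcases hg with hg | hg | hg | hg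
    · exact ⟨a + 1, b, c, d, by rw [hg, pow_succ']; group⟩
    · refine ⟨a, b + 1, c, d, ?_⟩
      rw [hg]
      rw [pow_succ' K2 b]
      calc K2 * (K1 ^ a * K2 ^ b * K3 ^ c * J ^ d) = (K2 * K1 ^ a) * K2 ^ b * K3 ^ c * J ^ d := by
            group
        _ = _ := by rw [hcomm c12.symm]; group
    · refine ⟨a, b, c + 1, d, ?_⟩
      rw [hg]
      rw [pow_succ' K3 c]
      calc K3 * (K1 ^ a * K2 ^ b * K3 ^ c * J ^ d) = (K3 * K1 ^ a) * K2 ^ b * K3 ^ c * J ^ d := by
            group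
        _ = K1 ^ a * (K3 * K2 ^ b) * K3 ^ c * J ^ d := by rw [hcomm c13.symm]; group
        _ = _ := by rw [hcomm c23.symm]; group
    · refine ⟨b, a, c, d + 1, ?_⟩
      rw [Set.mem_singleton_iff.1 hg]
      have h1 : ∀ n, J * K1 ^ n = K2 ^ n * J := by
        intro n
        induction n with
        | zero => rw [pow_zero, pow_zero, one_mul, mul_one]
        | succ n ih => rw [pow_succ, ← mul_assoc, ih, mul_assoc, j1, ← mul_assoc, ← pow_succ]
      have h2 : ∀ n, J * K2 ^ n = K1 ^ n * J := by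
        intro n
        induction n with
        | zero => rw [pow_zero, pow_zero, one_mul, mul_one]
        | succ n ih => rw [pow_succ, ← mul_assoc, ih, mul_assoc, j2, ← mul_assoc, ← pow_succ]
      have h3 : K2 ^ a * K1 ^ b = K1 ^ b * K2 ^ a :=
        (Commute.pow_pow (show Commute K2 K1 from c12.symm) a b)
      rw [pow_succ' J d]
      calc J * (K1 ^ a * K2 ^ b * K3 ^ c * J ^ d) = (J * K1 ^ a) * K2 ^ b * K3 ^ c * J ^ d := by
            group
        _ = K2 ^ a * (J * K2 ^ b) * K3 ^ c * J ^ d := by rw [h1]; group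
        _ = (K2 ^ a * K1 ^ b) * (J * K3 ^ c) * J ^ d := by rw [h2]; group
        _ = _ := by rw [hcomm j3, h3]; group
  have hinv : ∀ g ∈ ({K1, K2, K3, J} : Set N), g⁻¹ = g := by
    intro g hg
    rcases hg with hg | hg | hg | hg
    · rw [hg]; exact inv_eq_of_mul_eq_one_right k1
    · rw [hg]; exact inv_eq_of_mul_eq_one_right k2
    · rw [hg]; exact inv_eq_of_mul_eq_one_right k3
    · rw [Set.mem_singleton_iff.1 hg]; exact inv_eq_of_mul_eq_one_right jj
  have hform : ∃ a b c d : ℕ, x = K1 ^ a * K2 ^ b * K3 ^ c * J ^ d := by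
    induction hx using Subgroup.closure_induction_left with
    | one => exact ⟨0, 0, 0, 0, by simp⟩
    | mul_left g hg y _ ih =>
      obtain ⟨a, b, c, d, rfl⟩ := ih
      exact hmul g hg a b c d
    | inv_mul_cancel g hg y _ ih =>
      obtain ⟨a, b, c, d, rfl⟩ := ih
      rw [hinv g hg]
      exact hmul g hg a b c d
  obtain ⟨a, b, c, d, rfl⟩ := hform
  exact key a b c d

end gens

/-- words of the normal forms -/
def nfw (k : ℕ) : List ℕ :=
  (if k % 2 = 1 then [0] else []) ++ (if k / 2 % 2 = 1 then wk2 else []) ++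
    (if k / 4 % 2 = 1 then wk3 else []) ++ (if k / 8 % 2 = 1 then wj else [])

/-- the action on three columns -/
def code (T : ℕ) : ℕ := col (papp T 23) + 8 * col (papp T 4) + 64 * col (papp T 7)

theorem code_nodup : ((List.range 16).map fun k => code (wT (nfw k))).Nodup := by decide +kernel

theorem code_injOn {k l : ℕ} (hk : k < 16) (hl : l < 16) (h : code (wT (nfw k)) = code (wT (nfw l))) :
    k = l := by
  have h1 := List.inj_on_of_nodup_map code_nodup (List.mem_range.2 hk) (List.mem_range.2 hl) h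
  exact h1

theorem col_id : code (wT (nfw 0)) = col 23 + 8 * col 4 + 64 * col 7 := by decide +kernel

section main

variable {N : Type*} [Group N] {f : N →* M24} {c : ℕ → N} {Y R : Subgroup N} {ρ : N}

theorem f_nf {K1 K2 K3 J : N} (fK1 : f K1 = wE [0]) (fK2 : f K2 = wE wk2) (fK3 : f K3 = wE wk3)
    (fJ : f J = wE wj) (k : ℕ) : f (nf K1 K2 K3 J k) = wE (nfw k) := by
  have h : ∀ (x : N) (w : List ℕ), f x = wE w → ∀ b, f (x ^ (b % 2)) =
      wE (if b % 2 = 1 then w else []) := by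
    intro x w hx b
    rcases Nat.mod_two_eq_zero_or_one b with h0 | h0
    · rw [h0, pow_zero, map_one]; rfl
    · rw [h0, pow_one, hx]; rfl
  unfold nf nfw
  rw [map_mul, map_mul, map_mul, h _ _ fK1, h _ _ fK2, h _ _ fK3, h _ _ fJ, wE_append, wE_append,
    wE_append]

theorem code_of_tab {g : M24} {T : ℕ} (hg : IsTab g T)
    (hcol : ∀ p : GolayPt, col (idx ((g : Equiv.Perm GolayPt) p)) = col (idx p)) :
    code T = col 23 + 8 * col 4 + 64 * col 7 := by
  have h : ∀ i, i < 24 → col (papp T i) = col i := by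
    intro i hi
    have h1 := hcol (pt i)
    rw [hg, idx_pt hi] at h1
    exact h1
  unfold code
  rw [h 23 (by norm_num), h 4 (by norm_num), h 7 (by norm_num)]

variable (H : Input f c Y R ρ)

include H

/-- A complement of the cocode in the preimage of a Sylow 2-subgroup. -/
theorem exists_sylow : ∃ A : Subgroup N, (∀ x ∈ A, f x = 1 → x = 1) ∧ Nat.card A = 1024 := by
  classical
  obtain ⟨K1, hK1, K2, hK2, K3, hK3, J, hJ, fK1, fK2, fK3, fJ, k1, k2, k3, jj, c12, c13, c23,
    j1, j2, j3⟩ := exists_gens H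
  set D := Subgroup.closure ({K1, K2, K3, J} : Set N) with hD
  have hDY : D ≤ Y := by
    rw [hD, Subgroup.closure_le]
    rintro x (rfl | rfl | rfl | rfl)
    · exact hK1
    · exact hK2
    · exact hK3
    · exact hJ
  have hnf : ∀ k, nf K1 K2 K3 J k ∈ D := by
    intro k
    have m1 : K1 ∈ D := Subgroup.subset_closure (by simp)
    have m2 : K2 ∈ D := Subgroup.subset_closure (by simp)
    have m3 : K3 ∈ D := Subgroup.subset_closure (by simp)
    have m4 : J ∈ D := Subgroup.subset_closure (by simp)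
    exact D.mul_mem (D.mul_mem (D.mul_mem (D.pow_mem m1 _) (D.pow_mem m2 _)) (D.pow_mem m3 _))
      (D.pow_mem m4 _)
  have hDcol : ∀ x ∈ D, (∀ p : GolayPt, col (idx ((f x : Equiv.Perm GolayPt) p)) = col (idx p)) →
      x = 1 := by
    intro x hx hc
    obtain ⟨k, hk, rfl⟩ := exists_nf k1 k2 k3 jj c12 c13 c23 j1 j2 j3 hx
    rw [f_nf fK1 fK2 fK3 fJ] at hc
    have h1 := code_of_tab (tab_w (nfw k)) hc
    have h2 : k = 0 := code_injOn hk (by norm_num) (by rw [h1, col_id])
    rw [h2]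
    simp [nf]
  have hDcard : Nat.card D = 16 := by
    have e : Nat.card D = Nat.card (Fin 16) := by
      symm
      apply Nat.card_eq_of_bijective (fun k : Fin 16 => (⟨nf K1 K2 K3 J k, hnf k⟩ : D))
      constructor
      · intro k l h
        have h1 : f (nf K1 K2 K3 J k) = f (nf K1 K2 K3 J l) := congrArg f (congrArg Subtype.val h)
        rw [f_nf fK1 fK2 fK3 fJ, f_nf fK1 fK2 fK3 fJ] at h1
        apply Fin.ext
        apply code_injOn k.2 l.2
        have h2 := tab_w (nfw k)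
        have h3 := tab_w (nfw l)
        rw [h1] at h2
        have h4 : ∀ i, i < 24 → papp (wT (nfw k)) i = papp (wT (nfw l)) i := by
          intro i hi
          have a1 := h2 (pt i)
          have a2 := h3 (pt i)
          rw [idx_pt hi] at a1 a2
          rw [← a1, ← a2]
        unfold code
        rw [h4 23 (by norm_num), h4 4 (by norm_num), h4 7 (by norm_num)]
      · rintro ⟨x, hx⟩
        obtain ⟨k, hk, rfl⟩ := exists_nf k1 k2 k3 jj c12 c13 c23 j1 j2 j3 hx
        exact ⟨⟨k, hk⟩, rfl⟩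
    rw [e, Nat.card_fin]
  let A : Subgroup N :=
    { carrier := {x | ∃ r ∈ R, ∃ d ∈ D, x = r * d}
      one_mem' := ⟨1, R.one_mem, 1, D.one_mem, (mul_one 1).symm⟩
      mul_mem' := by
        rintro _ _ ⟨r, hr, d, hd, rfl⟩ ⟨r', hr', d', hd', rfl⟩
        exact ⟨r * (d * r' * d⁻¹), R.mul_mem hr (H.R_conj d (hDY hd) r' hr'), d * d',
          D.mul_mem hd hd', by group⟩
      inv_mem' := by
        rintro _ ⟨r, hr, d, hd, rfl⟩
        refine ⟨d⁻¹ * r⁻¹ * d⁻¹⁻¹, H.R_conj _ (hDY (D.inv_mem hd)) _ (R.inv_mem hr), d⁻¹,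
          D.inv_mem hd, by group⟩ }
  have hRD : ∀ x ∈ R, x ∈ D → x = 1 := fun x hx hx' => hDcol x hx' (H.R_col x hx)
  refine ⟨A, ?_, ?_⟩
  · rintro _ ⟨r, hr, d, hd, rfl⟩ h
    have h1 : f d = f r⁻¹ := by
      rw [map_mul] at h
      rw [map_inv]
      exact (inv_eq_of_mul_eq_one_right h).symm
    have h2 : d = 1 := by
      apply hDcol d hd
      rw [h1]
      exact H.R_col _ (R.inv_mem hr)
    rw [h2, mul_one] at h ⊢
    exact H.R_ker r hr h
  · have e : Nat.card A = Nat.card (R × D) := by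
      symm
      apply Nat.card_eq_of_bijective
        (fun x : R × D => (⟨(x.1 : N) * (x.2 : N), x.1, x.1.2, x.2, x.2.2, rfl⟩ : A))
      constructor
      · rintro ⟨⟨r, hr⟩, ⟨d, hd⟩⟩ ⟨⟨r', hr'⟩, ⟨d', hd'⟩⟩ h
        have h1 : r * d = r' * d' := congrArg Subtype.val h
        have h2 : r'⁻¹ * r = d' * d⁻¹ := by
          rw [inv_mul_eq_iff_eq_mul, ← mul_assoc, ← h1, mul_inv_cancel_right]
        have h3 : r'⁻¹ * r = 1 := by
          apply hRD _ (R.mul_mem (R.inv_mem hr') hr)
          rw [h2]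
          exact D.mul_mem hd' (D.inv_mem hd)
        have h4 : r' = r := by rwa [inv_mul_eq_one] at h3
        rw [h3] at h2
        have h5 : d' = d := mul_inv_eq_one.1 h2.symm
        subst h4 h5
        rfl
      · rintro ⟨_, r, hr, d, hd, rfl⟩
        exact ⟨⟨⟨r, hr⟩, ⟨d, hd⟩⟩, rfl⟩
    rw [e, Nat.card_prod, H.R_card, hDcard]

/-- The extension splits. -/
theorem exists_section0 [Finite N] : ∃ φ : M24 →* N, ∀ g, f (φ g) = g := by
  classical
  obtain ⟨A, hA, hAcard⟩ := exists_sylow H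
  have hcomm : IsMulCommutative f.ker := by
    constructor
    constructor
    rintro ⟨x, hx⟩ ⟨y, hy⟩
    obtain ⟨a, ha, rfl⟩ := (H.ext.ker x).1 hx
    obtain ⟨b, hb, rfl⟩ := (H.ext.ker y).1 hy
    exact Subtype.ext (H.ext.comm ha hb)
  have hcardA : Nat.card (A.map f) = 1024 := by
    rw [← hAcard]
    symm
    apply Nat.card_eq_of_bijective (fun a : A => (⟨f a, Subgroup.mem_map_of_mem f a.2⟩ : A.map f))
    constructor
    · intro a b h
      have h1 : f a = f b := congrArg Subtype.val h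
      have h2 : (a : N) * (b : N)⁻¹ = 1 := by
        apply hA _ (A.mul_mem a.2 (A.inv_mem b.2))
        rw [map_mul, map_inv, h1, mul_inv_cancel]
      exact Subtype.ext (mul_inv_eq_one.1 h2)
    · rintro ⟨_, a, ha, rfl⟩
      exact ⟨⟨a, ha⟩, rfl⟩
  have hidx : (A.map f).index = 239085 := by
    have h1 := (A.map f).card_mul_index
    rw [hcardA, S0364.result] at h1
    omega
  have hU : (f.ker ⊔ A).index = 239085 := by
    rw [sup_comm, ← Subgroup.comap_map_eq, Subgroup.index_comap_of_surjective _ H.ext.surj, hidx]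
  have hsq : ∀ k : f.ker, k * k = 1 := by
    rintro ⟨x, hx⟩
    obtain ⟨a, ha, rfl⟩ := (H.ext.ker x).1 hx
    exact Subtype.ext (H.ext.sq ha)
  have hb : Function.Bijective fun k : f.ker => k ^ (f.ker ⊔ A).index := by
    have : (fun k : f.ker => k ^ (f.ker ⊔ A).index) = id := by
      funext k
      rw [hU, show 239085 = 2 * 119542 + 1 by norm_num, pow_add, pow_mul, pow_two, hsq, one_pow,
        pow_one, one_mul]
      rfl
    rw [this]
    exact Function.bijective_id
  obtain ⟨K, hK⟩ := Cfsg.Agent.Solvable.Gaschutz.exists_complement f.ker (f.ker ⊔ A) hb A (by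
    rw [eq_bot_iff]
    rintro x ⟨hx, hx'⟩
    exact hA x hx hx') rfl
  have hKinj : ∀ x ∈ K, f x = 1 → x = 1 := by
    intro x hx h
    have := hK.disjoint.le_bot (show x ∈ f.ker ⊓ K from ⟨h, hx⟩)
    exact this
  let e : K →* M24 := f.comp K.subtype
  have he : Function.Bijective e := by
    constructor
    · rw [injective_iff_map_eq_one]
      rintro ⟨x, hx⟩ h
      exact Subtype.ext (hKinj x hx h)
    · intro g
      obtain ⟨n, rfl⟩ := H.ext.surj g
      obtain ⟨⟨k, x⟩, hkx⟩ := hK.surjective n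
      refine ⟨x, ?_⟩
      have h1 : (k : N) * (x : N) = n := hkx
      rw [← h1, map_mul, show f (k : N) = 1 from k.2, one_mul]
      rfl
  refine ⟨K.subtype.comp (MulEquiv.ofBijective e he).symm.toMonoidHom, fun g => ?_⟩
  exact (MulEquiv.ofBijective e he).apply_symm_apply g

end main

end Cfsg.Agent.J4Type.Split2
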