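import Mathlib

/-!
# R07 (J₄ type), part (e): the abstract argument for the involution `τ` (helper461)

`φ : K →* G` (`K` will be `M₂₄`), `t z : G` involutions.  `t` commutes with `φ k` for `k` in the
intersection `S` of the stabiliser `B` of `z` with a trio stabiliser; `h` is an involution of the
trio stabiliser.  Conclusion: `t` commutes with `φ h` (helper378's argument on bb R07 #1642).
-/

set_option autoImplicit false

namespace Cfsg.Agent.J4Type.TauAbs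

variable {K G : Type*} [Group K] [Group G]

/-- First step: `t ^ h = t w` with `w ∈ ⟨z0, z1, z2⟩` forces `w = 1` or `w = z0 z1`. -/
theorem step1 (φ : K →* G) {t w z0 z1 z2 u : G} {h s s' : K}
    (hh : h * h = 1) (hs : s * h = h * s')
    (hts : φ s * t = t * φ s) (hts' : φ s' * t = t * φ s')
    (hw : φ h * t * (φ h)⁻¹ = t * w)
    (hcase : w = 1 ∨ w = z0 ∨ w = z1 ∨ w = z0 * z1 ∨ w = z2 ∨ w = z0 * z2 ∨ w = z1 * z2 ∨
      w = z0 * z1 * z2)
    (h0 : φ h * z0 * (φ h)⁻¹ = z1) (h1 : φ h * z1 * (φ h)⁻¹ = z0)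
    (hz01 : z0 * z1 ≠ 1) (hz01c : z0 * z1 = z1 * z0)
    (hs0 : φ s * z0 * (φ s)⁻¹ = z0) (hs1 : φ s * z1 * (φ s)⁻¹ = z1)
    (hs2 : φ s * z2 * (φ s)⁻¹ = z2 * u) (hu : u ≠ 1) :
    w = 1 ∨ w = z0 * z1 := by
  -- `φ s` centralises `t * w`, hence `w`
  have e1 : φ s * (t * w) * (φ s)⁻¹ = t * w := by
    rw [← hw]
    have : φ s * (φ h * t * (φ h)⁻¹) * (φ s)⁻¹ = φ (s * h) * t * (φ (s * h))⁻¹ := by
      rw [map_mul]; group
    rw [this, hs, map_mul]
    have h3 : φ h * φ s' * t * (φ h * φ s')⁻¹ = φ h * (φ s' * t * (φ s')⁻¹) * (φ h)⁻¹ := by group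
    rw [h3, hts']
    group
  have e2 : φ s * w * (φ s)⁻¹ = w := by
    have h3 : φ s * (t * w) * (φ s)⁻¹ = (φ s * t * (φ s)⁻¹) * (φ s * w * (φ s)⁻¹) := by group
    rw [h3, hts, mul_assoc t, mul_inv_cancel, mul_one] at e1
    exact mul_left_cancel e1
  have conj_mul : ∀ a b : G, φ s * (a * b) * (φ s)⁻¹ = (φ s * a * (φ s)⁻¹) * (φ s * b * (φ s)⁻¹) :=
    fun a b => by group
  have conjh_mul : ∀ a b : G, φ h * (a * b) * (φ h)⁻¹ = (φ h * a * (φ h)⁻¹) * (φ h * b * (φ h)⁻¹) :=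
    fun a b => by group
  -- `w * w ^ h = 1`
  have e3 : w * (φ h * w * (φ h)⁻¹) = 1 := by
    have hphi : φ h * φ h = 1 := by rw [← map_mul, hh, map_one]
    have h4 : φ h * (φ h * t * (φ h)⁻¹) * (φ h)⁻¹ = t := by
      have : φ h * (φ h * t * (φ h)⁻¹) * (φ h)⁻¹ = (φ h * φ h) * t * (φ h * φ h)⁻¹ := by group
      rw [this, hphi]; group
    rw [hw, conjh_mul, hw, mul_assoc] at h4
    exact mul_left_cancel (h4.trans (mul_one t).symm)
  rcases hcase with h' | h' | h' | h' | h' | h' | h' | h'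
  · exact Or.inl h'
  · exfalso
    rw [h', h0] at e3
    exact hz01 e3
  · exfalso
    rw [h', h1, ← hz01c] at e3
    exact hz01 e3
  · exact Or.inr h'
  · exfalso
    rw [h', hs2] at e2
    exact hu (mul_left_cancel (e2.trans (mul_one _).symm))
  · exfalso
    rw [h', conj_mul, hs0, hs2, ← mul_assoc] at e2
    exact hu (mul_left_cancel (e2.trans (mul_one _).symm))
  · exfalso
    rw [h', conj_mul, hs1, hs2, ← mul_assoc] at e2
    exact hu (mul_left_cancel (e2.trans (mul_one _).symm))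
  · exfalso
    rw [h', conj_mul, conj_mul, hs0, hs1, hs2, ← mul_assoc] at e2
    exact hu (mul_left_cancel (e2.trans (mul_one _).symm))

/-- In the second case `f = t z0` is centralised by `φ h`. -/
theorem step2 (φ : K →* G) {t w z0 z1 : G} {h : K}
    (hw : φ h * t * (φ h)⁻¹ = t * w) (hw2 : w = z0 * z1)
    (h0 : φ h * z0 * (φ h)⁻¹ = z1) (hz1 : z1 * z1 = 1) :
    φ h * (t * z0) * (φ h)⁻¹ = t * z0 := by
  have : φ h * (t * z0) * (φ h)⁻¹ = (φ h * t * (φ h)⁻¹) * (φ h * z0 * (φ h)⁻¹) := by group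
  rw [this, hw, h0, hw2]
  rw [mul_assoc, mul_assoc, hz1, mul_one]

/-- Third step: if `f` is centralised by `φ k`, `k ∈ A`, and commutes with `f ^ n`, `n ∈ B`, and
`m x` is in `A B A` for `x = a, b, c`, and `f^a f^b f^c = z`, then `f` commutes with `z ^ m`. -/
theorem step3 (φ : K →* G) {f z : G} (A : Subgroup K) (B : Set K)
    (hA : ∀ k ∈ A, φ k * f * (φ k)⁻¹ = f)
    (hB : ∀ n ∈ B, f * (φ n * f * (φ n)⁻¹) = (φ n * f * (φ n)⁻¹) * f)
    {a b c m : K}
    (hprod : (φ a * f * (φ a)⁻¹) * (φ b * f * (φ b)⁻¹) * (φ c * f * (φ c)⁻¹) = z)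
    (hx : ∀ x ∈ ({a, b, c} : Set K), ∃ k ∈ A, ∃ n ∈ B, ∃ p ∈ A, m * x = k * n * p) :
    f * (φ m * z * (φ m)⁻¹) = (φ m * z * (φ m)⁻¹) * f := by
  have key : ∀ x ∈ ({a, b, c} : Set K),
      f * (φ (m * x) * f * (φ (m * x))⁻¹) = (φ (m * x) * f * (φ (m * x))⁻¹) * f := by
    intro x hx'
    obtain ⟨k, hk, n, hn, p, hp, e⟩ := hx x hx'
    have e1 : φ (m * x) * f * (φ (m * x))⁻¹ = φ k * (φ n * f * (φ n)⁻¹) * (φ k)⁻¹ := by
      rw [e, map_mul, map_mul]
      have : φ k * φ n * φ p * f * (φ k * φ n * φ p)⁻¹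
          = φ k * φ n * (φ p * f * (φ p)⁻¹) * (φ n)⁻¹ * (φ k)⁻¹ := by group
      rw [this, hA p hp]; group
    rw [e1]
    have hkf := hA k hk
    have e2 := hB n hn
    have e3 : φ k * (f * (φ n * f * (φ n)⁻¹)) * (φ k)⁻¹
        = φ k * ((φ n * f * (φ n)⁻¹) * f) * (φ k)⁻¹ := by rw [e2]
    have e4 : φ k * (f * (φ n * f * (φ n)⁻¹)) * (φ k)⁻¹
        = (φ k * f * (φ k)⁻¹) * (φ k * (φ n * f * (φ n)⁻¹) * (φ k)⁻¹) := by group
    have e5 : φ k * ((φ n * f * (φ n)⁻¹) * f) * (φ k)⁻¹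
        = (φ k * (φ n * f * (φ n)⁻¹) * (φ k)⁻¹) * (φ k * f * (φ k)⁻¹) := by group
    rw [e4, e5, hkf] at e3
    exact e3
  have ha := key a (by simp)
  have hb := key b (by simp)
  have hc := key c (by simp)
  have e : φ m * z * (φ m)⁻¹ = (φ (m * a) * f * (φ (m * a))⁻¹) * (φ (m * b) * f * (φ (m * b))⁻¹)
      * (φ (m * c) * f * (φ (m * c))⁻¹) := by
    rw [← hprod, map_mul, map_mul, map_mul]; group
  rw [e]
  have hcomm : Commute f ((φ (m * a) * f * (φ (m * a))⁻¹) * (φ (m * b) * f * (φ (m * b))⁻¹)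
      * (φ (m * c) * f * (φ (m * c))⁻¹)) :=
    (Commute.mul_right ha hb).mul_right hc
  exact hcomm.eq

/-- the set of elements of `K` centralising `f` through `φ` -/
def cent (φ : K →* G) (f : G) : Subgroup K := (Subgroup.centralizer ({f} : Set G)).comap φ

theorem mem_cent (φ : K →* G) (f : G) (k : K) : k ∈ cent φ f ↔ φ k * f * (φ k)⁻¹ = f := by
  rw [cent, Subgroup.mem_comap, Subgroup.mem_centralizer_singleton_iff, mul_inv_eq_iff_eq_mul]

/-- The main abstract statement.  `B`: stabiliser of `z0` (as a set of elements of `K`), `S`: its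
intersection with the trio stabiliser. -/
theorem main (φ : K →* G) {t w z0 z1 z2 u d : G} {h s s' : K} (B S : Set K)
    (htt : t * t = 1) (hz00 : z0 * z0 = 1) (htz : t * z0 = z0 * t)
    (hBz : ∀ n ∈ B, φ n * z0 * (φ n)⁻¹ = z0)
    (hBt : ∀ n ∈ B, t * (φ n * t * (φ n)⁻¹) = (φ n * t * (φ n)⁻¹) * t)
    (hSB : S ⊆ B) (hSt : ∀ k ∈ S, φ k * t * (φ k)⁻¹ = t)
    (hh : h * h = 1) (hs : s * h = h * s') (hsS : s ∈ S) (hsS' : s' ∈ S)
    (hw : φ h * t * (φ h)⁻¹ = t * w)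
    (hcase : w = 1 ∨ w = z0 ∨ w = z1 ∨ w = z0 * z1 ∨ w = z2 ∨ w = z0 * z2 ∨ w = z1 * z2 ∨
      w = z0 * z1 * z2)
    (h0 : φ h * z0 * (φ h)⁻¹ = z1) (h1 : φ h * z1 * (φ h)⁻¹ = z0)
    (hz01 : z0 * z1 ≠ 1) (hz01c : z0 * z1 = z1 * z0)
    (hs1 : φ s * z1 * (φ s)⁻¹ = z1)
    (hs2 : φ s * z2 * (φ s)⁻¹ = z2 * u) (hu : u ≠ 1)
    -- data for the exclusion of the second case
    {a b c m n : K} (ha : a ∈ B) (hb : b ∈ B) (hc : c ∈ B)
    (habc : (φ a * t * (φ a)⁻¹) * (φ b * t * (φ b)⁻¹) * (φ c * t * (φ c)⁻¹) = 1)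
    (hm : ∀ x ∈ ({a, b, c} : Set K), ∃ k ∈ Subgroup.closure (S ∪ {h}), ∃ n' ∈ B,
      ∃ p ∈ Subgroup.closure (S ∪ {h}), m * x = k * n' * p)
    (hn : ∀ x ∈ ({a, b, c} : Set K), ∃ k ∈ Subgroup.closure (S ∪ {h}), ∃ n' ∈ B,
      ∃ p ∈ Subgroup.closure (S ∪ {h}), n * x = k * n' * p)
    (hmn : (φ m * z0 * (φ m)⁻¹) * (φ n * z0 * (φ n)⁻¹) = d)
    (hd : d * z0 = z0 * d) (htd : t * d ≠ d * t) :
    ∀ k ∈ Subgroup.closure (S ∪ {h}), φ k * t * (φ k)⁻¹ = t := by
  have hz11 : z1 * z1 = 1 := by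
    rw [← h0]
    have : φ h * z0 * (φ h)⁻¹ * (φ h * z0 * (φ h)⁻¹) = φ h * (z0 * z0) * (φ h)⁻¹ := by group
    rw [this, hz00]; group
  have hts : φ s * t = t * φ s := by
    have := hSt s hsS
    rwa [mul_inv_eq_iff_eq_mul] at this
  have hts' : φ s' * t = t * φ s' := by
    have := hSt s' hsS'
    rwa [mul_inv_eq_iff_eq_mul] at this
  rcases step1 φ hh hs hts hts' hw hcase h0 h1 hz01 hz01c (hBz s (hSB hsS)) hs1 hs2 hu with h' | h'
  · -- good case
    rw [h', mul_one] at hw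
    intro k hk
    rw [← mem_cent]
    have : Subgroup.closure (S ∪ {h}) ≤ cent φ t := by
      rw [Subgroup.closure_le]
      rintro x (hx | hx)
      · exact (mem_cent φ t x).2 (hSt x hx)
      · rw [Set.mem_singleton_iff.1 hx]
        exact (mem_cent φ t h).2 hw
    exact this hk
  · -- bad case
    exfalso
    obtain ⟨f, hfdef⟩ : ∃ f, f = t * z0 := ⟨_, rfl⟩
    have hf : φ h * f * (φ h)⁻¹ = f := by
      rw [hfdef]; exact step2 φ hw h' h0 hz11
    have hfn : ∀ n ∈ B, φ n * f * (φ n)⁻¹ = (φ n * t * (φ n)⁻¹) * z0 := by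
      intro n hn
      have : φ n * f * (φ n)⁻¹ = (φ n * t * (φ n)⁻¹) * (φ n * z0 * (φ n)⁻¹) := by
        rw [hfdef]; group
      rw [this, hBz n hn]
    have htz' : Commute t z0 := htz
    have hconj : ∀ n ∈ B, Commute (φ n * t * (φ n)⁻¹) z0 := by
      intro n hn
      have e1 : φ n * (t * z0) * (φ n)⁻¹ = (φ n * t * (φ n)⁻¹) * z0 := by
        rw [← hfdef]; exact hfn n hn
      have e2 : φ n * (z0 * t) * (φ n)⁻¹ = z0 * (φ n * t * (φ n)⁻¹) := by
        have : φ n * (z0 * t) * (φ n)⁻¹ = (φ n * z0 * (φ n)⁻¹) * (φ n * t * (φ n)⁻¹) := by group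
        rw [this, hBz n hn]
      rw [htz, e2] at e1
      exact e1.symm
    have hA : ∀ k ∈ Subgroup.closure (S ∪ {h}), φ k * f * (φ k)⁻¹ = f := by
      intro k hk
      rw [← mem_cent]
      have : Subgroup.closure (S ∪ {h}) ≤ cent φ f := by
        rw [Subgroup.closure_le]
        rintro x (hx | hx)
        · refine (mem_cent φ f x).2 ?_
          rw [hfn x (hSB hx), hSt x hx, hfdef]
        · rw [Set.mem_singleton_iff.1 hx]
          exact (mem_cent φ f h).2 hf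
      exact this hk
    have hB : ∀ n ∈ B, f * (φ n * f * (φ n)⁻¹) = (φ n * f * (φ n)⁻¹) * f := by
      intro n hn
      rw [hfn n hn, hfdef]
      have c1 : Commute t (φ n * t * (φ n)⁻¹) := hBt n hn
      have c2 : Commute t z0 := htz'
      have c3 : Commute z0 (φ n * t * (φ n)⁻¹) := (hconj n hn).symm
      have c4 : Commute (t * z0) ((φ n * t * (φ n)⁻¹) * z0) :=
        Commute.mul_left (c1.mul_right c2) (c3.mul_right (Commute.refl z0))
      exact c4.eq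
    have hprod : (φ a * f * (φ a)⁻¹) * (φ b * f * (φ b)⁻¹) * (φ c * f * (φ c)⁻¹) = z0 := by
      rw [hfn a ha, hfn b hb, hfn c hc]
      have cb := (hconj b hb).eq
      have cc := (hconj c hc).eq
      generalize φ a * t * (φ a)⁻¹ = A' at *
      generalize φ b * t * (φ b)⁻¹ = B' at *
      generalize φ c * t * (φ c)⁻¹ = C' at *
      calc A' * z0 * (B' * z0) * (C' * z0) = A' * (z0 * B') * (z0 * C') * z0 := by group
        _ = A' * (B' * z0) * (C' * z0) * z0 := by rw [cb, cc]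
        _ = A' * B' * (z0 * C') * (z0 * z0) := by group
        _ = A' * B' * (C' * z0) * (z0 * z0) := by rw [cc]
        _ = A' * B' * C' * z0 := by rw [hz00]; group
        _ = z0 := by rw [habc, one_mul]
    have k1 := step3 φ (Subgroup.closure (S ∪ {h})) B hA hB hprod hm
    have k2 := step3 φ (Subgroup.closure (S ∪ {h})) B hA hB hprod hn
    have k3 : Commute f d := by
      rw [← hmn]; exact Commute.mul_right k1 k2
    have k4 : Commute t d := by
      have e1 : t = f * z0 := by rw [hfdef, mul_assoc, hz00, mul_one]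
      rw [e1]
      exact Commute.mul_left k3 (Commute.symm hd)
    exact htd k4.eq

end Cfsg.Agent.J4Type.TauAbs
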