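import Mathlib

/-!
# R07 (J₄ type), part (e): an abstract commutation lemma (helper461)

`D` is elementary abelian of order 8, `ρ` of order 3 acts on `D` with fixed points `1, z`, and `t`
is an involution normalising `D` and commuting with `ρ` and `z`.  Then `t` centralises `D`.
-/

set_option autoImplicit false

namespace Cfsg.Agent.J4Type.TauFpf

variable {G : Type*} [Group G]

theorem comm_of_fpf {D : Subgroup G} (hcard : Nat.card D = 8) {z ρ t : G}
    (hab : ∀ a ∈ D, ∀ b ∈ D, a * b = b * a) (hρ3 : ρ * ρ * ρ = 1)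
    (hρD : ∀ d ∈ D, ρ * d * ρ⁻¹ ∈ D) (hfix : ∀ d ∈ D, ρ * d = d * ρ → d = 1 ∨ d = z)
    (hρz : ρ * z = z * ρ) (hsq : ∀ a ∈ D, a * a = 1) (htt : t * t = 1) (htρ : t * ρ = ρ * t)
    (htD : ∀ d ∈ D, t * d * t⁻¹ ∈ D) (htz : t * z = z * t) (d : G) (hd : d ∈ D) :
    t * d = d * t := by
  have hfin : Finite D := Nat.finite_of_card_ne_zero (by rw [hcard]; norm_num)
  have ht' : t⁻¹ = t := inv_eq_of_mul_eq_one_left htt
  have hdi : ∀ d ∈ D, d⁻¹ = d := fun d hd => inv_eq_of_mul_eq_one_left (hsq d hd)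
  -- the commutator map
  let e : D →* D :=
    { toFun := fun d => ⟨t * d * t⁻¹ * (d : G)⁻¹, D.mul_mem (htD d d.2) (D.inv_mem d.2)⟩
      map_one' := Subtype.ext (by simp)
      map_mul' := by
        intro a b
        apply Subtype.ext
        show t * ((a : G) * b) * t⁻¹ * ((a : G) * b)⁻¹ =
          (t * a * t⁻¹ * (a : G)⁻¹) * (t * b * t⁻¹ * (b : G)⁻¹)
        have h1 := hab _ (D.mul_mem (htD b b.2) (D.inv_mem b.2)) _ (D.inv_mem a.2)
        calc t * ((a : G) * b) * t⁻¹ * ((a : G) * b)⁻¹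
            = (t * a * t⁻¹) * ((t * b * t⁻¹ * (b : G)⁻¹) * (a : G)⁻¹) := by group
          _ = (t * a * t⁻¹) * ((a : G)⁻¹ * (t * b * t⁻¹ * (b : G)⁻¹)) := by rw [h1]
          _ = _ := by group }
  have he : ∀ d : D, (e d : G) = t * d * t⁻¹ * (d : G)⁻¹ := fun _ => rfl
  -- `e ∘ e = 1`
  have hee : ∀ d : D, e (e d) = 1 := by
    intro d
    apply Subtype.ext
    rw [he, Subgroup.coe_one]
    have h1 : t * (e d : G) * t⁻¹ = (e d : G)⁻¹ := by
      rw [he]
      calc t * (t * (d : G) * t⁻¹ * (d : G)⁻¹) * t⁻¹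
          = (t * t) * (d : G) * t⁻¹ * (d : G)⁻¹ * t⁻¹ := by group
        _ = (d : G) * (t * (d : G)⁻¹ * t⁻¹) := by rw [htt, ht']; group
        _ = _ := by group
    rw [h1, hdi _ (e d).2, hsq _ (e d).2]
  have hle : e.range ≤ e.ker := by
    rintro _ ⟨x, rfl⟩
    exact hee x
  have hprod := Subgroup.card_mul_index e.ker
  rw [Subgroup.index_ker, hcard] at hprod
  have hdvd : Nat.card e.range ∣ Nat.card e.ker := Subgroup.card_dvd_of_le hle
  have hsmall : Nat.card e.range = 1 ∨ Nat.card e.range = 2 := by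
    obtain ⟨k, hk⟩ := hdvd
    rw [hk] at hprod
    have h1 : Nat.card e.range ∣ 8 := ⟨k * Nat.card e.range, by rw [← hprod]; ring⟩
    have h2 : Nat.card e.range ∈ Nat.divisors 8 := Nat.mem_divisors.2 ⟨h1, by norm_num⟩
    have h3 : Nat.divisors 8 = {1, 2, 4, 8} := by decide
    rw [h3] at h2
    simp only [Finset.mem_insert, Finset.mem_singleton] at h2
    rcases h2 with h2 | h2 | h2 | h2
    · exact Or.inl h2
    · exact Or.inr h2
    · rw [h2] at hprod; omega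
    · rw [h2] at hprod; omega
  -- conjugation by `ρ` commutes with `e`
  have hρe : ∀ d : D, (e ⟨ρ * d * ρ⁻¹, hρD d d.2⟩ : G) = ρ * (e d : G) * ρ⁻¹ := by
    intro d
    rw [he, he]
    show t * (ρ * (d : G) * ρ⁻¹) * t⁻¹ * (ρ * (d : G) * ρ⁻¹)⁻¹ =
      ρ * (t * (d : G) * t⁻¹ * (d : G)⁻¹) * ρ⁻¹
    calc t * (ρ * (d : G) * ρ⁻¹) * t⁻¹ * (ρ * (d : G) * ρ⁻¹)⁻¹
        = (t * ρ) * d * (t * ρ)⁻¹ * (ρ * (d : G)⁻¹ * ρ⁻¹) := by group
      _ = (ρ * t) * d * (ρ * t)⁻¹ * (ρ * (d : G)⁻¹ * ρ⁻¹) := by rw [htρ]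
      _ = _ := by group
  -- values of `e` are in `⟨z⟩`
  have hval : ∀ d : D, (e d : G) = 1 ∨ (e d : G) = z := by
    intro d
    apply hfix _ (e d).2
    by_cases h1 : e d = 1
    · rw [h1, Subgroup.coe_one, mul_one, one_mul]
    · have h2 : e ⟨ρ * d * ρ⁻¹, hρD d d.2⟩ ≠ 1 := by
        intro h
        apply h1
        apply Subtype.ext
        have h3 := hρe d
        rw [h, Subgroup.coe_one] at h3
        calc (e d : G) = ρ⁻¹ * (ρ * (e d : G) * ρ⁻¹) * ρ := by group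
          _ = 1 := by rw [← h3]; group
      rcases hsmall with h3 | h3
      · exfalso
        have h4 := Subgroup.eq_bot_of_card_eq e.range h3
        have h5 : e d ∈ e.range := ⟨d, rfl⟩
        rw [h4, Subgroup.mem_bot] at h5
        exact h1 h5
      · obtain ⟨y, hy, huniq⟩ := (Nat.card_eq_two_iff' (1 : e.range)).1 h3
        have h4 := huniq ⟨e d, ⟨d, rfl⟩⟩ (fun h => h1 (congrArg Subtype.val h))
        have h5 := huniq ⟨e ⟨ρ * d * ρ⁻¹, hρD d d.2⟩, ⟨_, rfl⟩⟩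
          (fun h => h2 (congrArg Subtype.val h))
        have h6 : (e d : G) = ρ * (e d : G) * ρ⁻¹ := by
          rw [← hρe]
          exact congrArg (fun x : e.range => ((x : D) : G)) (h4.trans h5.symm)
        calc ρ * (e d : G) = (ρ * (e d : G) * ρ⁻¹) * ρ := by group
          _ = (e d : G) * ρ := by rw [← h6]
  -- `e d` is invariant under `ρ`
  have hinv : ∀ d : D, e ⟨ρ * d * ρ⁻¹, hρD d d.2⟩ = e d := by
    intro d
    apply Subtype.ext
    rw [hρe]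
    rcases hval d with h | h
    · rw [h]; group
    · rw [h, hρz]; group
  -- the norm
  set x : D := ⟨d, hd⟩ with hx
  set x1 : D := ⟨ρ * x * ρ⁻¹, hρD x x.2⟩ with hx1
  set x2 : D := ⟨ρ * x1 * ρ⁻¹, hρD x1 x1.2⟩ with hx2
  have h1 : e x1 = e x := hinv x
  have h2 : e x2 = e x := (hinv x1).trans h1
  have hN : ((x * x1 * x2 : D) : G) = 1 ∨ ((x * x1 * x2 : D) : G) = z := by
    apply hfix _ (x * x1 * x2).2
    have h3 : ρ * (x2 : G) * ρ⁻¹ = x := by
      have h4 : ρ⁻¹ * ρ⁻¹ * ρ⁻¹ = 1 := by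
        have := congrArg (·⁻¹) hρ3
        simpa [mul_assoc] using this
      show ρ * (ρ * (ρ * (x : G) * ρ⁻¹) * ρ⁻¹) * ρ⁻¹ = x
      calc ρ * (ρ * (ρ * (x : G) * ρ⁻¹) * ρ⁻¹) * ρ⁻¹
          = (ρ * ρ * ρ) * x * (ρ⁻¹ * ρ⁻¹ * ρ⁻¹) := by group
        _ = x := by rw [hρ3, h4, one_mul, mul_one]
    have h4 : ρ * ((x : G) * x1 * x2) * ρ⁻¹ = (x : G) * x1 * x2 := by
      calc ρ * ((x : G) * x1 * x2) * ρ⁻¹
          = (ρ * (x : G) * ρ⁻¹) * (ρ * (x1 : G) * ρ⁻¹) * (ρ * (x2 : G) * ρ⁻¹) := by group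
        _ = (x1 : G) * x2 * x := by rw [h3]
        _ = (x1 : G) * (x2 * x) := mul_assoc _ _ _
        _ = (x1 : G) * (x * x2) := by rw [hab _ x2.2 _ x.2]
        _ = (x1 * x) * x2 := (mul_assoc _ _ _).symm
        _ = _ := by rw [hab _ x1.2 _ x.2]
    show ρ * ((x : G) * x1 * x2) = ((x : G) * x1 * x2) * ρ
    calc ρ * ((x : G) * x1 * x2) = (ρ * ((x : G) * x1 * x2) * ρ⁻¹) * ρ := by group
      _ = _ := by rw [h4]
  have h5 : e (x * x1 * x2) = 1 := by
    apply Subtype.ext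
    rw [he, Subgroup.coe_one]
    rcases hN with h | h
    · rw [h]; group
    · rw [h, htz]; group
  have h6 : e x = 1 := by
    rw [map_mul, map_mul, h1, h2] at h5
    have h7 : e x * e x = 1 := Subtype.ext (hsq _ (e x).2)
    rwa [h7, one_mul] at h5
  have h7 : t * d * t⁻¹ * d⁻¹ = 1 := congrArg Subtype.val h6
  rw [mul_inv_eq_one, mul_inv_eq_iff_eq_mul] at h7
  exact h7

end Cfsg.Agent.J4Type.TauFpf
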