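import Cfsg.Agent.J4Type.TauM24
import Cfsg.Agent.J4Type.FrameInput

/-!
# R07 (J₄ type), part (e): masks of the elements of `E hex0` (helper461)
-/

set_option autoImplicit false

open scoped Pointwise

namespace Cfsg.Agent.J4Type.TauMask

open Cfsg Cfsg.Agent.SporadicA.GolayBase
open Cfsg.Agent.J4Type.CocodeMask Cfsg.Agent.J4Type.CocodeExt Cfsg.Agent.J4Type.SplitData
open Cfsg.Agent.J4Type.FrameDefs Cfsg.Agent.J4Type.TauM24 Cfsg.Agent.J4Type.HexMax
open Cfsg.Agent.J4Type.DuadStab (card_symmDiff_parity)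

theorem ev_msk {S : Finset GolayPt} (hS : Even S.card) : ev (msk S) = true := by
  unfold msk
  have h2 : (maskOf S ^^^ enc (maskOf S)) >>> 12 < 4096 := by
    rw [Nat.shiftRight_eq_div_pow, Nat.div_lt_iff_lt_mul (by norm_num)]
    exact Nat.xor_lt_two_pow (n := 24) (maskOf_lt _) (enc_lt _)
  rw [ev_iff_card h2, ← xor_enc, fin_xor, Nat.even_iff, card_symmDiff_parity, fin_maskOf]
  have h3 : Even (fin (enc (maskOf S))).card := by
    apply even_card_of_mem
    rw [fin_mem_supports_iff (enc_lt _)]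
    exact isCode_enc _
  rw [Nat.even_iff] at h3 hS
  omega

variable {G : Type*} [Group G]

section Frame

variable (F : Frame G)

open scoped IsMulCommutative in
/-- the element of the cocode with mask `msk S` -/
theorem c_msk {S : Finset GolayPt} (hS : Even S.card) : (c F (msk S) : G) = F.ε S := by
  have h1 := prod_eq_cm (isCocode F) S
  have h2 := prod_e F S
  rw [if_pos hS, h1] at h2
  exact h2

theorem c_mem {a : ℕ} (ha : ev a = true) : (c F a : G) ∈ F.E hex0 :=
  (F.π_ker _).1 ((ext F).map_c ha)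

theorem exists_c {a : G} (ha : a ∈ F.E hex0) : ∃ s, ev s = true ∧ (c F s : G) = a := by
  obtain ⟨s, hs, h⟩ := ((ext F).ker ⟨a, E_le F ha⟩).1 ((F.π_ker _).2 ha)
  exact ⟨s, hs, by rw [← h]⟩

theorem c_xor {a b : ℕ} (ha : ev a = true) (hb : ev b = true) :
    (c F (a ^^^ b) : G) = c F a * c F b := by
  rw [(ext F).xor a b ha hb]
  rfl

theorem c_inj {a b : ℕ} (ha : ev a = true) (hb : ev b = true) (h : (c F a : G) = c F b) : a = b :=
  (ext F).injOn ha hb (Subtype.ext h)

theorem c_zero : (c F 0 : G) = 1 := by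
  rw [(ext F).c_zero]
  rfl

theorem c_sq {a : ℕ} (ha : ev a = true) : (c F a : G) * c F a = 1 := by
  rw [← c_xor F ha ha, Nat.xor_self, c_zero]

theorem conj_c (n : NE F) {a : ℕ} (ha : ev a = true) :
    (n : G) * c F a * (n : G)⁻¹ = c F (act (F.π n) a) := by
  rw [← (ext F).conj n a ha]
  rfl

end Frame

variable (C : Compl G)

theorem φ_c (n : M24) {a : ℕ} (ha : ev a = true) :
    C.φ n * c C.toFrame a * (C.φ n)⁻¹ = c C.toFrame (act n a) := by
  have := conj_c C.toFrame ⟨C.φ n, C.φ_mem n⟩ ha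
  rw [C.π_φ] at this
  exact this

end Cfsg.Agent.J4Type.TauMask
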