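import Cfsg.Agent.J4Type.TauCol
import Cfsg.Agent.J4Type.TauMask
import Cfsg.Agent.J4Type.TauFpf

/-!
# R07 (J₄ type), part (e): the centraliser of `t₀ = fe 0 1` in `E hex0` (helper461)

* `t0_comm` : `t₀` commutes with `φ n` for `n` in the stabiliser of `S0` and `TM`;
* `cent_iff` : an element of `E hex0` with mask `a` commutes with `t₀` iff `a ∈ Wm`.
-/

set_option autoImplicit false

open scoped Pointwise

namespace Cfsg.Agent.J4Type.TauCent

open Cfsg Cfsg.Agent.SporadicA.GolayPerm Cfsg.Agent.J4Type.HexPerms Cfsg.Agent.J4Type.FrameDefs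
open Cfsg.Agent.J4Type.CocodeMask Cfsg.Agent.J4Type.TauM24 Cfsg.Agent.J4Type.TauF
open Cfsg.Agent.J4Type.TauP Cfsg.Agent.J4Type.TauCol Cfsg.Agent.J4Type.TauMask
open Cfsg.Agent.J4Type.SplitData

theorem union_mem_TM : ∀ i j : Fin 6, i ≠ j → (tet i ∪ tet j ∈ TM ↔ partner 0 1 i = j) := by
  decide +kernel

theorem tet_inj : ∀ i j : Fin 6, tet i = tet j → i = j := by decide +kernel

theorem col_inj {n : M24} {c : Fin 6 → Fin 6}
    (hc : ∀ i, (n : Equiv.Perm GolayPt) • tet i = tet (c i)) : Function.Injective c := by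
  intro x y hxy
  apply tet_inj
  have : (n : Equiv.Perm GolayPt) • tet x = (n : Equiv.Perm GolayPt) • tet y := by
    rw [hc, hc, hxy]
  exact MulAction.injective _ this

/-- the column permutation of an element of the stabiliser of `TM` -/
theorem col_KT {n : M24} (hT : n ∈ KT) {c : Fin 6 → Fin 6}
    (hc : ∀ i, (n : Equiv.Perm GolayPt) • tet i = tet (c i)) (y : Fin 6) :
    partner 0 1 (c y) = c (partner 0 1 y) := by
  have h1 : y ≠ partner 0 1 y := partner_ne 0 1 y (by decide)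
  have h2 : tet y ∪ tet (partner 0 1 y) ∈ TM := (union_mem_TM _ _ h1).2 rfl
  have h3 : (n : Equiv.Perm GolayPt) • (tet y ∪ tet (partner 0 1 y)) ∈
      (n : Equiv.Perm GolayPt) • TM := Finset.smul_mem_smul_finset h2
  rw [show (n : Equiv.Perm GolayPt) • TM = TM from hT, Finset.smul_finset_union, hc, hc] at h3
  exact (union_mem_TM _ _ (fun h => h1 (col_inj hc h))).1 h3

variable {G : Type*} [Group G] (C : Compl G)

/-- the involution `t₀` -/
noncomputable def t0 : G := fe C 0 1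

/-- `t₀` as an element of `C_G(z)` -/
noncomputable def f0 : Subgroup.centralizer ({C.z} : Set G) := ⟨t0 C, F'_le C (fe_mem C (by decide))⟩

theorem f0_coe : (f0 C : G) = t0 C := rfl

theorem t0_mem : t0 C ∈ F' C := fe_mem C (by decide)

theorem t0_sq : t0 C * t0 C = 1 := fe_sq C (by decide)

theorem t0_inv : (t0 C)⁻¹ = t0 C := inv_eq_of_mul_eq_one_left (t0_sq C)

theorem t0_z : t0 C * C.z = C.z * t0 C := Subgroup.mem_centralizer_singleton_iff.1 (f0 C).2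

theorem t0_ρ : t0 C * C.ρ = C.ρ * t0 C := ((F'_mem_iff C _).1 (t0_mem C)).2

/-- `t₀` commutes with `φ n` for `n` in the stabiliser of `S0` and `TM` -/
theorem t0_conj {n : M24} (hn : n ∈ Kz ∩ KT) : C.φ n * t0 C * (C.φ n)⁻¹ = t0 C := by
  obtain ⟨c, hc⟩ := exists_col n hn.1
  exact conj_fe C hn.1 (c := c) hc (by decide) (by decide) (fun y => col_KT hn.2 hc y)

theorem t0_comm {n : M24} (hn : n ∈ Kz ∩ KT) : C.φ n * t0 C = t0 C * C.φ n := by
  have := t0_conj C hn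
  rwa [mul_inv_eq_iff_eq_mul] at this

/-! ### the action of `t₀` -/

def bpT : ℕ := 962263927365024076866113962913140928

/-- fixes `hex1` pointwise and exchanges `hq 0 = 4` and `hq 1 = 2` -/
noncomputable def bp : M24 := mk bpT (by decide +kernel)

theorem bp_fix (p : GolayPt) (hp : p ∈ hex1) : (bp : Equiv.Perm GolayPt) p = p :=
  app_of_tab (isTab_mk _ _) (by revert p; decide +kernel)

theorem bp_hq : (bp : Equiv.Perm GolayPt) (hq 0) = hq 1 :=
  app_of_tab (isTab_mk _ _) (by decide +kernel)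

theorem bp_hex0 : (bp : Equiv.Perm GolayPt) • hex0 = hex2 :=
  smul_of_mask _ _ _ _ hex0_eq' rfl (by norm_num) (by decide +kernel)

theorem pp_hp (i : Fin 6) : (pp : Equiv.Perm GolayPt) (hp i) = hq i :=
  app_of_tab (isTab_mk _ _) (by revert i; decide +kernel)

theorem P_f0 : C.P (f0 C) = (bp : Equiv.Perm GolayPt) := by
  have h1 := P_fe C (i := 0) (j := 1) (by decide) (f0 C) rfl
  rw [pp_hp, pp_hp] at h1
  obtain ⟨h2, h3⟩ := (C.E_map hex1 hex1_isHex (C.P (f0 C))).1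
    ⟨_, ((F'_mem_iff C _).1 (t0_mem C)).1, rfl⟩
  exact fix_eq hex1_isHex.1 h2 bp.2 h3 bp_fix (hq_notMem 0) (h1.trans bp_hq.symm)

theorem P_f0_hex0 : C.P (f0 C) • hex0 = hex2 := by rw [P_f0, bp_hex0]

theorem P_f0_hex2 : C.P (f0 C) • hex2 = hex0 := by
  have h : f0 C * f0 C = 1 := Subtype.ext (t0_sq C)
  rw [← P_f0_hex0 C, ← mul_smul, ← map_mul, h, map_one, one_smul]

/-! ### the centraliser of `t₀` in `E hex0` -/

/-- `E hex0 ⊓ E hex2` -/
def D : Subgroup G := C.E hex0 ⊓ C.E hex2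

theorem card_D : Nat.card (D C) = 8 := C.E_inf_eight hex0 hex2 hex0_isHex isHex_hex2 hex2_inter

theorem t0_conj_mem {O : Finset GolayPt} (hO : IsHex O) (a : G) :
    a ∈ C.E O ↔ t0 C * a * (t0 C)⁻¹ ∈ C.E (C.P (f0 C) • O) := C.E_conj O hO (f0 C) a

theorem t0_D (d : G) (hd : d ∈ D C) : t0 C * d * (t0 C)⁻¹ ∈ D C := by
  obtain ⟨h1, h2⟩ := hd
  refine ⟨?_, ?_⟩
  · have := (t0_conj_mem C isHex_hex2 d).1 h2
    rwa [P_f0_hex2] at this
  · have := (t0_conj_mem C hex0_isHex d).1 h1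
    rwa [P_f0_hex0] at this

theorem comm_D (d : G) (hd : d ∈ D C) : t0 C * d = d * t0 C := by
  have hE := C.E_elem hex0 hex0_isHex
  refine TauFpf.comm_of_fpf (card_D C) (z := C.z) (ρ := C.ρ) (fun a ha b hb => hE.2 a ha.1 b hb.1)
    (FrameDefs.ρ_cube C.toCent) ?_ ?_ C.ρ_comm (fun a ha => hE.1 a ha.1) (t0_sq C) (t0_ρ C)
    (t0_D C) (t0_z C) d hd
  · intro d hd
    exact ⟨(ρ_E C.toHex hex0_isHex d).1 hd.1, (ρ_E C.toHex isHex_hex2 d).1 hd.2⟩
  · intro d hd h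
    exact C.ρ_fix d (C.E_inf hex0 hex2 hex0_isHex isHex_hex2 hex2_ne.symm hd) h

theorem cent_D {a : G} (ha : a ∈ C.E hex0) : t0 C * a = a * t0 C ↔ a ∈ D C := by
  constructor
  · intro h
    refine ⟨ha, ?_⟩
    have h1 := (t0_conj_mem C hex0_isHex a).1 ha
    rwa [P_f0_hex0, h, mul_inv_cancel_right] at h1
  · exact comm_D C a

/-- the set of masks of elements commuting with `t₀` -/
def Dm : Set ℕ := {a | ev a = true ∧ (c C.toFrame a : G) ∈ D C}

theorem mem_Dm (a : ℕ) : a ∈ Dm C ↔ ev a = true ∧ (c C.toFrame a : G) ∈ D C := Iff.rfl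

theorem Dm_act {n : M24} (hn : n ∈ Kz ∩ KT) {a : ℕ} (ha : a ∈ Dm C) : act n a ∈ Dm C := by
  obtain ⟨h1, h2⟩ := ha
  refine ⟨ev_act n h1, ?_⟩
  rw [← cent_D C (c_mem C.toFrame (ev_act n h1))]
  have h3 := (cent_D C (c_mem C.toFrame h1)).2 h2
  rw [← φ_c C n h1]
  have h4 := t0_comm C hn
  have c1 : Commute (t0 C) (C.φ n) := h4.symm
  have c2 : Commute (t0 C) (c C.toFrame a : G) := h3
  exact ((c1.mul_right c2).mul_right c1.inv_right).eq

theorem ncard_Dm : (Dm C).ncard = 8 := by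
  rw [← card_D C, ← Nat.card_coe_set_eq]
  refine Nat.card_congr (Equiv.ofBijective (fun a : Dm C => (⟨_, a.2.2⟩ : D C)) ⟨?_, ?_⟩)
  · rintro ⟨a, ha⟩ ⟨b, hb⟩ h
    have h' : (c C.toFrame a : G) = c C.toFrame b := congrArg (fun x : D C => (x : G)) h
    exact Subtype.ext (c_inj C.toFrame ha.1 hb.1 h')
  · rintro ⟨d, hd⟩
    obtain ⟨s, hs, h⟩ := exists_c C.toFrame hd.1
    exact ⟨⟨s, hs, by rw [h]; exact hd⟩, Subtype.ext h⟩

theorem z_mem_D : C.z ∈ D C := ⟨C.z_mem_E _ hex0_isHex, C.z_mem_E _ isHex_hex2⟩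

theorem mem_Dm_iff (a : ℕ) : a ∈ Dm C ↔ a ∈ Wm := by
  refine eq_Wm (Dm C) (fun a ha => ha.1) ?_ ?_ (fun a ha => Dm_act C f1_mem ha)
    (fun a ha => Dm_act C f2_mem ha) (fun a ha => Dm_act C f3_mem ha) (ncard_Dm C) a
  · intro a ha b hb
    refine ⟨ev_xor ha.1 hb.1, ?_⟩
    rw [c_xor C.toFrame ha.1 hb.1]
    exact mul_mem ha.2 hb.2
  · refine ⟨ev_zm, ?_⟩
    rw [FrameInput.c_zm]
    exact z_mem_D C

theorem ev_Wm {a : ℕ} (ha : a ∈ Wm) : ev a = true := by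
  have h : ∀ a ∈ Wm, ev a = true := by decide +kernel
  exact h a ha

theorem c_mem_D {a : ℕ} (ha : a ∈ Wm) : (c C.toFrame a : G) ∈ D C := ((mem_Dm_iff C a).2 ha).2

theorem c_comm {a : ℕ} (ha : a ∈ Wm) : t0 C * c C.toFrame a = c C.toFrame a * t0 C :=
  comm_D C _ (c_mem_D C ha)

theorem cent_iff {a : ℕ} (ha : ev a = true) :
    t0 C * c C.toFrame a = c C.toFrame a * t0 C ↔ a ∈ Wm := by
  rw [cent_D C (c_mem C.toFrame ha), ← mem_Dm_iff C]
  exact ⟨fun h => ⟨ha, h⟩, fun h => h.2⟩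

end Cfsg.Agent.J4Type.TauCent
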