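import Cfsg.Agent.J4Type.Tau
import Cfsg.Agent.J4Type.SplitData
import Cfsg.Agent.J4Type.FinalTrio
import Cfsg.Agent.SporadicA.OctadFix
import Cfsg.Agent.SporadicStructure.SextetAction
import Cfsg.Agent.S1551

/-!
# R07 (J₄ type), part (e): explicit facts about `M24` (statements by helper461)
-/

set_option autoImplicit false

open scoped Pointwise

namespace Cfsg.Agent.J4Type.TauM24

open Cfsg Cfsg.Agent.SporadicA.GolayBase Cfsg.Agent.SporadicA.GolayPerm
open Cfsg.Agent.SporadicA.OctadFix
open Cfsg.Agent.J4Type.CocodeMask Cfsg.Agent.J4Type.SplitData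

/-- the mask (element of the cocode) of a set -/
def msk (S : Finset GolayPt) : ℕ := (maskOf S ^^^ enc (maskOf S)) >>> 12

/-- the masks of `1` and of the seven sextets refining `TM` -/
def Wm : List ℕ := [0, 904, 1105, 2009, 2544, 2680, 3489, 3625]

/-! ### General lemmas on masks -/

theorem maskOf_symmDiff (S T : Finset GolayPt) :
    maskOf (symmDiff S T) = maskOf S ^^^ maskOf T := by
  apply fin_injective (maskOf_lt _) (Nat.xor_lt_two_pow (maskOf_lt _) (maskOf_lt _))
  rw [fin_maskOf, fin_xor, fin_maskOf, fin_maskOf]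

theorem msk_symmDiff (S T : Finset GolayPt) : msk (symmDiff S T) = msk S ^^^ msk T := by
  unfold msk
  rw [maskOf_symmDiff, enc_xor, ← Nat.shiftRight_xor_distrib]
  congr 1
  ac_rfl

theorem msk_eq_zero_iff (S : Finset GolayPt) :
    msk S = 0 ↔ S ∈ supports (golayCode : Set (GolayPt → ZMod 2)) := by
  rw [mem_supports_iff, isCode_iff]
  constructor
  · intro h
    have h1 := CocodeExt.xor_enc (maskOf S)
    unfold msk at h
    rw [h, Nat.zero_shiftLeft, Nat.xor_eq_zero_iff] at h1
    exact h1.symm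
  · intro h
    unfold msk
    rw [h, Nat.xor_self, Nat.zero_shiftRight]

theorem msk_eq_iff (S T : Finset GolayPt) :
    msk S = msk T ↔ symmDiff S T ∈ supports (golayCode : Set (GolayPt → ZMod 2)) := by
  rw [← msk_eq_zero_iff, msk_symmDiff, Nat.xor_eq_zero_iff]

theorem msk_lt (S : Finset GolayPt) : msk S < 4096 := by
  unfold msk
  rw [Nat.shiftRight_eq_div_pow, Nat.div_lt_iff_lt_mul (by norm_num)]
  exact Nat.xor_lt_two_pow (n := 24) (maskOf_lt _) (enc_lt _)

theorem msk_fin {m : ℕ} (hm : m < 2 ^ 24) : msk (fin m) = (m ^^^ enc m) >>> 12 := by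
  unfold msk
  rw [maskOf_fin hm]

theorem msk_fin_shift {s : ℕ} (hs : s < 4096) : msk (fin (s <<< 12)) = s := by
  have h1 : s <<< 12 < 2 ^ 24 := by
    rw [Nat.shiftLeft_eq]
    omega
  have h2 : enc (s <<< 12) = 0 := by
    rw [← enc_mod, show s <<< 12 % 4096 = 0 by rw [Nat.shiftLeft_eq]; omega]
    decide +kernel
  rw [msk_fin h1, h2, Nat.xor_zero]
  rw [Nat.shiftLeft_eq, Nat.shiftRight_eq_div_pow]
  exact Nat.mul_div_cancel _ (by norm_num)

/-- an additive function and `lin` -/
theorem map_lin' (F : ℕ → ℕ) (hF : ∀ a b, F (a ^^^ b) = F a ^^^ F b) (v : ℕ → ℕ) (s : ℕ) :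
    F (lin v s) = lin (fun i => F (v i)) s := by
  have h0 : F 0 = 0 := by
    have := hF 0 0
    rw [Nat.xor_self] at this
    rw [this, Nat.xor_self]
  have hb : ∀ i c, F (i % 2 * c) = i % 2 * F c := by
    intro i c
    have hi : i % 2 < 2 := Nat.mod_lt _ (by norm_num)
    interval_cases i % 2
    · rw [zero_mul, h0, zero_mul]
    · rw [one_mul, one_mul]
  unfold lin
  simp only [hF, hb]

theorem lin_pow_aux : ∀ i, i < 2 ^ 12 → Nat.beq (lin (fun k => 1 <<< k) i) i = true := by
  apply allR_zero_spec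
  decide +kernel

theorem lin_pow {s : ℕ} (hs : s < 4096) : lin (fun k => 1 <<< k) s = s :=
  Nat.eq_of_beq_eq_true (lin_pow_aux s hs)

theorem msk_singleton (p : GolayPt) : msk {p} = st (idx p) := by
  have h1 : ∀ k, k < 24 → ((1 <<< k) ^^^ enc (1 <<< k)) >>> 12 = st k := by decide +kernel
  have h2 : ∀ k, k < 24 → 1 <<< k < 2 ^ 24 := by decide +kernel
  rw [← h1 _ (idx_lt p), ← msk_fin (h2 _ (idx_lt p)), CocodeExt.fin_one_shift (idx_lt p), pt_idx]

/-- the action on masks -/
theorem msk_smul (g : M24) (S : Finset GolayPt) :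
    msk ((g : Equiv.Perm GolayPt) • S) = act g (msk S) := by
  have hF : ∀ a b : ℕ, msk ((g : Equiv.Perm GolayPt) • fin ((a ^^^ b) <<< 12)) =
      msk ((g : Equiv.Perm GolayPt) • fin (a <<< 12)) ^^^
        msk ((g : Equiv.Perm GolayPt) • fin (b <<< 12)) := by
    intro a b
    rw [← msk_symmDiff, ← Finset.smul_finset_symmDiff, ← fin_xor, Nat.shiftLeft_xor_distrib]
  have h1 : msk S = msk (fin (msk S <<< 12)) := (msk_fin_shift (msk_lt S)).symm
  have h2 : msk ((g : Equiv.Perm GolayPt) • S) =
      msk ((g : Equiv.Perm GolayPt) • fin (msk S <<< 12)) := by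
    rw [msk_eq_iff, ← Finset.smul_finset_symmDiff, smul_mem_supports g.2]
    exact (msk_eq_iff _ _).1 h1
  rw [h2]
  have h3 := map_lin' (fun a => msk ((g : Equiv.Perm GolayPt) • fin (a <<< 12))) hF
    (fun k => 1 <<< k) (msk S)
  simp only [lin_pow (msk_lt S)] at h3
  rw [h3]
  unfold act
  apply lin_congr
  intro i hi
  rw [← Nat.shiftLeft_add, show i + 12 = 12 + i by omega, CocodeExt.fin_one_shift (by omega),
    Finset.smul_finset_singleton, msk_singleton]
  rfl

theorem msk_union {S T : Finset GolayPt} (h : Disjoint S T) : msk (S ∪ T) = msk S ^^^ msk T := by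
  rw [← msk_symmDiff, h.symmDiff_eq_sup]
  rfl

theorem act_st (g : M24) (p : GolayPt) :
    act g (st (idx p)) = st (idx ((g : Equiv.Perm GolayPt) p)) := by
  rw [← msk_singleton, ← msk_smul, Finset.smul_finset_singleton, msk_singleton]
  rfl

theorem act_mul (g h : M24) {a : ℕ} (ha : a < 4096) : act (g * h) a = act g (act h a) := by
  have h1 := msk_smul (g * h) (fin (a <<< 12))
  rw [msk_fin_shift ha] at h1
  rw [← h1, Subgroup.coe_mul, mul_smul, msk_smul, msk_smul, msk_fin_shift ha]

theorem act_one {a : ℕ} (ha : a < 4096) : act 1 a = a := by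
  have h1 := msk_smul 1 (fin (a <<< 12))
  rw [msk_fin_shift ha, Subgroup.coe_one, one_smul, msk_fin_shift ha] at h1
  exact h1.symm

theorem act_lt (g : M24) (a : ℕ) : act g a < 4096 := lin_lt (fun i => st_lt _) a

theorem act_inj (g : M24) {a b : ℕ} (ha : a < 4096) (hb : b < 4096) (h : act g a = act g b) :
    a = b := by
  rw [← act_one ha, ← act_one hb, ← inv_mul_cancel g, act_mul _ _ ha, act_mul _ _ hb, h]

/-! ### Sextets and masks -/

open Cfsg.Agent.SporadicStructure in
theorem sextet_eq_iff {Y Y' : Finset (Finset GolayPt)} (hY : Y ∈ sextets) (hY' : Y' ∈ sextets)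
    {X X' : Finset GolayPt} (hX : X ∈ Y) (hX' : X' ∈ Y') : msk X = msk X' ↔ Y = Y' := by
  rw [msk_eq_iff]
  constructor
  · intro h
    rw [SextetAction.eq_sextetOf hY hX, SextetAction.eq_sextetOf hY' hX']
    exact SextetAction.sextetOf_eq (hY.2.1 X hX) (hY'.2.1 X' hX') h
  · rintro rfl
    exact SextetAction.symmDiff_mem hY hX hX'

theorem smul_refines (g : Equiv.Perm GolayPt) {Y T : Finset (Finset GolayPt)} (h : Refines Y T) :
    Refines (g • Y) (g • T) := by
  intro X hX
  obtain ⟨X', hX', rfl⟩ := Finset.mem_smul_finset.1 hX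
  obtain ⟨O, hO, h1⟩ := h X' hX'
  exact ⟨g • O, Finset.smul_mem_smul_finset hO, Finset.smul_finset_subset_smul_finset h1⟩

/-! ### explicit elements of `M24` (left action: the table of `g` is `i ↦ g i`) -/

/-- order 3, `3^8`, columns `i ↦ i + 2`, fixes the seven sextets -/
noncomputable def sg : M24 := mk 173948347835850525019346403463682573 (by decide +kernel)
/-- order 7, stabilises `TM`, permutes the seven sextets cyclically, commutes with `sg` -/
noncomputable def et : M24 := mk 213519518612983988210917055578299470 (by decide +kernel)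
/-- involution, stabilises `TM`, commutes with `sg`, `zm ↔ 2544` -/
noncomputable def hh : M24 := mk 602684448035564432723191583285085265 (by decide +kernel)
/-- involution of the stabiliser of `TM` and `S0`, commutes with `hh` -/
noncomputable def ss : M24 := mk 730134211096417821298998325005030510 (by decide +kernel)
/-- in the stabiliser of `TM` and `S0`, `et = sa * hh * sb` -/
noncomputable def sa : M24 := mk 628366850623244539624911736394687828 (by decide +kernel)
noncomputable def sb : M24 := mk 852133956503842089672442553342049578 (by decide +kernel)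
/-- `bb • TM = 01|24|35`, `cc • TM = 01|25|34`, both stabilise `S0` -/
noncomputable def bb : M24 := mk 976531636853126291160407323722221600 (by decide +kernel)
noncomputable def cc : M24 := mk 972606645568131968584696805283956768 (by decide +kernel)
/-- `act mm zm ∉ Wm`, `mm = et^5 n1 p1`, `mm bb = et^3 n2 p2`, `mm cc = et^2 n3 p3` -/
noncomputable def mm : M24 := mk 68118648106744857656986480301577329 (by decide +kernel)
noncomputable def n1 : M24 := mk 929990535907806245446093028352245901 (by decide +kernel)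
noncomputable def p1 : M24 := mk 637924909792642041361843707940394279 (by decide +kernel)
noncomputable def n2 : M24 := mk 716923148162044946748028883214306478 (by decide +kernel)
noncomputable def p2 : M24 := mk 598843823423785179997003112606370871 (by decide +kernel)
noncomputable def n3 : M24 := mk 716923148162044946748028883214306478 (by decide +kernel)
noncomputable def p3 : M24 := mk 11262186832977396021973151050286551 (by decide +kernel)
/-- elements of the stabiliser of `TM` and `S0` used to recognise `Wm` -/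
noncomputable def f1 : M24 := mk 922351594332332718182078019647443469 (by decide +kernel)
noncomputable def f2 : M24 := mk 47549985231413358029159116917803744 (by decide +kernel)
noncomputable def f3 : M24 := mk 933374610077205358827372720121296016 (by decide +kernel)
/-- involution of the stabiliser of `TM` and `S0`, columns `2 ↔ 5`, `3 ↔ 4` -/
noncomputable def lam : M24 := mk 968708902336673183175954409307867168 (by decide +kernel)

/-- the stabiliser of `S0` -/
def Kz : Set M24 := {g | (g : Equiv.Perm GolayPt) • S0 = S0}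
/-- the stabiliser of `TM` -/
def KT : Set M24 := {g | (g : Equiv.Perm GolayPt) • TM = TM}

/-! ### the base trio and the columns as masks -/

/-- masks of the columns -/
def tm (i : Fin 6) : ℕ := ![8388615, 147496, 4268048, 268544, 2621632, 1082880] i

theorem tm_lt (i : Fin 6) : tm i < 2 ^ 24 := by
  revert i
  decide +kernel

theorem tet_eq : ∀ i : Fin 6, tet i = fin (tm i) := by decide +kernel

theorem tm_inj : Function.Injective tm := by decide +kernel

theorem tet_inj : Function.Injective tet := by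
  intro i j h
  rw [tet_eq, tet_eq] at h
  exact tm_inj (fin_injective (tm_lt i) (tm_lt j) h)

theorem tet_card (i : Fin 6) : (tet i).card = 4 := by
  rw [tet_eq, card_fin]
  revert i
  decide +kernel

theorem tet_disjoint {i j : Fin 6} (h : i ≠ j) : Disjoint (tet i) (tet j) := by
  rw [Finset.disjoint_iff_inter_eq_empty, tet_eq, tet_eq, ← fin_and,
    ← Cfsg.Agent.SporadicStructure.TrioInv.fin_zero]
  congr 1
  revert i j
  decide +kernel

theorem tet_union_mem {i j : Fin 6} (h : i ≠ j) : tet i ∪ tet j ∈ octads := by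
  have h1 : ∀ i j : Fin 6, i ≠ j → (tm i ||| tm j) < 2 ^ 24 ∧ isCode (tm i ||| tm j) = true ∧
      popcount (tm i ||| tm j) = 8 := by decide +kernel
  obtain ⟨h2, h3, h4⟩ := h1 i j h
  rw [tet_eq, tet_eq, ← fin_or, fin_mem_octads_iff h2]
  exact ⟨h3, h4⟩

theorem exists_tet (p : GolayPt) : ∃ i, p ∈ tet i := by
  revert p
  decide +kernel

theorem mem_S0 {X : Finset GolayPt} : X ∈ S0 ↔ ∃ i, tet i = X := by
  simp [S0]

theorem S0_mem : S0 ∈ sextets := by
  refine ⟨?_, ?_, ?_⟩
  · rw [S0, Finset.card_image_of_injective _ tet_inj]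
    rfl
  · intro t ht
    obtain ⟨i, rfl⟩ := mem_S0.1 ht
    exact tet_card i
  · intro t ht u hu hne
    obtain ⟨i, rfl⟩ := mem_S0.1 ht
    obtain ⟨j, rfl⟩ := mem_S0.1 hu
    exact tet_union_mem (fun h => hne (by rw [h]))

theorem msk_tet (i : Fin 6) : msk (tet i) = zm := by
  rw [tet_eq, msk_fin (tm_lt i)]
  revert i
  decide +kernel

/-- a trio from a partition of the columns in three pairs -/
theorem trio_mem {a b c d e f : Fin 6} (h : [a, b, c, d, e, f].Nodup) :
    ({tet a ∪ tet b, tet c ∪ tet d, tet e ∪ tet f} : Finset (Finset GolayPt)) ∈ trios := by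
  simp only [List.nodup_cons, List.mem_cons, List.not_mem_nil, or_false, not_or,
    List.nodup_nil, and_true, not_false_eq_true] at h
  obtain ⟨⟨ab, ac, ad, ae, af⟩, ⟨bc, bd, be, bf⟩, ⟨cd, ce, cf⟩, ⟨de, df⟩, ef⟩ := h
  have dj : ∀ {a b c d : Fin 6}, a ≠ c → a ≠ d → b ≠ c → b ≠ d →
      Disjoint (tet a ∪ tet b) (tet c ∪ tet d) := by
    intro a b c d h1 h2 h3 h4
    rw [Finset.disjoint_union_left, Finset.disjoint_union_right, Finset.disjoint_union_right]
    exact ⟨⟨tet_disjoint h1, tet_disjoint h2⟩, tet_disjoint h3, tet_disjoint h4⟩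
  have d1 := dj ac ad bc bd
  have d2 := dj ae af be bf
  have d3 := dj ce cf de df
  have ne : ∀ {a b : Fin 6} {s : Finset GolayPt}, Disjoint (tet a ∪ tet b) s →
      tet a ∪ tet b ≠ s := by
    intro a b s h1 h2
    rw [← h2, disjoint_self, Finset.bot_eq_empty, Finset.union_eq_empty] at h1
    have := tet_card a
    rw [h1.1, Finset.card_empty] at this
    omega
  refine ⟨?_, ?_, ?_⟩
  · exact Finset.card_eq_three.2 ⟨_, _, _, ne d1, ne d2, ne d3, rfl⟩
  · intro o ho
    simp only [Finset.mem_insert, Finset.mem_singleton] at ho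
    rcases ho with rfl | rfl | rfl
    · exact tet_union_mem ab
    · exact tet_union_mem cd
    · exact tet_union_mem ef
  · intro o ho o' ho' hne
    simp only [Finset.mem_insert, Finset.mem_singleton] at ho ho'
    rcases ho with rfl | rfl | rfl <;> rcases ho' with rfl | rfl | rfl
    · exact absurd rfl hne
    · exact d1
    · exact d2
    · exact d1.symm
    · exact absurd rfl hne
    · exact d3
    · exact d2.symm
    · exact d3.symm
    · exact absurd rfl hne

theorem TM_mem : TM ∈ trios := trio_mem (by decide)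
theorem TM'_mem : TM' ∈ trios := trio_mem (by decide)
theorem TM''_mem : TM'' ∈ trios := trio_mem (by decide)

theorem refines_TM : Refines S0 TM := by
  intro X hX
  obtain ⟨i, rfl⟩ := mem_S0.1 hX
  simp only [TM, Finset.mem_insert, Finset.mem_singleton, exists_eq_or_imp, exists_eq_left]
  fin_cases i
  · exact Or.inl Finset.subset_union_left
  · exact Or.inl Finset.subset_union_right
  · exact Or.inr (Or.inl Finset.subset_union_left)
  · exact Or.inr (Or.inl Finset.subset_union_right)
  · exact Or.inr (Or.inr Finset.subset_union_left)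
  · exact Or.inr (Or.inr Finset.subset_union_right)

/-! ### (A) stabilisers and sextets -/

/-- the stabiliser of `S0` is the stabiliser of the mask `zm` -/
theorem mem_Kz_iff (g : M24) : g ∈ Kz ↔ act g zm = zm := by
  have h1 := Cfsg.Agent.SporadicStructure.SextetAction.smul_mem_sextets g.2 S0_mem
  have h2 : (g : Equiv.Perm GolayPt) • tet 0 ∈ (g : Equiv.Perm GolayPt) • S0 :=
    Finset.smul_mem_smul_finset (mem_S0.2 ⟨0, rfl⟩)
  have h3 := sextet_eq_iff h1 S0_mem h2 (mem_S0.2 ⟨0, rfl⟩)
  rw [msk_smul, msk_tet] at h3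
  exact h3.symm

theorem mem_KT {g : M24} : g ∈ KT ↔ (g : Equiv.Perm GolayPt) • TM = TM := Iff.rfl

theorem mem_Kz {g : M24} : g ∈ Kz ↔ (g : Equiv.Perm GolayPt) • S0 = S0 := Iff.rfl

/-- `Kz` permutes the columns -/
theorem exists_col (g : M24) (hg : g ∈ Kz) :
    ∃ c : Equiv.Perm (Fin 6), ∀ i, (g : Equiv.Perm GolayPt) • tet i = tet (c i) := by
  have h1 : ∀ i, ∃ j, tet j = (g : Equiv.Perm GolayPt) • tet i := by
    intro i
    apply mem_S0.1
    rw [← mem_Kz.1 hg]
    exact Finset.smul_mem_smul_finset (mem_S0.2 ⟨i, rfl⟩)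
  choose c hc using h1
  have hinj : Function.Injective c := by
    intro i j h
    have h2 := hc i
    rw [h, hc j] at h2
    exact tet_inj (MulAction.injective (g : Equiv.Perm GolayPt) h2).symm
  exact ⟨Equiv.ofBijective c (Finite.injective_iff_bijective.1 hinj), fun i => (hc i).symm⟩

/-- every permutation of the columns is induced by `Kz` -/
theorem col_surj (c : Equiv.Perm (Fin 6)) :
    ∃ g : M24, g ∈ Kz ∧ ∀ i, (g : Equiv.Perm GolayPt) • tet i = tet (c i) := by
  let f : Fin 6 ≃ S0 := Equiv.ofBijective (fun i => ⟨tet i, mem_S0.2 ⟨i, rfl⟩⟩)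
    ⟨fun i j h => tet_inj (congrArg Subtype.val h),
      fun ⟨X, hX⟩ => by obtain ⟨i, hi⟩ := mem_S0.1 hX; exact ⟨i, Subtype.ext hi⟩⟩
  obtain ⟨g, hg, h⟩ := (Cfsg.Agent.S1551.result S0 S0_mem).1 (f.symm.trans (c.trans f))
  refine ⟨g, hg, fun i => ?_⟩
  have h1 := h (f i)
  simp only [Equiv.trans_apply, Equiv.symm_apply_apply] at h1
  exact h1


theorem mem_tet {p : GolayPt} {i : Fin 6} : p ∈ tet i ↔ (tm i).testBit (idx p) = true := by
  rw [tet_eq, mem_fin]

/-- the mask of a 4-set -/
theorem msk_four {X : Finset GolayPt} {p : GolayPt} (hp : p ∈ X) (hc : X.card = 4) :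
    ∃ a b c : GolayPt, a ∈ X ∧ b ∈ X ∧ c ∈ X ∧ a ≠ p ∧ b ≠ p ∧ c ≠ p ∧ a ≠ b ∧ a ≠ c ∧ b ≠ c ∧
      msk X = st (idx p) ^^^ (st (idx a) ^^^ (st (idx b) ^^^ st (idx c))) := by
  classical
  have h3 : (X.erase p).card = 3 := by rw [Finset.card_erase_of_mem hp, hc]
  obtain ⟨a, b, c, hab, hac, hbc, h⟩ := Finset.card_eq_three.1 h3
  have hX : X = insert p {a, b, c} := by rw [← h, Finset.insert_erase hp]
  have ha : a ∈ X.erase p := by rw [h]; simp
  have hb : b ∈ X.erase p := by rw [h]; simp
  have hc' : c ∈ X.erase p := by rw [h]; simp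
  rw [Finset.mem_erase] at ha hb hc'
  refine ⟨a, b, c, ha.2, hb.2, hc'.2, ha.1, hb.1, hc'.1, hab, hac, hbc, ?_⟩
  have e : X = {p} ∪ ({a} ∪ ({b} ∪ {c})) := by rw [hX]; rfl
  rw [e, msk_union, msk_union, msk_union, msk_singleton, msk_singleton, msk_singleton,
    msk_singleton]
  · simpa using hbc
  · simpa using ⟨hab, hac⟩
  · simp only [Finset.disjoint_singleton_left, Finset.mem_union, Finset.mem_singleton, not_or]
    exact ⟨Ne.symm ha.1, Ne.symm hb.1, Ne.symm hc'.1⟩

/-- masks of the 4-subsets of `tet 0 ∪ tet 1` -/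
def Q1 : List ℕ := [202, 238, 282, 464, 500, 600, 658, 694, 834, 904, 940, 1105, 1391, 1409, 1445,
  1545, 1847, 2009, 2045, 2254, 2334, 2362, 2544, 2652, 2680, 2738, 2956, 3259, 3489, 3597, 3625,
  3783, 3863, 3891, 4061]

/-- masks of the 4-subsets of `tet 2 ∪ tet 3` -/
def Q2 : List ℕ := [83, 904, 907, 921, 969, 1043, 1091, 1105, 1106, 1930, 1944, 1947, 1992, 1995,
  2009, 2464, 2529, 2530, 2544, 2600, 2603, 2617, 2666, 2680, 2683, 3489, 3490, 3504, 3555, 3569,
  3570, 3625, 3688, 3691, 3705]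

theorem Q12 : ∀ w ∈ Q1, w ∈ Q2 → w ∈ Wm := by decide +kernel

/-- the points of index in `tet 0 ∪ tet 1`, without `23` -/
def L1 : List ℕ := [0, 1, 2, 3, 5, 14, 17]
/-- the points of index in `tet 2 ∪ tet 3`, without `4` -/
def L2 : List ℕ := [8, 11, 12, 13, 16, 18, 22]

theorem mem_L1 : ∀ a < 24, Nat.testBit 8536111 a = true → a ≠ 23 → a ∈ L1 := by decide +kernel
theorem mem_L2 : ∀ a < 24, Nat.testBit 4536592 a = true → a ≠ 4 → a ∈ L2 := by decide +kernel

theorem Q1_chk : ∀ a ∈ L1, ∀ b ∈ L1, ∀ c ∈ L1, a ≠ b → a ≠ c → b ≠ c →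
      (st 23 ^^^ (st a ^^^ (st b ^^^ st c))) ∈ Q1 := by decide +kernel

theorem Q2_chk : ∀ a ∈ L2, ∀ b ∈ L2, ∀ c ∈ L2, a ≠ b → a ≠ c → b ≠ c →
      (st 4 ^^^ (st a ^^^ (st b ^^^ st c))) ∈ Q2 := by decide +kernel

theorem tet01 : tet 0 ∪ tet 1 = fin 8536111 := by rw [tet_eq, tet_eq, ← fin_or]; rfl
theorem tet23 : tet 2 ∪ tet 3 = fin 4536592 := by rw [tet_eq, tet_eq, ← fin_or]; rfl
theorem tet45 : tet 4 ∪ tet 5 = fin 3704512 := by rw [tet_eq, tet_eq, ← fin_or]; rfl

theorem mem_TM {O : Finset GolayPt} : O ∈ TM ↔ O = fin 8536111 ∨ O = fin 4536592 ∨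
    O = fin 3704512 := by
  rw [TM, Finset.mem_insert, Finset.mem_insert, Finset.mem_singleton, tet01, tet23, tet45]

/-- the octad of `TM` containing a point -/
theorem TM_point {i : ℕ} (hi : i < 24) {O : Finset GolayPt} (hO : O ∈ TM) (h : pt i ∈ O) :
    (Nat.testBit 8536111 i = true ∧ O = fin 8536111) ∨
    (Nat.testBit 4536592 i = true ∧ O = fin 4536592) ∨
    (Nat.testBit 3704512 i = true ∧ O = fin 3704512) := by
  rcases mem_TM.1 hO with rfl | rfl | rfl <;> rw [mem_fin, idx_pt hi] at h
  · exact Or.inl ⟨h, rfl⟩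
  · exact Or.inr (Or.inl ⟨h, rfl⟩)
  · exact Or.inr (Or.inr ⟨h, rfl⟩)

theorem msk_of_refines (Y : Finset (Finset GolayPt)) (hY : Y ∈ sextets) (h : Refines Y TM)
    (X : Finset GolayPt) (hX : X ∈ Y) : msk X ∈ Wm ∧ msk X ≠ 0 := by
  refine ⟨?_, ?_⟩
  · obtain ⟨X0, hX0, h0⟩ :=
      Cfsg.Agent.SporadicStructure.Sextet.exists_mem_of_sextet hY (pt 23)
    obtain ⟨X1, hX1, h1⟩ :=
      Cfsg.Agent.SporadicStructure.Sextet.exists_mem_of_sextet hY (pt 4)
    have e0 : msk X = msk X0 := (sextet_eq_iff hY hY hX hX0).2 rfl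
    have e1 : msk X = msk X1 := (sextet_eq_iff hY hY hX hX1).2 rfl
    apply Q12
    · rw [e0]
      obtain ⟨O, hO, hs⟩ := h X0 hX0
      rcases TM_point (i := 23) (by norm_num) hO (hs h0) with ⟨-, rfl⟩ | ⟨h2, -⟩ | ⟨h2, -⟩
      · obtain ⟨a, b, c, ha, hb, hc, pa, pb, pc, hab, hac, hbc, e⟩ :=
          msk_four h0 (hY.2.1 X0 hX0)
        rw [e, idx_pt (by norm_num)]
        have key : ∀ {a : GolayPt}, a ∈ X0 → a ≠ pt 23 → idx a ∈ L1 := by
          intro a ha pa
          refine mem_L1 _ (idx_lt a) (mem_fin.1 (hs ha)) (fun h => pa ?_)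
          rw [← h, pt_idx]
        exact Q1_chk _ (key ha pa) _ (key hb pb) _ (key hc pc) (fun h => hab (idx_injective h))
          (fun h => hac (idx_injective h)) (fun h => hbc (idx_injective h))
      · exact absurd h2 (by decide +kernel)
      · exact absurd h2 (by decide +kernel)
    · rw [e1]
      obtain ⟨O, hO, hs⟩ := h X1 hX1
      rcases TM_point (i := 4) (by norm_num) hO (hs h1) with ⟨h2, -⟩ | ⟨-, rfl⟩ | ⟨h2, -⟩
      · exact absurd h2 (by decide +kernel)
      · obtain ⟨a, b, c, ha, hb, hc, pa, pb, pc, hab, hac, hbc, e⟩ :=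
          msk_four h1 (hY.2.1 X1 hX1)
        rw [e, idx_pt (by norm_num)]
        have key : ∀ {a : GolayPt}, a ∈ X1 → a ≠ pt 4 → idx a ∈ L2 := by
          intro a ha pa
          refine mem_L2 _ (idx_lt a) (mem_fin.1 (hs ha)) (fun h => pa ?_)
          rw [← h, pt_idx]
        exact Q2_chk _ (key ha pa) _ (key hb pb) _ (key hc pc) (fun h => hab (idx_injective h))
          (fun h => hac (idx_injective h)) (fun h => hbc (idx_injective h))
      · exact absurd h2 (by decide +kernel)
  · intro h0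
    have h1 := card_of_mem_supports ((msk_eq_zero_iff X).1 h0)
    rw [hY.2.1 X hX] at h1
    omega

theorem KT_mul {g h : M24} (hg : g ∈ KT) (hh : h ∈ KT) : g * h ∈ KT := by
  rw [mem_KT] at *
  rw [Subgroup.coe_mul, mul_smul, hh, hg]

theorem KT_inv {g : M24} (hg : g ∈ KT) : g⁻¹ ∈ KT := by
  rw [mem_KT] at *
  rw [Subgroup.coe_inv, inv_smul_eq_iff, hg]

theorem KT_pow {g : M24} (hg : g ∈ KT) (i : ℕ) : g ^ i ∈ KT := by
  induction i with
  | zero => rw [pow_zero, mem_KT, Subgroup.coe_one, one_smul]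
  | succ i ih => rw [pow_succ]; exact KT_mul ih hg

theorem Kz_mul {g h : M24} (hg : g ∈ Kz) (hh : h ∈ Kz) : g * h ∈ Kz := by
  rw [mem_Kz] at *
  rw [Subgroup.coe_mul, mul_smul, hh, hg]

theorem Kz_inv {g : M24} (hg : g ∈ Kz) : g⁻¹ ∈ Kz := by
  rw [mem_Kz] at *
  rw [Subgroup.coe_inv, inv_smul_eq_iff, hg]

theorem Kz_pow {g : M24} (hg : g ∈ Kz) (i : ℕ) : g ^ i ∈ Kz := by
  induction i with
  | zero => rw [pow_zero, mem_Kz, Subgroup.coe_one, one_smul]
  | succ i ih => rw [pow_succ]; exact Kz_mul ih hg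

theorem act_pow (g : M24) (i : ℕ) {a : ℕ} (ha : a < 4096) : act (g ^ i) a = (act g)^[i] a := by
  induction i generalizing a with
  | zero => rw [pow_zero, act_one ha]; rfl
  | succ i ih =>
    rw [pow_succ, act_mul _ _ ha, ih (act_lt g a), Function.iterate_succ_apply]

/-- the table maps the octads of `TM` to octads of `TM` -/
def okT (P : ℕ) : Bool :=
  ([8536111, 4536592, 3704512].map (pimg P)).all (fun x => [8536111, 4536592, 3704512].contains x)

theorem mem_KT_of {P : ℕ} {h : (isPerm P && isAut P) = true} (hP : okT P = true) :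
    mk P h ∈ KT := by
  classical
  have hsub : (mk P h : Equiv.Perm GolayPt) • TM ⊆ TM := by
    intro X hX
    obtain ⟨O, hO, rfl⟩ := Finset.mem_smul_finset.1 hX
    have hperm : isPerm P = true := by rw [Bool.and_eq_true] at h; exact h.1
    have e : ∀ m : ℕ, (mk P h : Equiv.Perm GolayPt) • fin m = fin (pimg P m) :=
      fun m => smul_fin hperm m
    unfold okT at hP
    rw [List.all_eq_true] at hP
    have h2 : ∀ m ∈ [8536111, 4536592, 3704512], fin (pimg P m) ∈ TM := by
      intro m hm
      have h3 := hP (pimg P m) (List.mem_map_of_mem hm)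
      rw [List.contains_iff_mem] at h3
      rw [mem_TM]
      simp only [List.mem_cons, List.not_mem_nil, or_false] at h3
      rcases h3 with h3 | h3 | h3
      · exact Or.inl (by rw [h3])
      · exact Or.inr (Or.inl (by rw [h3]))
      · exact Or.inr (Or.inr (by rw [h3]))
    rcases mem_TM.1 hO with rfl | rfl | rfl
    · rw [e]; exact h2 _ (by simp)
    · rw [e]; exact h2 _ (by simp)
    · rw [e]; exact h2 _ (by simp)
  rw [mem_KT]
  apply Finset.eq_of_subset_of_card_le hsub
  rw [Finset.card_smul_finset]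

theorem et_mem : et ∈ KT := mem_KT_of (by decide +kernel)
theorem hh_mem : hh ∈ KT := mem_KT_of (by decide +kernel)

/-- `et` permutes the seven masks transitively -/
theorem et_iter : ∀ w ∈ Wm, w ≠ 0 →
    ∃ i < 7, (actT 213519518612983988210917055578299470)^[i] zm = w := by
  decide +kernel

theorem act_et : act et = actT 213519518612983988210917055578299470 :=
  funext fun s => act_eq (isTab_mk _ _) s

theorem zm_lt : zm < 4096 := by decide +kernel

theorem et_pow_zm (w : ℕ) (hw : w ∈ Wm) (h0 : w ≠ 0) : ∃ i, act (et ^ i) zm = w := by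
  obtain ⟨i, -, h⟩ := et_iter w hw h0
  refine ⟨i, ?_⟩
  rw [act_pow _ _ zm_lt, act_et, h]

theorem exists_sextet (w : ℕ) (hw : w ∈ Wm) (h0 : w ≠ 0) :
    ∃ Y ∈ sextets, Refines Y TM ∧ ∃ X ∈ Y, Even X.card ∧ msk X = w := by
  obtain ⟨i, hi⟩ := et_pow_zm w hw h0
  refine ⟨((et ^ i : M24) : Equiv.Perm GolayPt) • S0,
    Cfsg.Agent.SporadicStructure.SextetAction.smul_mem_sextets (et ^ i).2 S0_mem, ?_,
    ((et ^ i : M24) : Equiv.Perm GolayPt) • tet 0,
    Finset.smul_mem_smul_finset (mem_S0.2 ⟨0, rfl⟩), ?_, ?_⟩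
  · have h1 := smul_refines ((et ^ i : M24) : Equiv.Perm GolayPt) refines_TM
    rwa [mem_KT.1 (KT_pow et_mem i)] at h1
  · rw [Finset.card_smul_finset, tet_card]
    decide
  · rw [msk_smul, msk_tet, hi]

/-- the stabiliser of `TM` permutes the seven masks -/
theorem act_mem_Wm (g : M24) (hg : g ∈ KT) (w : ℕ) (hw : w ∈ Wm) : act g w ∈ Wm := by
  by_cases h0 : w = 0
  · rw [h0]
    have : act g 0 = 0 := lin_zero _
    rw [this]
    decide
  · obtain ⟨Y, hY, hr, X, hX, -, e⟩ := exists_sextet w hw h0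
    rw [← e, ← msk_smul]
    have h1 := smul_refines (g : Equiv.Perm GolayPt) hr
    rw [mem_KT.1 hg] at h1
    exact (msk_of_refines _
      (Cfsg.Agent.SporadicStructure.SextetAction.smul_mem_sextets g.2 hY) h1 _
      (Finset.smul_mem_smul_finset hX)).1

theorem et_eq : et = sa * hh * sb := by
  refine (isTab_mk _ _).eq ?_
  have h := ((isTab_mk 628366850623244539624911736394687828 (by decide +kernel)).mul
    (isTab_mk 602684448035564432723191583285085265 (by decide +kernel))).mul
    (isTab_mk 852133956503842089672442553342049578 (by decide +kernel))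
  rw [show CocodeMask.pcomp (CocodeMask.pcomp 628366850623244539624911736394687828
    602684448035564432723191583285085265) 852133956503842089672442553342049578 =
    213519518612983988210917055578299470 by decide +kernel] at h
  exact h

theorem sa_mem : sa ∈ Kz ∩ KT :=
  ⟨(mem_Kz_iff sa).2 (by rw [sa, act_eq (isTab_mk _ _)]; decide +kernel),
    mem_KT_of (by decide +kernel)⟩

theorem sb_mem : sb ∈ Kz ∩ KT :=
  ⟨(mem_Kz_iff sb).2 (by rw [sb, act_eq (isTab_mk _ _)]; decide +kernel),
    mem_KT_of (by decide +kernel)⟩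

theorem et_closure : et ∈ Subgroup.closure (Kz ∩ KT ∪ {hh}) := by
  rw [et_eq]
  exact Subgroup.mul_mem _ (Subgroup.mul_mem _ (Subgroup.subset_closure (Or.inl sa_mem))
    (Subgroup.subset_closure (Or.inr rfl))) (Subgroup.subset_closure (Or.inl sb_mem))

/-- the stabiliser of `TM` is generated by `hh` and the stabiliser of `TM` and `S0` -/
theorem KT_le (g : M24) (hg : g ∈ KT) : g ∈ Subgroup.closure (Kz ∩ KT ∪ {hh}) := by
  have h0 : act g zm ≠ 0 := by
    intro h
    have h1 : act g zm = act g 0 := by rw [h]; exact (lin_zero _).symm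
    have h2 := act_inj g zm_lt (by norm_num) h1
    exact absurd h2 (by decide)
  obtain ⟨i, hi⟩ := et_pow_zm (act g zm) (act_mem_Wm g hg zm (by decide)) h0
  have h1 : (et ^ i)⁻¹ * g ∈ Kz ∩ KT := by
    refine ⟨?_, KT_mul (KT_inv (KT_pow et_mem i)) hg⟩
    rw [mem_Kz_iff, act_mul _ _ zm_lt, ← hi, ← act_mul _ _ zm_lt, inv_mul_cancel, act_one zm_lt]
  have h2 : g = et ^ i * ((et ^ i)⁻¹ * g) := by group
  rw [h2]
  exact Subgroup.mul_mem _ (Subgroup.pow_mem _ et_closure i) (Subgroup.subset_closure (Or.inl h1))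

/-- `M24` is transitive on pairs (sextet, refined trio) -/
theorem exists_smul (Y T : Finset (Finset GolayPt)) (hY : Y ∈ sextets) (hT : T ∈ trios)
    (h : Refines Y T) :
    ∃ g : M24, (g : Equiv.Perm GolayPt) • S0 = Y ∧ (g : Equiv.Perm GolayPt) • TM = T := by
  obtain ⟨g1, hg1⟩ := FinalTrio.exists_smul TM_mem hT
  have hY' := Cfsg.Agent.SporadicStructure.SextetAction.smul_mem_sextets (g1⁻¹).2 hY
  have h1 := smul_refines ((g1⁻¹ : M24) : Equiv.Perm GolayPt) h
  have e1 : ((g1⁻¹ : M24) : Equiv.Perm GolayPt) • T = TM := by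
    rw [← hg1, Subgroup.coe_inv, inv_smul_smul]
  rw [e1] at h1
  obtain ⟨X, hX, -⟩ := Cfsg.Agent.SporadicStructure.Sextet.exists_mem_of_sextet hY' (pt 0)
  obtain ⟨h2, h3⟩ := msk_of_refines _ hY' h1 X hX
  obtain ⟨i, hi⟩ := et_pow_zm _ h2 h3
  refine ⟨g1 * et ^ i, ?_, ?_⟩
  · rw [Subgroup.coe_mul, mul_smul]
    have e2 : ((et ^ i : M24) : Equiv.Perm GolayPt) • S0 =
        ((g1⁻¹ : M24) : Equiv.Perm GolayPt) • Y := by
      rw [← sextet_eq_iff (Cfsg.Agent.SporadicStructure.SextetAction.smul_mem_sextets (et ^ i).2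
        S0_mem) hY' (Finset.smul_mem_smul_finset (mem_S0.2 ⟨0, rfl⟩)) hX, msk_smul, msk_tet, hi]
    rw [e2, Subgroup.coe_inv, smul_inv_smul]
  · rw [Subgroup.coe_mul, mul_smul, mem_KT.1 (KT_pow et_mem i), hg1]


/-! ### (D), (E) relations between the explicit elements -/

/-- the table maps the columns as `c` does -/
def okC (P : ℕ) (c : Fin 6 → Fin 6) : Bool := decide (∀ i : Fin 6, pimg P (tm i) = tm (c i))

theorem col_of {P : ℕ} {h : (isPerm P && isAut P) = true} {c : Fin 6 → Fin 6}
    (hP : okC P c = true) (i : Fin 6) : (mk P h : Equiv.Perm GolayPt) • tet i = tet (c i) := by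
  have hperm : isPerm P = true := by rw [Bool.and_eq_true] at h; exact h.1
  have e : ∀ m : ℕ, (mk P h : Equiv.Perm GolayPt) • fin m = fin (pimg P m) :=
    fun m => smul_fin hperm m
  rw [tet_eq, e, tet_eq, of_decide_eq_true hP i]

theorem sg_Kz : sg ∈ Kz :=
  (mem_Kz_iff sg).2 (by rw [sg, act_eq (isTab_mk _ _)]; decide +kernel)

theorem ss_Kz : ss ∈ Kz :=
  (mem_Kz_iff ss).2 (by rw [ss, act_eq (isTab_mk _ _)]; decide +kernel)

theorem bb_Kz : bb ∈ Kz :=
  (mem_Kz_iff bb).2 (by rw [bb, act_eq (isTab_mk _ _)]; decide +kernel)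

theorem cc_Kz : cc ∈ Kz :=
  (mem_Kz_iff cc).2 (by rw [cc, act_eq (isTab_mk _ _)]; decide +kernel)

theorem f1_Kz : f1 ∈ Kz :=
  (mem_Kz_iff f1).2 (by rw [f1, act_eq (isTab_mk _ _)]; decide +kernel)

theorem f2_Kz : f2 ∈ Kz :=
  (mem_Kz_iff f2).2 (by rw [f2, act_eq (isTab_mk _ _)]; decide +kernel)

theorem f3_Kz : f3 ∈ Kz :=
  (mem_Kz_iff f3).2 (by rw [f3, act_eq (isTab_mk _ _)]; decide +kernel)

theorem lam_Kz : lam ∈ Kz :=
  (mem_Kz_iff lam).2 (by rw [lam, act_eq (isTab_mk _ _)]; decide +kernel)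

theorem n1_Kz : n1 ∈ Kz :=
  (mem_Kz_iff n1).2 (by rw [n1, act_eq (isTab_mk _ _)]; decide +kernel)

theorem n2_Kz : n2 ∈ Kz :=
  (mem_Kz_iff n2).2 (by rw [n2, act_eq (isTab_mk _ _)]; decide +kernel)

theorem n3_Kz : n3 ∈ Kz :=
  (mem_Kz_iff n3).2 (by rw [n3, act_eq (isTab_mk _ _)]; decide +kernel)

theorem sg_KT : sg ∈ KT := mem_KT_of (by decide +kernel)

theorem ss_KT : ss ∈ KT := mem_KT_of (by decide +kernel)

theorem f1_KT : f1 ∈ KT := mem_KT_of (by decide +kernel)

theorem f2_KT : f2 ∈ KT := mem_KT_of (by decide +kernel)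

theorem f3_KT : f3 ∈ KT := mem_KT_of (by decide +kernel)

theorem lam_KT : lam ∈ KT := mem_KT_of (by decide +kernel)

theorem p1_KT : p1 ∈ KT := mem_KT_of (by decide +kernel)

theorem p2_KT : p2 ∈ KT := mem_KT_of (by decide +kernel)

theorem p3_KT : p3 ∈ KT := mem_KT_of (by decide +kernel)

theorem sg_mem : sg ∈ Kz ∩ KT := ⟨sg_Kz, sg_KT⟩

theorem ss_mem : ss ∈ Kz ∩ KT := ⟨ss_Kz, ss_KT⟩

theorem f1_mem : f1 ∈ Kz ∩ KT := ⟨f1_Kz, f1_KT⟩

theorem f2_mem : f2 ∈ Kz ∩ KT := ⟨f2_Kz, f2_KT⟩

theorem f3_mem : f3 ∈ Kz ∩ KT := ⟨f3_Kz, f3_KT⟩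

theorem lam_mem : lam ∈ Kz ∩ KT := ⟨lam_Kz, lam_KT⟩

theorem bb_mem : bb ∈ Kz := bb_Kz

theorem cc_mem : cc ∈ Kz := cc_Kz

theorem sg_col (i : Fin 6) : (sg : Equiv.Perm GolayPt) • tet i = tet (i + 2) :=
  col_of (c := fun i => i + 2) (by decide +kernel) i

theorem bb_col : ∀ i : Fin 6, (bb : Equiv.Perm GolayPt) • tet i = tet (![0, 1, 2, 4, 5, 3] i) :=
  col_of (by decide +kernel)

theorem cc_col : ∀ i : Fin 6, (cc : Equiv.Perm GolayPt) • tet i = tet (![0, 1, 2, 5, 3, 4] i) :=
  col_of (by decide +kernel)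

theorem lam_col : ∀ i : Fin 6, (lam : Equiv.Perm GolayPt) • tet i = tet (![0, 1, 5, 4, 3, 2] i) :=
  col_of (by decide +kernel)

/-- a product of two explicit elements -/
theorem mk_mul_mk {P Q R : ℕ} {hP : (isPerm P && isAut P) = true}
    {hQ : (isPerm Q && isAut Q) = true} {hR : (isPerm R && isAut R) = true}
    (h : CocodeMask.pcomp P Q = R) : mk P hP * mk Q hQ = mk R hR := by
  refine ((isTab_mk P hP).mul (isTab_mk Q hQ)).eq ?_
  rw [h]
  exact isTab_mk _ _

theorem mk_mul_mk_eq_one {P Q : ℕ} {hP : (isPerm P && isAut P) = true}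
    {hQ : (isPerm Q && isAut Q) = true} (h : CocodeMask.pcomp P Q = pone) :
    mk P hP * mk Q hQ = 1 := by
  refine ((isTab_mk P hP).mul (isTab_mk Q hQ)).eq ?_
  rw [h]
  exact isTab_one

theorem hh_sq : hh * hh = 1 := mk_mul_mk_eq_one (by decide +kernel)

theorem mul_mk_comm {P Q : ℕ} {hP : (isPerm P && isAut P) = true}
    {hQ : (isPerm Q && isAut Q) = true} (h : CocodeMask.pcomp P Q = CocodeMask.pcomp Q P) :
    mk P hP * mk Q hQ = mk Q hQ * mk P hP := by
  have h1 := (isTab_mk P hP).mul (isTab_mk Q hQ)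
  have h2 := (isTab_mk Q hQ).mul (isTab_mk P hP)
  rw [h] at h1
  exact h1.eq h2

theorem hh_sg : hh * sg = sg * hh := mul_mk_comm (by decide +kernel)
theorem ss_hh : ss * hh = hh * ss := mul_mk_comm (by decide +kernel)

theorem isTab_sg : IsTab sg 173948347835850525019346403463682573 := isTab_mk _ _

theorem sg_cube : sg * sg * sg = 1 := by
  have h := (isTab_sg.mul isTab_sg).mul isTab_sg
  refine h.eq ?_
  rw [show CocodeMask.pcomp (CocodeMask.pcomp 173948347835850525019346403463682573 173948347835850525019346403463682573) 173948347835850525019346403463682573 = pone by decide +kernel]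
  exact isTab_one

theorem sg_W (w : ℕ) (hw : w ∈ Wm) : act sg w = w := by
  have h : ∀ w ∈ Wm, actT 173948347835850525019346403463682573 w = w := by decide +kernel
  rw [act_eq isTab_sg, h w hw]

theorem act_hh_zm : act hh zm = 2544 := by
  rw [hh, act_eq (isTab_mk _ _)]
  decide +kernel
theorem act_hh_w : act hh 2544 = zm := by
  rw [hh, act_eq (isTab_mk _ _)]
  decide +kernel
theorem act_ss_2544 : act ss 2544 = 2544 := by
  rw [ss, act_eq (isTab_mk _ _)]
  decide +kernel
theorem act_ss_904 : act ss 904 = 904 ^^^ 1105 := by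
  rw [ss, act_eq (isTab_mk _ _)]
  decide +kernel
theorem mm_zm : act mm zm ∉ Wm := by
  rw [mm, act_eq (isTab_mk _ _)]
  decide +kernel

/-! ### three trios -/

theorem smul_trio {g : M24} {c' : Fin 6 → Fin 6}
    (hg : ∀ i, (g : Equiv.Perm GolayPt) • tet i = tet (c' i))
    {a b c d e f a' b' c1 d' e' f' : Fin 6} (ha : c' a = a') (hb : c' b = b') (hc : c' c = c1)
    (hd : c' d = d') (he : c' e = e') (hf : c' f = f') :
    (g : Equiv.Perm GolayPt) •
      ({tet a ∪ tet b, tet c ∪ tet d, tet e ∪ tet f} : Finset (Finset GolayPt)) =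
    {tet a' ∪ tet b', tet c1 ∪ tet d', tet e' ∪ tet f'} := by
  rw [Finset.smul_finset_insert, Finset.smul_finset_insert, Finset.smul_finset_singleton,
    Finset.smul_finset_union, Finset.smul_finset_union, Finset.smul_finset_union, hg, hg, hg, hg,
    hg, hg, ha, hb, hc, hd, he, hf]

/-- the trio of columns `01 | 24 | 35` -/
def Tb : Finset (Finset GolayPt) := {tet 0 ∪ tet 1, tet 2 ∪ tet 4, tet 5 ∪ tet 3}
/-- the trio of columns `01 | 25 | 34` -/
def Tc : Finset (Finset GolayPt) := {tet 0 ∪ tet 1, tet 2 ∪ tet 5, tet 3 ∪ tet 4}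

theorem bb_TM : (bb : Equiv.Perm GolayPt) • TM = Tb := by
  unfold TM Tb
  exact smul_trio bb_col (by decide) (by decide) (by decide) (by decide) (by decide) (by decide)
theorem cc_TM : (cc : Equiv.Perm GolayPt) • TM = Tc := by
  unfold TM Tc
  exact smul_trio cc_col (by decide) (by decide) (by decide) (by decide) (by decide) (by decide)

theorem trio_eq {T : Finset (Finset GolayPt)} (hT : T ∈ trios) {O1 O2 : Finset GolayPt}
    (h1 : O1 ∈ T) (h2 : O2 ∈ T) (hne : O1 ≠ O2) : T = {O1, O2, (O1 ∪ O2)ᶜ} := by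
  classical
  obtain ⟨h3, ho, hd⟩ := hT
  obtain ⟨o3, ho3, hn3⟩ := Finset.exists_mem_notMem_of_card_lt_card
    (s := {O1, O2}) (t := T) (by rw [Finset.card_pair hne, h3]; norm_num)
  simp only [Finset.mem_insert, Finset.mem_singleton, not_or] at hn3
  have e3 : o3 = (O1 ∪ O2)ᶜ := by
    apply Finset.eq_of_subset_of_card_le
    · intro x hx
      rw [Finset.mem_compl, Finset.mem_union, not_or]
      exact ⟨fun h => Finset.disjoint_left.1 (hd _ ho3 _ h1 hn3.1) hx h,
        fun h => Finset.disjoint_left.1 (hd _ ho3 _ h2 hn3.2) hx h⟩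
    · have h24 : Fintype.card GolayPt = 24 := by decide +kernel
      rw [Finset.card_compl, Finset.card_union_of_disjoint (hd _ h1 _ h2 hne), h24,
        show O1.card = 8 from (ho _ h1).2, show O2.card = 8 from (ho _ h2).2,
        show o3.card = 8 from (ho _ ho3).2]
  rw [← e3]
  symm
  apply Finset.eq_of_subset_of_card_le
  · intro x hx
    simp only [Finset.mem_insert, Finset.mem_singleton] at hx
    rcases hx with rfl | rfl | rfl
    · exact h1
    · exact h2
    · exact ho3
  · rw [h3, Finset.card_eq_three.2 ⟨O1, O2, o3, hne, Ne.symm hn3.1, Ne.symm hn3.2, rfl⟩]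

theorem trio_eq_of {T T' : Finset (Finset GolayPt)} (hT : T ∈ trios) (hT' : T' ∈ trios)
    {O1 O2 : Finset GolayPt} (h1 : O1 ∈ T) (h2 : O2 ∈ T) (h1' : O1 ∈ T') (h2' : O2 ∈ T')
    (hne : O1 ≠ O2) : T = T' := by
  rw [trio_eq hT h1 h2 hne, trio_eq hT' h1' h2' hne]

theorem Tb_mem : Tb ∈ trios := trio_mem (by decide)
theorem Tc_mem : Tc ∈ trios := trio_mem (by decide)

/-- the trios refined by `S0` containing the octad `tet 0 ∪ tet 1` -/
theorem trio_cases {T : Finset (Finset GolayPt)} (hT : T ∈ trios) (h : Refines S0 T)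
    (h01 : tet 0 ∪ tet 1 ∈ T) : T = TM ∨ T = Tb ∨ T = Tc := by
  classical
  obtain ⟨O2, hO2, h2⟩ := h (tet 2) (mem_S0.2 ⟨2, rfl⟩)
  have key : ∀ {i : Fin 6} {O : Finset GolayPt}, tet i ⊆ O → 2 ≤ i → O ≠ tet 0 ∪ tet 1 := by
    intro i O hi h2i he
    rw [he] at hi
    have h0 : i ≠ 0 := by rintro rfl; exact absurd h2i (by decide)
    have h1 : i ≠ 1 := by rintro rfl; exact absurd h2i (by decide)
    have hd : Disjoint (tet i) (tet 0 ∪ tet 1) := by
      rw [Finset.disjoint_union_right]
      exact ⟨tet_disjoint h0, tet_disjoint h1⟩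
    have := Finset.disjoint_of_subset_left (le_refl _) hd
    have h3 : tet i = ∅ := by
      have := hd.eq_bot_of_le hi
      exact this
    have h4 := tet_card i
    rw [h3, Finset.card_empty] at h4
    omega
  have hne : tet 0 ∪ tet 1 ≠ O2 := (key h2 (by decide)).symm
  have hO2c : O2.card = 8 := (hT.2.1 O2 hO2).2
  have big : ∀ {j : Fin 6}, 2 ≠ j → tet j ⊆ O2 → O2 = tet 2 ∪ tet j := by
    intro j hj hjs
    symm
    apply Finset.eq_of_subset_of_card_le (Finset.union_subset h2 hjs)
    rw [hO2c, Finset.card_union_of_disjoint (tet_disjoint hj), tet_card, tet_card]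
  by_cases h3 : tet 3 ⊆ O2
  · left
    have e := big (by decide) h3
    exact trio_eq_of hT TM_mem h01 hO2 (by simp [TM]) (by rw [e]; simp [TM]) hne
  · by_cases h4 : tet 4 ⊆ O2
    · right; left
      have e := big (by decide) h4
      exact trio_eq_of hT Tb_mem h01 hO2 (by simp [Tb]) (by rw [e]; simp [Tb]) hne
    · by_cases h5 : tet 5 ⊆ O2
      · right; right
        have e := big (by decide) h5
        exact trio_eq_of hT Tc_mem h01 hO2 (by simp [Tc]) (by rw [e]; simp [Tc]) hne
      · exfalso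
        have hTe := trio_eq hT h01 hO2 hne
        have sub : ∀ {j : Fin 6}, 2 ≤ j → ¬ tet j ⊆ O2 → tet j ⊆ (tet 0 ∪ tet 1 ∪ O2)ᶜ := by
          intro j hj hjn
          obtain ⟨O, hO, hs⟩ := h (tet j) (mem_S0.2 ⟨j, rfl⟩)
          rw [hTe] at hO
          simp only [Finset.mem_insert, Finset.mem_singleton] at hO
          rcases hO with rfl | rfl | rfl
          · exact absurd rfl (key hs hj)
          · exact absurd hs hjn
          · exact hs
        have hs := Finset.union_subset (Finset.union_subset (sub (by decide) h3)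
          (sub (by decide) h4)) (sub (by decide) h5)
        have hc := Finset.card_le_card hs
        have hO3 : (tet 0 ∪ tet 1 ∪ O2)ᶜ ∈ T := by rw [hTe]; simp
        rw [(hT.2.1 _ hO3).2, Finset.card_union_of_disjoint, Finset.card_union_of_disjoint,
          tet_card, tet_card, tet_card] at hc
        · omega
        · exact tet_disjoint (by decide)
        · rw [Finset.disjoint_union_left]
          exact ⟨tet_disjoint (by decide), tet_disjoint (by decide)⟩

/-- the stabiliser of `S0` and `TM` is transitive on the octads of `TM` -/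
theorem exists_octad {O : Finset GolayPt} (hO : O ∈ TM) :
    ∃ s : M24, s ∈ Kz ∧ s ∈ KT ∧ (s : Equiv.Perm GolayPt) • (tet 0 ∪ tet 1) = O := by
  rw [TM, Finset.mem_insert, Finset.mem_insert, Finset.mem_singleton] at hO
  rcases hO with rfl | rfl | rfl
  · refine ⟨1, ?_, ?_, ?_⟩
    · rw [mem_Kz, Subgroup.coe_one, one_smul]
    · rw [mem_KT, Subgroup.coe_one, one_smul]
    · rw [Subgroup.coe_one, one_smul]
  · refine ⟨sg, sg_Kz, sg_KT, ?_⟩
    rw [Finset.smul_finset_union, sg_col, sg_col]
    rfl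
  · refine ⟨sg * sg, Kz_mul sg_Kz sg_Kz, KT_mul sg_KT sg_KT, ?_⟩
    rw [Subgroup.coe_mul, mul_smul, Finset.smul_finset_union, sg_col, sg_col,
      Finset.smul_finset_union, sg_col, sg_col]
    rfl

/-- three trios through an octad, refined by `S0` -/
theorem three_trios (T₁ T₂ T₃ : Finset (Finset GolayPt)) (h₁ : T₁ ∈ trios) (h₂ : T₂ ∈ trios)
    (h₃ : T₃ ∈ trios) (h12 : T₁ ≠ T₂) (h13 : T₁ ≠ T₃) (h23 : T₂ ≠ T₃) (r₁ : Refines S0 T₁)
    (r₂ : Refines S0 T₂) (r₃ : Refines S0 T₃) (O : Finset GolayPt) (o₁ : O ∈ T₁) (o₂ : O ∈ T₂)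
    (o₃ : O ∈ T₃) :
    ∃ g : M24, g ∈ Kz ∧ (g : Equiv.Perm GolayPt) • TM = T₁ ∧
      (((g * bb : M24) : Equiv.Perm GolayPt) • TM = T₂ ∧
        ((g * cc : M24) : Equiv.Perm GolayPt) • TM = T₃ ∨
       ((g * bb : M24) : Equiv.Perm GolayPt) • TM = T₃ ∧
        ((g * cc : M24) : Equiv.Perm GolayPt) • TM = T₂) := by
  have hex : ∃ g : M24, g ∈ Kz ∧ (g : Equiv.Perm GolayPt) • TM = T₁ ∧
      (g : Equiv.Perm GolayPt) • (tet 0 ∪ tet 1) = O := by
    obtain ⟨g0, hg0, hg1⟩ := exists_smul S0 T₁ S0_mem h₁ r₁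
    rw [← hg1] at o₁
    obtain ⟨O', hO', rfl⟩ := Finset.mem_smul_finset.1 o₁
    obtain ⟨s, hs1, hs2, hs3⟩ := exists_octad hO'
    refine ⟨g0 * s, Kz_mul hg0 hs1, ?_, ?_⟩
    · rw [Subgroup.coe_mul, mul_smul, mem_KT.1 hs2, hg1]
    · rw [Subgroup.coe_mul, mul_smul, hs3]
  obtain ⟨g, hgz, hgT, hk⟩ := hex
  have key : ∀ {T : Finset (Finset GolayPt)}, T ∈ trios → Refines S0 T → O ∈ T → T₁ ≠ T →
      T = (g : Equiv.Perm GolayPt) • Tb ∨ T = (g : Equiv.Perm GolayPt) • Tc := by
    intro T hT hr hO hne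
    have e1 : ((g⁻¹ : M24) : Equiv.Perm GolayPt) • S0 = S0 := mem_Kz.1 (Kz_inv hgz)
    have e2 := smul_refines ((g⁻¹ : M24) : Equiv.Perm GolayPt) hr
    rw [e1] at e2
    have e3 : tet 0 ∪ tet 1 ∈ ((g⁻¹ : M24) : Equiv.Perm GolayPt) • T := by
      rw [← inv_smul_eq_iff.2 hk.symm]
      exact Finset.smul_mem_smul_finset hO
    rcases trio_cases (Cfsg.Agent.SporadicStructure.TrioInv.smul_mem_trios (g⁻¹).2 hT) e2 e3
      with h | h | h
    · exfalso
      apply hne
      rw [← hgT, ← h, Subgroup.coe_inv, smul_inv_smul]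
    · left
      rw [← h, Subgroup.coe_inv, smul_inv_smul]
    · right
      rw [← h, Subgroup.coe_inv, smul_inv_smul]
  refine ⟨g, hgz, hgT, ?_⟩
  have eb : ((g * bb : M24) : Equiv.Perm GolayPt) • TM = (g : Equiv.Perm GolayPt) • Tb := by
    rw [Subgroup.coe_mul, mul_smul, bb_TM]
  have ec : ((g * cc : M24) : Equiv.Perm GolayPt) • TM = (g : Equiv.Perm GolayPt) • Tc := by
    rw [Subgroup.coe_mul, mul_smul, cc_TM]
  rw [eb, ec]
  rcases key h₂ r₂ o₂ h12 with a | a <;> rcases key h₃ r₃ o₃ h13 with b | b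
  · exact absurd (a.trans b.symm) h23
  · exact Or.inl ⟨a.symm, b.symm⟩
  · exact Or.inr ⟨b.symm, a.symm⟩
  · exact absurd (a.trans b.symm) h23


theorem isTab_pow {g : M24} {P : ℕ} (h : IsTab g P) (n : ℕ) :
    IsTab (g ^ n) ((fun R => CocodeMask.pcomp R P)^[n] pone) := by
  induction n with
  | zero => exact isTab_one
  | succ n ih =>
    rw [pow_succ, Function.iterate_succ_apply']
    exact ih.mul h

theorem isTab_et : IsTab et 213519518612983988210917055578299470 := isTab_mk _ _
theorem isTab_mm : IsTab mm 68118648106744857656986480301577329 := isTab_mk _ _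

theorem mm_fact : ∀ x ∈ ({1, bb, cc} : Set M24), ∃ k ∈ KT, ∃ n ∈ Kz, ∃ p ∈ KT,
    mm * x = k * n * p := by
  intro x hx
  simp only [Set.mem_insert_iff, Set.mem_singleton_iff] at hx
  rcases hx with rfl | rfl | rfl
  · refine ⟨et ^ 5, KT_pow et_mem 5, n1, n1_Kz, p1, p1_KT, ?_⟩
    rw [mul_one]
    have h := ((isTab_pow isTab_et 5).mul (show IsTab n1 929990535907806245446093028352245901 from
      isTab_mk _ _)).mul (show IsTab p1 637924909792642041361843707940394279 from isTab_mk _ _)
    rw [show CocodeMask.pcomp (CocodeMask.pcomp ((fun R => CocodeMask.pcomp R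
      213519518612983988210917055578299470)^[5] pone) 929990535907806245446093028352245901)
      637924909792642041361843707940394279 = 68118648106744857656986480301577329 by decide +kernel] at h
    exact isTab_mm.eq h
  · refine ⟨et ^ 3, KT_pow et_mem 3, n2, n2_Kz, p2, p2_KT, ?_⟩
    have h := ((isTab_pow isTab_et 3).mul (show IsTab n2 716923148162044946748028883214306478 from
      isTab_mk _ _)).mul (show IsTab p2 598843823423785179997003112606370871 from isTab_mk _ _)
    have h' := isTab_mm.mul (show IsTab bb 976531636853126291160407323722221600 from isTab_mk _ _)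
    rw [show CocodeMask.pcomp (CocodeMask.pcomp ((fun R => CocodeMask.pcomp R
      213519518612983988210917055578299470)^[3] pone) 716923148162044946748028883214306478)
      598843823423785179997003112606370871 = CocodeMask.pcomp 68118648106744857656986480301577329
      976531636853126291160407323722221600 by decide +kernel] at h
    exact h'.eq h
  · refine ⟨et ^ 2, KT_pow et_mem 2, n3, n3_Kz, p3, p3_KT, ?_⟩
    have h := ((isTab_pow isTab_et 2).mul (show IsTab n3 716923148162044946748028883214306478 from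
      isTab_mk _ _)).mul (show IsTab p3 11262186832977396021973151050286551 from isTab_mk _ _)
    have h' := isTab_mm.mul (show IsTab cc 972606645568131968584696805283956768 from isTab_mk _ _)
    rw [show CocodeMask.pcomp (CocodeMask.pcomp ((fun R => CocodeMask.pcomp R
      213519518612983988210917055578299470)^[2] pone) 716923148162044946748028883214306478)
      11262186832977396021973151050286551 = CocodeMask.pcomp 68118648106744857656986480301577329
      972606645568131968584696805283956768 by decide +kernel] at h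
    exact h'.eq h

/-! ### (B), (C), (F1) -/

theorem fix_sg_aux : ∀ a, a < 2 ^ 12 →
    (!(Nat.beq (par a) 0) || !(Nat.beq (actT 173948347835850525019346403463682573 a) a) || Wm.contains a) = true := by
  apply allR_zero_spec
  decide +kernel

theorem fix_sg (a : ℕ) (ha : ev a = true) (h : act sg a = a) : a ∈ Wm := by
  rw [act_eq isTab_sg] at h
  rw [ev_iff] at ha
  have h1 := fix_sg_aux a ha.1
  rw [ha.2, h] at h1
  simpa using h1

/-- the 32 masks fixed by `ρ0` -/
def Wr : List ℕ := [0, 95, 435, 492, 686, 753, 797, 834, 1043, 1100, 1440, 1535, 1725, 1762, 1806, 1873,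
  2049, 2142, 2482, 2541, 2735, 2800, 2844, 2883, 3090, 3149, 3489, 3582, 3772, 3811, 3855, 3920]

theorem fix_ρ0_aux : ∀ a, a < 2 ^ 12 →
    (!(Nat.beq (par a) 0) || !(Nat.beq (actT Tρ a) a) || Wr.contains a) = true := by
  apply allR_zero_spec
  decide +kernel

/-- masks of the duads of points `mog i 0` -/
def mm0 (i : Fin 6) : ℕ := st (mogTable i 0)

theorem msk_pair (i j : Fin 6) (hij : i ≠ j) : msk {mog i 0, mog j 0} = mm0 i ^^^ mm0 j := by
  have h0 : ∀ i : Fin 6, idx (mog i 0) = mogTable i 0 := by decide +kernel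
  have hne : mog i 0 ≠ mog j 0 := by
    intro h
    have h1 : mogTable i 0 = mogTable j 0 := by rw [← h0, ← h0, h]
    revert i j
    decide +kernel
  have e : ({mog i 0, mog j 0} : Finset GolayPt) = {mog i 0} ∪ {mog j 0} := rfl
  rw [e, msk_union (by simpa using hne), msk_singleton, msk_singleton, h0, h0]
  rfl

theorem Wr_chk : ∀ a ∈ Wr, a = 0 ∨ a = zm ∨ ∃ i j : Fin 6, i ≠ j ∧
    (a = mm0 i ^^^ mm0 j ∨ a = zm ^^^ (mm0 i ^^^ mm0 j)) := by decide +kernel

theorem fix_ρ0 (a : ℕ) (ha : ev a = true) (h : act ρ0 a = a) :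
    a = 0 ∨ a = zm ∨ ∃ i j : Fin 6, i ≠ j ∧ (a = msk {mog i 0, mog j 0} ∨
      a = zm ^^^ msk {mog i 0, mog j 0}) := by
  rw [act_eq tab_ρ] at h
  rw [ev_iff] at ha
  have h1 := fix_ρ0_aux a ha.1
  rw [ha.2, h] at h1
  have h2 : a ∈ Wr := by simpa using h1
  rcases Wr_chk a h2 with h3 | h3 | ⟨i, j, hij, h3⟩
  · exact Or.inl h3
  · exact Or.inr (Or.inl h3)
  · refine Or.inr (Or.inr ⟨i, j, hij, ?_⟩)
    rw [msk_pair i j hij]
    exact h3

/-- linear combinations of four masks -/
def comb (x y z u s : ℕ) : ℕ :=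
  (s % 2 * x) ^^^ ((s >>> 1) % 2 * y) ^^^ ((s >>> 2) % 2 * z) ^^^ ((s >>> 3) % 2 * u)

theorem comb_xor (x y z u a b : ℕ) :
    comb x y z u (a ^^^ b) = comb x y z u a ^^^ comb x y z u b := by
  unfold comb
  simp only [Nat.shiftRight_xor_distrib, bit_mul_xor]
  ac_rfl

/-- independence of four masks -/
def ind (x y z u : ℕ) : Bool := (List.range 15).all fun s => !(Nat.beq (comb x y z u (s + 1)) 0)

theorem comb_mem {D : Set ℕ} (h0 : 0 ∈ D) (hx : ∀ a ∈ D, ∀ b ∈ D, a ^^^ b ∈ D) {x y z u : ℕ}
    (x1 : x ∈ D) (y1 : y ∈ D) (z1 : z ∈ D) (u1 : u ∈ D) (s : ℕ) : comb x y z u s ∈ D := by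
  have key : ∀ (i : ℕ) {c : ℕ}, c ∈ D → i % 2 * c ∈ D := by
    intro i c hc
    have hi : i % 2 < 2 := Nat.mod_lt _ (by norm_num)
    interval_cases i % 2
    · rw [zero_mul]; exact h0
    · rw [one_mul]; exact hc
  exact hx _ (hx _ (hx _ (key _ x1) _ (key _ y1)) _ (key _ z1)) _ (key _ u1)

theorem ncard_of_ind {D : Set ℕ} (hD : D.Finite) (h0 : 0 ∈ D)
    (hx : ∀ a ∈ D, ∀ b ∈ D, a ^^^ b ∈ D) {x y z u : ℕ}
    (x1 : x ∈ D) (y1 : y ∈ D) (z1 : z ∈ D) (u1 : u ∈ D) (h : ind x y z u = true) :
    16 ≤ D.ncard := by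
  have hinj : Set.InjOn (comb x y z u) (Finset.range 16 : Set ℕ) := by
    intro a ha b hb hab
    by_contra hne
    have ha' : a < 2 ^ 4 := Finset.mem_range.1 ha
    have hb' : b < 2 ^ 4 := Finset.mem_range.1 hb
    have h1 : comb x y z u (a ^^^ b) = 0 := by rw [comb_xor, hab, Nat.xor_self]
    have h2 : a ^^^ b ≠ 0 := fun h => hne (Nat.xor_eq_zero_iff.1 h)
    have h3 : a ^^^ b < 2 ^ 4 := Nat.xor_lt_two_pow ha' hb'
    unfold ind at h
    rw [List.all_eq_true] at h
    have h4 := h ((a ^^^ b) - 1) (List.mem_range.2 (by omega))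
    rw [Nat.sub_add_cancel (by omega), h1] at h4
    exact absurd h4 (by decide)
  have hsub : (comb x y z u) '' (Finset.range 16 : Set ℕ) ⊆ D := by
    rintro _ ⟨s, -, rfl⟩
    exact comb_mem h0 hx x1 y1 z1 u1 s
  have h5 := Set.ncard_le_ncard hsub hD
  rw [Set.ncard_image_of_injOn hinj, Set.ncard_coe_finset, Finset.card_range] at h5
  exact h5

theorem eq_Wm_aux : ∀ a, a < 2 ^ 12 →
    (!(Nat.beq (par a) 0) || Wm.contains a ||
      ind zm a (actT 922351594332332718182078019647443469 a) (actT 47549985231413358029159116917803744 a) ||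
      ind zm a (actT 922351594332332718182078019647443469 a) (actT 933374610077205358827372720121296016 a)) = true := by
  apply allR_zero_spec
  decide +kernel

/-- a subgroup of order 8 of the cocode, containing `zm` and normalised by `f1 f2 f3`, is `Wm` -/
theorem eq_Wm (D : Set ℕ) (hev : ∀ a ∈ D, ev a = true) (hx : ∀ a ∈ D, ∀ b ∈ D, a ^^^ b ∈ D)
    (hz : zm ∈ D) (h1 : ∀ a ∈ D, act f1 a ∈ D) (h2 : ∀ a ∈ D, act f2 a ∈ D)
    (h3 : ∀ a ∈ D, act f3 a ∈ D) (hc : D.ncard = 8) (a : ℕ) : a ∈ D ↔ a ∈ Wm := by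
  have hfin : D.Finite := Set.finite_of_ncard_ne_zero (by rw [hc]; norm_num)
  have h0 : 0 ∈ D := by
    have := hx _ hz _ hz
    rwa [Nat.xor_self] at this
  have hsub : D ⊆ {b | b ∈ Wm} := by
    intro b hb
    by_contra hn
    have hn' : b ∉ Wm := hn
    have hb' := (ev_iff b).1 (hev b hb)
    have h4 := eq_Wm_aux b hb'.1
    have e1 := act_eq (show IsTab f1 922351594332332718182078019647443469 from isTab_mk _ _) b
    have e2 := act_eq (show IsTab f2 47549985231413358029159116917803744 from isTab_mk _ _) b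
    have e3 := act_eq (show IsTab f3 933374610077205358827372720121296016 from isTab_mk _ _) b
    rw [← e1, ← e2, ← e3, hb'.2] at h4
    have hn2 : Wm.contains b = false := by
      rw [← Bool.not_eq_true, List.contains_iff_mem]
      exact hn'
    rw [hn2] at h4
    simp only [Bool.or_false, Bool.or_eq_true] at h4
    rcases h4 with (h4 | h4) | h4
    · exact absurd h4 (by decide)
    · have := ncard_of_ind hfin h0 hx hz hb (h1 b hb) (h2 b hb) h4
      omega
    · have := ncard_of_ind hfin h0 hx hz hb (h1 b hb) (h3 b hb) h4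
      omega
  have hcard : ({b | b ∈ Wm} : Set ℕ).ncard ≤ D.ncard := by
    have e : ({b | b ∈ Wm} : Set ℕ) = (Wm.toFinset : Set ℕ) := by
      ext b
      simp
    rw [e, Set.ncard_coe_finset, hc]
    decide
  have hWfin : ({b | b ∈ Wm} : Set ℕ).Finite := List.finite_toSet Wm
  have := Set.eq_of_subset_of_ncard_le hsub hcard hWfin
  rw [this]
  exact Iff.rfl

/-! ### (B): the stabiliser of the seven sextets and `sg` -/

/-- the candidates: table of the map sending the point 23 to `q` -/
def candL : List ℕ := [21066070782916114712671465015247959,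
  58668428543717904051560113416635106,
  89059634850795970014892547300187137,
  139732468404759175194542384385607109,
  173948347835850525019346403463682573,
  218491351335442166072094146307308067,
  279745667160142508532493069534404275,
  293915573232416629396834429630225013,
  358960747252388118390413134514375051,
  378085111990433906935473249218407055,
  438197973697409535931712920744076788,
  470472262587108337035523124740436552,
  510346571910236834933795818750225682,
  565599169084188148196479946255319748,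
  605275696686067094499213580888478833,
  630040574082873308381657490698916169,
  691977159068645031813157902368388246,
  722362633986844444268408449107299502,
  767313394004861864388116089858859372,
  790135672979745741559572973024171238,
  849432849787264570331668268407504170,
  873782293339253768849455048339115207,
  922989097591102512789005457391194544,
  984818244535754528103549039458486304]

def cand (q : ℕ) : ℕ := candL.getD q 0

/-- the duads, packed -/
def DB : ℕ := 81592881365154189365780424793424320233833985405204410980178730054679957951430071575108882518959467118364815969353353065827830518536318281737023058097451517293774572208656522253070612136153501719127300349308498384355573304835552734418739502176550986484101668269515241475618206862996851366158851603957472726856096751702468546944841120908960909801822580283050003915227160504763508731628475113713537957482159056703252084193203067576432388135476091879670959092801147978214523791432613598615024056896047413159898123005271523663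68720005225462381913470175608529209366725172437683762470845859132394724608584838122638680072403144698665811613495457548054347029892725508627714212070280385721748146675128779537136859817099067682744623355123288399193927540858513538770351696064530377530784181511817230691251401019147241212050499755595288363037316107259029435738404506918167170093918547997664193983056687176256376766104920727185029301646739286185117479833413557601352556536781946356618340268202793078829953215453793278298621134576880211386250376163056052079387344145959273160202442804861558840311135695036202060724760842790061481285545843197164623067082700216738138275910579079534105371633989344221157188812722754233883313550176088091842160498280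

theorem DB_spec : ∀ i < 24, ∀ j < 24, i ≠ j → DB.testBit (st i ^^^ st j) = true := by
  decide +kernel

/-- the tetrads `23, a, b, c` of the sextets with mask `w` -/
def trip : List (ℕ × ℕ × ℕ × ℕ) := [(904, 2, 3, 17), (904, 3, 2, 17), (904, 17, 2, 3), (1105, 0, 14, 17), (1105, 14, 0, 17), (1105, 17, 0, 14), (2009, 1, 5, 17), (2009, 5, 1, 17), (2009, 17, 1, 5), (2544, 0, 3, 5), (2544, 3, 0, 5), (2544, 5, 0, 3), (2680, 1, 3, 14), (2680, 3, 1, 14), (2680, 14, 1, 3), (3489, 0, 1, 2), (3489, 1, 0, 2), (3489, 2, 0, 1), (3625, 2, 5, 14), (3625, 5, 2, 14), (3625, 14, 2, 5)]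

theorem trip_ok : ∀ t ∈ trip, t.1 ∈ Wm ∧ t.2.1 < 24 ∧ t.2.2.1 < 24 ∧ t.2.2.2 < 24 ∧
    t.2.2.1 ≠ t.2.2.2 ∧
    st 23 ^^^ (st t.2.1 ^^^ (st t.2.2.1 ^^^ st t.2.2.2)) = t.1 := by decide +kernel

def chk1 : Bool := (List.range 24).all fun q => L1.all fun a => (List.range 24).all fun y =>
  Nat.beq y q || Nat.beq y (papp (cand q) a) ||
    !(trip.all fun t => !(Nat.beq t.2.1 a) || DB.testBit (t.1 ^^^ (st q ^^^ st y)))

theorem chk1_ok : chk1 = true := by decide +kernel

theorem cand_ok : ∀ q < 24, isPerm (cand q) = true ∧ papp (cand q) 23 = q ∧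
    (∀ a ∈ 23 :: L1,
      papp (cand q) (papp 173948347835850525019346403463682573 a) =
        papp 173948347835850525019346403463682573 (papp (cand q) a) ∧
      papp (cand q) (papp 173948347835850525019346403463682573
          (papp 173948347835850525019346403463682573 a)) =
        papp 173948347835850525019346403463682573
          (papp 173948347835850525019346403463682573 (papp (cand q) a))) ∧
    (isAut (cand q) = true → q = 23 ∨ q = 4 ∨ q = 7) := by decide +kernel

theorem cover : ∀ j < 24, ∃ a ∈ 23 :: L1, j = a ∨ j = papp 173948347835850525019346403463682573 a ∨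
    j = papp 173948347835850525019346403463682573 (papp 173948347835850525019346403463682573 a) := by
  decide +kernel

theorem L1_lt : ∀ a ∈ 23 :: L1, a < 24 := by decide

theorem fix_W (g : M24) (hW : ∀ w ∈ Wm, act g w = w) (hc : g * sg = sg * g) :
    g = 1 ∨ g = sg ∨ g = sg * sg := by
  obtain ⟨σ, hσ⟩ : ∃ σ : ℕ → ℕ, ∀ i, σ i = idx ((g : Equiv.Perm GolayPt) (pt i)) :=
    ⟨_, fun _ => rfl⟩
  have hlt : ∀ i, σ i < 24 := fun i => by rw [hσ]; exact idx_lt _
  have hinj : ∀ {i j : ℕ}, i < 24 → j < 24 → i ≠ j → σ i ≠ σ j := by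
    intro i j hi hj hij h
    rw [hσ, hσ] at h
    have h1 := (g : Equiv.Perm GolayPt).injective (idx_injective h)
    apply hij
    rw [← idx_pt hi, ← idx_pt hj, h1]
  have hst : ∀ {i : ℕ}, i < 24 → act g (st i) = st (σ i) := by
    intro i hi
    have h := act_st g (pt i)
    rw [idx_pt hi] at h
    rw [h, hσ]
  -- duads
  have hD : ∀ t ∈ trip, DB.testBit (t.1 ^^^ (st (σ 23) ^^^ st (σ t.2.1))) = true := by
    intro t ht
    obtain ⟨h1, h2, h3, h4, h5, h6⟩ := trip_ok t ht
    have h7 := hW _ h1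
    rw [← h6, act_xor, act_xor, act_xor, hst (by norm_num), hst h2, hst h3, hst h4, h6] at h7
    have h8 : t.1 ^^^ (st (σ 23) ^^^ st (σ t.2.1)) = st (σ t.2.2.1) ^^^ st (σ t.2.2.2) := by
      rw [← h7]
      have e : ∀ x y z : ℕ, x ^^^ (y ^^^ z) ^^^ (x ^^^ y) = z := by
        intro x y z
        calc x ^^^ (y ^^^ z) ^^^ (x ^^^ y) = (x ^^^ x) ^^^ ((y ^^^ y) ^^^ z) := by ac_rfl
          _ = z := by rw [Nat.xor_self, Nat.xor_self, Nat.zero_xor, Nat.zero_xor]
      exact e _ _ _
    rw [h8]
    exact DB_spec _ (hlt _) _ (hlt _) (hinj h3 h4 h5)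
  set q := σ 23 with hq
  have hq24 : q < 24 := hlt 23
  obtain ⟨c1, c2, c3, c4⟩ := cand_ok q hq24
  -- the values on the first octad
  have hv : ∀ a ∈ 23 :: L1, σ a = papp (cand q) a := by
    intro a ha
    rw [List.mem_cons] at ha
    rcases ha with rfl | ha
    · rw [c2]
    · have h1 := chk1_ok
      unfold chk1 at h1
      rw [List.all_eq_true] at h1
      have h2 := h1 q (List.mem_range.2 hq24)
      rw [List.all_eq_true] at h2
      have h3 := h2 a ha
      rw [List.all_eq_true] at h3
      have h4 := h3 (σ a) (List.mem_range.2 (hlt a))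
      rw [Bool.or_eq_true, Bool.or_eq_true, Nat.beq_eq, Nat.beq_eq] at h4
      rcases h4 with (h4 | h4) | h4
      · exfalso
        have h23 : (a : ℕ) ≠ 23 := by
          rintro rfl
          exact absurd ha (by decide)
        exact hinj (L1_lt a (List.mem_cons_of_mem _ ha)) (by norm_num) h23 h4
      · exact h4
      · exfalso
        have h5 : (trip.all fun t => !(Nat.beq t.2.1 a) ||
            DB.testBit (t.1 ^^^ (st q ^^^ st (σ a)))) = true := by
          rw [List.all_eq_true]
          intro t ht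
          by_cases h6 : t.2.1 = a
          · have h7 := hD t ht
            rw [h6] at h7
            rw [h7, Bool.or_true]
          · have : Nat.beq t.2.1 a = false := by
              rw [← Bool.not_eq_true, Nat.beq_eq]
              exact h6
            rw [this]
            rfl
        rw [h5] at h4
        exact absurd h4 (by decide)
  -- commutation with `sg`
  have hcomm : ∀ {i : ℕ}, i < 24 → σ (papp 173948347835850525019346403463682573 i) =
      papp 173948347835850525019346403463682573 (σ i) := by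
    intro i hi
    have h1 : (g : Equiv.Perm GolayPt) ((sg : Equiv.Perm GolayPt) (pt i)) =
        (sg : Equiv.Perm GolayPt) ((g : Equiv.Perm GolayPt) (pt i)) := by
      have := congrArg (fun x : M24 => (x : Equiv.Perm GolayPt) (pt i)) hc
      exact this
    have h2 := isTab_sg (pt i)
    rw [idx_pt hi] at h2
    have h3 := isTab_sg ((g : Equiv.Perm GolayPt) (pt i))
    rw [← h1, ← hσ] at h3
    rw [← h3, hσ, ← h2, pt_idx]
  have hps : ∀ i < 24, papp 173948347835850525019346403463682573 i < 24 := by decide +kernel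
  have htab : ∀ i < 24, σ i = papp (cand q) i := by
    intro i hi
    obtain ⟨a, ha, h | h | h⟩ := cover i hi
    · rw [h]; exact hv a ha
    · rw [h, hcomm (L1_lt a ha), hv a ha, (c3 a ha).1]
    · rw [h, hcomm (hps _ (L1_lt a ha)), hcomm (L1_lt a ha), hv a ha, (c3 a ha).2]
  have hT : IsTab g (cand q) := by
    intro p
    rw [← htab _ (idx_lt p), hσ, pt_idx]
  have hperm : permOf (cand q) c1 = (g : Equiv.Perm GolayPt) := by
    apply Equiv.ext
    intro p
    apply idx_injective
    rw [idx_permOf, hT]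
  have haut : isAut (cand q) = true := isAut_of_mem_M24 c1 (by rw [hperm]; exact g.2)
  rcases c4 haut with h | h | h
  · left
    rw [h] at hT
    rw [show cand 23 = pone by decide +kernel] at hT
    exact hT.eq isTab_one
  · right; left
    rw [h] at hT
    rw [show cand 4 = 173948347835850525019346403463682573 by decide +kernel] at hT
    exact hT.eq isTab_sg
  · right; right
    rw [h] at hT
    rw [show cand 7 = CocodeMask.pcomp 173948347835850525019346403463682573
      173948347835850525019346403463682573 by decide +kernel] at hT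
    exact hT.eq (isTab_sg.mul isTab_sg)

end Cfsg.Agent.J4Type.TauM24
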