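import Cfsg.Agent.J4Type.HexPerms
import Cfsg.Agent.J4Type.CocodeMask
import Cfsg.Agent.J4Type.HexMax
import Cfsg.Agent.SporadicA.OctadFix
import Cfsg.Agent.SporadicStructure.M24Frame

/-!
# R07 (J₄ type), part (e): explicit facts about `M22:2` acting on `hex0` and `hex1` (helper461)

* `hq i`, `i : Fin 6`: the six points of `hex0` outside `base`;
* `partner a b` : the matching of the six points `hp i` attached to the pair `hq a`, `hq b`
  (`hq a, hq b, hp i, hp j` and `base` are in an octad);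
* `eq_of_hp` : elements of `M22:2` preserving `hex0` and `hex1` are determined by the action on the
  points `hp i`;
* `hex_cases`, `card_Oa`, `card_Ob`: hexads meeting `hex0` in four points and invariant under `sp`.
-/

set_option autoImplicit false

open scoped Pointwise

namespace Cfsg.Agent.J4Type.TauP

open Cfsg Cfsg.Agent.SporadicA.GolayBase Cfsg.Agent.SporadicA.GolayPerm
open Cfsg.Agent.SporadicA.OctadFix Cfsg.Agent.SporadicStructure
open Cfsg.Agent.J4Type.CocodeMask Cfsg.Agent.J4Type.HexPerms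

/-! ### elements fixing a hexad pointwise -/

theorem fix_eq {O : Finset GolayPt} (hO : O ∈ octads) {g h : Equiv.Perm GolayPt} (hg : g ∈ M24)
    (hh : h ∈ M24) (hgf : ∀ p ∈ O, g p = p) (hhf : ∀ p ∈ O, h p = p) {p : GolayPt} (hp : p ∉ O)
    (e : g p = h p) : g = h := by
  have hq : h p ∉ O := by
    intro hq
    have := hhf _ hq
    exact hp (h.injective this ▸ hq)
  obtain ⟨u, -, hu⟩ := existsUnique_fixOct hO hp hq
  rw [hu g ⟨mem_fixOct.2 ⟨hg, hgf⟩, e⟩, hu h ⟨mem_fixOct.2 ⟨hh, hhf⟩, rfl⟩]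

theorem fix_sq {O : Finset GolayPt} (hO : O ∈ octads) {g : Equiv.Perm GolayPt} (hg : g ∈ M24)
    (hgf : ∀ p ∈ O, g p = p) (p : GolayPt) : g (g p) = p := by
  have := fixOct_sq hO (mem_fixOct.2 ⟨hg, hgf⟩)
  rw [← Equiv.Perm.mul_apply, this, Equiv.Perm.one_apply]

theorem hp_notMem : ∀ i : Fin 6, hp i ∉ hex0 := by decide +kernel

/-- an element of the pointwise stabiliser of `hex0` mapping `hp i` to `hp j` -/
theorem eq_gO {g : Equiv.Perm GolayPt} (hg : g ∈ M24) (hgf : ∀ p ∈ hex0, g p = p) {i j : Fin 6}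
    (h : g (hp i) = hp j) : g = gO (mo i j) :=
  fix_eq hex0_isHex.1 hg (gO_mem _) hgf (gO_fix _) (hp_notMem i) (h.trans (gO_hp i j).symm)

theorem gO_pair : ∀ i j a b : Fin 6, i ≠ j → gO (mo i j) (hp a) = hp b →
    (a = i ∧ b = j) ∨ (a = j ∧ b = i) := by decide +kernel

/-! ### the six points of `hex0` -/

/-- the six points of `hex0` outside `base` -/
def hq : Fin 6 → GolayPt := ![gp 4, gp 2, gp 11, gp 5, gp 6, gp 10]

theorem hq_injective : Function.Injective hq := by decide +kernel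

theorem mem_hex1_cases : ∀ p : GolayPt, p ∈ hex1 → p ∈ base ∨ ∃ i : Fin 6, p = hp i := by
  decide +kernel

theorem mem_hex0_cases : ∀ p : GolayPt, p ∈ hex0 → p ∈ base ∨ ∃ i : Fin 6, p = hq i := by
  decide +kernel

theorem hp_mem : ∀ i : Fin 6, hp i ∈ hex1 := by decide +kernel
theorem hq_mem : ∀ i : Fin 6, hq i ∈ hex0 := by decide +kernel
theorem hq_notMem : ∀ i : Fin 6, hq i ∉ hex1 := by decide +kernel
theorem hp_notMem_base : ∀ i : Fin 6, hp i ∉ base := by decide +kernel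
theorem hq_notMem_base : ∀ i : Fin 6, hq i ∉ base := by decide +kernel

theorem exists_hp {q : Equiv.Perm GolayPt} (hq : q • base = base) (h1 : q • hex1 = hex1)
    (i : Fin 6) : ∃ j, q (hp i) = hp j := by
  have h2 : q (hp i) ∈ hex1 := by
    rw [← h1]; exact (mem_smul_iff q hex1 (hp i)).2 (hp_mem i)
  rcases mem_hex1_cases _ h2 with h | h
  · exfalso
    rw [← hq, mem_smul_iff] at h
    exact hp_notMem_base i h
  · exact h

theorem exists_hq {q : Equiv.Perm GolayPt} (hb : q • base = base) (h0 : q • hex0 = hex0)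
    (i : Fin 6) : ∃ j, q (hq i) = hq j := by
  have h2 : q (hq i) ∈ hex0 := by
    rw [← h0]; exact (mem_smul_iff q hex0 (hq i)).2 (hq_mem i)
  rcases mem_hex0_cases _ h2 with h | h
  · exfalso
    rw [← hb, mem_smul_iff] at h
    exact hq_notMem_base i h
  · exact h

/-! ### the dictionary -/

/-- `base, hq a, hq b, hp i, hp j` are in an octad -/
def Syn (a b i j : Fin 6) : Prop := ∃ O, IsHex O ∧ hq a ∈ O ∧ hq b ∈ O ∧ hp i ∈ O ∧ hp j ∈ O

/-- the matching of `Fin 6` attached to the pair `a, b` -/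
def partner : Fin 6 → Fin 6 → Fin 6 → Fin 6 :=
  ![![![0, 1, 2, 3, 4, 5], ![1, 0, 3, 2, 5, 4], ![5, 2, 1, 4, 3, 0], ![4, 3, 5, 1, 0, 2],
      ![2, 4, 0, 5, 1, 3], ![3, 5, 4, 0, 2, 1]],
    ![![1, 0, 3, 2, 5, 4], ![0, 1, 2, 3, 4, 5], ![3, 4, 5, 0, 1, 2], ![2, 5, 0, 4, 3, 1],
      ![5, 3, 4, 1, 2, 0], ![4, 2, 1, 5, 0, 3]],
    ![![5, 2, 1, 4, 3, 0], ![3, 4, 5, 0, 1, 2], ![0, 1, 2, 3, 4, 5], ![1, 0, 4, 5, 2, 3],
      ![4, 5, 3, 2, 0, 1], ![2, 3, 0, 1, 5, 4]],
    ![![4, 3, 5, 1, 0, 2], ![2, 5, 0, 4, 3, 1], ![1, 0, 4, 5, 2, 3], ![0, 1, 2, 3, 4, 5],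
      ![3, 2, 1, 0, 5, 4], ![5, 4, 3, 2, 1, 0]],
    ![![2, 4, 0, 5, 1, 3], ![5, 3, 4, 1, 2, 0], ![4, 5, 3, 2, 0, 1], ![3, 2, 1, 0, 5, 4],
      ![0, 1, 2, 3, 4, 5], ![1, 0, 5, 4, 3, 2]],
    ![![3, 5, 4, 0, 2, 1], ![4, 2, 1, 5, 0, 3], ![2, 3, 0, 1, 5, 4], ![5, 4, 3, 2, 1, 0],
      ![1, 0, 5, 4, 3, 2], ![0, 1, 2, 3, 4, 5]]]

/-- the codewords of weight 8 through `base` -/
def isHexMask (m : ℕ) : Bool := m.testBit 0 && m.testBit 23 && Nat.beq (popcount m) 8

theorem exists_enc {O : Finset GolayPt} (hO : IsHex O) :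
    ∃ i < 4096, O = fin (enc i) ∧ isHexMask (enc i) = true := by
  obtain ⟨h1, h2⟩ := (mem_octads_iff O).1 hO.1
  obtain ⟨i, hi, h3⟩ := isCode_iff_exists.1 h1
  refine ⟨i, hi, by rw [← h3, fin_maskOf], ?_⟩
  have h4 : (maskOf O).testBit 0 = true := by
    have := (testBit_maskOf O (some 0))
    have e : idx (some 0 : GolayPt) = 0 := by decide +kernel
    rw [e] at this
    rw [this]
    exact decide_eq_true (hO.2 (by decide +kernel))
  have h5 : (maskOf O).testBit 23 = true := by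
    have := (testBit_maskOf O none)
    have e : idx (none : GolayPt) = 23 := by decide +kernel
    rw [e] at this
    rw [this]
    exact decide_eq_true (hO.2 (by decide +kernel))
  rw [← h3]
  unfold isHexMask
  rw [h4, h5, h2]
  rfl

def hqN : Fin 6 → ℕ := ![4, 2, 11, 5, 6, 10]
def hpN : Fin 6 → ℕ := ![3, 8, 14, 15, 18, 20]

theorem idx_hq : ∀ a, idx (hq a) = hqN a := by decide +kernel
theorem idx_hp : ∀ a, idx (hp a) = hpN a := by decide +kernel

theorem syn_check : ∀ i, i < 2 ^ 12 → (!isHexMask (enc i) ||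
    decide (∀ a : Fin 6, (enc i).testBit (hqN a) = true → ∀ b : Fin 6, a ≠ b →
      (enc i).testBit (hqN b) = true → ∀ x : Fin 6, (enc i).testBit (hpN x) = true →
      ∀ y : Fin 6, x ≠ y → (enc i).testBit (hpN y) = true → partner a b x = y)) = true := by
  apply allR_zero_spec
  decide +kernel

theorem partner_of_syn {a b i j : Fin 6} (hab : a ≠ b) (hij : i ≠ j) (h : Syn a b i j) :
    partner a b i = j := by
  obtain ⟨O, hO, h1, h2, h3, h4⟩ := h
  obtain ⟨k, hk, rfl, hm⟩ := exists_enc hO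
  have h5 := syn_check k (by omega)
  rw [hm, Bool.not_true, Bool.false_or, decide_eq_true_eq] at h5
  rw [mem_fin, idx_hq] at h1 h2
  rw [mem_fin, idx_hp] at h3 h4
  exact h5 a h1 b hab h2 i h3 j hij h4

theorem syn_smul {q : Equiv.Perm GolayPt} (hq' : q ∈ M22d) {a b i j a' b' i' j' : Fin 6}
    (h : Syn a b i j) (ha : q (hq a) = hq a') (hb : q (hq b) = hq b') (hi : q (hp i) = hp i')
    (hj : q (hp j) = hp j') : Syn a' b' i' j' := by
  obtain ⟨O, hO, h1, h2, h3, h4⟩ := h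
  refine ⟨q • O, HexMax.smul_isHex hq' hO, ?_, ?_, ?_, ?_⟩
  · rw [← ha]; exact (mem_smul_iff q O _).2 h1
  · rw [← hb]; exact (mem_smul_iff q O _).2 h2
  · rw [← hi]; exact (mem_smul_iff q O _).2 h3
  · rw [← hj]; exact (mem_smul_iff q O _).2 h4

/-- the 45 hexads meeting `hex0` and `hex1` in four points -/
def synL : List ℕ := [8966165, 10846245, 8536111, 8663097, 9506893, 11575377, 13893731, 9830549,
  12599513, 9969957, 12747077, 9240913, 10506593, 8421811, 9519665, 8675909, 8946281, 10486557,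
  13370381, 10765331, 8619033, 12641313, 10110017, 11535529, 8688833, 13636881, 8398155, 8471941,
  9471495, 8783649, 15747077, 9963547, 9607201, 8505411, 10881097, 8431757, 9193633, 8657159,
  8546577, 12650793, 12880401, 9440193, 9776129, 11046145, 8412681]

theorem synL_hex : ∀ m ∈ synL, (isHexMask m && isCode m) = true := by decide +kernel

theorem synL_syn : ∀ a b i : Fin 6, a ≠ b → ∃ m ∈ synL, (m.testBit (hqN a) && m.testBit (hqN b) &&
    m.testBit (hpN i) && m.testBit (hpN (partner a b i))) = true := by decide +kernel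

theorem isHex_of_mask' {m : ℕ} (h : (isHexMask m && isCode m) = true) : IsHex (fin m) := by
  unfold isHexMask at h
  simp only [Bool.and_eq_true] at h
  obtain ⟨⟨⟨h1, h2⟩, h3⟩, h4⟩ := h
  refine ⟨(fin_mem_octads_iff (isCode_lt h4)).2 ⟨h4, Nat.eq_of_beq_eq_true h3⟩, ?_⟩
  intro x hx
  rw [mem_fin]
  rcases Finset.mem_insert.1 hx with rfl | hx
  · exact h2
  · rw [Finset.mem_singleton.1 hx]
    exact h1

theorem syn_partner {a b : Fin 6} (hab : a ≠ b) (i : Fin 6) : Syn a b i (partner a b i) := by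
  obtain ⟨m, hm, h⟩ := synL_syn a b i hab
  simp only [Bool.and_eq_true] at h
  obtain ⟨⟨⟨h1, h2⟩, h3⟩, h4⟩ := h
  refine ⟨fin m, isHex_of_mask' (synL_hex m hm), ?_, ?_, ?_, ?_⟩ <;> rw [mem_fin]
  · rw [idx_hq]; exact h1
  · rw [idx_hq]; exact h2
  · rw [idx_hp]; exact h3
  · rw [idx_hp]; exact h4

theorem partner_ne : ∀ a b i : Fin 6, a ≠ b → i ≠ partner a b i := by decide +kernel

theorem pairs_eq : ∀ a b a' b' : Fin 6, a ≠ b → a' ≠ b' →
    (∀ x, partner a b x = partner a' b' x) → (a = a' ∧ b = b') ∨ (a = b' ∧ b = a') := by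
  decide +kernel

/-- two maps with the same effect on pairs -/
theorem fix_of_pairs {σ c : Fin 6 → Fin 6} (hc : Function.Injective c)
    (h : ∀ a b, a ≠ b → (σ a = c a ∧ σ b = c b) ∨ (σ a = c b ∧ σ b = c a)) (a : Fin 6) :
    σ a = c a := by
  have h1 : ∀ a : Fin 6, ∃ b d, a ≠ b ∧ a ≠ d ∧ b ≠ d := by decide
  obtain ⟨b, d, hab, had, hbd⟩ := h1 a
  rcases h a b hab with h2 | h2
  · exact h2.1
  · rcases h a d had with h3 | h3
    · exact h3.1
    · exact absurd (hc (h2.1.symm.trans h3.1)) hbd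

/-- the dictionary for an element of `M22:2` fixing `hex0` and `hex1` -/
theorem key_pairs {q : Equiv.Perm GolayPt} (hq' : q ∈ M22d) (h0 : q • hex0 = hex0)
    {c : Fin 6 → Fin 6} (hc : ∀ i, q (hp i) = hp (c i)) {a b a' b' : Fin 6} (hab : a ≠ b)
    (hab' : a' ≠ b') (h : ∀ y, partner a' b' (c y) = c (partner a b y)) :
    (q (hq a) = hq a' ∧ q (hq b) = hq b') ∨ (q (hq a) = hq b' ∧ q (hq b) = hq a') := by
  obtain ⟨k, hk⟩ := exists_hq hq'.2 h0 a
  obtain ⟨l, hl⟩ := exists_hq hq'.2 h0 b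
  have hkl : k ≠ l := by
    rintro rfl
    exact hab (hq_injective (q.injective (hk.trans hl.symm)))
  have hci : Function.Injective c := by
    intro x y hxy
    apply hp_injective
    apply q.injective
    rw [hc, hc, hxy]
  have hcs : Function.Surjective c := Finite.surjective_of_injective hci
  have key : ∀ x, partner k l x = partner a' b' x := by
    intro x
    obtain ⟨y, rfl⟩ := hcs x
    rw [h]
    apply partner_of_syn hkl
    · intro h1
      exact partner_ne a b y hab (hci h1)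
    · exact syn_smul hq' (syn_partner hab y) hk hl (hc _) (hc _)
  rcases pairs_eq k l a' b' hkl hab' key with ⟨rfl, rfl⟩ | ⟨rfl, rfl⟩
  · exact Or.inl ⟨hk, hl⟩
  · exact Or.inr ⟨hk, hl⟩

/-- an element of `M22:2` preserving `hex0` and fixing the points `hp i` is trivial -/
theorem eq_one_of_hp {q : Equiv.Perm GolayPt} (hq' : q ∈ M22d) (h0 : q • hex0 = hex0)
    (hc : ∀ i, q (hp i) = hp i) : q = 1 := by
  have h1 : ∀ a, q (hq a) = hq a := by
    choose σ hσ using fun a => exists_hq hq'.2 h0 a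
    have h2 : ∀ a, σ a = id a := by
      apply fix_of_pairs Function.injective_id
      intro a b hab
      rcases key_pairs hq' h0 (c := id) hc hab hab (fun y => rfl) with ⟨h3, h4⟩ | ⟨h3, h4⟩
      · left
        exact ⟨hq_injective ((hσ a).symm.trans h3), hq_injective ((hσ b).symm.trans h4)⟩
      · right
        exact ⟨hq_injective ((hσ a).symm.trans h3), hq_injective ((hσ b).symm.trans h4)⟩
    intro a
    rw [hσ, h2]
    rfl
  apply M24Frame.eq_one_of_fix_frame hq'.1 hex0_isHex.1 (s := Finset.univ.image hq)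
    (p := hp 0)
  · intro x hx
    obtain ⟨a, -, rfl⟩ := Finset.mem_image.1 hx
    exact hq_mem a
  · rw [Finset.card_image_of_injective _ hq_injective]
    decide
  · intro x hx
    obtain ⟨a, -, rfl⟩ := Finset.mem_image.1 hx
    exact h1 a
  · exact hp_notMem 0
  · exact hc 0

theorem eq_of_hp {q q' : Equiv.Perm GolayPt} (h : q ∈ M22d) (h' : q' ∈ M22d)
    (h0 : q • hex0 = hex0) (h0' : q' • hex0 = hex0) (hc : ∀ i, q (hp i) = q' (hp i)) :
    q = q' := by
  have h1 : q'⁻¹ * q = 1 := by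
    apply eq_one_of_hp (mul_mem (inv_mem h') h)
    · rw [mul_smul, h0, inv_smul_eq_iff, h0']
    · intro i
      rw [Equiv.Perm.mul_apply, hc]
      exact Equiv.symm_apply_apply q' _
  exact (inv_mul_eq_one.1 h1).symm

/-! ### explicit elements -/

theorem app_of_tab {g : M24} {T : ℕ} (hg : IsTab g T) {p q : GolayPt}
    (h : papp T (idx p) = idx q) : (g : Equiv.Perm GolayPt) p = q :=
  idx_injective (by rw [hg, h])

theorem maskOf_smul_mk (P : ℕ) (h : (isPerm P && isAut P) = true) (s : Finset GolayPt) :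
    maskOf (((mk P h : M24) : Equiv.Perm GolayPt) • s) = pimg P (maskOf s) :=
  maskOf_smul (by rw [Bool.and_eq_true] at h; exact h.1) s

theorem smul_of_mask (P : ℕ) (h : (isPerm P && isAut P) = true) {s t : Finset GolayPt} (m n : ℕ)
    (hs : s = fin m) (ht : t = fin n) (hm : m < 2 ^ 24) (h' : pimg P m = n) :
    ((mk P h : M24) : Equiv.Perm GolayPt) • s = t := by
  apply maskOf_injective
  have hn : n < 2 ^ 24 := by
    rw [← h']
    exact pimg_lt (by rw [Bool.and_eq_true] at h; exact h.1) m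
  rw [maskOf_smul_mk, hs, ht, maskOf_fin hm, maskOf_fin hn, h']

theorem base_eq : base = fin 8388609 := by decide +kernel
theorem hex0_eq' : hex0 = fin 8391797 := hex0_eq

def spT : ℕ := 957178292741824044164242122337618336
def lpT : ℕ := 976535332656625866811670459970588704
def gaT : ℕ := 959823939071994704882402347086186784

/-- acts on the points `hp i` as `i ↦ i + 2` -/
noncomputable def sp : M24 := mk spT (by decide +kernel)
/-- acts on the points `hp i` as the column permutation of `lam` -/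
noncomputable def lp : M24 := mk lpT (by decide +kernel)
/-- fixes `hex0` pointwise -/
noncomputable def ga : M24 := mk gaT (by decide +kernel)

theorem sp_hp (i : Fin 6) : (sp : Equiv.Perm GolayPt) (hp i) = hp (i + 2) :=
  app_of_tab (isTab_mk _ _) (by revert i; decide +kernel)

theorem lp_hp (i : Fin 6) : (lp : Equiv.Perm GolayPt) (hp i) = hp (![0, 1, 5, 4, 3, 2] i) :=
  app_of_tab (isTab_mk _ _) (by revert i; decide +kernel)

theorem sp_base : (sp : Equiv.Perm GolayPt) • base = base :=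
  smul_of_mask _ _ _ _ base_eq base_eq (by norm_num) (by decide +kernel)
theorem lp_base : (lp : Equiv.Perm GolayPt) • base = base :=
  smul_of_mask _ _ _ _ base_eq base_eq (by norm_num) (by decide +kernel)
theorem sp_hex0 : (sp : Equiv.Perm GolayPt) • hex0 = hex0 :=
  smul_of_mask _ _ _ _ hex0_eq' hex0_eq' (by norm_num) (by decide +kernel)
theorem lp_hex0 : (lp : Equiv.Perm GolayPt) • hex0 = hex0 :=
  smul_of_mask _ _ _ _ hex0_eq' hex0_eq' (by norm_num) (by decide +kernel)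

theorem ga_fix (p : GolayPt) (hp : p ∈ hex0) : (ga : Equiv.Perm GolayPt) p = p :=
  app_of_tab (isTab_mk _ _) (by revert p; decide +kernel)

theorem sp_mem : (sp : Equiv.Perm GolayPt) ∈ M22d := ⟨sp.2, sp_base⟩
theorem lp_mem : (lp : Equiv.Perm GolayPt) ∈ M22d := ⟨lp.2, lp_base⟩

/-- `{0, 1, 2, 4, 13, 16, 22, 23}` -/
def hex2 : Finset GolayPt := fin 12656663
/-- `{0, 2, 9, 11, 16, 17, 19, 23}` -/
def Oa : Finset GolayPt := fin 9112069
/-- `{0, 4, 7, 11, 12, 16, 21, 23}` -/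
def Ob : Finset GolayPt := fin 10557585

theorem hex_check : ∀ i, i < 2 ^ 12 → (!isHexMask (enc i) ||
    (!Nat.beq (pimg spT (enc i)) (enc i) || (!Nat.beq (popcount (enc i &&& 8391797)) 4 ||
      (Nat.beq (enc i) 12656663 || (Nat.beq (enc i) 9112069 ||
        Nat.beq (enc i) 10557585))))) = true := by
  apply allR_zero_spec
  decide +kernel

theorem hex_cases {O : Finset GolayPt} (hO : IsHex O) (hs : (sp : Equiv.Perm GolayPt) • O = O)
    (h4 : (O ∩ hex0).card = 4) : O = hex2 ∨ O = Oa ∨ O = Ob := by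
  obtain ⟨i, hi, rfl, hm⟩ := exists_enc hO
  have h5 := hex_check i (by omega)
  have h6 : pimg spT (enc i) = enc i := by
    have := congrArg maskOf hs
    rwa [sp, maskOf_smul_mk, maskOf_fin (enc_lt _)] at this
  have h7 : popcount (enc i &&& 8391797) = 4 := by
    rw [← card_fin, fin_and, ← hex0_eq']
    exact h4
  rw [hm, h6, h7] at h5
  simp only [Nat.beq_refl, Bool.not_true, Bool.false_or, Bool.or_eq_true] at h5
  rcases h5 with h5 | h5 | h5
  · left; rw [Nat.eq_of_beq_eq_true h5]; rfl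
  · right; left; rw [Nat.eq_of_beq_eq_true h5]; rfl
  · right; right; rw [Nat.eq_of_beq_eq_true h5]; rfl

theorem isHex_hex2 : IsHex hex2 := isHex_of_mask' (by decide +kernel)
theorem isHex_Oa : IsHex Oa := isHex_of_mask' (by decide +kernel)
theorem isHex_Ob : IsHex Ob := isHex_of_mask' (by decide +kernel)

theorem hex2_inter : (hex0 ∩ hex2).card = 4 := by
  rw [hex0_eq', hex2, ← fin_and, card_fin]
  decide +kernel

theorem hex2_ne : hex2 ≠ hex0 := by
  rw [hex0_eq', hex2]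
  intro h
  have := fin_injective (by norm_num) (by norm_num) h
  norm_num at this

theorem card_move (m : ℕ) (hm : m < 2 ^ 24) (h : popcount (pimg gaT (pimg lpT m) &&& m) = 2) :
    ((ga : Equiv.Perm GolayPt) • (lp : Equiv.Perm GolayPt) • fin m ∩ fin m).card = 2 := by
  have e : maskOf ((ga : Equiv.Perm GolayPt) • (lp : Equiv.Perm GolayPt) • fin m) =
      pimg gaT (pimg lpT m) := by
    rw [ga, maskOf_smul_mk, lp, maskOf_smul_mk, maskOf_fin hm]
  rw [← fin_maskOf ((ga : Equiv.Perm GolayPt) • (lp : Equiv.Perm GolayPt) • fin m), e, ← fin_and,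
    card_fin, h]

theorem card_Oa : ((ga : Equiv.Perm GolayPt) • (lp : Equiv.Perm GolayPt) • Oa ∩ Oa).card = 2 :=
  card_move _ (by norm_num) (by decide +kernel)

theorem card_Ob : ((ga : Equiv.Perm GolayPt) • (lp : Equiv.Perm GolayPt) • Ob ∩ Ob).card = 2 :=
  card_move _ (by norm_num) (by decide +kernel)

/-! ### column permutations -/

/-- a permutation of the columns carrying the matching `01 | 23 | 45` to `partner a b` -/
def cp : Fin 6 → Fin 6 → Fin 6 → Fin 6 :=
  ![![![0, 1, 2, 3, 4, 5], ![0, 1, 2, 3, 4, 5], ![0, 5, 1, 2, 3, 4], ![0, 4, 1, 3, 2, 5],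
      ![0, 2, 1, 4, 3, 5], ![0, 3, 1, 5, 2, 4]],
    ![![0, 1, 2, 3, 4, 5], ![0, 1, 2, 3, 4, 5], ![0, 3, 1, 4, 2, 5], ![0, 2, 1, 5, 3, 4],
      ![0, 5, 1, 3, 2, 4], ![0, 4, 1, 2, 3, 5]],
    ![![0, 5, 1, 2, 3, 4], ![0, 3, 1, 4, 2, 5], ![0, 1, 2, 3, 4, 5], ![0, 1, 2, 4, 3, 5],
      ![0, 4, 1, 5, 2, 3], ![0, 2, 1, 3, 4, 5]],
    ![![0, 4, 1, 3, 2, 5], ![0, 2, 1, 5, 3, 4], ![0, 1, 2, 4, 3, 5], ![0, 1, 2, 3, 4, 5],
      ![0, 3, 1, 2, 4, 5], ![0, 5, 1, 4, 2, 3]],
    ![![0, 2, 1, 4, 3, 5], ![0, 5, 1, 3, 2, 4], ![0, 4, 1, 5, 2, 3], ![0, 3, 1, 2, 4, 5],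
      ![0, 1, 2, 3, 4, 5], ![0, 1, 2, 5, 3, 4]],
    ![![0, 3, 1, 5, 2, 4], ![0, 4, 1, 2, 3, 5], ![0, 2, 1, 3, 4, 5], ![0, 5, 1, 4, 2, 3],
      ![0, 1, 2, 5, 3, 4], ![0, 1, 2, 3, 4, 5]]]

theorem cp_injective : ∀ a b x y : Fin 6, cp a b x = cp a b y → x = y := by decide +kernel

theorem cp_spec : ∀ a b y : Fin 6, a ≠ b → partner a b (cp a b y) = cp a b (partner 0 1 y) := by
  decide +kernel

theorem exists_cp {a b : Fin 6} (hab : a ≠ b) :
    ∃ c : Equiv.Perm (Fin 6), ∀ y, partner a b (c y) = c (partner 0 1 y) :=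
  ⟨Equiv.ofBijective (cp a b) (Finite.injective_iff_bijective.1 fun x y h => cp_injective a b x y h),
    fun y => cp_spec a b y hab⟩

end Cfsg.Agent.J4Type.TauP
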