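import Cfsg.Agent.J4Type.TauF
import Cfsg.Agent.J4Type.TauM24
import Cfsg.Agent.J4Type.TauP
import Cfsg.Agent.J4Type.NormE

/-!
# R07 (J₄ type), part (e): the stabiliser of `S0` acts on the group `F'` (helper461)

`conj_fe`: the dictionary between the fifteen elements `fe i j` of `F' = C_{E(hex1)}(ρ)` and the
matchings of the columns.
-/

set_option autoImplicit false

open scoped Pointwise

namespace Cfsg.Agent.J4Type.TauCol

open Cfsg Cfsg.Agent.SporadicA.GolayPerm Cfsg.Agent.J4Type.HexPerms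
open Cfsg.Agent.J4Type.CocodeMask Cfsg.Agent.J4Type.TauM24 Cfsg.Agent.J4Type.TauF
open Cfsg.Agent.J4Type.TauP

variable {G : Type*} [Group G] (C : Compl G)

/-- `φ n` as an element of `C_G(z)` -/
def φc {n : M24} (hn : n ∈ Kz) : Subgroup.centralizer ({C.z} : Set G) :=
  ⟨C.φ n, Subgroup.mem_centralizer_singleton_iff.2 (φ_z C hn)⟩

theorem φc_coe {n : M24} (hn : n ∈ Kz) : (φc C hn : G) = C.φ n := rfl

theorem φc_base {n : M24} (hn : n ∈ Kz) : C.P (φc C hn) • base = base :=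
  (NormE.P_mem C.toCent (φc C hn)).2

theorem φc_hex1 {n : M24} (hn : n ∈ Kz) : C.P (φc C hn) • hex1 = hex1 :=
  C.φ_hex1 n (φc C hn) hn rfl

theorem φc_hex0 {n : M24} (hn : n ∈ Kz) : C.P (φc C hn) • hex0 = hex0 :=
  (NormE.mem_normalizer_iff C.toHex hex0_isHex (φc C hn)).1 (C.φ_mem n)

theorem mem_C_of_E {O : Finset GolayPt} (hO : IsHex O) {a : G} (ha : a ∈ C.E O) :
    a ∈ Subgroup.centralizer ({C.z} : Set G) :=
  Subgroup.mem_centralizer_singleton_iff.2 ((C.E_elem O hO).2 a ha C.z (C.z_mem_E O hO))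

theorem pair_ε_mem {x y : GolayPt} (hxy : x ≠ y) : C.ε {x, y} ∈ C.E hex0 :=
  C.ε_mem _ (by rw [Finset.card_pair hxy]; exact even_two)

theorem tet_disj : ∀ i j : Fin 6, i ≠ j → ∀ x ∈ tet i, x ∉ tet j := by decide +kernel

theorem ne_of_tet {i j : Fin 6} (hij : i ≠ j) {x y : GolayPt} (hx : x ∈ tet i) (hy : y ∈ tet j) :
    x ≠ y := by
  rintro rfl
  exact tet_disj i j hij _ hx hy

/-- the permutation induced by a duad across two tetrads -/
theorem P_ε_eq (a : Subgroup.centralizer ({C.z} : Set G)) {i j : Fin 6} (hij : i ≠ j)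
    {p q : GolayPt} (hp : p ∈ tet i) (hq : q ∈ tet j) (ha : (a : G) = C.ε {p, q}) :
    C.P a = gO (mo i j) := by
  have h1 := C.P_ε a i j hij p hp q hq ha
  obtain ⟨h2, h3⟩ := (C.E_map hex0 hex0_isHex (C.P a)).1
    ⟨a, by rw [ha]; exact pair_ε_mem C (ne_of_tet hij hp hq), rfl⟩
  exact eq_gO h2 h3 h1

/-- `φ n` acts on the points `hp i` as `n` acts on the columns -/
theorem P_φ {n : M24} (hn : n ∈ Kz) {c : Fin 6 → Fin 6}
    (hc : ∀ i, (n : Equiv.Perm GolayPt) • tet i = tet (c i)) (i : Fin 6) :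
    C.P (φc C hn) (hp i) = hp (c i) := by
  have tet_inj : ∀ i j : Fin 6, tet i = tet j → i = j := by decide +kernel
  have hci : Function.Injective c := by
    intro x y hxy
    apply tet_inj
    have : (n : Equiv.Perm GolayPt) • tet x = (n : Equiv.Perm GolayPt) • tet y := by
      rw [hc, hc, hxy]
    exact MulAction.injective _ this
  choose σ hσ using fun i => exists_hp (φc_base C hn) (φc_hex1 C hn) i
  have key : ∀ a, σ a = c a := by
    apply fix_of_pairs hci
    intro a b hab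
    have hne : mog a 0 ≠ mog b 0 := ne_of_tet hab (Finset.mem_image_of_mem _ (Finset.mem_univ _))
      (Finset.mem_image_of_mem _ (Finset.mem_univ _))
    have hma : mog a 0 ∈ tet a := Finset.mem_image_of_mem _ (Finset.mem_univ _)
    have hmb : mog b 0 ∈ tet b := Finset.mem_image_of_mem _ (Finset.mem_univ _)
    have hE := pair_ε_mem C hne
    have hC := mem_C_of_E C hex0_isHex hE
    have h1 := P_ε_eq C ⟨_, hC⟩ hab hma hmb rfl
    have h2 : (φc C hn : G) * C.ε {mog a 0, mog b 0} * (φc C hn : G)⁻¹ =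
        C.ε {(n : Equiv.Perm GolayPt) (mog a 0), (n : Equiv.Perm GolayPt) (mog b 0)} := by
      have h3 := C.π_smul ⟨C.φ n, C.φ_mem n⟩ {mog a 0, mog b 0}
        (by rw [Finset.card_pair hne]; exact even_two)
      rw [C.π_φ, Finset.smul_finset_insert, Finset.smul_finset_singleton] at h3
      exact h3
    have h4 := P_ε_eq C (φc C hn * ⟨_, hC⟩ * (φc C hn)⁻¹) (i := c a) (j := c b)
      (fun h => hab (hci h)) (p := (n : Equiv.Perm GolayPt) (mog a 0))
      (q := (n : Equiv.Perm GolayPt) (mog b 0))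
      (by rw [← hc]; exact (mem_smul_iff _ _ _).2 hma)
      (by rw [← hc]; exact (mem_smul_iff _ _ _).2 hmb) h2
    rw [map_mul, map_mul, h1, map_inv, mul_inv_eq_iff_eq_mul] at h4
    have h5 := congrArg (fun g : Equiv.Perm GolayPt => g (hp a)) h4
    simp only [Equiv.Perm.mul_apply] at h5
    rw [gO_hp, hσ, hσ] at h5
    exact gO_pair _ _ _ _ (fun h => hab (hci h)) h5.symm
  rw [hσ, key]

/-- The dictionary: if `c` carries the matching of `{a, b}` to that of `{a', b'}` -/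
theorem conj_fe {n : M24} (hn : n ∈ Kz) {c : Fin 6 → Fin 6}
    (hc : ∀ i, (n : Equiv.Perm GolayPt) • tet i = tet (c i)) {a b a' b' : Fin 6} (hab : a ≠ b)
    (hab' : a' ≠ b') (h : ∀ y, partner a' b' (c y) = c (partner a b y)) :
    C.φ n * fe C a b * (C.φ n)⁻¹ = fe C a' b' := by
  have pp_hp : ∀ i, (pp : Equiv.Perm GolayPt) (hp i) = hq i := fun i =>
    app_of_tab (isTab_mk _ _) (by revert i; decide +kernel)
  set f : Subgroup.centralizer ({C.z} : Set G) := ⟨_, F'_le C (fe_mem C hab)⟩ with hf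
  set f' : Subgroup.centralizer ({C.z} : Set G) := ⟨_, F'_le C (fe_mem C hab')⟩ with hf'
  have hPf : ∀ i j : Fin 6, ∀ (hij : i ≠ j), ∀ g : Subgroup.centralizer ({C.z} : Set G),
      (g : G) = fe C i j → C.P g (hq i) = hq j := by
    intro i j hij g hg
    have := P_fe C hij g hg
    rwa [pp_hp, pp_hp] at this
  have hmem : ((φc C hn * f * (φc C hn)⁻¹ : Subgroup.centralizer ({C.z} : Set G)) : G) ∈ F' C :=
    conj_mem_F' C hn (fe_mem C hab)
  have hz : IsConj C.z ((φc C hn * f * (φc C hn)⁻¹ : Subgroup.centralizer ({C.z} : Set G)) : G) :=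
    (isConj_fe C hab).trans (isConj_iff.2 ⟨C.φ n, rfl⟩)
  have hkey : C.P (φc C hn * f * (φc C hn)⁻¹) = C.P f' := by
    obtain ⟨h1, h2⟩ := (C.E_map hex1 hex1_isHex (C.P (φc C hn * f * (φc C hn)⁻¹))).1
      ⟨_, hmem.1, rfl⟩
    obtain ⟨h3, h4⟩ := (C.E_map hex1 hex1_isHex (C.P f')).1 ⟨f', (fe_mem C hab').1, rfl⟩
    have h5 : C.P (φc C hn * f * (φc C hn)⁻¹) (C.P (φc C hn) (hq a)) = C.P (φc C hn) (hq b) := by
      rw [map_mul, map_mul, map_inv, ← hPf a b hab f rfl]
      show C.P (φc C hn) (C.P f ((C.P (φc C hn))⁻¹ (C.P (φc C hn) (hq a)))) = _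
      have e : (C.P (φc C hn))⁻¹ (C.P (φc C hn) (hq a)) = hq a := Equiv.symm_apply_apply _ _
      rw [e]
    rcases key_pairs (NormE.P_mem C.toCent (φc C hn)) (φc_hex0 C hn) (P_φ C hn hc) hab hab' h with
      ⟨h6, h7⟩ | ⟨h6, h7⟩
    · rw [h6, h7] at h5
      exact fix_eq hex1_isHex.1 h1 h3 h2 h4 (hq_notMem a') (h5.trans (hPf _ _ hab' f' rfl).symm)
    · rw [h6, h7] at h5
      refine fix_eq hex1_isHex.1 h1 h3 h2 h4 (hq_notMem b') (h5.trans ?_)
      exact (hPf b' a' hab'.symm f' (fe_symm C a' b')).symm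
  exact F'_eq C (φc C hn * f * (φc C hn)⁻¹) f' hmem (fe_mem C hab')
    (fun x _ => by rw [hkey]) hz (not_isConj_fe C hab')

end Cfsg.Agent.J4Type.TauCol
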