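import Cfsg.Agent.J4Type.CloseInst
import Cfsg.Agent.J4Type.NormRho
import Cfsg.Agent.J4Type.HexStab
import Cfsg.Agent.J4Type.NormE
import Cfsg.Agent.J4Type.FrameDefs
import Cfsg.Agent.J4Type.OctadFixTrans

/-!
# R07 (J₄ type), part (e), piece [II]: the group `C_{E(hex1)}(ρ)` (helper552)

`ff i j = ε {mog i 0, mog j 0}` (`i ≠ j`) are 15 involutions of `C_{E(hex0)}(ρ)`; they are
transported to `E(hex1)` by an element of `C_G(z)` exchanging `hex0` and `hex1` and normalising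
`⟨ρ⟩`.  Output: the structure `FPrime`.
-/

set_option autoImplicit false

open scoped Pointwise

namespace Cfsg.Agent.J4Type.TauF

open Cfsg Cfsg.Agent.J4Type Cfsg.Agent.J4Type.HexMax Cfsg.Agent.J4Type.ClosingCocode
  Cfsg.Agent.J4Type.DuadStab Cfsg.Agent.J4Type.CloseInst Cfsg.Agent.SporadicA.GolayBase

attribute [local instance] instComm

section Base

variable {G : Type*} [Group G] (K : Frame G)

/-- the point `mog i 0` -/
def m0 (i : Fin 6) : GolayPt := mog i 0

theorem m0_inj : Function.Injective m0 := by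
  intro i j h
  revert i j
  decide +kernel

/-- the 15 involutions of `C_{E(hex0)}(ρ)` -/
def ff (i j : Fin 6) : G := K.ε {m0 i, m0 j}

theorem ff_eq {i j : Fin 6} (hij : i ≠ j) : ff K i j = ((e K (m0 i) * e K (m0 j) : EE K) : G) :=
  (coe_duad K (fun h => hij (m0_inj h))).symm

theorem ff_mem (i j : Fin 6) (hij : i ≠ j) : ff K i j ∈ EE K := by
  rw [ff_eq K hij]
  exact (e K (m0 i) * e K (m0 j)).2

theorem ff_symm (i j : Fin 6) : ff K i j = ff K j i := by
  unfold ff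
  rw [Finset.pair_comm]

theorem ff_mul {i j k : Fin 6} (hij : i ≠ j) (hjk : j ≠ k) (hik : i ≠ k) :
    ff K i j * ff K j k = ff K i k := by
  rw [ff_eq K hij, ff_eq K hjk, ff_eq K hik, ← Subgroup.coe_mul]
  congr 1
  calc (e K (m0 i) * e K (m0 j)) * (e K (m0 j) * e K (m0 k)) =
      e K (m0 i) * (e K (m0 j) * e K (m0 j)) * e K (m0 k) := by group
    _ = e K (m0 i) * e K (m0 k) := by rw [e_sq, mul_one]

theorem ff_sq (i j : Fin 6) (hij : i ≠ j) : ff K i j * ff K i j = 1 :=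
  (EE_elem K).1 _ (ff_mem K i j hij)

/-- the six points `mog i 0` -/
def six : Finset GolayPt := Finset.univ.image m0

theorem six_code : IsCode (symmDiff six (tet 0)) := by
  have h : symmDiff six (tet 0) ∈ octads := by
    rw [mem_octads_iff]
    decide +kernel
  exact h.1

theorem ε_six : K.ε six = K.z := by
  have h6 : six.card = 6 := by decide +kernel
  have h1 := (K.ε_ker (symmDiff six (tet 0)) (by
    rw [Nat.even_iff, card_symmDiff_parity, h6, tet_card])).2 six_code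
  rw [K.ε_mul _ _ (by rw [h6]; decide) (by rw [tet_card]; decide), K.ε_tet 0] at h1
  have hzz : K.z * K.z = 1 := NormE.z_sq K.toCent
  calc K.ε six = K.ε six * K.z * K.z := by rw [mul_assoc, hzz, mul_one]
    _ = K.z := by rw [h1, one_mul]

/-- products over perfect matchings -/
theorem ff_match {i j k l m n : Fin 6} (h : Function.Injective ![i, j, k, l, m, n]) :
    ff K i j * ff K k l * ff K m n = K.z := by
  have hij : i ≠ j := fun h' => absurd (h (a₁ := 0) (a₂ := 1) h') (by decide)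
  have hkl : k ≠ l := fun h' => absurd (h (a₁ := 2) (a₂ := 3) h') (by decide)
  have hmn : m ≠ n := fun h' => absurd (h (a₁ := 4) (a₂ := 5) h') (by decide)
  rw [ff_eq K hij, ff_eq K hkl, ff_eq K hmn, ← Subgroup.coe_mul, ← Subgroup.coe_mul]
  have h6 : six.card = 6 := by decide +kernel
  rw [← ε_six K, ← prod_e K six (by rw [h6]; decide)]
  congr 1
  have hb : Function.Bijective ![i, j, k, l, m, n] := Finite.injective_iff_bijective.1 h
  have h1 : ∏ x ∈ six, e K x = ∏ x : Fin 6, e K (m0 x) := by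
    unfold six
    rw [Finset.prod_image (fun a _ b _ hab => m0_inj hab)]
  have h2 : ∏ x : Fin 6, e K (m0 x) = ∏ x : Fin 6, e K (m0 (![i, j, k, l, m, n] x)) :=
    (Function.Bijective.prod_comp hb (fun x => e K (m0 x))).symm
  rw [h1, h2, Fin.prod_univ_six]
  show e K (m0 i) * e K (m0 j) * (e K (m0 k) * e K (m0 l)) * (e K (m0 m) * e K (m0 n)) =
    e K (m0 i) * e K (m0 j) * e K (m0 k) * e K (m0 l) * e K (m0 m) * e K (m0 n)
  simp only [mul_assoc]

theorem not_isConj_ff {i j : Fin 6} (hij : i ≠ j) : ¬ IsConj K.z (ff K i j) :=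
  K.duad_not_conj _ _ (fun h => hij (m0_inj h))

theorem isConj_z_ff {i j : Fin 6} (hij : i ≠ j) : IsConj K.z (K.z * ff K i j) := by
  have h1 : (symmDiff (tet i) {m0 i, m0 j}).card = 4 := by
    revert i j
    decide +kernel
  have h2 : K.z * ff K i j = K.ε (symmDiff (tet i) {m0 i, m0 j}) := by
    rw [K.ε_mul _ _ (by rw [tet_card]; decide)
      (by rw [Finset.card_pair (fun h => hij (m0_inj h))]; decide), K.ε_tet]
    rfl
  rw [h2]
  obtain ⟨n, -, hn⟩ := conj_sextet K _ h1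
  exact isConj_iff.2 ⟨n, hn⟩

theorem ff_not_mem_Q {i j : Fin 6} (hij : i ≠ j) : ff K i j ∉ K.Q := by
  unfold ff
  rw [K.A_iff _ (by rw [Finset.card_pair (fun h => hij (m0_inj h))]; decide)]
  have h1 : ∀ i j : Fin 6, i ≠ j → ¬ ((∀ k, Even (({m0 i, m0 j} : Finset GolayPt) ∩ tet k).card) ∨
      ∀ k, Odd (({m0 i, m0 j} : Finset GolayPt) ∩ tet k).card) := by
    decide +kernel
  exact h1 i j hij

/-- `ρ` normalises `E` -/
theorem ρ_mem_normalizer : K.ρ ∈ Subgroup.normalizer (EE K : Set G) := by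
  have h1 : K.P ⟨K.ρ, NormE.ρ_mem K.toCent⟩ = 1 :=
    (K.P_ker _).2 ⟨1, K.Q.one_mem, 1, by rw [one_mul, pow_one]⟩
  exact mem_normalizer_of_P K ⟨K.ρ, NormE.ρ_mem K.toCent⟩ (by rw [h1, one_smul])

theorem ρ_conj_ε {S : Finset GolayPt} (hS : Even S.card) (hS6 : S ⊆ six) :
    K.ρ * K.ε S * K.ρ⁻¹ = K.ε S := by
  rw [K.π_smul ⟨K.ρ, ρ_mem_normalizer K⟩ S hS]
  congr 1
  have h1 : ∀ x ∈ S, (K.π ⟨K.ρ, ρ_mem_normalizer K⟩ : Equiv.Perm GolayPt) x = x := by
    intro x hx
    obtain ⟨i, -, rfl⟩ := Finset.mem_image.1 (hS6 hx)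
    exact (K.ρ_tet _ rfl i).1
  ext x
  rw [Finset.mem_smul_finset]
  constructor
  · rintro ⟨y, hy, rfl⟩
    have := h1 y hy
    rw [Equiv.Perm.smul_def, this]
    exact hy
  · intro hx
    exact ⟨x, hx, h1 x hx⟩

theorem ff_comm (i j : Fin 6) (hij : i ≠ j) : ff K i j * K.ρ = K.ρ * ff K i j := by
  have h1 := ρ_conj_ε K (S := {m0 i, m0 j})
    (by rw [Finset.card_pair (fun h => hij (m0_inj h))]; decide) (by
      intro x hx
      rw [Finset.mem_insert, Finset.mem_singleton] at hx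
      rcases hx with rfl | rfl
      · exact Finset.mem_image_of_mem _ (Finset.mem_univ _)
      · exact Finset.mem_image_of_mem _ (Finset.mem_univ _))
  have h2 : K.ρ * ff K i j * K.ρ⁻¹ = ff K i j := h1
  rw [mul_inv_eq_iff_eq_mul] at h2
  exact h2.symm

theorem P_ff (a : Subgroup.centralizer ({K.z} : Set G)) (i j : Fin 6) (hij : i ≠ j)
    (ha : (a : G) = ff K i j) : K.P a (hp i) = hp j := by
  have hm : ∀ i : Fin 6, m0 i ∈ tet i := by decide +kernel
  exact K.P_ε a i j hij _ (hm i) _ (hm j) ha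

/-- the fixed points of `ρ` on `E hex0` are the products over even subsets of `six` -/
theorem ff_exh (a : G) (ha : a ∈ EE K) (hc : a * K.ρ = K.ρ * a) :
    a = 1 ∨ a = K.z ∨ ∃ i j : Fin 6, i ≠ j ∧ (a = ff K i j ∨ a = ff K i j * K.z) := by
  classical
  have h6 : six.card = 6 := by decide +kernel
  have hzz : K.z * K.z = 1 := NormE.z_sq K.toCent
  have hfin : Finite (EE K ⊓ Subgroup.centralizer ({K.ρ} : Set G) : Subgroup G) :=
    Nat.finite_of_card_ne_zero (by rw [K.F_card hex0 hex0_isHex]; norm_num)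
  let Φ : {S : Finset (Fin 6) // Even S.card} →
      (EE K ⊓ Subgroup.centralizer ({K.ρ} : Set G) : Subgroup G) := fun S =>
    ⟨K.ε (S.1.image m0), by
      have hc : Even (S.1.image m0).card := by
        rw [Finset.card_image_of_injective _ m0_inj]; exact S.2
      refine Subgroup.mem_inf.2 ⟨K.ε_mem _ hc, ?_⟩
      rw [Subgroup.mem_centralizer_singleton_iff]
      have h1 := ρ_conj_ε K hc (Finset.image_subset_image (Finset.subset_univ _))
      rw [mul_inv_eq_iff_eq_mul] at h1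
      exact h1.symm⟩
  have hinj : Function.Injective Φ := by
    intro S T hST
    have h1 : K.ε (S.1.image m0) = K.ε (T.1.image m0) := congrArg Subtype.val hST
    have hcS : Even (S.1.image m0).card := by
      rw [Finset.card_image_of_injective _ m0_inj]; exact S.2
    have hcT : Even (T.1.image m0).card := by
      rw [Finset.card_image_of_injective _ m0_inj]; exact T.2
    have h2 : K.ε (symmDiff (S.1.image m0) (T.1.image m0)) = 1 := by
      rw [K.ε_mul _ _ hcS hcT, h1]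
      exact (EE_elem K).1 _ (K.ε_mem _ hcT)
    have hev : Even (symmDiff (S.1.image m0) (T.1.image m0)).card := by
      rw [Nat.even_iff, card_symmDiff_parity]
      rw [Nat.even_iff] at hcS hcT
      omega
    have h3 := (K.ε_ker _ hev).1 h2
    have h4 := card_of_mem_supports h3
    have h5 : (symmDiff (S.1.image m0) (T.1.image m0)).card ≤ 6 := by
      have h7 : symmDiff (S.1.image m0) (T.1.image m0) ⊆ six := by
        refine (Finset.symmDiff_subset_union).trans (Finset.union_subset ?_ ?_)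
        · exact Finset.image_subset_image (Finset.subset_univ _)
        · exact Finset.image_subset_image (Finset.subset_univ _)
      exact (Finset.card_le_card h7).trans (le_of_eq h6)
    have h8 : (symmDiff (S.1.image m0) (T.1.image m0)).card = 0 := by omega
    rw [Finset.card_eq_zero] at h8
    have h9 : S.1.image m0 = T.1.image m0 := symmDiff_eq_bot.1 h8
    exact Subtype.ext (Finset.image_injective m0_inj h9)
  have hsurj : Function.Surjective Φ := by
    have h1 : Nat.card {S : Finset (Fin 6) // Even S.card} = 2 ^ 5 := by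
      rw [Nat.card_eq_fintype_card]
      decide +kernel
    exact ((Nat.bijective_iff_injective_and_card Φ).2
      ⟨hinj, by rw [h1, K.F_card hex0 hex0_isHex]⟩).2
  obtain ⟨⟨S, hS⟩, hSa⟩ := hsurj ⟨a, ha, Subgroup.mem_centralizer_singleton_iff.2 hc⟩
  have hSa' : K.ε (S.image m0) = a := congrArg Subtype.val hSa
  have hcard : S.card ≤ 6 := by
    have := Finset.card_le_univ S
    rwa [Fintype.card_fin] at this
  have hpair : ∀ T : Finset (Fin 6), T.card = 2 → ∃ i j, i ≠ j ∧ K.ε (T.image m0) = ff K i j := by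
    intro T hT
    obtain ⟨i, j, hij, rfl⟩ := Finset.card_eq_two.1 hT
    refine ⟨i, j, hij, ?_⟩
    rw [Finset.image_insert, Finset.image_singleton]
    rfl
  have hcompl : K.ε (S.image m0) = K.ε ((Sᶜ).image m0) * K.z := by
    have hev : Even (Sᶜ).card := by
      rw [Finset.card_compl, Fintype.card_fin]
      obtain ⟨m, hm⟩ := hS
      exact ⟨3 - m, by omega⟩
    rw [← ε_six K, ← K.ε_mul _ _ (by
      rw [Finset.card_image_of_injective _ m0_inj]; exact hev) (by rw [h6]; decide)]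
    congr 1
    ext x
    simp only [Finset.mem_symmDiff, six, Finset.mem_image, Finset.mem_univ, true_and,
      Finset.mem_compl]
    constructor
    · rintro ⟨i, hi, rfl⟩
      refine Or.inr ⟨⟨i, rfl⟩, ?_⟩
      rintro ⟨j, hj, hji⟩
      rw [m0_inj hji] at hj
      exact hj hi
    · rintro (⟨⟨i, hi, rfl⟩, h⟩ | ⟨⟨i, rfl⟩, h⟩)
      · exact absurd ⟨i, rfl⟩ h
      · refine ⟨i, ?_, rfl⟩
        by_contra hi
        exact h ⟨i, hi, rfl⟩
  have hcc : (Sᶜ).card = 6 - S.card := by rw [Finset.card_compl, Fintype.card_fin]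
  obtain ⟨m, hm⟩ := hS
  have hm3 : m = 0 ∨ m = 1 ∨ m = 2 ∨ m = 3 := by omega
  rcases hm3 with rfl | rfl | rfl | rfl
  · left
    have : S = ∅ := Finset.card_eq_zero.1 (by omega)
    rw [← hSa', this, Finset.image_empty, ε_empty]
  · right; right
    obtain ⟨i, j, hij, h⟩ := hpair S (by omega)
    exact ⟨i, j, hij, Or.inl (by rw [← hSa', h])⟩
  · right; right
    obtain ⟨i, j, hij, h⟩ := hpair Sᶜ (by omega)
    exact ⟨i, j, hij, Or.inr (by rw [← hSa', hcompl, h])⟩
  · right; left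
    have : Sᶜ = ∅ := Finset.card_eq_zero.1 (by omega)
    rw [← hSa', hcompl, this, Finset.image_empty, ε_empty, one_mul]

end Base

/-! ### Transport to `hex1` -/

open Cfsg.Agent.J4Type.CocodeMask Cfsg.Agent.SporadicA.GolayPerm

/-- an element of `M22` (it fixes the two base points) exchanging `hex0` and `hex1`, with
`pp (hp i) = [4, 2, 11, 5, 6, 10]` -/
noncomputable def pp : M24 := mk 980911211528367133305845497151496736 (by decide +kernel)

theorem pp_apply (p : GolayPt) : (pp : Equiv.Perm GolayPt) p =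
    pt (papp 980911211528367133305845497151496736 (idx p)) := by
  have h : idx ((pp : Equiv.Perm GolayPt) p) = papp 980911211528367133305845497151496736 (idx p) :=
    isTab_mk _ _ p
  rw [← h, pt_idx]

theorem pp_none : (pp : Equiv.Perm GolayPt) none = none := by
  rw [pp_apply]; decide +kernel

theorem pp_base : (pp : Equiv.Perm GolayPt) • base = base := by
  apply Finset.eq_of_subset_of_card_le
  · intro y hy
    rw [Finset.mem_smul_finset] at hy
    obtain ⟨x, hx, rfl⟩ := hy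
    show (pp : Equiv.Perm GolayPt) x ∈ base
    rw [pp_apply]
    revert x
    decide +kernel
  · rw [Finset.card_smul_finset]

theorem pp_hex0 : (pp : Equiv.Perm GolayPt) • hex0 = hex1 := by
  apply Finset.eq_of_subset_of_card_le
  · intro y hy
    rw [Finset.mem_smul_finset] at hy
    obtain ⟨x, hx, rfl⟩ := hy
    show (pp : Equiv.Perm GolayPt) x ∈ hex1
    rw [pp_apply]
    revert x
    decide +kernel
  · rw [Finset.card_smul_finset, card_hex hex0_isHex, card_hex hex1_isHex]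

theorem pp_hex1 : (pp : Equiv.Perm GolayPt) • hex1 = hex0 := by
  apply Finset.eq_of_subset_of_card_le
  · intro y hy
    rw [Finset.mem_smul_finset] at hy
    obtain ⟨x, hx, rfl⟩ := hy
    show (pp : Equiv.Perm GolayPt) x ∈ hex0
    rw [pp_apply]
    revert x
    decide +kernel
  · rw [Finset.card_smul_finset, card_hex hex0_isHex, card_hex hex1_isHex]

theorem pp_mem : (pp : Equiv.Perm GolayPt) ∈ M22d := ⟨pp.2, pp_base⟩

section Transport

variable {G : Type*} [Group G] (C : Compl G)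

/-- `C_{E(hex1)}(ρ)` -/
def F' : Subgroup G := C.E hex1 ⊓ Subgroup.centralizer ({C.ρ} : Set G)

theorem F'_mem_iff (a : G) : a ∈ F' C ↔ a ∈ C.E hex1 ∧ a * C.ρ = C.ρ * a := by
  rw [F', Subgroup.mem_inf, Subgroup.mem_centralizer_singleton_iff]

theorem F'_le : F' C ≤ Subgroup.centralizer ({C.z} : Set G) := by
  intro a ha
  rw [Subgroup.mem_centralizer_singleton_iff]
  exact (C.E_elem hex1 hex1_isHex).2 a ((F'_mem_iff C a).1 ha).1 C.z (C.z_mem_E hex1 hex1_isHex)

theorem exists_g0 : ∃ g : Subgroup.centralizer ({C.z} : Set G),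
    C.P g = (pp : Equiv.Perm GolayPt) ∧ (g : G) * C.ρ = C.ρ * g := by
  obtain ⟨c, hc⟩ := NormE.exists_P C.toCent pp_mem
  obtain ⟨x, hx, h⟩ := NormRho.exists_comm C.toCent c (by rw [hc]; exact pp_none)
  refine ⟨⟨x, C.Q_le hx⟩ * c, ?_, h⟩
  rw [map_mul, FrameDefs.P_Q C.toCent hx, one_mul, hc]

noncomputable def g0 : Subgroup.centralizer ({C.z} : Set G) := Classical.choose (exists_g0 C)

theorem P_g0 : C.P (g0 C) = (pp : Equiv.Perm GolayPt) := (Classical.choose_spec (exists_g0 C)).1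

theorem g0_ρ : (g0 C : G) * C.ρ = C.ρ * (g0 C : G) := (Classical.choose_spec (exists_g0 C)).2

theorem g0_z : (g0 C : G) * C.z = C.z * (g0 C : G) :=
  Subgroup.mem_centralizer_singleton_iff.1 (g0 C).2

/-- the fifteen transported elements -/
noncomputable def fe (i j : Fin 6) : G :=
  (g0 C : G) * (C.z * C.ε {mog i 0, mog j 0}) * (g0 C : G)⁻¹

theorem fe_eq (i j : Fin 6) :
    fe C i j = (g0 C : G) * (C.z * ff C.toFrame i j) * (g0 C : G)⁻¹ := rfl

theorem z_ff {i j : Fin 6} (h : i ≠ j) : C.z * ff C.toFrame i j = ff C.toFrame i j * C.z :=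
  ((C.E_elem hex0 hex0_isHex).2 _ (ff_mem C.toFrame i j h) _ (C.z_mem_E hex0 hex0_isHex)).symm

theorem conj_g0_mem {a : G} (ha : a ∈ C.E hex0) (hc : a * C.ρ = C.ρ * a) :
    (g0 C : G) * a * (g0 C : G)⁻¹ ∈ F' C := by
  rw [F'_mem_iff]
  constructor
  · have := (C.E_conj hex0 hex0_isHex (g0 C) a).1 ha
    rwa [P_g0, pp_hex0] at this
  · have h := g0_ρ C
    calc (g0 C : G) * a * (g0 C : G)⁻¹ * C.ρ = (g0 C : G) * a * (g0 C : G)⁻¹ * (C.ρ * (g0 C : G)) *
          (g0 C : G)⁻¹ := by group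
      _ = (g0 C : G) * (a * C.ρ) * (g0 C : G)⁻¹ := by rw [← h]; group
      _ = ((g0 C : G) * C.ρ) * a * (g0 C : G)⁻¹ := by rw [hc]; group
      _ = C.ρ * ((g0 C : G) * a * (g0 C : G)⁻¹) := by rw [h]; group

theorem z_ρ : C.z * C.ρ = C.ρ * C.z := C.ρ_comm.symm

theorem fe_mem {i j : Fin 6} (h : i ≠ j) : fe C i j ∈ F' C := by
  rw [fe_eq]
  apply conj_g0_mem
  · exact Subgroup.mul_mem _ (C.z_mem_E hex0 hex0_isHex) (ff_mem C.toFrame i j h)
  · have h1 := ff_comm C.toFrame i j h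
    calc C.z * ff C.toFrame i j * C.ρ = C.z * (ff C.toFrame i j * C.ρ) := by group
      _ = (C.z * C.ρ) * ff C.toFrame i j := by rw [h1]; group
      _ = C.ρ * (C.z * ff C.toFrame i j) := by rw [z_ρ]; group

theorem fe_symm (i j : Fin 6) : fe C i j = fe C j i := by
  rw [fe_eq, fe_eq, ff_symm]

theorem fe_sq {i j : Fin 6} (h : i ≠ j) : fe C i j * fe C i j = 1 :=
  (C.E_elem hex1 hex1_isHex).1 _ ((F'_mem_iff C _).1 (fe_mem C h)).1

theorem fe_tri {i j k : Fin 6} (hij : i ≠ j) (hjk : j ≠ k) (hik : i ≠ k) :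
    fe C i j * fe C j k = fe C i k * C.z := by
  have h1 : (C.z * ff C.toFrame i j) * (C.z * ff C.toFrame j k) =
      (C.z * ff C.toFrame i k) * C.z := by
    have e1 := z_ff C hij
    have e2 := z_ff C hik
    have e3 := ff_mul C.toFrame hij hjk hik
    calc (C.z * ff C.toFrame i j) * (C.z * ff C.toFrame j k) =
        C.z * (ff C.toFrame i j * C.z) * ff C.toFrame j k := by group
      _ = C.z * C.z * (ff C.toFrame i j * ff C.toFrame j k) := by rw [← e1]; group
      _ = C.z * (C.z * ff C.toFrame i k) := by rw [e3]; group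
      _ = C.z * (ff C.toFrame i k * C.z) := by rw [e2]
      _ = (C.z * ff C.toFrame i k) * C.z := by group
  have h2 := g0_z C
  calc fe C i j * fe C j k = (g0 C : G) * ((C.z * ff C.toFrame i j) * (C.z * ff C.toFrame j k)) *
        (g0 C : G)⁻¹ := by rw [fe_eq, fe_eq]; group
    _ = (g0 C : G) * (C.z * ff C.toFrame i k) * (g0 C : G)⁻¹ *
        ((g0 C : G) * C.z * (g0 C : G)⁻¹) := by rw [h1]; group
    _ = fe C i k * C.z := by rw [h2, fe_eq]; group

theorem zz : C.z * C.z = 1 := NormE.z_sq C.toCent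

/-- products over perfect matchings -/
theorem fe_match {i j k l m n : Fin 6} (h : Function.Injective ![i, j, k, l, m, n]) :
    fe C i j * fe C k l * fe C m n = 1 := by
  have hij : i ≠ j := fun h' => absurd (h (a₁ := 0) (a₂ := 1) h') (by decide)
  have hkl : k ≠ l := fun h' => absurd (h (a₁ := 2) (a₂ := 3) h') (by decide)
  have hmn : m ≠ n := fun h' => absurd (h (a₁ := 4) (a₂ := 5) h') (by decide)
  have h1 : (C.z * ff C.toFrame i j) * (C.z * ff C.toFrame k l) * (C.z * ff C.toFrame m n) = 1 := by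
    have e1 := z_ff C hij
    have e2 := z_ff C hkl
    have e3 := ff_match C.toFrame h
    calc (C.z * ff C.toFrame i j) * (C.z * ff C.toFrame k l) * (C.z * ff C.toFrame m n) =
        C.z * (ff C.toFrame i j * C.z) * (ff C.toFrame k l * C.z) * ff C.toFrame m n := by group
      _ = C.z * (C.z * ff C.toFrame i j) * (C.z * ff C.toFrame k l) * ff C.toFrame m n := by
        rw [← e1, ← e2]
      _ = C.z * C.z * (ff C.toFrame i j * C.z) * ff C.toFrame k l * ff C.toFrame m n := by group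
      _ = C.z * C.z * C.z * (ff C.toFrame i j * ff C.toFrame k l * ff C.toFrame m n) := by
        rw [← e1]; group
      _ = 1 := by
        rw [e3]
        show C.z * C.z * C.z * C.z = 1
        rw [zz, one_mul, zz]
  calc fe C i j * fe C k l * fe C m n = (g0 C : G) * ((C.z * ff C.toFrame i j) *
        (C.z * ff C.toFrame k l) * (C.z * ff C.toFrame m n)) * (g0 C : G)⁻¹ := by
        rw [fe_eq, fe_eq, fe_eq]; group
    _ = 1 := by rw [h1]; group

/-- `{mog i 0}` is congruent to `S0` modulo the code -/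
theorem fe_prod : fe C 0 1 * fe C 2 3 * fe C 4 5 = 1 := fe_match C (by decide)

theorem P_fe {i j : Fin 6} (h : i ≠ j) (a : Subgroup.centralizer ({C.z} : Set G))
    (ha : (a : G) = fe C i j) :
    C.P a ((pp : Equiv.Perm GolayPt) (hp i)) = (pp : Equiv.Perm GolayPt) (hp j) := by
  have hfz : ff C.toFrame i j ∈ Subgroup.centralizer ({C.z} : Set G) :=
    Subgroup.mem_centralizer_singleton_iff.2 (z_ff C h).symm
  have hzz : C.z ∈ Subgroup.centralizer ({C.z} : Set G) :=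
    Subgroup.mem_centralizer_singleton_iff.2 rfl
  have h1 : a = g0 C * (⟨C.z, hzz⟩ * ⟨ff C.toFrame i j, hfz⟩) * (g0 C)⁻¹ := Subtype.ext ha
  have h2 : C.P ⟨C.z, hzz⟩ = 1 := FrameDefs.P_Q C.toCent C.z_mem_Q
  have h3 := P_ff C.toFrame ⟨ff C.toFrame i j, hfz⟩ i j h rfl
  have h3' : C.P ⟨ff C.toFrame i j, hfz⟩ (hp i) = hp j := h3
  rw [h1, map_mul, map_mul, map_mul, map_inv, P_g0, h2, one_mul, Equiv.Perm.mul_apply,
    Equiv.Perm.mul_apply]
  have h4 : ((pp : Equiv.Perm GolayPt)⁻¹) ((pp : Equiv.Perm GolayPt) (hp i)) = hp i :=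
    (pp : Equiv.Perm GolayPt).symm_apply_apply _
  rw [h4, h3']

theorem isConj_fe {i j : Fin 6} (h : i ≠ j) : IsConj C.z (fe C i j) :=
  (isConj_z_ff C.toFrame h).trans (isConj_iff.2 ⟨(g0 C : G), rfl⟩)

theorem not_isConj_fe {i j : Fin 6} (h : i ≠ j) : ¬ IsConj C.z (fe C i j * C.z) := by
  intro h1
  apply not_isConj_ff C.toFrame h
  refine IsConj.trans (show IsConj C.z (fe C i j * C.z) from h1) ?_
  refine isConj_iff.2 ⟨(g0 C : G)⁻¹, ?_⟩
  have h2 := g0_z C
  have e1 := z_ff C h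
  calc (g0 C : G)⁻¹ * (fe C i j * C.z) * ((g0 C : G)⁻¹)⁻¹ =
      C.z * ff C.toFrame i j * (g0 C : G)⁻¹ * (C.z * (g0 C : G)) := by rw [fe_eq]; group
    _ = ff C.toFrame i j * C.z * (g0 C : G)⁻¹ * ((g0 C : G) * C.z) := by rw [h2, e1]
    _ = ff C.toFrame i j * (C.z * C.z) := by group
    _ = ff C.toFrame i j := by rw [zz, mul_one]

theorem F'_exh {a : G} (ha : a ∈ F' C) :
    a = 1 ∨ a = C.z ∨ ∃ i j : Fin 6, i ≠ j ∧ (a = fe C i j ∨ a = fe C i j * C.z) := by
  obtain ⟨h1, h2⟩ := (F'_mem_iff C a).1 ha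
  have hg := g0_z C
  have hr := g0_ρ C
  have h3 : (g0 C : G)⁻¹ * a * (g0 C : G) ∈ C.E hex0 := by
    have := (C.E_conj hex0 hex0_isHex (g0 C) ((g0 C : G)⁻¹ * a * (g0 C : G))).2
    rw [P_g0, pp_hex0] at this
    apply this
    have e : (g0 C : G) * ((g0 C : G)⁻¹ * a * (g0 C : G)) * (g0 C : G)⁻¹ = a := by group
    rw [e]
    exact h1
  have h4 : (g0 C : G)⁻¹ * a * (g0 C : G) * C.ρ = C.ρ * ((g0 C : G)⁻¹ * a * (g0 C : G)) := by
    calc (g0 C : G)⁻¹ * a * (g0 C : G) * C.ρ = (g0 C : G)⁻¹ * a * ((g0 C : G) * C.ρ) := by group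
      _ = (g0 C : G)⁻¹ * (a * C.ρ) * (g0 C : G) := by rw [hr]; group
      _ = (g0 C : G)⁻¹ * (C.ρ * (g0 C : G)) * ((g0 C : G)⁻¹ * a * (g0 C : G)) := by rw [h2]; group
      _ = C.ρ * ((g0 C : G)⁻¹ * a * (g0 C : G)) := by rw [← hr]; group
  have hback : a = (g0 C : G) * ((g0 C : G)⁻¹ * a * (g0 C : G)) * (g0 C : G)⁻¹ := by group
  rcases ff_exh C.toFrame _ h3 h4 with h | h | ⟨i, j, hij, h | h⟩
  · left
    rw [hback, h]; group
  · right; left
    rw [hback, h]
    show (g0 C : G) * C.z * (g0 C : G)⁻¹ = C.z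
    rw [hg]; group
  · right; right
    refine ⟨i, j, hij, Or.inr ?_⟩
    have e1 := z_ff C hij
    rw [hback, h, fe_eq]
    calc (g0 C : G) * ff C.toFrame i j * (g0 C : G)⁻¹ =
        (g0 C : G) * ff C.toFrame i j * (C.z * C.z) * (g0 C : G)⁻¹ := by rw [zz]; group
      _ = (g0 C : G) * (ff C.toFrame i j * C.z) * (g0 C : G)⁻¹ *
          ((g0 C : G) * C.z * (g0 C : G)⁻¹) := by group
      _ = _ := by rw [← e1, hg]; group
  · right; right
    refine ⟨i, j, hij, Or.inl ?_⟩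
    have e1 := z_ff C hij
    rw [hback, h, fe_eq, e1]

/-- elements of `F'` are determined up to `z` by their action on `hex0` -/
theorem F'_inj (a b : Subgroup.centralizer ({C.z} : Set G)) (ha : (a : G) ∈ F' C)
    (hb : (b : G) ∈ F' C) (h : ∀ x ∈ hex0, C.P a x = C.P b x) :
    (a : G) = b ∨ (a : G) = b * C.z := by
  obtain ⟨ha1, ha2⟩ := (F'_mem_iff C _).1 ha
  obtain ⟨hb1, hb2⟩ := (F'_mem_iff C _).1 hb
  -- `y = b⁻¹ a`
  have hPa := (C.E_map hex1 hex1_isHex (C.P a)).1 ⟨a, ha1, rfl⟩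
  have hPb := (C.E_map hex1 hex1_isHex (C.P b)).1 ⟨b, hb1, rfl⟩
  have hy1 : C.P (b⁻¹ * a) ∈ Cfsg.Agent.SporadicA.OctadFix.fixOct hex1 := by
    rw [Cfsg.Agent.SporadicA.OctadFix.mem_fixOct, map_mul, map_inv]
    refine ⟨M24.mul_mem (M24.inv_mem hPb.1) hPa.1, fun x hx => ?_⟩
    rw [Equiv.Perm.mul_apply, hPa.2 x hx, Equiv.Perm.inv_eq_iff_eq, hPb.2 x hx]
  have hy0 : C.P (b⁻¹ * a) ∈ Cfsg.Agent.SporadicA.OctadFix.fixOct hex0 := by
    rw [Cfsg.Agent.SporadicA.OctadFix.mem_fixOct, map_mul, map_inv]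
    refine ⟨M24.mul_mem (M24.inv_mem hPb.1) hPa.1, fun x hx => ?_⟩
    rw [Equiv.Perm.mul_apply, h x hx]
    exact (C.P b).symm_apply_apply x
  have hne : hex1 ≠ hex0 := by decide +kernel
  have hP1 := OctadFixTrans.fix_inf hex1_isHex.1 hex0_isHex.1 hne hy1 hy0
  obtain ⟨q, hq, i, hqi⟩ := (C.P_ker _).1 hP1
  -- `y` commutes with `ρ`, and is an involution or `1`
  have hyF : ((b⁻¹ * a : Subgroup.centralizer ({C.z} : Set G)) : G) ∈ F' C :=
    Subgroup.mul_mem _ (Subgroup.inv_mem _ hb) ha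
  obtain ⟨hy2, hy3⟩ := (F'_mem_iff C _).1 hyF
  have hysq := (C.E_elem hex1 hex1_isHex).1 _ hy2
  have hρρ : C.ρ ^ i * C.ρ = C.ρ * C.ρ ^ i := by rw [← pow_succ, ← pow_succ']
  have hqρ : C.ρ * q = q * C.ρ := by
    have e : q = ((b⁻¹ * a : Subgroup.centralizer ({C.z} : Set G)) : G) * (C.ρ ^ i)⁻¹ := by
      rw [hqi]; group
    have h5 : C.ρ * (C.ρ ^ i)⁻¹ = (C.ρ ^ i)⁻¹ * C.ρ := by
      rw [eq_inv_mul_iff_mul_eq, ← mul_assoc, mul_inv_eq_iff_eq_mul]
      exact hρρ
    rw [e]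
    calc C.ρ * (((b⁻¹ * a : Subgroup.centralizer ({C.z} : Set G)) : G) * (C.ρ ^ i)⁻¹) =
        (C.ρ * ((b⁻¹ * a : Subgroup.centralizer ({C.z} : Set G)) : G)) * (C.ρ ^ i)⁻¹ := by group
      _ = ((b⁻¹ * a : Subgroup.centralizer ({C.z} : Set G)) : G) * (C.ρ * (C.ρ ^ i)⁻¹) := by
        rw [← hy3]; group
      _ = _ := by rw [h5]; group
  have hz1 : q = 1 ∨ q = C.z := C.ρ_fix q hq hqρ
  have hqz : q * q = 1 ∧ q * C.ρ ^ i = C.ρ ^ i * q := by
    rcases hz1 with rfl | rfl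
    · exact ⟨one_mul 1, by rw [one_mul, mul_one]⟩
    · refine ⟨zz C, ?_⟩
      exact (Commute.pow_right (z_ρ C) i)
  have hρi : C.ρ ^ i * C.ρ ^ i = 1 := by
    rw [hqi] at hysq
    calc C.ρ ^ i * C.ρ ^ i = q * q * (C.ρ ^ i * C.ρ ^ i) := by rw [hqz.1, one_mul]
      _ = q * (q * C.ρ ^ i) * C.ρ ^ i := by group
      _ = q * (C.ρ ^ i * q) * C.ρ ^ i := by rw [hqz.2]
      _ = q * C.ρ ^ i * (q * C.ρ ^ i) := by group
      _ = 1 := hysq
  have hρ1 : C.ρ ^ i = 1 := by
    have h3 : C.ρ ^ (3 * i) = 1 := by rw [pow_mul, NormE.ρ_pow_three C.toCent, one_pow]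
    have h4 : C.ρ ^ (2 * i) = 1 := by rw [two_mul, pow_add]; exact hρi
    have h5 : C.ρ ^ (3 * i) = C.ρ ^ (2 * i) * C.ρ ^ i := by rw [← pow_add]; congr 1; omega
    rw [h3, h4, one_mul] at h5
    exact h5.symm
  have hab : (a : G) = b * q := by
    have : (b : G)⁻¹ * a = q := by
      have h6 : ((b⁻¹ * a : Subgroup.centralizer ({C.z} : Set G)) : G) = (b : G)⁻¹ * a := rfl
      rw [← h6, hqi, hρ1, mul_one]
    rw [← this]; group
  rcases hz1 with rfl | rfl
  · left; rw [hab, mul_one]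
  · right; exact hab

/-- elements of `F'` are determined by their action on `hex0` and their conjugacy class -/
theorem F'_eq (a b : Subgroup.centralizer ({C.z} : Set G)) (ha : (a : G) ∈ F' C)
    (hb : (b : G) ∈ F' C) (h : ∀ x ∈ hex0, C.P a x = C.P b x) (hz : IsConj C.z (a : G))
    (hz' : ¬ IsConj C.z ((b : G) * C.z)) : (a : G) = b := by
  rcases F'_inj C a b ha hb h with h1 | h1
  · exact h1
  · rw [h1] at hz
    exact absurd hz hz'

/-- `n ∈ Kz` (the stabiliser of `S0`) commutes with `z` -/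
theorem φ_z {n : M24} (hn : (n : Equiv.Perm GolayPt) • S0 = S0) : C.φ n * C.z = C.z * C.φ n := by
  have h1 : (n : Equiv.Perm GolayPt) • tet 0 ∈ S0 := by
    rw [← hn]
    exact Finset.smul_mem_smul_finset (Finset.mem_image_of_mem _ (Finset.mem_univ _))
  obtain ⟨i, -, hi⟩ := Finset.mem_image.1 h1
  have h2 := C.π_smul ⟨C.φ n, C.φ_mem n⟩ (tet 0) (by rw [tet_card]; decide)
  rw [C.π_φ, ← hi, C.ε_tet, C.ε_tet] at h2
  exact mul_inv_eq_iff_eq_mul.1 h2

theorem φ_inj {g : M24} (h : C.φ g = 1) : g = 1 := by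
  have h1 := C.π_φ g
  have h2 : (⟨C.φ g, C.φ_mem g⟩ : Subgroup.normalizer (C.E hex0 : Set G)) = 1 := Subtype.ext h
  rw [h2, map_one] at h1
  exact h1.symm

theorem φ_not_z (g : M24) : C.φ g ≠ C.z := by
  intro h
  have h1 := (C.π_ker ⟨C.φ g, C.φ_mem g⟩).2 (by
    show C.φ g ∈ C.E hex0
    rw [h]
    exact C.z_mem_E hex0 hex0_isHex)
  rw [C.π_φ] at h1
  rw [h1, map_one] at h
  exact NormE.z_ne_one C.toCent h.symm

/-- an element of `Kz` moves `ρ` to `φ v * ρ^{±1}` with `φ v ∈ E hex1` -/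
theorem conj_ρ {n : M24} (hn : (n : Equiv.Perm GolayPt) • S0 = S0) :
    ∃ w ∈ C.E hex1, C.φ n * C.ρ * (C.φ n)⁻¹ = w * C.ρ ∨ C.φ n * C.ρ * (C.φ n)⁻¹ = w * C.ρ⁻¹ := by
  obtain ⟨r, hr⟩ := C.φ_ρ
  -- `r` fixes the tetrads
  have hrt : ∀ i, (r : Equiv.Perm GolayPt) • tet i = tet i := by
    intro i
    have := (C.ρ_tet ⟨C.φ r, C.φ_mem r⟩ hr i).2
    rwa [C.π_φ] at this
  have hrt' : ∀ i, ((r⁻¹ : M24) : Equiv.Perm GolayPt) • tet i = tet i := by
    intro i
    show ((r : Equiv.Perm GolayPt)⁻¹) • tet i = tet i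
    rw [inv_smul_eq_iff, hrt]
  have hnt : ∀ i, ((n * r * n⁻¹ : M24) : Equiv.Perm GolayPt) • tet i = tet i := by
    intro i
    have h1 : ((n : Equiv.Perm GolayPt)⁻¹) • tet i ∈ S0 := by
      have h2 : ((n : Equiv.Perm GolayPt)⁻¹) • S0 = S0 := by rw [inv_smul_eq_iff, hn]
      rw [← h2]
      exact Finset.smul_mem_smul_finset (Finset.mem_image_of_mem _ (Finset.mem_univ _))
    obtain ⟨j, -, hj⟩ := Finset.mem_image.1 h1
    show ((n : Equiv.Perm GolayPt) * r * (n : Equiv.Perm GolayPt)⁻¹) • tet i = tet i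
    rw [mul_smul, ← hj, mul_smul, hrt, hj, smul_inv_smul]
  have hcz : C.φ n ∈ Subgroup.centralizer ({C.z} : Set G) :=
    Subgroup.mem_centralizer_singleton_iff.2 (φ_z C hn)
  -- general: `φ v ∈ Q`, `v` fixing all tetrads, gives `φ v ∈ E hex1`
  have key : ∀ v : M24, (∀ i, (v : Equiv.Perm GolayPt) • tet i = tet i) → C.φ v ∈ C.Q →
      C.φ v ∈ C.E hex1 := by
    intro v hv hvQ
    apply (C.φ_Q v hv ?_).2
    apply φ_inj C
    rw [map_mul]
    rcases C.Q_sq _ hvQ with h | h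
    · exact h
    · rw [← map_mul] at h
      exact absurd h (φ_not_z C _)
  by_cases h0 : C.P ⟨C.φ n, hcz⟩ none = none
  · obtain ⟨q, hq, hqe⟩ := C.P_inner _ h0
    have hv : C.φ (n * r * n⁻¹ * r⁻¹) = q := by
      rw [map_mul, map_mul, map_mul, map_inv, map_inv, hr]
      have : C.φ n * C.ρ * (C.φ n)⁻¹ = q * C.ρ := hqe
      rw [this]; group
    refine ⟨q, ?_, Or.inl hqe⟩
    rw [← hv]
    apply key
    · intro i
      show (((n * r * n⁻¹ : M24) : Equiv.Perm GolayPt) * ((r⁻¹ : M24) : Equiv.Perm GolayPt)) • tet i =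
        tet i
      rw [mul_smul, hrt', hnt]
    · rw [hv]; exact hq
  · obtain ⟨q, hq, hqe⟩ := C.P_outer _ h0
    have hv : C.φ (n * r * n⁻¹ * r) = q := by
      rw [map_mul, map_mul, map_mul, map_inv, hr]
      have : C.φ n * C.ρ * (C.φ n)⁻¹ = q * C.ρ⁻¹ := hqe
      rw [this]; group
    refine ⟨q, ?_, Or.inr hqe⟩
    rw [← hv]
    apply key
    · intro i
      show (((n * r * n⁻¹ : M24) : Equiv.Perm GolayPt) * (r : Equiv.Perm GolayPt)) • tet i = tet i
      rw [mul_smul, hrt, hnt]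
    · rw [hv]; exact hq

/-- the stabiliser of `S0` normalises `F'` -/
theorem conj_mem_F' {n : M24} (hn : (n : Equiv.Perm GolayPt) • S0 = S0) {a : G} (ha : a ∈ F' C) :
    C.φ n * a * (C.φ n)⁻¹ ∈ F' C := by
  obtain ⟨ha1, ha2⟩ := (F'_mem_iff C _).1 ha
  have hcz : C.φ n ∈ Subgroup.centralizer ({C.z} : Set G) :=
    Subgroup.mem_centralizer_singleton_iff.2 (φ_z C hn)
  rw [F'_mem_iff]
  constructor
  · have h1 := C.φ_hex1 n ⟨C.φ n, hcz⟩ hn rfl
    have h2 := (C.E_conj hex1 hex1_isHex ⟨C.φ n, hcz⟩ a).1 ha1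
    rwa [h1] at h2
  · -- `a` commutes with `(φ n)⁻¹ ρ φ n = w ρ^{±1}`
    have hn' : ((n⁻¹ : M24) : Equiv.Perm GolayPt) • S0 = S0 := by
      show ((n : Equiv.Perm GolayPt)⁻¹) • S0 = S0
      rw [inv_smul_eq_iff, hn]
    obtain ⟨w, hw, h1⟩ := conj_ρ C hn'
    have haw := (C.E_elem hex1 hex1_isHex).2 a ha1 w hw
    have ha3 : a * C.ρ⁻¹ = C.ρ⁻¹ * a := by
      rw [eq_inv_mul_iff_mul_eq, ← mul_assoc, ← ha2]; group
    have h2 : a * (C.φ n⁻¹ * C.ρ * (C.φ n⁻¹)⁻¹) = (C.φ n⁻¹ * C.ρ * (C.φ n⁻¹)⁻¹) * a := by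
      rcases h1 with h1 | h1
      · rw [h1]
        calc a * (w * C.ρ) = (a * w) * C.ρ := by group
          _ = w * (a * C.ρ) := by rw [haw]; group
          _ = w * C.ρ * a := by rw [ha2]; group
      · rw [h1]
        calc a * (w * C.ρ⁻¹) = (a * w) * C.ρ⁻¹ := by group
          _ = w * (a * C.ρ⁻¹) := by rw [haw]; group
          _ = w * C.ρ⁻¹ * a := by rw [ha3]; group
    rw [map_inv] at h2
    calc C.φ n * a * (C.φ n)⁻¹ * C.ρ =
        C.φ n * (a * ((C.φ n)⁻¹ * C.ρ * ((C.φ n)⁻¹)⁻¹)) * (C.φ n)⁻¹ := by group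
      _ = C.ρ * (C.φ n * a * (C.φ n)⁻¹) := by rw [h2]; group

end Transport

end Cfsg.Agent.J4Type.TauF
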