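import Cfsg.Agent.J4Type.TauCent

/-!
# R07 (J₄ type), part (e): the conjugate of `t₀` under `φ hh` (helper461)

`hh_conj` : `φ hh * t₀ * (φ hh)⁻¹ = t₀ * w` for some `w` in `C_E(t₀)`.
-/

set_option autoImplicit false

open scoped Pointwise

namespace Cfsg.Agent.J4Type.TauHH

open Cfsg Cfsg.Agent.SporadicA.GolayPerm Cfsg.Agent.J4Type.FrameDefs
open Cfsg.Agent.J4Type.CocodeMask Cfsg.Agent.J4Type.TauM24 Cfsg.Agent.J4Type.TauF
open Cfsg.Agent.J4Type.TauP Cfsg.Agent.J4Type.TauCol Cfsg.Agent.J4Type.TauMask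
open Cfsg.Agent.J4Type.SplitData Cfsg.Agent.J4Type.TauCent
open Cfsg.Agent.J4Type.HexPerms (hex0_isHex)

variable {G : Type*} [Group G] (C : Compl G)

theorem zm_mem_Wm : zm ∈ Wm := by decide +kernel

/-- the element `x = φ hh t₀ (φ hh)⁻¹` -/
noncomputable def x : G := C.φ hh * t0 C * (C.φ hh)⁻¹

theorem x_sq : x C * x C = 1 := by
  unfold x
  calc C.φ hh * t0 C * (C.φ hh)⁻¹ * (C.φ hh * t0 C * (C.φ hh)⁻¹)
      = C.φ hh * (t0 C * t0 C) * (C.φ hh)⁻¹ := by group
    _ = 1 := by rw [t0_sq]; group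

theorem hh_hh : C.φ hh * C.φ hh = 1 := by rw [← map_mul, hh_sq, map_one]

theorem hh_inv : (C.φ hh)⁻¹ = C.φ hh := inv_eq_of_mul_eq_one_left (hh_hh C)

theorem x_comm_c {a : ℕ} (ha : a ∈ Wm) : x C * c C.toFrame a = c C.toFrame a * x C := by
  have h1 : C.φ hh * c C.toFrame a * (C.φ hh)⁻¹ = c C.toFrame (act hh a) := φ_c C hh (ev_Wm ha)
  have h2 := c_comm C (act_mem_Wm hh hh_mem a ha)
  unfold x
  rw [hh_inv] at h1 ⊢
  have hhh := hh_hh C
  have h3 : C.φ hh * c C.toFrame a = c C.toFrame (act hh a) * C.φ hh := by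
    rw [← h1]
    calc C.φ hh * (c C.toFrame a : G) = C.φ hh * c C.toFrame a * (C.φ hh * C.φ hh) := by
          rw [hhh, mul_one]
      _ = _ := by group
  have h4 : C.φ hh * (c C.toFrame (act hh a) : G) = c C.toFrame a * C.φ hh := by
    rw [← h1]
    calc C.φ hh * (C.φ hh * (c C.toFrame a : G) * C.φ hh)
        = (C.φ hh * C.φ hh) * c C.toFrame a * C.φ hh := by group
      _ = _ := by rw [hhh, one_mul]
  calc C.φ hh * t0 C * C.φ hh * c C.toFrame a
      = C.φ hh * t0 C * (C.φ hh * c C.toFrame a) := by group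
    _ = C.φ hh * (t0 C * c C.toFrame (act hh a)) * C.φ hh := by rw [h3]; group
    _ = (C.φ hh * c C.toFrame (act hh a)) * (t0 C * C.φ hh) := by rw [h2]; group
    _ = _ := by rw [h4]; group

theorem x_z : x C * C.z = C.z * x C := by
  have := x_comm_c C zm_mem_Wm
  rwa [FrameInput.c_zm] at this

theorem x_sg : x C * C.φ sg = C.φ sg * x C := by
  have h1 : C.φ hh * C.φ sg = C.φ sg * C.φ hh := by rw [← map_mul, hh_sg, map_mul]
  have h2 := t0_comm C sg_mem
  have c1 : Commute (C.φ sg) (C.φ hh) := h1.symm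
  have c2 : Commute (C.φ sg) (t0 C) := h2
  exact ((c1.mul_right c2).mul_right c1.inv_right).symm.eq

/-- `x` as an element of `C_G(z)` -/
noncomputable def xc : Subgroup.centralizer ({C.z} : Set G) :=
  ⟨x C, Subgroup.mem_centralizer_singleton_iff.2 (x_z C)⟩

/-- the image of `hex0` under `x` -/
noncomputable def O : Finset GolayPt := C.P (xc C) • hex0

theorem isHex_O : IsHex (O C) := NormE.isHex_P_smul C.toHex (xc C) hex0_isHex

theorem c_mem_O {a : ℕ} (ha : a ∈ Wm) : (c C.toFrame a : G) ∈ C.E (O C) := by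
  have h1 := (C.E_conj hex0 hex0_isHex (xc C) (c C.toFrame a)).1 (c_mem C.toFrame (ev_Wm ha))
  have h2 : (xc C : G) * c C.toFrame a * (xc C : G)⁻¹ = c C.toFrame a := by
    show x C * c C.toFrame a * (x C)⁻¹ = c C.toFrame a
    rw [x_comm_c C ha, mul_inv_cancel_right]
  rwa [h2] at h1

/-- two hexads `O₁`, `O₂` with `c a ∈ E O₁ ⊓ E O₂` for `a ∈ Wm` do not meet in two points -/
theorem card_inter_ne_two {O₁ O₂ : Finset GolayPt} (h₁ : IsHex O₁) (h₂ : IsHex O₂)
    (hc₁ : ∀ a ∈ Wm, (c C.toFrame a : G) ∈ C.E O₁) (hc₂ : ∀ a ∈ Wm, (c C.toFrame a : G) ∈ C.E O₂) :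
    (O₁ ∩ O₂).card ≠ 2 := by
  intro h
  have h3 := C.E_inf_two O₁ O₂ h₁ h₂ h
  have hw1 : (904 : ℕ) ∈ Wm := by decide +kernel
  have hw0 : (0 : ℕ) ∈ Wm := by decide +kernel
  have hwz := zm_mem_Wm
  obtain ⟨y, hy, huniq⟩ := (Nat.card_eq_two_iff' (1 : (C.E O₁ ⊓ C.E O₂ : Subgroup G))).1 h3
  have hne : ∀ a ∈ Wm, a ≠ 0 → ∀ h : (c C.toFrame a : G) ∈ (C.E O₁ ⊓ C.E O₂ : Subgroup G),
      (⟨_, h⟩ : (C.E O₁ ⊓ C.E O₂ : Subgroup G)) ≠ 1 := by
    intro a ha ha0 h h1
    have h2 : (c C.toFrame a : G) = c C.toFrame 0 := by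
      rw [c_zero]
      exact congrArg Subtype.val h1
    exact ha0 (c_inj C.toFrame (ev_Wm ha) ev_zero h2)
  have e1 := huniq ⟨_, ⟨hc₁ _ hw1, hc₂ _ hw1⟩⟩ (hne _ hw1 (by norm_num) _)
  have e2 := huniq ⟨_, ⟨hc₁ _ hwz, hc₂ _ hwz⟩⟩ (hne _ hwz (by decide +kernel) _)
  have h4 : (c C.toFrame 904 : G) = c C.toFrame zm :=
    congrArg (fun x : (C.E O₁ ⊓ C.E O₂ : Subgroup G) => (x : G)) (e1.trans e2.symm)
  have h5 := c_inj C.toFrame (ev_Wm hw1) (ev_Wm hwz) h4
  revert h5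
  decide +kernel

theorem O_ne : O C ≠ hex0 := by
  intro h
  have h1 : x C ∈ Subgroup.normalizer (C.E hex0 : Set G) :=
    (NormE.mem_normalizer_iff C.toHex hex0_isHex (xc C)).2 h
  have h2 : t0 C ∈ Subgroup.normalizer (C.E hex0 : Set G) := by
    have h3 : t0 C = (C.φ hh)⁻¹ * x C * C.φ hh := by unfold x; group
    rw [h3]
    exact mul_mem (mul_mem (inv_mem (C.φ_mem hh)) h1) (C.φ_mem hh)
  have h3 := (NormE.mem_normalizer_iff C.toHex hex0_isHex (f0 C)).1 h2
  rw [P_f0_hex0] at h3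
  exact hex2_ne h3

theorem O_inter : (O C ∩ hex0).card = 4 := by
  rcases HexMax.card_inter (isHex_O C) hex0_isHex (O_ne C) with h | h
  · exact absurd h (card_inter_ne_two C (isHex_O C) hex0_isHex (fun a ha => c_mem_O C ha)
      (fun a ha => c_mem C.toFrame (ev_Wm ha)))
  · exact h

/-- the action of `φ sg` -/
theorem P_sg : C.P (φc C sg_mem.1) = (sp : Equiv.Perm GolayPt) := by
  apply eq_of_hp (NormE.P_mem C.toCent _) sp_mem (φc_hex0 C sg_mem.1) sp_hex0
  intro i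
  rw [P_φ C sg_mem.1 (c := fun i => i + 2) sg_col, sp_hp]

theorem P_lam : C.P (φc C lam_mem.1) = (lp : Equiv.Perm GolayPt) := by
  apply eq_of_hp (NormE.P_mem C.toCent _) lp_mem (φc_hex0 C lam_mem.1) lp_hex0
  intro i
  rw [P_φ C lam_mem.1 (c := ![0, 1, 5, 4, 3, 2]) lam_col, lp_hp]

theorem sp_O : (sp : Equiv.Perm GolayPt) • O C = O C := by
  unfold O
  rw [← P_sg C, ← mul_smul, ← map_mul]
  have h : φc C sg_mem.1 * xc C = xc C * φc C sg_mem.1 := Subtype.ext (x_sg C).symm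
  rw [h, map_mul, mul_smul, φc_hex0]

theorem exists_ga : ∃ a : Subgroup.centralizer ({C.z} : Set G), (a : G) ∈ C.E hex0 ∧
    C.P a = (ga : Equiv.Perm GolayPt) :=
  (C.E_map hex0 hex0_isHex _).2 ⟨ga.2, ga_fix⟩

/-- the exclusion of the hexads `Oa`, `Ob` -/
theorem not_mem {O' : Finset GolayPt} (hO' : IsHex O')
    (h2 : ((ga : Equiv.Perm GolayPt) • (lp : Equiv.Perm GolayPt) • O' ∩ O').card = 2) :
    O C ≠ O' := by
  rintro rfl
  obtain ⟨a, ha, hPa⟩ := exists_ga C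
  have h3 : IsHex ((lp : Equiv.Perm GolayPt) • O C) := HexMax.smul_isHex lp_mem hO'
  have h4 : ∀ w ∈ Wm, (c C.toFrame w : G) ∈ C.E ((lp : Equiv.Perm GolayPt) • O C) := by
    intro w hw
    have hw' : act (lam⁻¹) w ∈ Wm := act_mem_Wm _ (by
      show ((lam⁻¹ : M24) : Equiv.Perm GolayPt) • TM = TM
      rw [Subgroup.coe_inv, inv_smul_eq_iff]
      exact (lam_mem.2).symm) w hw
    have h5 := (C.E_conj (O C) hO' (φc C lam_mem.1) _).1 (c_mem_O C hw')
    rw [P_lam, φc_coe, ← φ_c C lam⁻¹ (ev_Wm hw), map_inv] at h5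
    have h6 : C.φ lam * ((C.φ lam)⁻¹ * (c C.toFrame w : G) * (C.φ lam)⁻¹⁻¹) * (C.φ lam)⁻¹ =
        c C.toFrame w := by group
    rwa [h6] at h5
  have h5 : ∀ w ∈ Wm, (c C.toFrame w : G) ∈
      C.E ((ga : Equiv.Perm GolayPt) • (lp : Equiv.Perm GolayPt) • O C) := by
    intro w hw
    have h6 := (C.E_conj _ h3 a _).1 (h4 w hw)
    rw [hPa, (C.E_elem hex0 hex0_isHex).2 _ ha _ (c_mem C.toFrame (ev_Wm hw)),
      mul_inv_cancel_right] at h6
    exact h6
  have h6 : IsHex ((ga : Equiv.Perm GolayPt) • (lp : Equiv.Perm GolayPt) • O C) := by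
    rw [← hPa]
    exact NormE.isHex_P_smul C.toHex a h3
  exact card_inter_ne_two C h6 hO' h5 (fun w hw => c_mem_O C hw) h2

theorem O_eq : O C = hex2 := by
  rcases hex_cases (isHex_O C) (sp_O C) (O_inter C) with h | h | h
  · exact h
  · exact absurd h (not_mem C isHex_Oa card_Oa)
  · exact absurd h (not_mem C isHex_Ob card_Ob)

/-- `φ hh` maps `t₀` to `t₀ w` with `w ∈ C_E(t₀)` -/
theorem hh_conj : ∃ a ∈ Wm, C.φ hh * t0 C * (C.φ hh)⁻¹ = t0 C * c C.toFrame a := by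
  set y : Subgroup.centralizer ({C.z} : Set G) := f0 C * xc C with hy
  have hyG : (y : G) = t0 C * x C := rfl
  have hyN : (y : G) ∈ Subgroup.normalizer (C.E hex0 : Set G) := by
    rw [NormE.mem_normalizer_iff C.toHex hex0_isHex y, hy, map_mul, mul_smul]
    show C.P (f0 C) • O C = hex0
    rw [O_eq, P_f0_hex2]
  set Y : NE C.toFrame := ⟨y, hyN⟩ with hY
  have hYG : (Y : G) = t0 C * x C := rfl
  have hYc : ∀ w ∈ Wm, (Y : G) * c C.toFrame w = c C.toFrame w * Y := by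
    intro w hw
    have c1 : Commute (c C.toFrame w : G) (t0 C) := (c_comm C hw).symm
    have c2 : Commute (c C.toFrame w : G) (x C) := (x_comm_c C hw).symm
    exact (c1.mul_right c2).symm.eq
  have hYs : (Y : G) * C.φ sg = C.φ sg * Y := by
    have c1 : Commute (C.φ sg) (t0 C) := t0_comm C sg_mem
    have c2 : Commute (C.φ sg) (x C) := (x_sg C).symm
    exact (c1.mul_right c2).symm.eq
  set n : M24 := C.π Y with hn
  have hnW : ∀ w ∈ Wm, act n w = w := by
    intro w hw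
    have h1 := conj_c C.toFrame Y (ev_Wm hw)
    rw [hYc w hw, mul_inv_cancel_right] at h1
    exact (c_inj C.toFrame (ev_Wm hw) (ev_act _ (ev_Wm hw)) h1).symm
  have hns : n * sg = sg * n := by
    have h1 : Y * ⟨C.φ sg, C.φ_mem sg⟩ = ⟨C.φ sg, C.φ_mem sg⟩ * Y := Subtype.ext hYs
    have h2 := congrArg C.π h1
    rw [map_mul, map_mul, C.π_φ] at h2
    exact h2
  -- `Y = c a * φ (sg ^ i)`
  have key : ∃ s : M24, (s = 1 ∨ s = sg ∨ s = sg * sg) ∧ n = s := by
    rcases fix_W n hnW hns with h | h | h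
    · exact ⟨1, Or.inl rfl, h⟩
    · exact ⟨sg, Or.inr (Or.inl rfl), h⟩
    · exact ⟨sg * sg, Or.inr (Or.inr rfl), h⟩
  obtain ⟨s, hs, hns'⟩ := key
  have h1 : C.π Y = C.π ⟨C.φ s, C.φ_mem s⟩ := by rw [C.π_φ]; exact hns'
  obtain ⟨a, ha, h2⟩ := (ext C.toFrame).exists_mul' h1
  have h3 : t0 C * x C = c C.toFrame a * C.φ s := congrArg Subtype.val h2
  have hss : C.φ s * C.φ sg = C.φ sg * C.φ s := by
    rw [← map_mul, ← map_mul]
    rcases hs with rfl | rfl | rfl
    · rw [one_mul, mul_one]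
    · rfl
    · rw [mul_assoc]
  -- `c a` commutes with `φ sg`
  have h4 : (c C.toFrame a : G) * C.φ sg = C.φ sg * c C.toFrame a := by
    have h5 : (c C.toFrame a : G) = Y * (C.φ s)⁻¹ := by
      rw [hYG, h3, mul_inv_cancel_right]
    rw [h5]
    have c1 : Commute (C.φ sg) (Y : G) := hYs.symm
    have c2 : Commute (C.φ sg) (C.φ s) := hss.symm
    exact (c1.mul_right c2.inv_right).symm.eq
  have h5 : a ∈ Wm := by
    apply fix_sg a ha
    have h6 := φ_c C sg ha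
    rw [← h4, mul_inv_cancel_right] at h6
    exact (c_inj C.toFrame ha (ev_act _ ha) h6).symm
  refine ⟨a, h5, ?_⟩
  show x C = t0 C * c C.toFrame a
  have h6 : x C = t0 C * c C.toFrame a * C.φ s := by
    rw [mul_assoc, ← h3, ← mul_assoc, t0_sq, one_mul]
  -- `x ^ 2 = (φ s) ^ 2`
  have hts : C.φ s * t0 C = t0 C * C.φ s := by
    rcases hs with rfl | rfl | rfl
    · rw [map_one, one_mul, mul_one]
    · exact t0_comm C sg_mem
    · rw [map_mul]
      have c1 : Commute (C.φ sg) (t0 C) := t0_comm C sg_mem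
      exact (c1.mul_left c1).eq
  have hcs : C.φ s * c C.toFrame a = c C.toFrame a * C.φ s := by
    rcases hs with rfl | rfl | rfl
    · rw [map_one, one_mul, mul_one]
    · exact h4.symm
    · rw [map_mul]
      have c1 : Commute (C.φ sg) (c C.toFrame a : G) := h4.symm
      exact (c1.mul_left c1).eq
  have h7 : C.φ s * C.φ s = 1 := by
    have h8 := x_sq C
    rw [h6] at h8
    have e1 : t0 C * c C.toFrame a * C.φ s * (t0 C * c C.toFrame a * C.φ s) = C.φ s * C.φ s := by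
      calc t0 C * c C.toFrame a * C.φ s * (t0 C * c C.toFrame a * C.φ s)
          = t0 C * c C.toFrame a * (C.φ s * t0 C) * c C.toFrame a * C.φ s := by group
        _ = t0 C * (c C.toFrame a * t0 C) * (C.φ s * c C.toFrame a) * C.φ s := by rw [hts]; group
        _ = (t0 C * t0 C) * (c C.toFrame a * c C.toFrame a) * (C.φ s * C.φ s) := by
            rw [hcs, ← c_comm C h5]; group
        _ = C.φ s * C.φ s := by rw [t0_sq, c_sq C.toFrame ha, one_mul, one_mul]
    rw [e1] at h8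
    exact h8
  have h8 : C.φ s = 1 := by
    have hcube : C.φ sg * C.φ sg * C.φ sg = 1 := by rw [← map_mul, ← map_mul, sg_cube, map_one]
    rcases hs with rfl | rfl | rfl
    · exact map_one _
    · rw [h7, one_mul] at hcube
      exact hcube
    · rw [map_mul] at h7 ⊢
      have e1 : C.φ sg = 1 := by
        calc C.φ sg = (C.φ sg * C.φ sg * C.φ sg)⁻¹ * (C.φ sg * C.φ sg * (C.φ sg * C.φ sg)) := by
              group
          _ = 1 := by rw [hcube, h7]; group
      rw [e1, one_mul]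
  rw [h6, h8, mul_one]

end Cfsg.Agent.J4Type.TauHH
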