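import Cfsg.Agent.J4Type.TauHH
import Cfsg.Agent.J4Type.TauAbs
import Cfsg.Agent.J4Type.FinalTrio
import Cfsg.Agent.SporadicStructure.SextetAction

/-!
# R07 (J₄ type), part (e): from `Compl` to `Tau` (helper461)

`exists_tau` : every `Compl G` (with `G` finite) extends to a `Tau G`.
-/

set_option autoImplicit false

open scoped Pointwise

namespace Cfsg.Agent.J4Type.TauMain

open Cfsg Cfsg.Agent.SporadicA.GolayPerm Cfsg.Agent.J4Type.FrameDefs
open Cfsg.Agent.J4Type.CocodeMask Cfsg.Agent.J4Type.TauM24 Cfsg.Agent.J4Type.TauF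
open Cfsg.Agent.J4Type.TauP Cfsg.Agent.J4Type.TauCol Cfsg.Agent.J4Type.TauMask
open Cfsg.Agent.J4Type.TauCent
open Cfsg.Agent.J4Type.SplitData (zm ev_zm)
open Cfsg.Agent.J4Type.HexPerms (hex0_isHex hex1_isHex)

variable {G : Type*} [Group G] (C : Compl G)

theorem φ_conj_z {n : M24} (hn : n ∈ Kz) : C.φ n * C.z * (C.φ n)⁻¹ = C.z := by
  rw [φ_z C hn, mul_inv_cancel_right]

theorem F'_comm {a b : G} (ha : a ∈ F' C) (hb : b ∈ F' C) : a * b = b * a :=
  (C.E_elem hex1 hex1_isHex).2 a ((F'_mem_iff C a).1 ha).1 b ((F'_mem_iff C b).1 hb).1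

theorem bb_conj : C.φ bb * t0 C * (C.φ bb)⁻¹ = fe C 2 3 :=
  conj_fe C bb_mem (c := ![0, 1, 2, 4, 5, 3]) bb_col (by decide) (by decide) (by decide +kernel)

theorem cc_conj : C.φ cc * t0 C * (C.φ cc)⁻¹ = fe C 4 5 :=
  conj_fe C cc_mem (c := ![0, 1, 2, 5, 3, 4]) cc_col (by decide) (by decide) (by decide +kernel)

theorem mem_cases {a : ℕ} (ha : a ∈ Wm) : (c C.toFrame a : G) = 1 ∨
    (c C.toFrame a : G) = C.z ∨ (c C.toFrame a : G) = c C.toFrame 2544 ∨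
    (c C.toFrame a : G) = C.z * c C.toFrame 2544 ∨ (c C.toFrame a : G) = c C.toFrame 904 ∨
    (c C.toFrame a : G) = C.z * c C.toFrame 904 ∨
    (c C.toFrame a : G) = c C.toFrame 2544 * c C.toFrame 904 ∨
    (c C.toFrame a : G) = C.z * c C.toFrame 2544 * c C.toFrame 904 := by
  have e1 : ev 2544 = true := by decide +kernel
  have e2 : ev 904 = true := by decide +kernel
  have e3 : ev (zm ^^^ 2544) = true := by decide +kernel
  rw [← FrameInput.c_zm C.toFrame, ← c_xor C.toFrame ev_zm e1, ← c_xor C.toFrame ev_zm e2,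
    ← c_xor C.toFrame e1 e2, ← c_xor C.toFrame e3 e2, ← c_zero C.toFrame]
  have h : ∀ a ∈ Wm, a = 0 ∨ a = zm ∨ a = 2544 ∨ a = zm ^^^ 2544 ∨ a = 904 ∨ a = zm ^^^ 904 ∨
      a = 2544 ^^^ 904 ∨ a = zm ^^^ 2544 ^^^ 904 := by decide +kernel
  rcases h a ha with h | h | h | h | h | h | h | h
  · exact Or.inl (by rw [h])
  · exact Or.inr (Or.inl (by rw [h]))
  · exact Or.inr (Or.inr (Or.inl (by rw [h])))
  · exact Or.inr (Or.inr (Or.inr (Or.inl (by rw [h]))))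
  · exact Or.inr (Or.inr (Or.inr (Or.inr (Or.inl (by rw [h])))))
  · exact Or.inr (Or.inr (Or.inr (Or.inr (Or.inr (Or.inl (by rw [h]))))))
  · exact Or.inr (Or.inr (Or.inr (Or.inr (Or.inr (Or.inr (Or.inl (by rw [h])))))))
  · exact Or.inr (Or.inr (Or.inr (Or.inr (Or.inr (Or.inr (Or.inr (by rw [h])))))))

/-- `t₀` commutes with `φ n` for all `n` in the stabiliser of `TM` -/
theorem t0_KT {n : M24} (hn : n ∈ KT) : C.φ n * t0 C * (C.φ n)⁻¹ = t0 C := by
  obtain ⟨a, ha, hw⟩ := TauHH.hh_conj C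
  have e0 := c_zero C.toFrame
  have ez := FrameInput.c_zm C.toFrame
  have ev1 : ev 2544 = true := by decide +kernel
  have ev2 : ev 904 = true := by decide +kernel
  have ev3 : ev 1105 = true := by decide +kernel
  have hzc : ∀ b, ev b = true → (c C.toFrame b : G) * C.z = C.z * c C.toFrame b := fun b hb =>
    (C.E_elem hex0 hex0_isHex).2 _ (c_mem C.toFrame hb) _ (C.z_mem_E _ hex0_isHex)
  refine TauAbs.main C.φ (w := c C.toFrame a) (z0 := C.z) (z1 := c C.toFrame 2544)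
    (z2 := c C.toFrame 904) (u := c C.toFrame 1105)
    (d := (C.φ mm * C.z * (C.φ mm)⁻¹) * (C.φ 1 * C.z * (C.φ 1)⁻¹)) (h := hh) (s := ss) (s' := ss)
    Kz (Kz ∩ KT) (t0_sq C) (NormE.z_sq C.toCent) (t0_z C) (fun n hn => φ_conj_z C hn)
    (fun n hn => F'_comm C (t0_mem C) (conj_mem_F' C hn (t0_mem C))) Set.inter_subset_left
    (fun k hk => t0_conj C hk) hh_sq ss_hh ss_mem ss_mem hw (mem_cases C ha) ?_ ?_ ?_ ?_ ?_ ?_ ?_
    (a := 1) (b := bb) (c := cc) (m := mm) (n := 1) ?_ bb_mem cc_mem ?_ ?_ ?_ rfl ?_ ?_ n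
    (KT_le n hn)
  · rw [← ez, φ_c C hh ev_zm, act_hh_zm]
  · rw [φ_c C hh ev1, act_hh_w, ez]
  · rw [← ez, ← c_xor C.toFrame ev_zm ev1, ← e0]
    intro h
    have := c_inj C.toFrame (ev_xor ev_zm ev1) ev_zero h
    revert this
    decide +kernel
  · exact (hzc _ ev1).symm
  · rw [φ_c C ss ev1, act_ss_2544]
  · rw [φ_c C ss ev2, act_ss_904, c_xor C.toFrame ev2 ev3]
  · rw [← e0]
    intro h
    have := c_inj C.toFrame ev3 ev_zero h
    omega
  · show ((1 : M24) : Equiv.Perm GolayPt) • S0 = S0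
    rw [Subgroup.coe_one, one_smul]
  · have h1 : C.φ 1 * t0 C * (C.φ 1)⁻¹ = fe C 0 1 := by rw [map_one]; simp [t0]
    rw [h1, bb_conj, cc_conj, fe_prod]
  · intro x hx
    obtain ⟨k, hk, n', hn', p, hp, e⟩ := mm_fact x hx
    exact ⟨k, KT_le k hk, n', hn', p, KT_le p hp, e⟩
  · intro x hx
    refine ⟨1, Subgroup.one_mem _, x, ?_, 1, Subgroup.one_mem _, by rw [one_mul, mul_one]⟩
    simp only [Set.mem_insert_iff, Set.mem_singleton_iff] at hx
    rcases hx with rfl | rfl | rfl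
    · show ((1 : M24) : Equiv.Perm GolayPt) • S0 = S0
      rw [Subgroup.coe_one, one_smul]
    · exact bb_mem
    · exact cc_mem
  · rw [map_one, one_mul, inv_one, mul_one, ← ez, φ_c C mm ev_zm,
      ← c_xor C.toFrame (ev_act mm ev_zm) ev_zm, ez]
    exact hzc _ (ev_xor (ev_act mm ev_zm) ev_zm)
  · rw [map_one, one_mul, inv_one, mul_one, ← ez, φ_c C mm ev_zm,
      ← c_xor C.toFrame (ev_act mm ev_zm) ev_zm]
    intro h
    have h1 := (cent_iff C (ev_xor (ev_act mm ev_zm) ev_zm)).1 h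
    have h2 : ∀ b ∈ Wm, b ^^^ zm ∈ Wm := by decide +kernel
    have h3 := h2 _ h1
    rw [Nat.xor_assoc, Nat.xor_self, Nat.xor_zero] at h3
    exact mm_zm h3

/-! ### the family `t T` -/

open Classical in
/-- the involutions indexed by the trios -/
noncomputable def t (T : Finset (Finset GolayPt)) : G :=
  if h : ∃ g : M24, (g : Equiv.Perm GolayPt) • TM = T then
    C.φ h.choose * t0 C * (C.φ h.choose)⁻¹ else 1

theorem t_smul (g : M24) : t C ((g : Equiv.Perm GolayPt) • TM) = C.φ g * t0 C * (C.φ g)⁻¹ := by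
  have h : ∃ g' : M24, (g' : Equiv.Perm GolayPt) • TM = (g : Equiv.Perm GolayPt) • TM := ⟨g, rfl⟩
  unfold t
  rw [dif_pos h]
  have h1 := h.choose_spec
  set g' := h.choose with hg'
  have h2 : g⁻¹ * g' ∈ KT := by
    show ((g⁻¹ * g' : M24) : Equiv.Perm GolayPt) • TM = TM
    rw [Subgroup.coe_mul, mul_smul, h1, Subgroup.coe_inv, inv_smul_smul]
  have h3 := t0_KT C h2
  calc C.φ g' * t0 C * (C.φ g')⁻¹
      = C.φ g * (C.φ (g⁻¹ * g') * t0 C * (C.φ (g⁻¹ * g'))⁻¹) * (C.φ g)⁻¹ := by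
        rw [map_mul, map_inv]; group
    _ = _ := by rw [h3]

theorem t_TM : t C TM = t0 C := by
  have := t_smul C 1
  rw [Subgroup.coe_one, one_smul, map_one, one_mul, inv_one, mul_one] at this
  exact this

theorem exists_g {T : Finset (Finset GolayPt)} (hT : T ∈ trios) :
    ∃ g : M24, (g : Equiv.Perm GolayPt) • TM = T := FinalTrio.exists_smul TM_mem hT

/-- trios refined by `S0` -/
theorem exists_n {T : Finset (Finset GolayPt)} (hT : T ∈ trios) (h : Refines S0 T) :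
    ∃ n : M24, n ∈ Kz ∧ (n : Equiv.Perm GolayPt) • TM = T := exists_smul S0 T S0_mem hT h

theorem t_conj {T : Finset (Finset GolayPt)} (hT : T ∈ trios) (g : M24) :
    C.φ g * t C T * (C.φ g)⁻¹ = t C ((g : Equiv.Perm GolayPt) • T) := by
  obtain ⟨k, rfl⟩ := exists_g hT
  rw [t_smul, ← mul_smul, ← Subgroup.coe_mul, t_smul, map_mul]
  group

theorem t_sq {T : Finset (Finset GolayPt)} (hT : T ∈ trios) : t C T * t C T = 1 := by
  obtain ⟨k, rfl⟩ := exists_g hT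
  rw [t_smul]
  calc C.φ k * t0 C * (C.φ k)⁻¹ * (C.φ k * t0 C * (C.φ k)⁻¹)
      = C.φ k * (t0 C * t0 C) * (C.φ k)⁻¹ := by group
    _ = 1 := by rw [t0_sq]; group

theorem smul_mem_trios (g : M24) {T : Finset (Finset GolayPt)} (hT : T ∈ trios) :
    (g : Equiv.Perm GolayPt) • T ∈ trios := SporadicStructure.TrioInv.smul_mem_trios g.2 hT

theorem smul_mem_sextets (g : M24) {Y : Finset (Finset GolayPt)} (hY : Y ∈ sextets) :
    (g : Equiv.Perm GolayPt) • Y ∈ sextets := SporadicStructure.SextetAction.smul_mem_sextets g.2 hY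

theorem refines_smul (g : M24) {Y T : Finset (Finset GolayPt)} (h : Refines Y T) :
    Refines ((g : Equiv.Perm GolayPt) • Y) ((g : Equiv.Perm GolayPt) • T) := by
  intro X hX
  obtain ⟨X', hX', rfl⟩ := Finset.mem_smul_finset.1 hX
  obtain ⟨O, hO, h1⟩ := h X' hX'
  exact ⟨_, Finset.smul_mem_smul_finset hO, Finset.smul_finset_subset_smul_finset h1⟩

theorem refines_S0_smul {n : M24} (hn : n ∈ Kz) : Refines S0 ((n : Equiv.Perm GolayPt) • TM) := by
  have h := refines_smul n refines_TM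
  rwa [show (n : Equiv.Perm GolayPt) • S0 = S0 from hn] at h

/-- three trios through an octad refined by `S0` -/
theorem rel1_S0 {T₁ T₂ T₃ : Finset (Finset GolayPt)} (h₁ : T₁ ∈ trios) (h₂ : T₂ ∈ trios)
    (h₃ : T₃ ∈ trios) (h12 : T₁ ≠ T₂) (h13 : T₁ ≠ T₃) (h23 : T₂ ≠ T₃) (r₁ : Refines S0 T₁)
    (r₂ : Refines S0 T₂) (r₃ : Refines S0 T₃) (O : Finset GolayPt) (o₁ : O ∈ T₁) (o₂ : O ∈ T₂)
    (o₃ : O ∈ T₃) : t C T₁ * t C T₂ * t C T₃ = 1 := by
  obtain ⟨g, -, e1, h⟩ := three_trios T₁ T₂ T₃ h₁ h₂ h₃ h12 h13 h23 r₁ r₂ r₃ O o₁ o₂ o₃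
  have k1 : ∀ k : M24, t C (((g * k : M24) : Equiv.Perm GolayPt) • TM) =
      C.φ g * (C.φ k * t0 C * (C.φ k)⁻¹) * (C.φ g)⁻¹ := by
    intro k
    rw [t_smul, map_mul]; group
  have k0 := t_smul C g
  rw [e1] at k0
  rcases h with ⟨e2, e3⟩ | ⟨e2, e3⟩
  · rw [k0, ← e2, ← e3, k1, k1, bb_conj, cc_conj]
    calc C.φ g * t0 C * (C.φ g)⁻¹ * (C.φ g * fe C 2 3 * (C.φ g)⁻¹) *
          (C.φ g * fe C 4 5 * (C.φ g)⁻¹)
        = C.φ g * (fe C 0 1 * fe C 2 3 * fe C 4 5) * (C.φ g)⁻¹ := by unfold t0; group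
      _ = 1 := by rw [fe_prod]; group
  · rw [k0, ← e2, ← e3, k1, k1, bb_conj, cc_conj]
    have hc := F'_comm C (fe_mem C (i := 4) (j := 5) (by decide))
      (fe_mem C (i := 2) (j := 3) (by decide))
    calc C.φ g * t0 C * (C.φ g)⁻¹ * (C.φ g * fe C 4 5 * (C.φ g)⁻¹) *
          (C.φ g * fe C 2 3 * (C.φ g)⁻¹)
        = C.φ g * (fe C 0 1 * (fe C 4 5 * fe C 2 3)) * (C.φ g)⁻¹ := by unfold t0; group
      _ = C.φ g * (fe C 0 1 * fe C 2 3 * fe C 4 5) * (C.φ g)⁻¹ := by rw [hc]; group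
      _ = 1 := by rw [fe_prod]; group

/-- `t T` for the fifteen trios refined by `S0` -/
theorem t_eq_fe {n : M24} (hn : n ∈ Kz) {c : Fin 6 → Fin 6}
    (hc : ∀ i, (n : Equiv.Perm GolayPt) • tet i = tet (c i)) {i j : Fin 6} (hij : i ≠ j)
    (h : ∀ y, partner i j (c y) = c (partner 0 1 y)) :
    t C ((n : Equiv.Perm GolayPt) • TM) = fe C i j := by
  rw [t_smul]
  exact conj_fe C hn hc (by decide) hij h

theorem exists_T {i j : Fin 6} (hij : i ≠ j) :
    ∃ T ∈ trios, Refines S0 T ∧ t C T = fe C i j := by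
  obtain ⟨c, hc⟩ := exists_cp hij
  obtain ⟨n, hn, hc'⟩ := col_surj c
  exact ⟨_, smul_mem_trios n TM_mem, refines_S0_smul hn, t_eq_fe C hn hc' hij hc⟩

theorem smul_TM {n : M24} {c : Fin 6 → Fin 6}
    (hc : ∀ i, (n : Equiv.Perm GolayPt) • tet i = tet (c i)) :
    (n : Equiv.Perm GolayPt) • TM = {tet (c 0) ∪ tet (c 1), tet (c 2) ∪ tet (c 3),
      tet (c 4) ∪ tet (c 5)} := by
  rw [TM, Finset.smul_finset_insert, Finset.smul_finset_insert, Finset.smul_finset_singleton,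
    Finset.smul_finset_union, Finset.smul_finset_union, Finset.smul_finset_union, hc, hc, hc, hc,
    hc, hc]

theorem t_TM' : t C TM' = fe C 0 3 := by
  let c : Equiv.Perm (Fin 6) := Equiv.ofBijective ![0, 4, 1, 3, 2, 5]
    (Finite.injective_iff_bijective.1 (by decide))
  obtain ⟨n, hn, hc⟩ := col_surj c
  have h1 : (n : Equiv.Perm GolayPt) • TM = TM' := by
    rw [smul_TM hc]
    rfl
  rw [← h1]
  exact t_eq_fe C hn (c := c) hc (by decide) (by decide +kernel)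

theorem t_TM'' : t C TM'' = fe C 1 3 := by
  let c : Equiv.Perm (Fin 6) := Equiv.ofBijective ![0, 2, 1, 5, 3, 4]
    (Finite.injective_iff_bijective.1 (by decide))
  obtain ⟨n, hn, hc⟩ := col_surj c
  have h1 : (n : Equiv.Perm GolayPt) • TM = TM'' := by
    rw [smul_TM hc]
    rfl
  rw [← h1]
  exact t_eq_fe C hn (c := c) hc (by decide) (by decide +kernel)

theorem z_prod : t C TM * t C TM' * t C TM'' = C.z := by
  rw [t_TM, t_TM', t_TM'']
  show fe C 0 1 * fe C 0 3 * fe C 1 3 = C.z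
  rw [fe_symm C 0 1, fe_tri C (i := 1) (j := 0) (k := 3) (by decide) (by decide) (by decide),
    mul_assoc, ← Subgroup.mem_centralizer_singleton_iff.1
      (F'_le C (fe_mem C (i := 1) (j := 3) (by decide))), ← mul_assoc,
    fe_sq C (i := 1) (j := 3) (by decide), one_mul]

theorem t0_notMem_Q : t0 C ∉ C.Q := by
  intro h
  have h1 : C.P (f0 C) = 1 := (C.P_ker _).2 ⟨t0 C, h, 0, by rw [pow_zero, mul_one]; rfl⟩
  have h2 := P_f0_hex0 C
  rw [h1, one_smul] at h2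
  exact hex2_ne h2.symm

theorem t_hex1 {T : Finset (Finset GolayPt)} (hT : T ∈ trios) (h : Refines S0 T) :
    t C T ∈ C.E hex1 ∧ t C T * C.ρ = C.ρ * t C T ∧ t C T ∉ C.Q := by
  obtain ⟨n, hn, rfl⟩ := exists_n hT h
  have h1 : t C ((n : Equiv.Perm GolayPt) • TM) ∈ F' C := by
    rw [t_smul]
    exact conj_mem_F' C hn (t0_mem C)
  refine ⟨((F'_mem_iff C _).1 h1).1, ((F'_mem_iff C _).1 h1).2, fun h2 => t0_notMem_Q C ?_⟩
  rw [t_smul] at h2
  have h3 : (C.φ n)⁻¹ * C.z = C.z * (C.φ n)⁻¹ := by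
    have c1 : Commute (C.φ n) C.z := φ_z C hn
    exact c1.inv_left.eq
  have h4 := C.Q_conj _ h3 _ h2
  have e : (C.φ n)⁻¹ * (C.φ n * t0 C * (C.φ n)⁻¹) * (C.φ n)⁻¹⁻¹ = t0 C := by group
  rwa [e] at h4

theorem t_exh {a : G} (ha : a ∈ C.E hex1) (h : a * C.ρ = C.ρ * a) :
    a = 1 ∨ a = C.z ∨ ∃ T ∈ trios, Refines S0 T ∧ (a = t C T ∨ a = t C T * C.z) := by
  rcases F'_exh C ((F'_mem_iff C a).2 ⟨ha, h⟩) with h1 | h1 | ⟨i, j, hij, h1⟩
  · exact Or.inl h1
  · exact Or.inr (Or.inl h1)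
  · obtain ⟨T, hT, hr, e⟩ := exists_T C hij
    refine Or.inr (Or.inr ⟨T, hT, hr, ?_⟩)
    rw [e]
    exact h1

theorem t_isConj {T : Finset (Finset GolayPt)} (hT : T ∈ trios) : IsConj C.z (t C T) := by
  obtain ⟨g, rfl⟩ := exists_g hT
  rw [t_smul]
  exact (isConj_fe C (i := 0) (j := 1) (by decide)).trans (isConj_iff.2 ⟨C.φ g, rfl⟩)

theorem tz_not_isConj {T : Finset (Finset GolayPt)} (hT : T ∈ trios) (h : Refines S0 T) :
    ¬ IsConj C.z (t C T * C.z) := by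
  obtain ⟨n, hn, rfl⟩ := exists_n hT h
  intro h1
  apply not_isConj_fe C (i := 0) (j := 1) (by decide)
  refine h1.trans (isConj_iff.2 ⟨(C.φ n)⁻¹, ?_⟩)
  rw [t_smul]
  calc (C.φ n)⁻¹ * (C.φ n * t0 C * (C.φ n)⁻¹ * C.z) * (C.φ n)⁻¹⁻¹
      = t0 C * (C.φ n)⁻¹ * (C.z * C.φ n) := by group
    _ = t0 C * (C.φ n)⁻¹ * (C.φ n * C.z) := by rw [φ_z C hn]
    _ = fe C 0 1 * C.z := by unfold t0; group

/-! ### the centraliser -/

theorem φ_ε (g : M24) {S : Finset GolayPt} (hS : Even S.card) :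
    C.φ g * C.ε S * (C.φ g)⁻¹ = C.ε ((g : Equiv.Perm GolayPt) • S) := by
  have h := C.π_smul ⟨C.φ g, C.φ_mem g⟩ S hS
  rw [C.π_φ] at h
  exact h

theorem t_cent {T : Finset (Finset GolayPt)} (hT : T ∈ trios) {S : Finset GolayPt}
    (hS : Even S.card) : C.ε S * t C T = t C T * C.ε S ↔
      C.ε S = 1 ∨ ∃ Y ∈ sextets, Refines Y T ∧ ∃ X ∈ Y, C.ε S = C.ε X := by
  obtain ⟨g, rfl⟩ := exists_g hT
  have hgS : Even (((g⁻¹ : M24) : Equiv.Perm GolayPt) • S).card := by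
    rwa [Finset.card_smul_finset]
  have h1 : (C.φ g)⁻¹ * C.ε S * C.φ g = c C.toFrame (msk (((g⁻¹ : M24) : Equiv.Perm GolayPt) • S)) := by
    rw [c_msk C.toFrame hgS, ← φ_ε C g⁻¹ hS, map_inv, inv_inv]
  have h2 : C.ε S * t C ((g : Equiv.Perm GolayPt) • TM) =
      t C ((g : Equiv.Perm GolayPt) • TM) * C.ε S ↔
      msk (((g⁻¹ : M24) : Equiv.Perm GolayPt) • S) ∈ Wm := by
    rw [← cent_iff C (ev_msk hgS), ← h1, t_smul]
    constructor
    · intro h
      calc t0 C * ((C.φ g)⁻¹ * C.ε S * C.φ g)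
          = (C.φ g)⁻¹ * ((C.φ g * t0 C * (C.φ g)⁻¹) * C.ε S) * C.φ g := by group
        _ = (C.φ g)⁻¹ * (C.ε S * (C.φ g * t0 C * (C.φ g)⁻¹)) * C.φ g := by rw [h]
        _ = _ := by group
    · intro h
      calc C.ε S * (C.φ g * t0 C * (C.φ g)⁻¹)
          = C.φ g * (((C.φ g)⁻¹ * C.ε S * C.φ g) * t0 C) * (C.φ g)⁻¹ := by group
        _ = C.φ g * (t0 C * ((C.φ g)⁻¹ * C.ε S * C.φ g)) * (C.φ g)⁻¹ := by rw [h]
        _ = _ := by group
  rw [h2]
  constructor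
  · intro h
    by_cases h0 : msk (((g⁻¹ : M24) : Equiv.Perm GolayPt) • S) = 0
    · left
      rw [h0, c_zero] at h1
      calc C.ε S = C.φ g * ((C.φ g)⁻¹ * C.ε S * C.φ g) * (C.φ g)⁻¹ := by group
        _ = 1 := by rw [h1]; group
    · right
      obtain ⟨Y, hY, hr, X, hX, hXe, hm⟩ := exists_sextet _ h h0
      refine ⟨_, smul_mem_sextets g hY, refines_smul g hr, _, Finset.smul_mem_smul_finset hX, ?_⟩
      rw [← φ_ε C g hXe, ← c_msk C.toFrame hXe, hm, ← h1]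
      group
  · rintro (h | ⟨Y, hY, hr, X, hX, h⟩)
    · have h3 : (c C.toFrame (msk (((g⁻¹ : M24) : Equiv.Perm GolayPt) • S)) : G) =
          c C.toFrame 0 := by
        rw [← h1, h, c_zero]; group
      rw [c_inj C.toFrame (ev_msk hgS) ev_zero h3]
      decide +kernel
    · have hXe : Even X.card := by rw [hY.2.1 X hX]; decide
      have hgX : Even (((g⁻¹ : M24) : Equiv.Perm GolayPt) • X).card := by
        rwa [Finset.card_smul_finset]
      have h3 : (c C.toFrame (msk (((g⁻¹ : M24) : Equiv.Perm GolayPt) • S)) : G) =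
          c C.toFrame (msk (((g⁻¹ : M24) : Equiv.Perm GolayPt) • X)) := by
        rw [← h1, h, c_msk C.toFrame hgX, ← φ_ε C g⁻¹ hXe, map_inv, inv_inv]
      rw [c_inj C.toFrame (ev_msk hgS) (ev_msk hgX) h3]
      have h4 := refines_smul g⁻¹ hr
      rw [Subgroup.coe_inv, inv_smul_smul] at h4
      exact (msk_of_refines _ (smul_mem_sextets g⁻¹ hY) (by rwa [Subgroup.coe_inv]) _
        (Finset.smul_mem_smul_finset hX)).1

/-! ### the structure -/

/-- `Compl` gives `Tau` -/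
noncomputable def toTau : Tau G where
  toCompl := C
  t := t C
  t_sq T hT := t_sq C hT
  t_conj T hT g := t_conj C hT g
  rel1 := by
    intro T₁ h₁ T₂ h₂ T₃ h₃ h12 h13 h23 S hS r₁ r₂ r₃ O o₁ o₂ o₃
    obtain ⟨g, hg, -⟩ := exists_smul S T₁ hS h₁ r₁
    have key : ∀ T ∈ trios, Refines S T →
        ((g⁻¹ : M24) : Equiv.Perm GolayPt) • T ∈ trios ∧
        Refines S0 (((g⁻¹ : M24) : Equiv.Perm GolayPt) • T) ∧
        t C T = C.φ g * t C (((g⁻¹ : M24) : Equiv.Perm GolayPt) • T) * (C.φ g)⁻¹ := by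
      intro T hT hr
      have h1 := smul_mem_trios g⁻¹ hT
      refine ⟨h1, ?_, ?_⟩
      · have h2 := refines_smul g⁻¹ hr
        rw [← hg, Subgroup.coe_inv, inv_smul_smul] at h2
        exact h2
      · rw [t_conj C h1, Subgroup.coe_inv, smul_inv_smul]
    obtain ⟨a1, b1, c1⟩ := key T₁ h₁ r₁
    obtain ⟨a2, b2, c2⟩ := key T₂ h₂ r₂
    obtain ⟨a3, b3, c3⟩ := key T₃ h₃ r₃
    have hinj : ∀ T T' : Finset (Finset GolayPt), T ≠ T' →
        ((g⁻¹ : M24) : Equiv.Perm GolayPt) • T ≠ ((g⁻¹ : M24) : Equiv.Perm GolayPt) • T' :=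
      fun T T' h h' => h (MulAction.injective _ h')
    have h := rel1_S0 C a1 a2 a3 (hinj _ _ h12) (hinj _ _ h13) (hinj _ _ h23) b1 b2 b3
      (((g⁻¹ : M24) : Equiv.Perm GolayPt) • O) (Finset.smul_mem_smul_finset o₁)
      (Finset.smul_mem_smul_finset o₂) (Finset.smul_mem_smul_finset o₃)
    rw [c1, c2, c3]
    set x := t C (((g⁻¹ : M24) : Equiv.Perm GolayPt) • T₁)
    set y := t C (((g⁻¹ : M24) : Equiv.Perm GolayPt) • T₂)
    set w := t C (((g⁻¹ : M24) : Equiv.Perm GolayPt) • T₃)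
    calc C.φ g * x * (C.φ g)⁻¹ * (C.φ g * y * (C.φ g)⁻¹) * (C.φ g * w * (C.φ g)⁻¹)
        = C.φ g * (x * y * w) * (C.φ g)⁻¹ := by group
      _ = 1 := by rw [h]; group
  t_hex1 T hT h := t_hex1 C hT h
  t_exh a ha h := t_exh C ha h
  z_prod := z_prod C
  t_isConj T hT := t_isConj C hT
  tz_not_isConj T hT h := tz_not_isConj C hT h
  t_cent T hT S hS := t_cent C hT hS

/-- Main theorem of part (e). -/
theorem exists_tau (C : Compl G) : ∃ T : Tau G, T.toCompl = C := ⟨toTau C, rfl⟩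

end Cfsg.Agent.J4Type.TauMain
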