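import Cfsg.Prelude.Def_Transfer
import Cfsg.Agent.J4Type.Setup
import Cfsg.Agent.S1180
import Cfsg.Agent.S0215

/-!
# R07 (J₄ type): the `Z*`-theorem for the structure `Cent`
-/

set_option autoImplicit false

open Cfsg
open scoped Pointwise

namespace Cfsg.Agent.J4Type

variable {G : Type*} [Group G]

open Subgroup in
/-- A finite non-abelian simple group has no isolated involution (by the `Z*`-theorem). -/
theorem not_isolated [Finite G] [IsSimpleGroup G] (t : G) (hiso : Cfsg.IsIsolatedInvolution t)
    (hnc : ∃ a b : G, a * b ≠ b * a) : False := by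
  have : Fact (Nat.Prime 2) := ⟨Nat.prime_two⟩
  have hp : IsPGroup 2 (zpowers t) := by
    apply IsPGroup.of_card (n := 1)
    rw [Nat.card_zpowers, hiso.1, pow_one]
  obtain ⟨P, hP⟩ := hp.exists_le_sylow
  have htP : t ∈ P := hP (mem_zpowers t)
  obtain ⟨N, hN, hodd, hcomm⟩ := Cfsg.Agent.S0215.result P t hiso.1 htP
    (fun g hg => Cfsg.Agent.S1180.eq_of_conj_mem_isPGroup t hiso (P : Subgroup G) P.2 htP g hg)
  rcases hN.eq_bot_or_eq_top with h | h
  · -- `t` is central
    have hcen : ∀ g : G, t * g = g * t := by
      intro g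
      have := hcomm g
      rw [h, mem_bot] at this
      have h1 : t * g * t⁻¹ = g := mul_inv_eq_one.mp this
      rw [mul_inv_eq_iff_eq_mul] at h1
      exact h1
    have htc : t ∈ center G := by
      rw [mem_center_iff]; intro g; exact (hcen g).symm
    rcases (inferInstance : (center G).Normal).eq_bot_or_eq_top with hc | hc
    · rw [hc, mem_bot] at htc
      have := hiso.1
      rw [htc, orderOf_one] at this
      omega
    · obtain ⟨a, b, hab⟩ := hnc
      apply hab
      have : b ∈ center G := by rw [hc]; trivial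
      exact (mem_center_iff.mp this a)
  · rw [h, card_top] at hodd
    have h2 : 2 ∣ Nat.card G := by
      rw [← hiso.1]; exact orderOf_dvd_natCard t
    exact (Nat.not_even_iff_odd.mpr hodd) (even_iff_two_dvd.mpr h2)

/-- By the `Z*`-theorem `z` is not isolated. -/
theorem Cent.zstar [Finite G] [IsSimpleGroup G] (K : Cent G) :
    ∃ t : G, IsConj K.z t ∧ t * K.z = K.z * t ∧ t ≠ K.z := by
  by_contra hcon
  push Not at hcon
  refine not_isolated K.z ⟨K.z_order, ?_⟩ ?_
  · intro g hg
    exact hcon _ (isConj_iff.2 ⟨g, rfl⟩) hg.symm.eq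
  · by_contra hnc
    push Not at hnc
    have h1 : ∀ q : K.Q, (q : G) = 1 ∨ (q : G) = K.z := fun q => K.Q_cent q fun x _ => hnc _ _
    have h2 : Nat.card K.Q ≤ Nat.card (Fin 2) := by
      refine Nat.card_le_card_of_injective
        (fun q : K.Q => open Classical in if (q : G) = 1 then (0 : Fin 2) else 1) ?_
      intro a b hab
      apply Subtype.ext
      by_cases ha : (a : G) = 1 <;> by_cases hb : (b : G) = 1
      · rw [ha, hb]
      · simp [ha, hb] at hab
      · simp [ha, hb] at hab
      · rw [(h1 a).resolve_left ha, (h1 b).resolve_left hb]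
    rw [K.Q_card, Nat.card_eq_fintype_card, Fintype.card_fin] at h2
    norm_num at h2

end Cfsg.Agent.J4Type
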