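import Cfsg.Agent.J4Type.TopCond
import Cfsg.Agent.J4Type.TopZ
import Cfsg.Agent.J4Type.PartC
import Cfsg.Agent.J4Type.Rel2
import Cfsg.Agent.J4Type.TauMain
import Cfsg.Agent.J4Type.CoordRels
import Cfsg.Agent.J4Type.HexCoord
import Cfsg.Agent.J4Type.VCoordOf

/-!
# R07 (J₄ type): the main theorem
-/

set_option autoImplicit false

open Cfsg
open scoped Pointwise

namespace Cfsg.Agent.J4Type.Top

variable {G : Type*} [Group G]

/-- the isomorphism from `Hex` and coordinates -/
theorem exists_bijective_of_hex [Finite G] [IsSimpleGroup G] (K : Hex G) (V : VCoord K) :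
    ∃ f : Cfsg.Spor.J4 →* G, Function.Bijective f := by
  obtain ⟨F, -⟩ := PartC.exists_frame K V K.toCent.zstar
  obtain ⟨C, -⟩ := ComplExists.exists_compl F
  obtain ⟨T, -⟩ := TauMain.exists_tau C
  exact exists_bijective_of_tau T (Rel2.relator2 T)

/-- **Main theorem.** -/
theorem main [Finite G] [IsSimpleGroup G] {t : G}
    {Q N M : Subgroup (Subgroup.centralizer ({t} : Set G))} (H : Hyp t Q N M) :
    ∃ f : Cfsg.Spor.J4 →* G, Function.Bijective f := by
  obtain ⟨P, hP⟩ := H.exists_isP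
  obtain ⟨r, hr, hrQ, hr3⟩ := H.exists_r
  obtain ⟨K⟩ := CoordRels.exists_centCoords H hP hr hrQ hr3
  obtain ⟨H', K', -, -, hom, h0, h1⟩ := HexCoord.exists_hex K (H.P_outer' hP hr hrQ hr3)
  obtain ⟨V⟩ := VCoordOf.exists_vcoord H' K' h0 h1 hom
  exact exists_bijective_of_hex H' V

end Cfsg.Agent.J4Type.Top
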