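import Cfsg.Agent.J4Type.Final
import Cfsg.Agent.J4Type.ComplExists
import Cfsg.Agent.J4Type.DuadCent
import Cfsg.Agent.S1703

/-!
# R07 (J₄ type): the isomorphism from a frame
-/

set_option autoImplicit false

open Cfsg
open scoped Pointwise

namespace Cfsg.Agent.J4Type.Top

variable {G : Type*} [Group G]

/-- the isomorphism, from the structure `Tau` and the printed relator 2 -/
theorem exists_bijective_of_tau [Finite G] (T : Tau G)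
    (r2 : (((T.φ Cfsg.Agent.J4.M24Hom.YM * T.φ Cfsg.Agent.J4.M24Hom.XM *
      T.φ Cfsg.Agent.J4.M24Hom.YM * T.φ Cfsg.Agent.J4.M24Hom.XM *
      T.φ Cfsg.Agent.J4.M24Hom.YM * T.φ Cfsg.Agent.J4.M24Hom.XM *
      T.φ Cfsg.Agent.J4.M24Hom.YM) ^ 3) * T.t FinalRel.T0 *
      ((((T.φ Cfsg.Agent.J4.M24Hom.XM * T.φ Cfsg.Agent.J4.M24Hom.YM) ^ 3) *
        T.φ Cfsg.Agent.J4.M24Hom.YM *
        ((T.φ Cfsg.Agent.J4.M24Hom.XM * T.φ Cfsg.Agent.J4.M24Hom.YM) ^ 6) *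
        T.φ Cfsg.Agent.J4.M24Hom.YM)⁻¹ * T.t FinalRel.T0 *
      (((T.φ Cfsg.Agent.J4.M24Hom.XM * T.φ Cfsg.Agent.J4.M24Hom.YM) ^ 3) *
        T.φ Cfsg.Agent.J4.M24Hom.YM *
        ((T.φ Cfsg.Agent.J4.M24Hom.XM * T.φ Cfsg.Agent.J4.M24Hom.YM) ^ 6) *
        T.φ Cfsg.Agent.J4.M24Hom.YM))) ^ 2 = 1) :
    ∃ f : Cfsg.Spor.J4 →* G, Function.Bijective f := by
  obtain ⟨f, hf, -⟩ := Final.exists_bijective Cfsg.Agent.S1703.result T.toCompl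
    (FinalTau.Tau.tauFam T r2)
    (fun p q hpq g hg => DuadCent.duad_cent T.toFrame hpq hg)
  exact ⟨f, hf⟩

end Cfsg.Agent.J4Type.Top
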