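import Cfsg.Agent.J4Type.Setup
import Cfsg.Agent.SporadicA.FieldFour

/-!
# Coordinates of `V = Q/⟨z⟩` over `F₄` (interface between (a2) and (c), helper233)

`VCoord H` : coordinates `(a; c)`, `a, c ∈ F₄³`, of `V = Q/⟨z⟩`, such that `E hex0 ∩ Q` is
`{(a; 0)}`, `E hex1 ∩ Q` is `{(0; c)}`, the commutator form is `Tr (∑ aₖ c̄ₖ)`, `ρ` is the
multiplication by `ω`, and the involution of `E hex0` (centralised by `ρ`) exchanging the points
`i`, `j` of the hexad `hex1` maps `(0; c)` to `(γᵢ wᵢ + γⱼ wⱼ; c)`, where `w₀, …, w₅` is the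
hyperoval and `γᵢ = ∑ₖ cₖ (w̄ᵢ)ₖ`.  All statements are modulo `⟨z⟩`.
-/

set_option autoImplicit false

namespace Cfsg.Agent.J4Type

open SporadicA.FieldFour (F4)

namespace VCoord

/-- conjugation `x ↦ x²` of `F₄` -/
def cj (x : F4) : F4 := x * x

/-- the trace `F₄ → F₂` -/
def tr : F4 → ZMod 2
  | .z => 0
  | .o => 0
  | .w => 1
  | .v => 1

/-- the norm `F₄ → F₂` -/
def nm : F4 → ZMod 2
  | .z => 0
  | _ => 1

/-- vectors of `F₄³` -/
abbrev F43 : Type := Fin 3 → F4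

/-- the hermitian product `∑ aₖ c̄ₖ` -/
def hp3 (a c : F43) : F4 := a 0 * cj (c 0) + a 1 * cj (c 1) + a 2 * cj (c 2)

/-- scalar multiple -/
def sc (x : F4) (a : F43) : F43 := fun k => x * a k

/-- the hyperoval `w₀, …, w₅` -/
def hv : Fin 6 → F43 :=
  ![![.o, .z, .z], ![.z, .o, .z], ![.z, .z, .o], ![.o, .o, .o], ![.o, .w, .v], ![.o, .v, .w]]

/-- `γᵢ(c) = ∑ₖ cₖ (w̄ᵢ)ₖ` -/
def gam (c : F43) (i : Fin 6) : F4 := hp3 c (hv i)

end VCoord

open VCoord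

/-- Coordinates of `V = Q/⟨z⟩`; `v a c` is an arbitrary lift of the vector `(a; c)`. -/
structure VCoord {G : Type*} [Group G] (H : Hex G) where
  v : F43 → F43 → G
  v_mem : ∀ a c, v a c ∈ H.Q
  v_add : ∀ a c a' c', v (a + a') (c + c') = v a c * v a' c' ∨
    v (a + a') (c + c') = H.z * (v a c * v a' c')
  v_inj : ∀ a c, v a c = 1 ∨ v a c = H.z → a = 0 ∧ c = 0
  /-- the quadratic form `Tr (∑ aₖ c̄ₖ)` -/
  v_sq : ∀ a c, v a c * v a c = H.z ^ (tr (hp3 a c)).val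
  v_rho : ∀ a c, H.ρ * v a c * H.ρ⁻¹ = v (sc .w a) (sc .w c) ∨
    H.ρ * v a c * H.ρ⁻¹ = H.z * v (sc .w a) (sc .w c)
  v_E0 : ∀ a, v a 0 ∈ H.E hex0
  v_E1 : ∀ c, v 0 c ∈ H.E hex1
  /-- the action of the involution of `E hex0` exchanging `hp i` and `hp j` -/
  act : ∀ f : Subgroup.centralizer ({H.z} : Set G), (f : G) ∈ H.E hex0 →
    (f : G) * H.ρ = H.ρ * f → ∀ i j, i ≠ j → H.P f (hp i) = hp j → ∀ c,
      (f : G) * v 0 c * (f : G)⁻¹ = v (sc (gam c i) (hv i) + sc (gam c j) (hv j)) c ∨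
      (f : G) * v 0 c * (f : G)⁻¹ = H.z * v (sc (gam c i) (hv i) + sc (gam c j) (hv j)) c

end Cfsg.Agent.J4Type
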